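import Mathlib
import Groth.Prelude
import Groth.Agent.Helper1.HensStrictTransfer
import Groth.Agent.Helper2.EssEtSub2

set_option autoImplicit false
set_option linter.style.haveILetI false
set_option linter.unusedSectionVars false
set_option linter.unusedVariables false

universe u

/-! The strict henselization `T` of an intermediate local ring `A ⊆ D ⊆ S` surjects onto `S`,
with an `A`-algebra section. -/

namespace Groth.Agent.Helper2.NrmR

open IsLocalRing TensorProduct Groth.Agent.Helper1.Hens Groth.Agent.Helper1

section

variable (A S : Type u) [CommRing A] [IsLocalRing A]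
    [CommRing S] [IsLocalRing S] [Algebra A S] [IsLocalHom (algebraMap A S)]
    [Hensel.IsStrictHenselization A S] (D : Subalgebra A S) [IsLocalRing D]
    [IsLocalHom (algebraMap D S)]

theorem isSepClosure_sub : IsSepClosure (ResidueField D) (ResidueField S) := by
  have hS : Hensel.IsStrictHenselization A S := inferInstance
  haveI : IsLocalHom (algebraMap A D) := Groth.Agent.Helper2.EssEtSub.isLocalHom_algebraMap_sub A S D
  haveI : IsSepClosure (ResidueField A) (ResidueField S) := hS.isSepClosure
  haveI : Algebra.IsSeparable (ResidueField A) (ResidueField S) := (hS.isSepClosure).separable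
  exact ⟨(hS.isSepClosure).sep_closed,
    Algebra.isSeparable_tower_top_of_isSeparable (ResidueField A) (ResidueField D)
      (ResidueField S)⟩

/-- the strict henselization of `D` with the residue field of `S` -/
abbrev TD : Type u := Hens D (ResidueField S)

instance : IsSepClosure (ResidueField D) (ResidueField S) := isSepClosure_sub A S D

instance : IsScalarTower D (ResidueField D) (ResidueField S) :=
  IsScalarTower.of_algebraMap_eq (fun d => by
    show _ = ResidueField.map (algebraMap D S) (residue D d)
    rw [ResidueField.map_residue]
    rfl)

/-- the canonical surjection `T → S` -/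
noncomputable def theta : TD A S D →ₐ[D] S :=
  haveI : HenselianLocalRing S := Hensel.IsStrictHenselization.henselian (R := A)
  Hens.lift (R := D) (Ω := ResidueField S) (T := S) (RingHom.id _) (fun r => rfl)

theorem residue_theta (z : TD A S D) : residue S (theta A S D z) = Hens.γ z := by
  haveI : HenselianLocalRing S := Hensel.IsStrictHenselization.henselian (R := A)
  exact Hens.residue_lift (R := D) (Ω := ResidueField S) (T := S) (RingHom.id _) (fun r => rfl) z

/-- the structure map `A → T` -/
noncomputable def fA : A →+* TD A S D := (algebraMap D (TD A S D)).comp (algebraMap A D)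

instance : IsLocalHom (fA A S D) := by
  haveI : IsLocalHom (algebraMap A D) := Groth.Agent.Helper2.EssEtSub.isLocalHom_algebraMap_sub A S D
  exact RingHom.isLocalHom_comp _ _

/-- the residue field identification -/
noncomputable def tau' : ResidueField S →+* ResidueField (TD A S D) :=
  ((Hens.resEquiv D (ResidueField S)).symm : ResidueField S →+* ResidueField (TD A S D))

theorem tau'_comp : (tau' A S D).comp (ResidueField.map (algebraMap A S)) =
    ResidueField.map (fA A S D) := by
  ext x
  obtain ⟨a, rfl⟩ := residue_surjective x
  rw [RingHom.comp_apply, ResidueField.map_residue, ResidueField.map_residue]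
  show (Hens.resEquiv D (ResidueField S)).symm (residue S (algebraMap A S a)) =
    residue _ (algebraMap D (TD A S D) (algebraMap A D a))
  rw [AlgEquiv.symm_apply_eq, Hens.resEquiv_residue, Hens.γ_algebraMap]
  rfl

theorem exists_section : ∃ g : S →+* TD A S D, g.comp (algebraMap A S) = fA A S D ∧
    ∀ x : S, residue (TD A S D) (g x) = tau' A S D (residue S x) := by
  have hS : Hensel.IsStrictHenselization A S := inferInstance
  obtain ⟨g, hg, -⟩ := hS.universal (TD A S D) (fA A S D) (tau' A S D) (tau'_comp A S D)
  exact ⟨g, hg⟩

/-- an `A`-algebra section of `theta` -/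
noncomputable def sec : S →+* TD A S D := (exists_section A S D).choose

theorem sec_comp : (sec A S D).comp (algebraMap A S) = fA A S D :=
  (exists_section A S D).choose_spec.1

theorem residue_sec (x : S) : residue (TD A S D) (sec A S D x) = tau' A S D (residue S x) :=
  (exists_section A S D).choose_spec.2 x

theorem theta_sec (x : S) : theta A S D (sec A S D x) = x := by
  have hS : Hensel.IsStrictHenselization A S := inferInstance
  haveI : HenselianLocalRing S := Hensel.IsStrictHenselization.henselian (R := A)
  have hid : (RingHom.id (ResidueField S)).comp (ResidueField.map (algebraMap A S)) =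
      ResidueField.map (algebraMap A S) := RingHom.id_comp _
  obtain ⟨g, -, huniq⟩ := hS.universal S (algebraMap A S) (RingHom.id _) hid
  have h1 : ((theta A S D).toRingHom.comp (sec A S D)) = g := by
    apply huniq
    refine ⟨?_, ?_⟩
    · rw [RingHom.comp_assoc, sec_comp]
      ext a
      show theta A S D (algebraMap D (TD A S D) (algebraMap A D a)) = algebraMap A S a
      rw [AlgHom.commutes]
      rfl
    · intro x
      show residue S (theta A S D (sec A S D x)) = residue S x
      rw [residue_theta, ← Hens.resEquiv_residue, residue_sec]
      show (Hens.resEquiv D (ResidueField S)) ((Hens.resEquiv D (ResidueField S)).symm _) = _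
      rw [AlgEquiv.apply_symm_apply]
  have h2 : RingHom.id S = g := by
    apply huniq
    exact ⟨RingHom.id_comp _, fun x => rfl⟩
  have h3 := h1.trans h2.symm
  exact RingHom.congr_fun h3 x

theorem theta_surjective : Function.Surjective (theta A S D) :=
  fun x => ⟨sec A S D x, theta_sec A S D x⟩

theorem sec_algebraMap (a : A) :
    sec A S D (algebraMap A S a) = algebraMap D (TD A S D) (algebraMap A D a) :=
  RingHom.congr_fun (sec_comp A S D) a

/-- `t - sec (theta t)` lies in the maximal ideal -/
theorem sub_sec_theta_mem (t : TD A S D) :
    t - sec A S D (theta A S D t) ∈ maximalIdeal (TD A S D) := by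
  rw [← residue_eq_zero_iff, map_sub, sub_eq_zero, residue_sec, residue_theta]
  show residue _ t = (Hens.resEquiv D (ResidueField S)).symm (Hens.γ t)
  rw [← Hens.resEquiv_residue, AlgEquiv.symm_apply_apply]

end

end Groth.Agent.Helper2.NrmR
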