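import Mathlib
import Groth.Prelude
import Groth.Agent.Helper2.NrmR3

set_option autoImplicit false
set_option linter.style.haveILetI false
set_option linter.unusedSectionVars false
set_option linter.unusedVariables false

universe u

/-! Incomparability for `R → Hens R Ω`, and minimality of `θ⁻¹(Q)` for primes `Q` of `S` avoiding
the non-zero-divisors of `A`. -/

namespace Groth.Agent.Helper2.NrmR

open IsLocalRing TensorProduct Groth.Agent.Helper1.Hens Groth.Agent.Helper1

section incomp

variable {R : Type u} [CommRing R] {Ω : Type u} [Field Ω] [Algebra R Ω]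

theorem hens_eq_of_le_of_comap_eq (P₂ P₁ : Ideal (Hens R Ω)) [P₂.IsPrime] [P₁.IsPrime]
    (h : P₂ ≤ P₁)
    (hc : P₂.comap (algebraMap R (Hens R Ω)) = P₁.comap (algebraMap R (Hens R Ω))) :
    P₂ = P₁ := by
  refine le_antisymm h ?_
  intro x hx
  obtain ⟨i, y, rfl⟩ := Hens.exists_of x
  haveI : Algebra.QuasiFinite R i.C := inferInstance
  haveI : Algebra.QuasiFinite R i.L :=
    Algebra.QuasiFinite.of_isLocalization (R := R) (S := i.C) (pt i.γ).primeCompl
  let p₂ : Ideal i.L := P₂.comap (Hens.ofAlg i).toRingHom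
  let p₁ : Ideal i.L := P₁.comap (Hens.ofAlg i).toRingHom
  haveI : p₂.IsPrime := Ideal.comap_isPrime _ _
  haveI : p₁.IsPrime := Ideal.comap_isPrime _ _
  have hle : p₂ ≤ p₁ := Ideal.comap_mono h
  have hunder : p₂.under R = p₁.under R := by
    ext r
    have h2 : r ∈ P₂.comap (algebraMap R (Hens R Ω)) ↔ r ∈ P₁.comap (algebraMap R (Hens R Ω)) := by
      rw [hc]
    simp only [Ideal.mem_comap] at h2
    show Hens.ofAlg i (algebraMap R i.L r) ∈ P₂ ↔ Hens.ofAlg i (algebraMap R i.L r) ∈ P₁
    rw [AlgHom.commutes]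
    exact h2
  have heq : p₂ = p₁ := Algebra.QuasiFinite.eq_of_le_of_under_eq (R := R) p₂ p₁ hle hunder
  have hy : y ∈ p₁ := hx
  rw [← heq] at hy
  exact hy

end incomp

section main

variable (A S : Type u) [CommRing A] [IsLocalRing A]
    [CommRing S] [IsLocalRing S] [Algebra A S] [IsLocalHom (algebraMap A S)]
    [Hensel.IsStrictHenselization A S] (D : Subalgebra A S) [IsLocalRing D]
    [IsLocalHom (algebraMap D S)]

theorem theta_algebraMap (d : D) : theta A S D (algebraMap D (TD A S D) d) = (d : S) :=
  (theta A S D).commutes d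

/-- for a prime `Q` of `S` avoiding the non-zero-divisors of `A`, `θ⁻¹ Q` is a minimal prime. -/
theorem comap_theta_mem_minimalPrimes
    (hV : ∀ x : D, ∃ a ∈ nonZeroDivisors A, ∃ d : D, algebraMap A D a * x = x * x * d)
    (Q : Ideal S) [Q.IsPrime] (hQ : ∀ a ∈ nonZeroDivisors A, algebraMap A S a ∉ Q) :
    Q.comap (theta A S D).toRingHom ∈ minimalPrimes (TD A S D) := by
  haveI : (Q.comap (theta A S D).toRingHom).IsPrime := Ideal.comap_isPrime _ _
  refine ⟨⟨inferInstance, bot_le⟩, ?_⟩
  rintro P₂ ⟨hP₂, -⟩ hle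
  haveI := hP₂
  have hcomap : P₂.comap (algebraMap D (TD A S D)) =
      (Q.comap (theta A S D).toRingHom).comap (algebraMap D (TD A S D)) := by
    refine le_antisymm (Ideal.comap_mono hle) ?_
    intro x hx
    have hxQ : (x : S) ∈ Q := by
      have := hx
      rw [Ideal.mem_comap, Ideal.mem_comap] at this
      have h2 : theta A S D (algebraMap D (TD A S D) x) ∈ Q := this
      rwa [theta_algebraMap] at h2
    obtain ⟨a, ha, d, had⟩ := hV x
    have h0 : x * (algebraMap A D a - x * d) = 0 := by
      rw [mul_sub, mul_comm x (algebraMap A D a), had]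
      ring
    have h1 : algebraMap D (TD A S D) x * algebraMap D (TD A S D) (algebraMap A D a - x * d) ∈ P₂ := by
      rw [← map_mul, h0, map_zero]
      exact zero_mem _
    rcases hP₂.mem_or_mem h1 with h2 | h2
    · exact h2
    · exfalso
      have h3 : algebraMap D (TD A S D) (algebraMap A D a - x * d) ∈
          Q.comap (theta A S D).toRingHom := hle h2
      rw [Ideal.mem_comap] at h3
      have h4 : theta A S D (algebraMap D (TD A S D) (algebraMap A D a - x * d)) ∈ Q := h3
      rw [theta_algebraMap] at h4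
      have h5 : ((algebraMap A D a - x * d : D) : S) = algebraMap A S a - (x : S) * (d : S) := rfl
      rw [h5] at h4
      have h6 : algebraMap A S a ∈ Q := by
        have := Q.add_mem h4 (Q.mul_mem_right (d : S) hxQ)
        rwa [sub_add_cancel] at this
      exact hQ a ha h6
  have := hens_eq_of_le_of_comap_eq P₂ (Q.comap (theta A S D).toRingHom) hle hcomap
  exact this.ge

end main

end Groth.Agent.Helper2.NrmR
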