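import Mathlib
import Groth.Prelude
import Groth.Agent.Helper2.EssFT9

set_option autoImplicit false
set_option linter.style.haveILetI false
set_option linter.unusedSectionVars false
set_option linter.unusedVariables false

universe u

/-! Generic lemmas on units and Jacobson radicals along integral injective maps. -/

namespace Groth.Agent.Helper2.NrmR

open IsLocalRing TensorProduct Polynomial

theorem isUnit_of_map_mul_eq_one {R K : Type*} [CommRing R] [CommRing K] [Algebra R K]
    (hinj : Function.Injective (algebraMap R K)) (u : R) (v : K)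
    (huv : algebraMap R K u * v = 1) (hv : IsIntegral R v) : IsUnit u := by
  have h1 := Groth.Agent.Helper2.EssFT.mem_adjoin_of_isIntegral_inv (D := R) _ _ huv hv
  rw [Algebra.adjoin_singleton_eq_range_aeval] at h1
  obtain ⟨p, hp⟩ := h1
  have hp' : aeval (algebraMap R K u) p = v := hp
  rw [aeval_algebraMap_apply_eq_algebraMap_eval] at hp'
  refine IsUnit.of_mul_eq_one (p.eval u) (hinj ?_)
  rw [map_mul, hp', huv, map_one]

theorem mem_jacobson_bot_of_map {R K : Type*} [CommRing R] [CommRing K] [Algebra R K]
    (hinj : Function.Injective (algebraMap R K)) (𝕊 : Subring K)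
    (hrange : ∀ r : R, algebraMap R K r ∈ 𝕊)
    (hint : ∀ x ∈ 𝕊, IsIntegral R x) (z : R)
    (hz : (⟨algebraMap R K z, hrange z⟩ : 𝕊) ∈ (⊥ : Ideal 𝕊).jacobson) :
    z ∈ (⊥ : Ideal R).jacobson := by
  rw [Ideal.mem_jacobson_bot] at hz ⊢
  intro w
  have h1 := hz ⟨algebraMap R K w, hrange w⟩
  obtain ⟨v, hv⟩ := h1.exists_right_inv
  refine isUnit_of_map_mul_eq_one hinj (z * w + 1) (v : K) ?_ (hint _ v.2)
  have h2 := congrArg Subtype.val hv
  rw [map_add, map_mul, map_one]
  exact h2

/-- a prime ideal lying over a maximal ideal in an integral extension contains the radical -/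
theorem jacobson_le_of_comap_isMaximal {R R' : Type*} [CommRing R] [CommRing R'] [Algebra R R']
    [Algebra.IsIntegral R R'] (P : Ideal R') [P.IsPrime]
    (h : (P.comap (algebraMap R R')).IsMaximal) : (⊥ : Ideal R').jacobson ≤ P := by
  haveI : P.IsMaximal := Ideal.isMaximal_of_isIntegral_of_isMaximal_comap P h
  exact sInf_le ⟨bot_le, inferInstance⟩

end Groth.Agent.Helper2.NrmR
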