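import Mathlib
import Groth.Prelude
import Groth.Agent.Helper2.NrmR5

set_option autoImplicit false
set_option linter.style.haveILetI false
set_option linter.unusedSectionVars false
set_option linter.unusedVariables false

universe u

/-! Abstract core: the kernel of `D' ⊗_D T → K` lies in every maximal ideal. -/

namespace Groth.Agent.Helper2.NrmR

open IsLocalRing TensorProduct Polynomial

theorem mem_jacobson_bot_of_map' {R S₀ K : Type*} [CommRing R] [CommRing S₀] [CommRing K]
    [Algebra R K] [Algebra S₀ K]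
    (hinj : Function.Injective (algebraMap R K)) (𝕊 : Subalgebra S₀ K)
    (hrange : ∀ r : R, algebraMap R K r ∈ 𝕊)
    (hint : ∀ x ∈ 𝕊, IsIntegral R x) (z : R)
    (hz : (⟨algebraMap R K z, hrange z⟩ : 𝕊) ∈ (⊥ : Ideal 𝕊).jacobson) :
    z ∈ (⊥ : Ideal R).jacobson := by
  rw [Ideal.mem_jacobson_bot] at hz ⊢
  intro w
  have h1 := hz ⟨algebraMap R K w, hrange w⟩
  obtain ⟨v, hv⟩ := h1.exists_right_inv
  refine isUnit_of_map_mul_eq_one hinj (z * w + 1) (v : K) ?_ (hint _ v.2)
  have h2 := congrArg Subtype.val hv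
  rw [map_add, map_mul, map_one]
  exact h2

section core

variable {A D S T K Ap Dp : Type u}
  [CommRing A] [CommRing D] [CommRing S] [CommRing T] [CommRing K] [CommRing Ap] [CommRing Dp]
  [IsLocalRing D] [IsLocalRing S] [IsLocalRing T]
  [Algebra A D] [Algebra A S] [Algebra D S] [IsScalarTower A D S]
  [Algebra D T] [IsLocalHom (algebraMap D T)] [IsLocalHom (algebraMap D S)]
  [Algebra A K] [Algebra D K] [Algebra S K] [IsScalarTower A S K] [IsScalarTower D S K]
  [IsScalarTower A D K]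
  [Algebra A Ap] [Algebra A Dp] [Algebra D Dp] [IsScalarTower A D Dp]
  [Algebra.IsIntegral A Ap] [Algebra.IsIntegral D Dp]
  (θ : T →ₐ[D] S) (sec : S →+* T)
  (hsecA : ∀ a : A, sec (algebraMap A S a) = algebraMap D T (algebraMap A D a))
  (jA : Ap →ₐ[A] K) (jD : Dp →ₐ[D] K) (incl : Ap →ₐ[A] Dp)

/-- the map `θ' : D' ⊗_D T → K` -/
noncomputable def thetaP : Dp ⊗[D] T →ₐ[D] K :=
  Algebra.TensorProduct.productMap jD ((IsScalarTower.toAlgHom D S K).comp θ)

theorem thetaP_tmul (d' : Dp) (t : T) :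
    thetaP θ jD (d' ⊗ₜ[D] t) = jD d' * algebraMap S K (θ t) := by
  simp [thetaP]

/-- the map `A' ⊗_A S → K` -/
noncomputable def muS : Ap ⊗[A] S →ₐ[A] K :=
  Algebra.TensorProduct.productMap jA (IsScalarTower.toAlgHom A S K)

theorem muS_tmul (a' : Ap) (s : S) :
    muS (S := S) jA (a' ⊗ₜ[A] s) = jA a' * algebraMap S K s := by
  simp [muS]

/-- `S → D' ⊗_D T` as an `A`-algebra map, through the section -/
noncomputable def secA : S →ₐ[A] Dp ⊗[D] T :=
  { (Algebra.TensorProduct.includeRight : T →ₐ[D] Dp ⊗[D] T).toRingHom.comp sec with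
    commutes' := fun a => by
      show (1 : Dp) ⊗ₜ[D] sec (algebraMap A S a) = algebraMap A (Dp ⊗[D] T) a
      rw [hsecA, Algebra.TensorProduct.algebraMap_apply, IsScalarTower.algebraMap_apply A D Dp,
        Algebra.TensorProduct.tmul_one_eq_one_tmul] }

theorem secA_apply (s : S) : secA (Dp := Dp) sec hsecA s = (1 : Dp) ⊗ₜ[D] sec s := rfl

/-- the map `λ : A' ⊗_A S → D' ⊗_D T` -/
noncomputable def lam : Ap ⊗[A] S →ₐ[A] Dp ⊗[D] T :=
  Algebra.TensorProduct.productMap
    ((Algebra.TensorProduct.includeLeft : Dp →ₐ[A] Dp ⊗[D] T).comp incl) (secA sec hsecA)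

theorem lam_tmul (a' : Ap) (s : S) :
    lam sec hsecA incl (a' ⊗ₜ[A] s) = incl a' ⊗ₜ[D] sec s := by
  simp [lam, secA_apply]


theorem thetaP_lam (hθsec : ∀ s, θ (sec s) = s) (hincl : ∀ a', jD (incl a') = jA a')
    (z : Ap ⊗[A] S) :
    thetaP θ jD (lam sec hsecA incl z) = muS (S := S) jA z := by
  induction z using TensorProduct.induction_on with
  | zero => simp
  | tmul a' s => rw [lam_tmul, thetaP_tmul, muS_tmul, hθsec, hincl]
  | add x y hx hy => rw [map_add, map_add, map_add, hx, hy]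

/-- the ideal `Rad(D') T' + m_T T'` -/
noncomputable def NN : Ideal (Dp ⊗[D] T) :=
  (Ideal.jacobson (⊥ : Ideal Dp)).map (Algebra.TensorProduct.includeLeft : Dp →ₐ[D] Dp ⊗[D] T) ⊔
    (maximalIdeal T).map (Algebra.TensorProduct.includeRight : T →ₐ[D] Dp ⊗[D] T)

theorem tmul_one_mem_NN {ρ : Dp} (hρ : ρ ∈ Ideal.jacobson (⊥ : Ideal Dp)) :
    ρ ⊗ₜ[D] (1 : T) ∈ (NN : Ideal (Dp ⊗[D] T)) :=
  Ideal.mem_sup_left (Ideal.mem_map_of_mem
    (Algebra.TensorProduct.includeLeft : Dp →ₐ[D] Dp ⊗[D] T) hρ)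

theorem one_tmul_mem_NN {μ : T} (hμ : μ ∈ maximalIdeal T) :
    (1 : Dp) ⊗ₜ[D] μ ∈ (NN : Ideal (Dp ⊗[D] T)) :=
  Ideal.mem_sup_right (Ideal.mem_map_of_mem
    (Algebra.TensorProduct.includeRight : T →ₐ[D] Dp ⊗[D] T) hμ)

/-- `x` is congruent mod `NN` to something in the image of `λ` -/
def InLam (x : Dp ⊗[D] T) : Prop :=
  ∃ z : Ap ⊗[A] S, x - lam sec hsecA incl z ∈ (NN : Ideal (Dp ⊗[D] T))

theorem inLam_zero : InLam sec hsecA incl (0 : Dp ⊗[D] T) :=
  ⟨0, by simp⟩

theorem inLam_add {x y : Dp ⊗[D] T} (hx : InLam sec hsecA incl x) (hy : InLam sec hsecA incl y) :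
    InLam sec hsecA incl (x + y) := by
  obtain ⟨z, hz⟩ := hx
  obtain ⟨w, hw⟩ := hy
  refine ⟨z + w, ?_⟩
  have : x + y - lam sec hsecA incl (z + w) =
      (x - lam sec hsecA incl z) + (y - lam sec hsecA incl w) := by
    rw [map_add]; ring
  rw [this]
  exact Ideal.add_mem _ hz hw

theorem inLam_mul {x y : Dp ⊗[D] T} (hx : InLam sec hsecA incl x) (hy : InLam sec hsecA incl y) :
    InLam sec hsecA incl (x * y) := by
  obtain ⟨z, hz⟩ := hx
  obtain ⟨w, hw⟩ := hy
  refine ⟨z * w, ?_⟩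
  have : x * y - lam sec hsecA incl (z * w) =
      x * (y - lam sec hsecA incl w) + lam sec hsecA incl w * (x - lam sec hsecA incl z) := by
    rw [map_mul]; ring
  rw [this]
  exact Ideal.add_mem _ (Ideal.mul_mem_left _ _ hw) (Ideal.mul_mem_left _ _ hz)

theorem inLam_of_sub_mem {x y : Dp ⊗[D] T} (hy : InLam sec hsecA incl y)
    (h : x - y ∈ (NN : Ideal (Dp ⊗[D] T))) : InLam sec hsecA incl x := by
  obtain ⟨w, hw⟩ := hy
  refine ⟨w, ?_⟩
  have : x - lam sec hsecA incl w = (x - y) + (y - lam sec hsecA incl w) := by ring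
  rw [this]
  exact Ideal.add_mem _ h hw

theorem inLam_lam (z : Ap ⊗[A] S) : InLam sec hsecA incl (lam sec hsecA incl z) :=
  ⟨z, by simp⟩

include θ in
theorem inLam_one_tmul (hsub : ∀ t : T, t - sec (θ t) ∈ maximalIdeal T) (t : T) :
    InLam sec hsecA incl ((1 : Dp) ⊗ₜ[D] t) := by
  refine ⟨(1 : Ap) ⊗ₜ[A] θ t, ?_⟩
  rw [lam_tmul, map_one, ← TensorProduct.tmul_sub]
  exact one_tmul_mem_NN (hsub t)

/-- the product map `A' ⊗_A D → D'` -/
noncomputable def pm : Ap ⊗[A] D →ₐ[A] Dp :=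
  Algebra.TensorProduct.productMap incl (IsScalarTower.toAlgHom A D Dp)

theorem pm_tmul (a' : Ap) (d : D) : pm incl (a' ⊗ₜ[A] d) = incl a' * algebraMap D Dp d := by
  simp [pm]

include θ in
theorem inLam_pm_tmul_one (hsub : ∀ t : T, t - sec (θ t) ∈ maximalIdeal T) (w : Ap ⊗[A] D) :
    InLam sec hsecA incl (pm incl w ⊗ₜ[D] (1 : T)) := by
  induction w using TensorProduct.induction_on with
  | zero => rw [map_zero, TensorProduct.zero_tmul]; exact inLam_zero sec hsecA incl
  | tmul a' d =>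
    have h1 : pm incl (a' ⊗ₜ[A] d) ⊗ₜ[D] (1 : T) =
        (incl a' ⊗ₜ[D] (1 : T)) * ((1 : Dp) ⊗ₜ[D] algebraMap D T d) := by
      rw [pm_tmul, Algebra.TensorProduct.tmul_mul_tmul, mul_one, one_mul,
        Algebra.algebraMap_eq_smul_one (A := Dp), Algebra.algebraMap_eq_smul_one (A := T),
        mul_smul_comm, mul_one, TensorProduct.smul_tmul]
    rw [h1]
    refine inLam_mul sec hsecA incl ?_ (inLam_one_tmul θ sec hsecA incl hsub _)
    have h2 : incl a' ⊗ₜ[D] (1 : T) = lam sec hsecA incl (a' ⊗ₜ[A] (1 : S)) := by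
      rw [lam_tmul, map_one]
    rw [h2]
    exact inLam_lam sec hsecA incl _
  | add x y hx hy =>
    rw [map_add, TensorProduct.add_tmul]
    exact inLam_add sec hsecA incl hx hy

include θ in
/-- (i): `λ` is surjective modulo `NN` -/
theorem inLam_all (hsub : ∀ t : T, t - sec (θ t) ∈ maximalIdeal T)
    (hpm : ∀ d' : Dp, ∃ w : Ap ⊗[A] D, pm incl w - d' ∈ Ideal.jacobson (⊥ : Ideal Dp))
    (x : Dp ⊗[D] T) : InLam sec hsecA incl x := by
  induction x using TensorProduct.induction_on with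
  | zero => exact inLam_zero sec hsecA incl
  | tmul d' t =>
    have h1 : d' ⊗ₜ[D] t = (d' ⊗ₜ[D] (1 : T)) * ((1 : Dp) ⊗ₜ[D] t) := by
      rw [Algebra.TensorProduct.tmul_mul_tmul, mul_one, one_mul]
    rw [h1]
    refine inLam_mul sec hsecA incl ?_ (inLam_one_tmul θ sec hsecA incl hsub _)
    obtain ⟨w, hw⟩ := hpm d'
    refine inLam_of_sub_mem sec hsecA incl (inLam_pm_tmul_one θ sec hsecA incl hsub w) ?_
    rw [← TensorProduct.sub_tmul]
    have h2 : d' - pm incl w = -(pm incl w - d') := by ring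
    rw [h2]
    exact tmul_one_mem_NN (Ideal.neg_mem_iff _ |>.2 hw)
  | add x y hx hy => exact inLam_add sec hsecA incl hx hy


theorem isIntegral_thetaP (x : Dp ⊗[D] T) : IsIntegral S (thetaP θ jD x) := by
  induction x using TensorProduct.induction_on with
  | zero => rw [map_zero]; exact isIntegral_zero
  | tmul d' t =>
    rw [thetaP_tmul]
    refine IsIntegral.mul ?_ isIntegral_algebraMap
    have h1 : IsIntegral D (jD d') := (Algebra.IsIntegral.isIntegral d').map jD
    exact h1.tower_top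
  | add x y hx hy => rw [map_add]; exact hx.add hy

theorem isIntegral_muS (z : Ap ⊗[A] S) : IsIntegral S (muS (S := S) jA z) := by
  induction z using TensorProduct.induction_on with
  | zero => rw [map_zero]; exact isIntegral_zero
  | tmul a' s =>
    rw [muS_tmul]
    refine IsIntegral.mul ?_ isIntegral_algebraMap
    have h1 : IsIntegral A (jA a') := (Algebra.IsIntegral.isIntegral a').map jA
    exact h1.tower_top
  | add x y hx hy => rw [map_add]; exact hx.add hy

/-- `θ'` with values in the integral closure of `S` -/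
noncomputable def thetaPP : Dp ⊗[D] T →+* integralClosure S K :=
  (thetaP θ jD).toRingHom.codRestrict (integralClosure S K) (isIntegral_thetaP θ jD)

theorem coe_thetaPP (x : Dp ⊗[D] T) : ((thetaPP θ jD x : integralClosure S K) : K) = thetaP θ jD x :=
  rfl

theorem comap_closure_eq (M : Ideal (integralClosure S K)) [M.IsMaximal] :
    M.comap (algebraMap S (integralClosure S K)) = maximalIdeal S :=
  IsLocalRing.eq_maximalIdeal (Ideal.isMaximal_comap_of_isIntegral_of_isMaximal (R := S) M)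

/-- `jD` with values in the integral closure of `S` -/
noncomputable def jDD : Dp →+* integralClosure S K :=
  jD.toRingHom.codRestrict (integralClosure S K) (fun d' =>
    ((Algebra.IsIntegral.isIntegral (R := D) d').map jD).tower_top)

theorem jDD_algebraMap (d : D) :
    jDD (S := S) jD (algebraMap D Dp d) = algebraMap S (integralClosure S K) (algebraMap D S d) := by
  apply Subtype.ext
  show jD (algebraMap D Dp d) = algebraMap S K (algebraMap D S d)
  rw [AlgHom.commutes, IsScalarTower.algebraMap_apply D S K]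

theorem jDD_mem_of_mem_jacobson (M : Ideal (integralClosure S K)) [M.IsMaximal] {ρ : Dp}
    (hρ : ρ ∈ Ideal.jacobson (⊥ : Ideal Dp)) : jDD (S := S) jD ρ ∈ M := by
  have hN : ((M.comap (jDD (S := S) jD)).comap (algebraMap D Dp)).IsMaximal := by
    have : (M.comap (jDD (S := S) jD)).comap (algebraMap D Dp) = maximalIdeal D := by
      ext d
      rw [Ideal.mem_comap, Ideal.mem_comap, jDD_algebraMap, ← Ideal.mem_comap, comap_closure_eq,
        IsLocalRing.mem_maximalIdeal, IsLocalRing.mem_maximalIdeal, map_mem_nonunits_iff]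
    rw [this]
    infer_instance
  exact jacobson_le_of_comap_isMaximal (R := D) _ hN hρ

theorem NN_le_comap_thetaPP (hθm : ∀ t ∈ maximalIdeal T, θ t ∈ maximalIdeal S) :
    (NN : Ideal (Dp ⊗[D] T)) ≤
      (Ideal.jacobson (⊥ : Ideal (integralClosure S K))).comap (thetaPP θ jD) := by
  refine sup_le (Ideal.map_le_iff_le_comap.2 ?_) (Ideal.map_le_iff_le_comap.2 ?_)
  · intro ρ hρ
    rw [Ideal.mem_comap, Ideal.mem_comap, Ideal.jacobson, Ideal.mem_sInf]
    rintro M ⟨-, hM⟩
    haveI := hM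
    have h1 : thetaPP θ jD ((Algebra.TensorProduct.includeLeft : Dp →ₐ[D] Dp ⊗[D] T) ρ) =
        jDD (S := S) jD ρ := by
      apply Subtype.ext
      show thetaP θ jD (ρ ⊗ₜ[D] (1 : T)) = jD ρ
      rw [thetaP_tmul, map_one, map_one, mul_one]
    rw [h1]
    exact jDD_mem_of_mem_jacobson jD M hρ
  · intro μ hμ
    rw [Ideal.mem_comap, Ideal.mem_comap, Ideal.jacobson, Ideal.mem_sInf]
    rintro M ⟨-, hM⟩
    haveI := hM
    have h1 : thetaPP θ jD ((Algebra.TensorProduct.includeRight : T →ₐ[D] Dp ⊗[D] T) μ) =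
        algebraMap S (integralClosure S K) (θ μ) := by
      apply Subtype.ext
      show thetaP θ jD ((1 : Dp) ⊗ₜ[D] μ) = algebraMap S K (θ μ)
      rw [thetaP_tmul, map_one, one_mul]
    rw [h1, ← Ideal.mem_comap, comap_closure_eq]
    exact hθm μ hμ

theorem includeRight_isIntegral' :
    RingHom.IsIntegral (R := T) (A := Dp ⊗[D] T)
      (Algebra.TensorProduct.includeRight : T →ₐ[D] Dp ⊗[D] T).toRingHom := by
  have h1 : (algebraMap T (T ⊗[D] Dp)).IsIntegral :=
    algebraMap_isIntegral_iff.2 (Algebra.IsIntegral.tensorProduct D T Dp)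
  have h2 : RingHom.IsIntegral (R := T ⊗[D] Dp) (A := Dp ⊗[D] T)
      (Algebra.TensorProduct.comm D T Dp).toAlgHom.toRingHom :=
    RingHom.isIntegral_of_surjective (R := T ⊗[D] Dp) (S := Dp ⊗[D] T)
      (Algebra.TensorProduct.comm D T Dp).toAlgHom.toRingHom
      (Algebra.TensorProduct.comm D T Dp).surjective
  have h3 : (Algebra.TensorProduct.includeRight : T →ₐ[D] Dp ⊗[D] T).toRingHom =
      (Algebra.TensorProduct.comm D T Dp).toAlgHom.toRingHom.comp (algebraMap T (T ⊗[D] Dp)) := by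
    ext b
    simp [Algebra.TensorProduct.algebraMap_apply]
  rw [h3]
  exact RingHom.IsIntegral.trans (R := T) (S := T ⊗[D] Dp) (T := Dp ⊗[D] T)
    (algebraMap T (T ⊗[D] Dp)) (Algebra.TensorProduct.comm D T Dp).toAlgHom.toRingHom h1 h2

theorem comap_includeRight_eq (M : Ideal (Dp ⊗[D] T)) [M.IsMaximal] :
    M.comap (Algebra.TensorProduct.includeRight : T →ₐ[D] Dp ⊗[D] T).toRingHom = maximalIdeal T :=
  IsLocalRing.eq_maximalIdeal
    (Ideal.isMaximal_comap_of_isIntegral_of_isMaximal' _ includeRight_isIntegral' M)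

theorem NN_le (M : Ideal (Dp ⊗[D] T)) [M.IsMaximal] : (NN : Ideal (Dp ⊗[D] T)) ≤ M := by
  have hR := comap_includeRight_eq (D := D) (Dp := Dp) (T := T) M
  refine sup_le (Ideal.map_le_iff_le_comap.2 ?_) (Ideal.map_le_iff_le_comap.2 ?_)
  · have hN : ((M.comap (Algebra.TensorProduct.includeLeft : Dp →ₐ[D] Dp ⊗[D] T)).comap
        (algebraMap D Dp)).IsMaximal := by
      have : (M.comap (Algebra.TensorProduct.includeLeft : Dp →ₐ[D] Dp ⊗[D] T)).comap
          (algebraMap D Dp) = maximalIdeal D := by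
        ext d
        have h1 : (Algebra.TensorProduct.includeLeft : Dp →ₐ[D] Dp ⊗[D] T) (algebraMap D Dp d) =
            (Algebra.TensorProduct.includeRight : T →ₐ[D] Dp ⊗[D] T).toRingHom
              (algebraMap D T d) := by
          show algebraMap D Dp d ⊗ₜ[D] (1 : T) = (1 : Dp) ⊗ₜ[D] algebraMap D T d
          exact Algebra.TensorProduct.tmul_one_eq_one_tmul d
        rw [Ideal.mem_comap, Ideal.mem_comap, h1, ← Ideal.mem_comap, hR,
          IsLocalRing.mem_maximalIdeal, IsLocalRing.mem_maximalIdeal, map_mem_nonunits_iff]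
      rw [this]
      infer_instance
    exact jacobson_le_of_comap_isMaximal (R := D) _ hN
  · rw [← hR]
    exact le_rfl


include hsecA in
attribute [local instance] Algebra.TensorProduct.rightAlgebra in
/-- (c'): the kernel of `θ'` lies in every maximal ideal of `D' ⊗_D T` -/
theorem ker_thetaP_le (hθsec : ∀ s, θ (sec s) = s) (hincl : ∀ a', jD (incl a') = jA a')
    (hsub : ∀ t : T, t - sec (θ t) ∈ maximalIdeal T)
    (hθm : ∀ t ∈ maximalIdeal T, θ t ∈ maximalIdeal S)
    (hpm : ∀ d' : Dp, ∃ w : Ap ⊗[A] D, pm incl w - d' ∈ Ideal.jacobson (⊥ : Ideal Dp))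
    (hmuS : Function.Injective (muS (S := S) jA))
    (M : Ideal (Dp ⊗[D] T)) [M.IsMaximal] : RingHom.ker (thetaP θ jD) ≤ M := by
  intro x hx
  rw [RingHom.mem_ker] at hx
  obtain ⟨z, hz⟩ := inLam_all θ sec hsecA incl hsub hpm x
  have hzM : x - lam sec hsecA incl z ∈ M := NN_le M hz
  have hzJ : z ∈ Ideal.jacobson (⊥ : Ideal (Ap ⊗[A] S)) := by
    letI : Algebra (Ap ⊗[A] S) K := (muS (S := S) jA).toRingHom.toAlgebra
    haveI : IsScalarTower S (Ap ⊗[A] S) K := IsScalarTower.of_algebraMap_eq (fun s => by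
      show algebraMap S K s = muS (S := S) jA ((1 : Ap) ⊗ₜ[A] s)
      rw [muS_tmul, map_one, one_mul])
    refine mem_jacobson_bot_of_map' (R := Ap ⊗[A] S) (K := K) hmuS (integralClosure S K)
      (fun r => isIntegral_muS jA r) (fun y hy => IsIntegral.tower_top (R := S) hy) z ?_
    have h1 := NN_le_comap_thetaPP θ jD hθm hz
    rw [Ideal.mem_comap] at h1
    have h2 : (⟨algebraMap (Ap ⊗[A] S) K z, isIntegral_muS jA z⟩ : integralClosure S K) =
        - thetaPP θ jD (x - lam sec hsecA incl z) := by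
      apply Subtype.ext
      show muS (S := S) jA z = - thetaP θ jD (x - lam sec hsecA incl z)
      rw [map_sub, hx, thetaP_lam θ sec hsecA jA jD incl hθsec hincl]
      ring
    rw [h2]
    exact (Ideal.neg_mem_iff _).2 h1
  by_contra hxM
  have hlz : lam sec hsecA incl z ∉ M := fun h => hxM (by
    have : x = (x - lam sec hsecA incl z) + lam sec hsecA incl z := by ring
    rw [this]
    exact Ideal.add_mem _ hzM h)
  obtain ⟨y, i, hi, hyi⟩ := Ideal.IsMaximal.exists_inv ‹M.IsMaximal› hlz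
  obtain ⟨z', hz'⟩ := inLam_all θ sec hsecA incl hsub hpm y
  have hz'M : y - lam sec hsecA incl z' ∈ M := NN_le M hz'
  have h3 : lam sec hsecA incl (z * (-z') + 1) ∈ M := by
    have : lam sec hsecA incl (z * (-z') + 1) =
        i + (y - lam sec hsecA incl z') * lam sec hsecA incl z := by
      rw [map_add, map_mul, map_neg, map_one, ← hyi]; ring
    rw [this]
    exact Ideal.add_mem _ hi (Ideal.mul_mem_right _ _ hz'M)
  have h4 : IsUnit (z * (-z') + 1) := (Ideal.mem_jacobson_bot.1 hzJ) (-z')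
  exact (Ideal.IsMaximal.ne_top ‹M.IsMaximal›)
    (Ideal.eq_top_of_isUnit_mem _ h3 (h4.map (lam sec hsecA incl)))

end core

end Groth.Agent.Helper2.NrmR
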