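import Mathlib
import Groth.Prelude
import Groth.Agent.Helper2.NrmR6

set_option autoImplicit false
set_option linter.style.haveILetI false
set_option linter.unusedSectionVars false
set_option linter.unusedVariables false

universe u

/-! Abstract minimal-prime argument: `θ : T → S` is injective. -/

namespace Groth.Agent.Helper2.NrmR

open IsLocalRing TensorProduct Polynomial

section core

variable {A D S T K Ap Dp : Type u}
  [CommRing A] [CommRing D] [CommRing S] [CommRing T] [CommRing K] [CommRing Ap] [CommRing Dp]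
  [IsLocalRing D] [IsLocalRing S] [IsLocalRing T]
  [Algebra A D] [Algebra A S] [Algebra D S] [IsScalarTower A D S]
  [Algebra D T] [IsLocalHom (algebraMap D T)] [IsLocalHom (algebraMap D S)]
  [Algebra A K] [Algebra D K] [Algebra S K] [IsScalarTower A S K] [IsScalarTower D S K]
  [IsScalarTower A D K]
  [Algebra A Ap] [Algebra A Dp] [Algebra D Dp] [IsScalarTower A D Dp]
  [Algebra.IsIntegral A Ap] [Algebra.IsIntegral D Dp]
  (θ : T →ₐ[D] S) (sec : S →+* T)
  (hsecA : ∀ a : A, sec (algebraMap A S a) = algebraMap D T (algebraMap A D a))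
  (jA : Ap →ₐ[A] K) (jD : Dp →ₐ[D] K) (incl : Ap →ₐ[A] Dp)

/-- the kernel of the localization map at a prime lies in every smaller prime -/
theorem ker_atPrime_le {R : Type*} [CommRing R] (M : Ideal R) [M.IsPrime] (q : Ideal R) [q.IsPrime]
    (hq : q ≤ M) : RingHom.ker (algebraMap R (Localization.AtPrime M)) ≤ q := by
  intro x hx
  rw [RingHom.mem_ker, IsLocalization.map_eq_zero_iff M.primeCompl] at hx
  obtain ⟨m, hm⟩ := hx
  have h1 : (m : R) * x ∈ q := by rw [hm]; exact q.zero_mem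
  rcases Ideal.IsPrime.mem_or_mem ‹q.IsPrime› h1 with h | h
  · exact absurd (hq h) m.2
  · exact h

include hsecA in
theorem ker_theta_le_of_mem_minimalPrimes [IsReduced T]
    (hθsec : ∀ s, θ (sec s) = s) (hincl : ∀ a', jD (incl a') = jA a')
    (hsub : ∀ t : T, t - sec (θ t) ∈ maximalIdeal T)
    (hθm : ∀ t ∈ maximalIdeal T, θ t ∈ maximalIdeal S)
    (hpm : ∀ d' : Dp, ∃ w : Ap ⊗[A] D, pm incl w - d' ∈ Ideal.jacobson (⊥ : Ideal Dp))
    (hmuS : Function.Injective (muS (S := S) jA))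
    (hTinj : Function.Injective (Algebra.TensorProduct.includeRight : T →ₐ[D] Dp ⊗[D] T))
    (hdom : ∀ (M : Ideal (Dp ⊗[D] T)) [M.IsMaximal], IsDomain (Localization.AtPrime M))
    (hminS : ∀ (Q : Ideal S) [Q.IsPrime], (∀ a ∈ nonZeroDivisors A, algebraMap A S a ∉ Q) →
      Q.comap θ.toRingHom ∈ minimalPrimes T)
    (hunit : ∀ a ∈ nonZeroDivisors A, IsUnit (algebraMap A K a))
    (P : Ideal T) (hP : P ∈ minimalPrimes T) : RingHom.ker θ ≤ P := by
  haveI hPp : P.IsPrime := hP.1.1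
  have hθsurj : Function.Surjective θ := fun s => ⟨sec s, hθsec s⟩
  -- a prime of `T'` over `P`
  let iR : T →+* Dp ⊗[D] T := (Algebra.TensorProduct.includeRight : T →ₐ[D] Dp ⊗[D] T).toRingHom
  obtain ⟨Pt, hPtp, hPt⟩ : ∃ Pt : Ideal (Dp ⊗[D] T), Pt.IsPrime ∧ Pt.comap iR = P := by
    letI : Algebra T (Dp ⊗[D] T) := iR.toAlgebra
    haveI : Algebra.IsIntegral T (Dp ⊗[D] T) := ⟨includeRight_isIntegral'⟩
    obtain ⟨Q, -, hQp, hQ⟩ := Ideal.exists_ideal_over_prime_of_isIntegral (S := Dp ⊗[D] T) P ⊥ (by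
      intro t ht
      rw [Ideal.mem_comap, Ideal.mem_bot] at ht
      have : t = 0 := hTinj (by rw [map_zero]; exact ht)
      rw [this]; exact P.zero_mem)
    exact ⟨Q, hQp, hQ⟩
  haveI := hPtp
  obtain ⟨M, hM, hPtM⟩ := Ideal.exists_le_maximal Pt hPtp.ne_top
  haveI := hM
  have hker : RingHom.ker (thetaP θ jD) ≤ M :=
    ker_thetaP_le θ sec hsecA jA jD incl hθsec hincl hsub hθm hpm hmuS M
  obtain ⟨Qt, hQt, hQtM⟩ := Ideal.exists_minimalPrimes_le hker
  haveI hQtp : Qt.IsPrime := hQt.1.1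
  haveI := hdom M
  let p0 : Ideal (Dp ⊗[D] T) := RingHom.ker (algebraMap (Dp ⊗[D] T) (Localization.AtPrime M))
  haveI hp0 : p0.IsPrime := RingHom.ker_isPrime _
  have h1 : p0 ≤ Pt := ker_atPrime_le M Pt hPtM
  have h2 : p0 ≤ Qt := ker_atPrime_le M Qt hQtM
  -- `P ≤ Qt ∩ T`
  have h3 : P ≤ p0.comap iR := by
    refine hP.2 ⟨Ideal.comap_isPrime _ _, bot_le⟩ ?_
    rw [← hPt]
    exact Ideal.comap_mono h1
  let Q1 : Ideal T := Qt.comap iR
  haveI : Q1.IsPrime := Ideal.comap_isPrime _ _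
  have h4 : P ≤ Q1 := h3.trans (Ideal.comap_mono h2)
  have h5 : RingHom.ker θ ≤ Q1 := by
    intro t ht
    rw [RingHom.mem_ker] at ht
    show iR t ∈ Qt
    refine hQt.1.2 ?_
    rw [RingHom.mem_ker]
    show thetaP θ jD ((1 : Dp) ⊗ₜ[D] t) = 0
    rw [thetaP_tmul, ht, map_zero, mul_zero]
  let Q : Ideal S := Q1.map θ.toRingHom
  haveI hQp : Q.IsPrime := Ideal.map_isPrime_of_surjective (f := θ.toRingHom) hθsurj h5
  have h6 : Q.comap θ.toRingHom = Q1 := by
    show (Q1.map θ.toRingHom).comap θ.toRingHom = Q1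
    rw [Ideal.comap_map_of_surjective θ.toRingHom hθsurj]
    exact sup_eq_left.2 h5
  have h7 : Q.comap θ.toRingHom ∈ minimalPrimes T := by
    refine hminS Q ?_
    intro a ha haQ
    let t0 : T := algebraMap D T (algebraMap A D a)
    have ht0 : θ t0 = algebraMap A S a := by
      show θ (algebraMap D T (algebraMap A D a)) = _
      rw [AlgHom.commutes, ← IsScalarTower.algebraMap_apply]
    have h8 : t0 ∈ Q1 := by
      rw [← h6, Ideal.mem_comap]
      show θ t0 ∈ Q
      rw [ht0]; exact haQ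
    obtain ⟨y, hy, hxy⟩ := Ideal.exists_mul_mem_of_mem_minimalPrimes hQt (show iR t0 ∈ Qt from h8)
    rw [RingHom.mem_ker] at hy hxy
    apply hy
    rw [map_mul] at hxy
    have h9 : thetaP θ jD (iR t0) = algebraMap A K a := by
      show thetaP θ jD ((1 : Dp) ⊗ₜ[D] t0) = _
      rw [thetaP_tmul, map_one, one_mul, ht0, ← IsScalarTower.algebraMap_apply]
    rw [h9] at hxy
    exact (hunit a ha).mul_right_eq_zero.1 hxy
  rw [h6] at h7
  exact h5.trans (h7.2 ⟨hPp, bot_le⟩ h4)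

include hsecA in
theorem theta_injective_of [IsReduced T]
    (hθsec : ∀ s, θ (sec s) = s) (hincl : ∀ a', jD (incl a') = jA a')
    (hsub : ∀ t : T, t - sec (θ t) ∈ maximalIdeal T)
    (hθm : ∀ t ∈ maximalIdeal T, θ t ∈ maximalIdeal S)
    (hpm : ∀ d' : Dp, ∃ w : Ap ⊗[A] D, pm incl w - d' ∈ Ideal.jacobson (⊥ : Ideal Dp))
    (hmuS : Function.Injective (muS (S := S) jA))
    (hTinj : Function.Injective (Algebra.TensorProduct.includeRight : T →ₐ[D] Dp ⊗[D] T))
    (hdom : ∀ (M : Ideal (Dp ⊗[D] T)) [M.IsMaximal], IsDomain (Localization.AtPrime M))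
    (hminS : ∀ (Q : Ideal S) [Q.IsPrime], (∀ a ∈ nonZeroDivisors A, algebraMap A S a ∉ Q) →
      Q.comap θ.toRingHom ∈ minimalPrimes T)
    (hunit : ∀ a ∈ nonZeroDivisors A, IsUnit (algebraMap A K a)) :
    Function.Injective θ := by
  rw [← RingHom.coe_coe, RingHom.injective_iff_ker_eq_bot, eq_bot_iff]
  have h1 : RingHom.ker (θ : T →+* S) ≤ sInf (minimalPrimes T) :=
    le_sInf fun P hP => ker_theta_le_of_mem_minimalPrimes θ sec hsecA jA jD incl hθsec hincl hsub hθm
      hpm hmuS hTinj hdom hminS hunit P hP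
  have h2 : sInf (minimalPrimes T) = ⊥ := by
    show sInf (⊥ : Ideal T).minimalPrimes = ⊥
    rw [Ideal.sInf_minimalPrimes]
    exact nilradical_eq_zero T
  rw [← h2]
  exact h1

end core

end Groth.Agent.Helper2.NrmR
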