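import Mathlib
import Groth.Prelude
import Groth.Agent.Helper2.NrmR7

set_option autoImplicit false
set_option linter.style.haveILetI false
set_option linter.unusedSectionVars false
set_option linter.unusedVariables false

universe u

/-! Injectivity of `A' ⊗_A S → K` by common denominators. -/

namespace Groth.Agent.Helper2.NrmR

open IsLocalRing TensorProduct Polynomial

section denom

variable {A S K Ap : Type u} [CommRing A] [CommRing S] [CommRing K] [CommRing Ap]
  [Algebra A S] [Module.Flat A S] [Algebra A K] [Algebra S K] [IsScalarTower A S K] [Algebra A Ap]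
  (jA : Ap →ₐ[A] K)

theorem exists_smul_eq_one_tmul
    (hden : ∀ a' : Ap, ∃ a ∈ nonZeroDivisors A, ∃ b : A, a • a' = algebraMap A Ap b)
    (x : Ap ⊗[A] S) : ∃ a ∈ nonZeroDivisors A, ∃ s : S, a • x = (1 : Ap) ⊗ₜ[A] s := by
  induction x using TensorProduct.induction_on with
  | zero => exact ⟨1, one_mem _, 0, by simp⟩
  | tmul a' s =>
    obtain ⟨a, ha, b, hb⟩ := hden a'
    refine ⟨a, ha, b • s, ?_⟩
    rw [TensorProduct.smul_tmul', hb, Algebra.algebraMap_eq_smul_one, TensorProduct.smul_tmul]
  | add x y hx hy =>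
    obtain ⟨a₁, ha₁, s₁, h₁⟩ := hx
    obtain ⟨a₂, ha₂, s₂, h₂⟩ := hy
    refine ⟨a₁ * a₂, mul_mem ha₁ ha₂, a₂ • s₁ + a₁ • s₂, ?_⟩
    rw [smul_add, mul_comm a₁ a₂, mul_smul, h₁, mul_comm a₂ a₁, mul_smul, h₂,
      TensorProduct.tmul_add, TensorProduct.tmul_smul, TensorProduct.tmul_smul]

theorem smul_injective_tensor (hjA : Function.Injective jA)
    (a : A) (ha : IsUnit (algebraMap A K a)) (x : Ap ⊗[A] S) (hx : a • x = 0) : x = 0 := by
  have h1 : Function.Injective (LinearMap.lsmul A Ap a) := by
    rw [injective_iff_map_eq_zero]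
    intro a' ha'
    apply hjA
    rw [map_zero]
    have h2 : jA (a • a') = 0 := by
      have : a • a' = 0 := ha'
      rw [this, map_zero]
    rw [map_smul, Algebra.smul_def] at h2
    exact ha.mul_right_eq_zero.1 h2
  have h3 := Module.Flat.rTensor_preserves_injective_linearMap (M := S) (LinearMap.lsmul A Ap a) h1
  have h4 : LinearMap.lsmul A Ap a = a • LinearMap.id := by
    ext y
    simp
  rw [h4, LinearMap.rTensor_smul, LinearMap.rTensor_id] at h3
  apply h3
  simpa using hx

theorem muS_injective (hjA : Function.Injective jA) (hSK : Function.Injective (algebraMap S K))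
    (hunit : ∀ a ∈ nonZeroDivisors A, IsUnit (algebraMap A K a))
    (hden : ∀ a' : Ap, ∃ a ∈ nonZeroDivisors A, ∃ b : A, a • a' = algebraMap A Ap b) :
    Function.Injective (muS (S := S) jA) := by
  rw [injective_iff_map_eq_zero]
  intro x hx
  obtain ⟨a, ha, s, hs⟩ := exists_smul_eq_one_tmul hden x
  have h1 : muS (S := S) jA (a • x) = 0 := by rw [map_smul, hx, smul_zero]
  rw [hs] at h1
  have h1' : algebraMap S K s = 0 := by simpa [muS] using h1
  have h2 : s = 0 := hSK (by rw [h1', map_zero])
  rw [h2, TensorProduct.tmul_zero] at hs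
  exact smul_injective_tensor jA hjA a (hunit a ha) x hs

end denom

end Groth.Agent.Helper2.NrmR
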