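import Mathlib
import Groth.Prelude
import Groth.Agent.Helper2.NrmR8
import Groth.Agent.Helper2.NrmR4
import Groth.Agent.Helper2.NrmR2
import Groth.Agent.Helper2.DomLoc

set_option autoImplicit false
set_option linter.style.haveILetI false
set_option linter.unusedSectionVars false
set_option linter.unusedVariables false

universe u

/-! Concrete instantiation: under (R), `θ : D^sh → S` is injective. -/

namespace Groth.Agent.Helper2.NrmR

open IsLocalRing TensorProduct Polynomial Groth.Agent.Helper1.Hens Groth.Agent.Helper1

section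

variable (A S : Type u) [CommRing A] [IsLocalRing A] [IsReduced A]
    [CommRing S] [IsLocalRing S] [Algebra A S] [IsLocalHom (algebraMap A S)]
    [Hensel.IsStrictHenselization A S] (D : Subalgebra A S) [IsLocalRing D]
    [IsLocalHom (algebraMap D S)]

/-- `K_D` von Neumann regular gives the hypothesis `hV` -/
theorem hV_of_vnr (hvnr : ∀ x ∈ KD A S D, ∃ r ∈ KD A S D, x = x * x * r) (x : D) :
    ∃ a ∈ nonZeroDivisors A, ∃ d : D, algebraMap A D a * x = x * x * d := by
  obtain ⟨r, hr, hxr⟩ := hvnr _ (algebraMap_mem_KD A S D (x : S) x.2)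
  obtain ⟨a, ha, d, hd, had⟩ := hr
  refine ⟨a, ha, ⟨d, hd⟩, ?_⟩
  apply Subtype.ext
  apply IsFractionRing.injective S (FractionRing S)
  show algebraMap S (FractionRing S) (algebraMap A S a * (x : S)) =
    algebraMap S (FractionRing S) ((x : S) * (x : S) * d)
  rw [map_mul, map_mul, map_mul, ← had, ← IsScalarTower.algebraMap_apply A S (FractionRing S)]
  calc algebraMap A (FractionRing S) a * algebraMap S (FractionRing S) (x : S)
      = algebraMap A (FractionRing S) a * (algebraMap S (FractionRing S) (x : S) *
          algebraMap S (FractionRing S) (x : S) * r) := by rw [← hxr]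
    _ = _ := by ring

theorem theta_mem_maximalIdeal (t : TD A S D) (ht : t ∈ maximalIdeal (TD A S D)) :
    theta A S D t ∈ maximalIdeal S := by
  rw [← residue_eq_zero_iff, residue_theta]
  by_contra h
  exact ht ((Hens.isUnit_iff t).2 h)


variable (A' D' : Subalgebra A (FractionRing S))
    (hA' : ∀ x : (FractionRing S), x ∈ A' ↔ (IsIntegral A x ∧
      ∃ a ∈ nonZeroDivisors A, ∃ b : A,
        algebraMap A (FractionRing S) a * x = algebraMap A (FractionRing S) b))
    (hD' : ∀ x : (FractionRing S), x ∈ D' ↔ (IsIntegral D x ∧
      ∃ a ∈ nonZeroDivisors A, ∃ d ∈ D,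
        algebraMap A (FractionRing S) a * x = algebraMap S (FractionRing S) d))
    (hle : A' ≤ D') (ι : D →ₐ[A] D')
    (hι : ∀ d : D, (ι d : (FractionRing S)) = algebraMap S (FractionRing S) d)

include hA' in
theorem hden_normalization (x : A') :
    ∃ a ∈ nonZeroDivisors A, ∃ b : A, a • x = algebraMap A A' b := by
  obtain ⟨a, ha, b, hab⟩ := ((hA' x).1 x.2).2
  refine ⟨a, ha, b, Subtype.ext ?_⟩
  show a • (x : FractionRing S) = algebraMap A (FractionRing S) b
  rw [Algebra.smul_def, hab]

include hι in
theorem iota_injective : Function.Injective ι := by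
  intro d d' h
  apply Subtype.ext
  apply IsFractionRing.injective S (FractionRing S)
  have := congrArg Subtype.val h
  rw [hι, hι] at this
  exact this

set_option maxHeartbeats 1600000 in
include hA' hD' hι in
theorem theta_injective
    (hvnr : ∀ x ∈ KD A S D, ∃ r ∈ KD A S D, x = x * x * r)
    (hsurj : Function.Surjective ((Ideal.Quotient.mkₐ A (Ideal.jacobson (⊥ : Ideal D'))).comp
          (Algebra.TensorProduct.productMap (Subalgebra.inclusion hle) ι))) :
    Function.Injective (theta A S D) := by
  haveI : Module.FaithfullyFlat A S := faithfullyFlat_of_isStrictHenselization A S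
  haveI : IsReduced S := (isReduced_iff_of_isStrictHenselization A S).1 inferInstance
  haveI : IsReduced D := isReduced_of_injective (algebraMap D S) Subtype.val_injective
  haveI : IsReduced (TD A S D) :=
    (isReduced_iff_of_isStrictHenselization D (TD A S D)).1 inferInstance
  haveI : Module.FaithfullyFlat D (TD A S D) :=
    faithfullyFlat_of_isStrictHenselization D (TD A S D)
  letI : Algebra D D' := ι.toRingHom.toAlgebra
  haveI : IsScalarTower A D D' := IsScalarTower.of_algebraMap_eq (fun a => (ι.commutes a).symm)
  let jA : A' →ₐ[A] FractionRing S := A'.val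
  let jD : D' →ₐ[D] FractionRing S :=
    { D'.val.toRingHom with
      commutes' := fun d => by
        show ((ι d : D') : FractionRing S) = algebraMap D (FractionRing S) d
        rw [hι]
        rfl }
  have hjD : Function.Injective jD := Subtype.val_injective
  haveI : Algebra.IsIntegral A A' := ⟨fun x =>
    (isIntegral_algHom_iff jA Subtype.val_injective).1 ((hA' x).1 x.2).1⟩
  haveI : Algebra.IsIntegral D D' := ⟨fun x =>
    (isIntegral_algHom_iff jD hjD).1 ((hD' x).1 x.2).1⟩
  have hnorm : EGA4.IsNormalRing D' := isNormalRing_normalization A S D D' hD' hvnr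
  have hpm : ∀ d' : D', ∃ w : A' ⊗[A] D,
      pm (Subalgebra.inclusion hle) w - d' ∈ Ideal.jacobson (⊥ : Ideal D') := by
    intro d'
    obtain ⟨w, hw⟩ := hsurj (Ideal.Quotient.mk _ d')
    refine ⟨w, ?_⟩
    rw [← Ideal.Quotient.eq]
    exact hw
  have hmuS : Function.Injective (muS (S := S) jA) :=
    muS_injective jA Subtype.val_injective (IsFractionRing.injective S (FractionRing S))
      (isUnit_algebraMap_fracS A S) (hden_normalization A S A' hA')
  have hTinj : Function.Injective
      (Algebra.TensorProduct.includeRight : TD A S D →ₐ[D] D' ⊗[D] TD A S D) :=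
    Algebra.TensorProduct.includeRight_injective (iota_injective A S D D' ι hι)
  exact theta_injective_of (A := A) (theta A S D) (sec A S D) (sec_algebraMap A S D) jA jD
    (Subalgebra.inclusion hle) (theta_sec A S D) (fun a' => rfl) (sub_sec_theta_mem A S D)
    (theta_mem_maximalIdeal A S D) hpm hmuS hTinj
    (fun M _ => Groth.Agent.Helper2.DomLoc.isDomain_atPrime hnorm M)
    (fun Q _ hQ => comap_theta_mem_minimalPrimes A S D (hV_of_vnr A S D hvnr) Q hQ)
    (isUnit_algebraMap_fracS A S)

end

end Groth.Agent.Helper2.NrmR
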