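import Mathlib
import Groth.Prelude
import Groth.Agent.Helper2.NrmR9
import Groth.Agent.Helper2.EssFT8
import Groth.Agent.Helper1.HensStrictNoeth

set_option autoImplicit false
set_option linter.style.haveILetI false
set_option linter.unusedSectionVars false
set_option linter.unusedVariables false

universe u

/-! (R) implies essentially étale. -/

namespace Groth.Agent.Helper2.NrmR

open IsLocalRing TensorProduct Polynomial Groth.Agent.Helper1.Hens Groth.Agent.Helper1

section

variable (A S : Type u) [CommRing A] [IsLocalRing A] [IsReduced A]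
    [CommRing S] [IsLocalRing S] [Algebra A S] [IsLocalHom (algebraMap A S)]
    [Hensel.IsStrictHenselization A S] (D : Subalgebra A S) [IsLocalRing D]
    [IsLocalHom (algebraMap D S)]

theorem isNoetherianRing_strict [IsNoetherianRing A] : IsNoetherianRing S := by
  haveI : IsLocalHom (algebraMap A (ResidueField S)) := by
    have : algebraMap A (ResidueField S) = (residue S).comp (algebraMap A S) := rfl
    rw [this]
    exact RingHom.isLocalHom_comp _ _
  haveI := Hens.isNoetherianRing A (ResidueField S)
  exact isNoetherianRing_of_ringEquiv _ (equivOfIsStrictHenselization A S).symm.toRingEquiv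

/-- if `θ` is injective then `D → S` is faithfully flat -/
theorem faithfullyFlat_of_theta_injective (hinj : Function.Injective (theta A S D)) :
    Module.FaithfullyFlat D S := by
  haveI : Module.FaithfullyFlat D (TD A S D) :=
    faithfullyFlat_of_isStrictHenselization D (TD A S D)
  let e : TD A S D ≃ₐ[D] S := AlgEquiv.ofBijective (theta A S D) ⟨hinj, theta_surjective A S D⟩
  haveI : Module.Flat D S := Module.Flat.of_linearEquiv e.toLinearEquiv.symm
  exact Module.FaithfullyFlat.of_flat_of_isLocalHom

theorem isNoetherianRing_of_faithfullyFlat {R B : Type*} [CommRing R] [CommRing B] [Algebra R B]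
    [Module.FaithfullyFlat R B] [IsNoetherianRing B] : IsNoetherianRing R := by
  refine Submodule.IsNoetherian.of_isNoetherian_tensorProduct_of_faithfullyFlat (A := B) ?_
  exact isNoetherian_of_linearEquiv (TensorProduct.AlgebraTensorModule.rid R B B).symm


variable (A' D' : Subalgebra A (FractionRing S))
    (hA' : ∀ x : (FractionRing S), x ∈ A' ↔ (IsIntegral A x ∧
      ∃ a ∈ nonZeroDivisors A, ∃ b : A,
        algebraMap A (FractionRing S) a * x = algebraMap A (FractionRing S) b))
    (hD' : ∀ x : (FractionRing S), x ∈ D' ↔ (IsIntegral D x ∧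
      ∃ a ∈ nonZeroDivisors A, ∃ d ∈ D,
        algebraMap A (FractionRing S) a * x = algebraMap S (FractionRing S) d))
    (hle : A' ≤ D') (ι : D →ₐ[A] D')
    (hι : ∀ d : D, (ι d : (FractionRing S)) = algebraMap S (FractionRing S) d)

include hA' hD' hι in
/-- (⇐) of S16450 -/
theorem isEssentiallyEtale_of_surjective (hA : EGA4.IsExcellent A)
    (hfg : ∃ t : Finset (FractionRing D), ∀ x : FractionRing D, ∃ a ∈ nonZeroDivisors A,
      algebraMap A (FractionRing D) a * x ∈ Algebra.adjoin A (t : Set (FractionRing D)))
    (hsurj : Function.Surjective ((Ideal.Quotient.mkₐ A (Ideal.jacobson (⊥ : Ideal D'))).comp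
          (Algebra.TensorProduct.productMap (Subalgebra.inclusion hle) ι))) :
    EGA4loc.IsEssentiallyEtale A D := by
  have hNag : CAlg.IsNagata A := Groth.Agent.Helper2.QENag.s2654 A ⟨hA.1, hA.2.2.1, hA.2.2.2⟩
  haveI := hNag.1
  have hmin : (minimalPrimes A).Finite := minimalPrimes.finite_of_isNoetherianRing A
  obtain ⟨E, hDE, hEloc, hE⟩ := Groth.Agent.Helper2.EssEtSub.s16441_mp A S hmin D hfg
  haveI := hEloc
  have hvnr := vnr_KD A S D hmin E hDE hE
  have hinj := theta_injective A S D A' D' hA' hD' hle ι hι hvnr hsurj
  haveI : Module.FaithfullyFlat D S := faithfullyFlat_of_theta_injective A S D hinj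
  haveI : IsNoetherianRing S := isNoetherianRing_strict A S
  haveI : IsNoetherianRing D := isNoetherianRing_of_faithfullyFlat (R := D) (B := S)
  have hm : Ideal.map (algebraMap A D) (maximalIdeal A) = maximalIdeal D := by
    have h1 := Ideal.comap_map_eq_self_of_faithfullyFlat (B := S)
      ((maximalIdeal A).map (algebraMap A D))
    rw [Ideal.map_map, ← IsScalarTower.algebraMap_eq,
      map_maximalIdeal_of_isStrictHenselization] at h1
    rw [← h1]
    exact ((local_hom_TFAE (algebraMap D S)).out 0 4 rfl rfl).mp inferInstance
  exact Groth.Agent.Helper2.EssFT.s16439 A S D hA hfg hm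

end

end Groth.Agent.Helper2.NrmR
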