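import Mathlib
import Groth.Prelude
import Groth.Agent.Helper2.NrmR10

set_option autoImplicit false
set_option linter.style.haveILetI false
set_option linter.unusedSectionVars false
set_option linter.unusedVariables false

universe u

/-! (⇒): for `D` essentially étale, `A' ⊗_A D → D'` is bijective. -/

namespace Groth.Agent.Helper2.NrmR

open IsLocalRing TensorProduct Polynomial Groth.Agent.Helper1.Hens Groth.Agent.Helper1
  Groth.Agent.Helper2.TotFrac

theorem toIntegralClosure_bijective_of_essEtale (A E B : Type u) [CommRing A] [IsLocalRing A]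
    [CommRing E] [Algebra A E] [CommRing B] [Algebra A B] (hE : EGA4loc.IsEssentiallyEtale A E) :
    Function.Bijective (TensorProduct.toIntegralClosure A E B) := by
  obtain ⟨C, _, _, q, _, hC, -, ⟨e⟩⟩ := hE
  letI : Algebra C E :=
    (e.symm.toAlgHom.comp (IsScalarTower.toAlgHom A C (Localization.AtPrime q))).toRingHom.toAlgebra
  haveI : IsScalarTower A C E := IsScalarTower.of_algebraMap_eq (fun a => by
    show algebraMap A E a = e.symm (algebraMap C (Localization.AtPrime q) (algebraMap A C a))
    rw [← IsScalarTower.algebraMap_apply, e.symm.commutes])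
  haveI : IsLocalization q.primeCompl E := by
    let e' : Localization.AtPrime q ≃ₐ[C] E := { e.symm with commutes' := fun c => rfl }
    exact IsLocalization.isLocalization_of_algEquiv q.primeCompl e'
  haveI : Algebra.Smooth A C := inferInstance
  exact TensorProduct.toIntegralClosure_bijective_of_tower (R := A) (S := C) (T := E) (B := B)
    TensorProduct.toIntegralClosure_bijective_of_smooth
    (TensorProduct.toIntegralClosure_bijective_of_isLocalization q.primeCompl)

section

variable (A S : Type u) [CommRing A] [IsLocalRing A] [IsReduced A]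
    [CommRing S] [IsLocalRing S] [Algebra A S] [IsLocalHom (algebraMap A S)]
    [Hensel.IsStrictHenselization A S] (D : Subalgebra A S) [IsLocalRing D]
    [IsLocalHom (algebraMap D S)]

/-- the total ring of fractions of `A` inside that of `S` -/
noncomputable abbrev KA : Subalgebra A (FractionRing S) := KD A S ⊥

theorem mem_KA (x : FractionRing S) : x ∈ KA A S ↔ ∃ a ∈ nonZeroDivisors A, ∃ b : A,
    algebraMap A (FractionRing S) a * x = algebraMap A (FractionRing S) b := by
  constructor
  · rintro ⟨a, ha, d, hd, h⟩
    obtain ⟨b, rfl⟩ := Algebra.mem_bot.1 hd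
    exact ⟨a, ha, b, by rw [h, ← IsScalarTower.algebraMap_apply]⟩
  · rintro ⟨a, ha, b, h⟩
    exact ⟨a, ha, algebraMap A S b, Subalgebra.algebraMap_mem _ b,
      by rw [h, ← IsScalarTower.algebraMap_apply]⟩

theorem hden_KA (x : KA A S) : ∃ a ∈ nonZeroDivisors A, ∃ b : A, a • x = algebraMap A (KA A S) b := by
  obtain ⟨a, ha, b, hab⟩ := (mem_KA A S x).1 x.2
  refine ⟨a, ha, b, Subtype.ext ?_⟩
  show a • (x : FractionRing S) = algebraMap A (FractionRing S) b
  rw [Algebra.smul_def, hab]

/-- the map `D ⊗_A K_A → K` -/
noncomputable def muK : D ⊗[A] KA A S →ₐ[D] FractionRing S :=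
  Algebra.TensorProduct.productLeftAlgHom (Algebra.ofId D (FractionRing S)) (KA A S).val

theorem muK_tmul (d : D) (c : KA A S) :
    muK A S D (d ⊗ₜ[A] c) = algebraMap S (FractionRing S) (d : S) * (c : FractionRing S) := by
  simp [muK]
  rfl

theorem muK_eq (y : D ⊗[A] KA A S) :
    muK A S D y = muS (S := D) (KA A S).val (Algebra.TensorProduct.comm A D (KA A S) y) := by
  induction y using TensorProduct.induction_on with
  | zero => simp
  | tmul d c =>
    rw [muK_tmul]
    simp [muS]
    rw [mul_comm]
    rfl
  | add x y hx hy => rw [map_add, map_add, map_add, hx, hy]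

theorem muK_injective [Module.Flat A D] : Function.Injective (muK A S D) := by
  have h1 : Function.Injective (muS (S := D) (KA A S).val) :=
    muS_injective (KA A S).val Subtype.val_injective
      (fun x y h => Subtype.ext (IsFractionRing.injective S (FractionRing S) h))
      (isUnit_algebraMap_fracS A S) (hden_KA A S)
  intro x y h
  rw [muK_eq, muK_eq] at h
  exact (Algebra.TensorProduct.comm A D (KA A S)).injective (h1 h)


variable (A' D' : Subalgebra A (FractionRing S))
    (hA' : ∀ x : (FractionRing S), x ∈ A' ↔ (IsIntegral A x ∧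
      ∃ a ∈ nonZeroDivisors A, ∃ b : A,
        algebraMap A (FractionRing S) a * x = algebraMap A (FractionRing S) b))
    (hD' : ∀ x : (FractionRing S), x ∈ D' ↔ (IsIntegral D x ∧
      ∃ a ∈ nonZeroDivisors A, ∃ d ∈ D,
        algebraMap A (FractionRing S) a * x = algebraMap S (FractionRing S) d))
    (hle : A' ≤ D') (ι : D →ₐ[A] D')
    (hι : ∀ d : D, (ι d : (FractionRing S)) = algebraMap S (FractionRing S) d)

include hι in
theorem coe_productMap_eq (v : A' ⊗[A] D) :
    ((Algebra.TensorProduct.productMap (Subalgebra.inclusion hle) ι v : D') : FractionRing S) =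
      muS (S := D) A'.val v := by
  induction v using TensorProduct.induction_on with
  | zero => simp
  | tmul a' d =>
    simp only [Algebra.TensorProduct.productMap_apply_tmul, muS, Subalgebra.coe_mul, hι]
    rfl
  | add x y hx hy =>
    rw [map_add, map_add, Subalgebra.coe_add, hx, hy]

include hA' hι in
theorem productMap_injective [Module.Flat A D] :
    Function.Injective (Algebra.TensorProduct.productMap (Subalgebra.inclusion hle) ι) := by
  have h1 : Function.Injective (muS (S := D) A'.val) :=
    muS_injective A'.val Subtype.val_injective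
      (fun x y h => Subtype.ext (IsFractionRing.injective S (FractionRing S) h))
      (isUnit_algebraMap_fracS A S) (hden_normalization A S A' hA')
  intro x y h
  apply h1
  rw [← coe_productMap_eq A S D A' D' hle ι hι, ← coe_productMap_eq A S D A' D' hle ι hι, h]

include hA' hι in
theorem exists_productMap_eq (w : D ⊗[A] integralClosure A (KA A S)) :
    ∃ v : A' ⊗[A] D,
      ((Algebra.TensorProduct.productMap (Subalgebra.inclusion hle) ι v : D') : FractionRing S) =
      muK A S D (Algebra.TensorProduct.map (AlgHom.id D D) (integralClosure A (KA A S)).val w) := by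
  induction w using TensorProduct.induction_on with
  | zero => exact ⟨0, by simp⟩
  | tmul d c =>
    have hc : ((c : KA A S) : FractionRing S) ∈ A' := by
      rw [hA']
      exact ⟨c.2.map (KA A S).val, (mem_KA A S _).1 (c : KA A S).2⟩
    refine ⟨(⟨_, hc⟩ : A') ⊗ₜ[A] d, ?_⟩
    rw [Algebra.TensorProduct.map_tmul, muK_tmul, Algebra.TensorProduct.productMap_apply_tmul,
      Subalgebra.coe_mul, hι, mul_comm]
    rfl
  | add x y hx hy =>
    obtain ⟨v₁, h₁⟩ := hx
    obtain ⟨v₂, h₂⟩ := hy
    exact ⟨v₁ + v₂, by rw [map_add, map_add, map_add, Subalgebra.coe_add, h₁, h₂]⟩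

include hA' hD' hι in
theorem productMap_surjective (hE : EGA4loc.IsEssentiallyEtale A D) :
    Function.Surjective (Algebra.TensorProduct.productMap (Subalgebra.inclusion hle) ι) := by
  haveI : Module.Flat A D := flat_of_isEssentiallyEtale A D hE
  intro x
  obtain ⟨hxint, a, ha, d, hd, had⟩ := (hD' x).1 x.2
  -- the inverse of `a` in `K_A`
  obtain ⟨u, hu⟩ := isUnit_algebraMap_fracS A S a ha
  have hinv : ((u⁻¹ : (FractionRing S)ˣ) : FractionRing S) ∈ KA A S := by
    rw [mem_KA]
    exact ⟨a, ha, 1, by rw [← hu, Units.mul_inv, map_one]⟩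
  let y : D ⊗[A] KA A S := (⟨d, hd⟩ : D) ⊗ₜ[A] (⟨_, hinv⟩ : KA A S)
  have hy : muK A S D y = x := by
    show muK A S D ((⟨d, hd⟩ : D) ⊗ₜ[A] (⟨_, hinv⟩ : KA A S)) = x
    rw [muK_tmul]
    show algebraMap S (FractionRing S) d * ((u⁻¹ : (FractionRing S)ˣ) : FractionRing S) = x
    rw [← had, ← hu]
    rw [mul_comm, ← mul_assoc, Units.inv_mul, one_mul]
  have hyint : IsIntegral D y := by
    rw [← isIntegral_algHom_iff (muK A S D) (muK_injective A S D), hy]
    exact hxint
  obtain ⟨w, hw⟩ := (toIntegralClosure_bijective_of_essEtale A D (KA A S) hE).2 ⟨y, hyint⟩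
  have hw' : Algebra.TensorProduct.map (AlgHom.id D D) (integralClosure A (KA A S)).val w = y :=
    congrArg Subtype.val hw
  obtain ⟨v, hv⟩ := exists_productMap_eq A S D A' D' hA' hle ι hι w
  refine ⟨v, Subtype.ext ?_⟩
  rw [hv, hw', hy]

end

end Groth.Agent.Helper2.NrmR
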