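import Mathlib
import Groth.Prelude
import Groth.Agent.Helper2.NrmR6
import Groth.Agent.Helper1.EtRed
import Groth.Agent.Helper1.EssEt

set_option autoImplicit false
set_option linter.style.haveILetI false
set_option linter.unusedSectionVars false
set_option linter.unusedVariables false

universe u

/-! The Jacobson radical of `A' ⊗_A E` for `E` essentially étale. -/

namespace Groth.Agent.Helper2.NrmR

open IsLocalRing TensorProduct Polynomial

theorem isReduced_tensor_of_essEtale (A R₁ E : Type u) [CommRing A] [IsLocalRing A]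
    [CommRing R₁] [Algebra A R₁] [IsReduced R₁] [CommRing E] [Algebra A E]
    (hE : EGA4loc.IsEssentiallyEtale A E) : IsReduced (R₁ ⊗[A] E) := by
  obtain ⟨C, _, _, q, _, hC, -, ⟨e⟩⟩ := hE
  haveI : Algebra.Etale R₁ (R₁ ⊗[A] C) := inferInstance
  haveI : IsReduced (R₁ ⊗[A] C) := Groth.Agent.Helper1.EtRed.isReduced_of_etale R₁ (R₁ ⊗[A] C)
  letI : Algebra (R₁ ⊗[A] C) (R₁ ⊗[A] Localization.AtPrime q) :=
    (Algebra.TensorProduct.map (AlgHom.id R₁ R₁)
      (IsScalarTower.toAlgHom A C (Localization.AtPrime q))).toRingHom.toAlgebra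
  haveI : IsScalarTower R₁ (R₁ ⊗[A] C) (R₁ ⊗[A] Localization.AtPrime q) :=
    IsScalarTower.of_algebraMap_eq (fun r => by
      show r ⊗ₜ[A] (1 : Localization.AtPrime q) =
        Algebra.TensorProduct.map (AlgHom.id R₁ R₁)
          (IsScalarTower.toAlgHom A C (Localization.AtPrime q)) (r ⊗ₜ[A] (1 : C))
      simp)
  have H : (algebraMap (R₁ ⊗[A] C) (R₁ ⊗[A] Localization.AtPrime q)).comp
      (Algebra.TensorProduct.includeRight : C →ₐ[A] R₁ ⊗[A] C).toRingHom =
      (Algebra.TensorProduct.includeRight :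
        Localization.AtPrime q →ₐ[A] R₁ ⊗[A] Localization.AtPrime q).toRingHom.comp
        (algebraMap C (Localization.AtPrime q)) := by
    ext c
    show Algebra.TensorProduct.map (AlgHom.id R₁ R₁)
          (IsScalarTower.toAlgHom A C (Localization.AtPrime q)) ((1 : R₁) ⊗ₜ[A] c) = _
    simp
  haveI := IsLocalization.tensorProduct_tensorProduct_right A R₁ q.primeCompl
    (Localization.AtPrime q) H
  haveI : IsReduced (R₁ ⊗[A] Localization.AtPrime q) :=
    isReduced_localizationPreserves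
      (q.primeCompl.map (Algebra.TensorProduct.includeRight (R := A) (A := R₁) (B := C))) _
      (inferInstance : IsReduced (R₁ ⊗[A] C))
  exact isReduced_of_injective
    (Algebra.TensorProduct.congr (AlgEquiv.refl (R := A) (A₁ := R₁)) e).toAlgHom.toRingHom
    (Algebra.TensorProduct.congr (AlgEquiv.refl (R := A) (A₁ := R₁)) e).injective


section jac

variable (A Ap E : Type u) [CommRing A] [IsLocalRing A] [CommRing Ap] [Algebra A Ap]
    [Algebra.IsIntegral A Ap] [CommRing E] [IsLocalRing E] [Algebra A E]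
    [IsLocalHom (algebraMap A E)]

/-- `m_A A' ⊆ Rad A'` -/
theorem map_maximalIdeal_le_jacobson :
    (maximalIdeal A).map (algebraMap A Ap) ≤ Ideal.jacobson (⊥ : Ideal Ap) := by
  rw [Ideal.map_le_iff_le_comap]
  intro a ha
  rw [Ideal.mem_comap, Ideal.jacobson, Ideal.mem_sInf]
  rintro M ⟨-, hM⟩
  haveI := hM
  have h1 : M.comap (algebraMap A Ap) = maximalIdeal A :=
    IsLocalRing.eq_maximalIdeal (Ideal.isMaximal_comap_of_isIntegral_of_isMaximal (R := A) M)
  have : a ∈ M.comap (algebraMap A Ap) := by rw [h1]; exact ha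
  exact this

theorem jacobson_bot_le_of_essEtale (hE : EGA4loc.IsEssentiallyEtale A E) :
    Ideal.jacobson (⊥ : Ideal (Ap ⊗[A] E)) ≤
      (Ideal.jacobson (⊥ : Ideal Ap)).map
        (Algebra.TensorProduct.includeLeft : Ap →ₐ[A] Ap ⊗[A] E) := by
  obtain ⟨hft, hfe⟩ := Groth.Agent.Helper1.EssEt.props_of_isEssentiallyEtale hE
  haveI := hft
  haveI := hfe
  set Rad : Ideal Ap := Ideal.jacobson (⊥ : Ideal Ap) with hRad
  set J₀ : Ideal (Ap ⊗[A] E) :=
    Rad.map (Algebra.TensorProduct.includeLeft : Ap →ₐ[A] Ap ⊗[A] E) with hJ₀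
  -- `J₀` is a kernel
  have hker : RingHom.ker (Algebra.TensorProduct.map (Ideal.Quotient.mkₐ A Rad) (AlgHom.id A E)) =
      J₀ := by
    rw [Algebra.TensorProduct.map_ker _ _ (Ideal.Quotient.mkₐ_surjective A Rad)
      Function.surjective_id]
    have h1 : RingHom.ker (AlgHom.id A E) = ⊥ := by
      ext x
      simp [RingHom.mem_ker]
    have h0 : RingHom.ker (Ideal.Quotient.mkₐ A Rad) = Rad := by
      ext x
      rw [RingHom.mem_ker]
      exact Ideal.Quotient.eq_zero_iff_mem
    rw [h1, Ideal.map_bot, sup_bot_eq, h0]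
  haveI : IsReduced (Ap ⧸ Rad) :=
    (Ideal.isRadical_iff_quotient_reduced _).1 (Ideal.isRadical_jacobson _)
  haveI : IsReduced ((Ap ⧸ Rad) ⊗[A] E) := isReduced_tensor_of_essEtale A (Ap ⧸ Rad) E hE
  have hrad : J₀.IsRadical := by
    rw [← hker]
    intro x hx
    obtain ⟨n, hn⟩ := hx
    rw [RingHom.mem_ker] at hn ⊢
    rw [map_pow] at hn
    exact IsReduced.eq_zero _ ⟨n, hn⟩
  -- `m_E B ≤ J₀`
  have hmE : (maximalIdeal E).map
      (Algebra.TensorProduct.includeRight : E →ₐ[A] Ap ⊗[A] E).toRingHom ≤ J₀ := by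
    rw [← Algebra.FormallyUnramified.map_maximalIdeal (R := A) (S := E), Ideal.map_map]
    have h2 : (Algebra.TensorProduct.includeRight : E →ₐ[A] Ap ⊗[A] E).toRingHom.comp
        (algebraMap A E) =
        (Algebra.TensorProduct.includeLeft : Ap →ₐ[A] Ap ⊗[A] E).toRingHom.comp
          (algebraMap A Ap) := by
      ext a
      show (1 : Ap) ⊗ₜ[A] algebraMap A E a = algebraMap A Ap a ⊗ₜ[A] (1 : E)
      exact (Algebra.TensorProduct.tmul_one_eq_one_tmul a).symm
    rw [h2, ← Ideal.map_map]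
    exact Ideal.map_mono (map_maximalIdeal_le_jacobson A Ap)
  -- primes over `J₀` are maximal
  have hmax : ∀ P : Ideal (Ap ⊗[A] E), J₀ ≤ P → P.IsPrime → P.IsMaximal := by
    intro P hJP hP
    haveI := hP
    have h3 : P.comap (Algebra.TensorProduct.includeRight : E →ₐ[A] Ap ⊗[A] E).toRingHom =
        maximalIdeal E := by
      refine le_antisymm (IsLocalRing.le_maximalIdeal (Ideal.comap_ne_top _ hP.ne_top)) ?_
      rw [← Ideal.map_le_iff_le_comap]
      exact hmE.trans hJP
    refine Ideal.isMaximal_of_isIntegral_of_isMaximal_comap' _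
      (includeRight_isIntegral' (D := A) (Dp := Ap) (T := E)) P ?_
    rw [h3]
    infer_instance
  calc Ideal.jacobson (⊥ : Ideal (Ap ⊗[A] E)) ≤ Ideal.jacobson J₀ := Ideal.jacobson_mono bot_le
    _ ≤ J₀.radical := by
        rw [Ideal.radical_eq_sInf]
        exact le_sInf fun P hP => sInf_le ⟨hP.1, hmax P hP.1 hP.2⟩
    _ = J₀ := hrad.radical

end jac

end Groth.Agent.Helper2.NrmR
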