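import Mathlib
import Groth.Prelude
import Groth.Agent.Helper2.NrmR11
import Groth.Agent.Helper2.NrmR12
import Groth.Agent.Helper2.SemiL1

set_option autoImplicit false
set_option linter.style.haveILetI false
set_option linter.unusedSectionVars false
set_option linter.unusedVariables false

universe u

/-! (⇒) of S16450. -/

namespace Groth.Agent.Helper2.NrmR

open IsLocalRing TensorProduct Polynomial Groth.Agent.Helper1.Hens Groth.Agent.Helper1
  Groth.Agent.Helper2.TotFrac

section abstract

variable {A D Ap Dp : Type u} [CommRing A] [CommRing D] [CommRing Ap] [CommRing Dp]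
  [IsLocalRing A] [IsLocalRing D] [Algebra A D] [IsLocalHom (algebraMap A D)]
  [Algebra A Ap] [Algebra A Dp] [Algebra D Dp] [IsScalarTower A D Dp]
  [Algebra.IsIntegral A Ap] [Algebra.IsIntegral D Dp] (incl : Ap →ₐ[A] Dp)

variable (D) in
include D in
theorem incl_mem_jacobson {a' : Ap} (ha' : a' ∈ Ideal.jacobson (⊥ : Ideal Ap)) :
    incl a' ∈ Ideal.jacobson (⊥ : Ideal Dp) := by
  rw [Ideal.jacobson, Ideal.mem_sInf]
  rintro N ⟨-, hN⟩
  haveI := hN
  have hND : N.comap (algebraMap D Dp) = maximalIdeal D :=
    IsLocalRing.eq_maximalIdeal (Ideal.isMaximal_comap_of_isIntegral_of_isMaximal (R := D) N)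
  have h1 : ((N.comap incl.toRingHom).comap (algebraMap A Ap)).IsMaximal := by
    have : (N.comap incl.toRingHom).comap (algebraMap A Ap) = maximalIdeal A := by
      ext a
      rw [Ideal.mem_comap, Ideal.mem_comap]
      show incl (algebraMap A Ap a) ∈ N ↔ _
      rw [incl.commutes, IsScalarTower.algebraMap_apply A D Dp, ← Ideal.mem_comap, hND,
        IsLocalRing.mem_maximalIdeal, IsLocalRing.mem_maximalIdeal, map_mem_nonunits_iff]
    rw [this]
    infer_instance
  haveI : (N.comap incl.toRingHom).IsPrime := Ideal.comap_isPrime _ _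
  exact jacobson_le_of_comap_isMaximal (R := A) _ h1 ha'

theorem J_le_ker_abstract :
    (Ideal.jacobson (⊥ : Ideal Ap)).map
        (Algebra.TensorProduct.includeLeft : Ap →ₐ[A] Ap ⊗[A] D) ⊔
      (maximalIdeal D).map (Algebra.TensorProduct.includeRight : D →ₐ[A] Ap ⊗[A] D) ≤
    RingHom.ker ((Ideal.Quotient.mkₐ A (Ideal.jacobson (⊥ : Ideal Dp))).comp
      (Algebra.TensorProduct.productMap incl (IsScalarTower.toAlgHom A D Dp))) := by
  refine sup_le (Ideal.map_le_iff_le_comap.2 ?_) (Ideal.map_le_iff_le_comap.2 ?_)
  · intro a' ha'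
    rw [Ideal.mem_comap, RingHom.mem_ker]
    show Ideal.Quotient.mk _ (Algebra.TensorProduct.productMap incl
      (IsScalarTower.toAlgHom A D Dp) (a' ⊗ₜ[A] (1 : D))) = 0
    rw [Algebra.TensorProduct.productMap_apply_tmul, map_one, mul_one,
      Ideal.Quotient.eq_zero_iff_mem]
    exact incl_mem_jacobson D incl ha'
  · intro d hd
    rw [Ideal.mem_comap, RingHom.mem_ker]
    show Ideal.Quotient.mk _ (Algebra.TensorProduct.productMap incl
      (IsScalarTower.toAlgHom A D Dp) ((1 : Ap) ⊗ₜ[A] d)) = 0
    rw [Algebra.TensorProduct.productMap_apply_tmul, map_one, one_mul,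
      Ideal.Quotient.eq_zero_iff_mem]
    exact map_maximalIdeal_le_jacobson D Dp (Ideal.mem_map_of_mem _ hd)

end abstract


section concrete

variable (A S : Type u) [CommRing A] [IsLocalRing A] [IsReduced A]
    [CommRing S] [IsLocalRing S] [Algebra A S] [IsLocalHom (algebraMap A S)]
    [Hensel.IsStrictHenselization A S] (D : Subalgebra A S) [IsLocalRing D]
    [IsLocalHom (algebraMap D S)]
    (A' D' : Subalgebra A (FractionRing S))
    (hA' : ∀ x : (FractionRing S), x ∈ A' ↔ (IsIntegral A x ∧
      ∃ a ∈ nonZeroDivisors A, ∃ b : A,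
        algebraMap A (FractionRing S) a * x = algebraMap A (FractionRing S) b))
    (hD' : ∀ x : (FractionRing S), x ∈ D' ↔ (IsIntegral D x ∧
      ∃ a ∈ nonZeroDivisors A, ∃ d ∈ D,
        algebraMap A (FractionRing S) a * x = algebraMap S (FractionRing S) d))
    (hle : A' ≤ D') (ι : D →ₐ[A] D')
    (hι : ∀ d : D, (ι d : (FractionRing S)) = algebraMap S (FractionRing S) d)

set_option maxHeartbeats 1600000 in
include hD' in
theorem finite_max_normalization [IsNoetherianRing A] (hE : EGA4loc.IsEssentiallyEtale A D) :
    {N : Ideal D' | N.IsMaximal}.Finite := by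
  have hmin : (minimalPrimes A).Finite := minimalPrimes.finite_of_isNoetherianRing A
  haveI : IsLocalHom (algebraMap A D) :=
    Groth.Agent.Helper2.EssEtSub.isLocalHom_algebraMap_sub A S D
  haveI : Module.Flat A D := flat_of_isEssentiallyEtale A D hE
  haveI : Algebra.QuasiFinite A D := quasiFinite_of_isEssentiallyEtale A D hE
  haveI : Hensel.IsStrictHenselization D S := isStrictHenselization_sub A S D hE
  haveI : Module.FaithfullyFlat D S := faithfullyFlat_of_isStrictHenselization D S
  haveI : IsReduced S := (isReduced_iff_of_isStrictHenselization A S).1 inferInstance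
  haveI : IsReduced D := isReduced_of_injective (algebraMap D S) Subtype.val_injective
  haveI hloc := isLocalization_fractionRing A D hmin
  let φ : FractionRing D →ₐ[D] FractionRing S :=
    { fracMap D S with commutes' := fracMap_algebraMap D S }
  have hφinj : Function.Injective φ := by
    show Function.Injective (fracMap D S)
    unfold fracMap
    rw [IsLocalization.lift_injective_iff]
    intro x y
    constructor
    · intro h
      rw [IsFractionRing.injective D (FractionRing D) h]
    · intro h
      have : x = y := Subtype.ext (IsFractionRing.injective S (FractionRing S) h)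
      rw [this]
  have hmem : ∀ y : integralClosure D (FractionRing D),
      (φ.toRingHom.comp (integralClosure D (FractionRing D)).val.toRingHom) y ∈ D' := by
    intro y
    show φ (y : FractionRing D) ∈ D'
    rw [hD']
    refine ⟨y.2.map φ, ?_⟩
    obtain ⟨⟨d, m⟩, hdm⟩ := IsLocalization.surj ((nonZeroDivisors A).map (algebraMap A D))
      (y : FractionRing D)
    obtain ⟨a, ha, ham⟩ := m.2
    refine ⟨a, ha, d, d.2, ?_⟩
    have h1 := congrArg φ hdm
    rw [map_mul, φ.commutes, φ.commutes, ← ham,
      ← IsScalarTower.algebraMap_apply A D (FractionRing S)] at h1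
    rw [mul_comm, h1]
    rfl
  let Φ : integralClosure D (FractionRing D) →+* D' :=
    (φ.toRingHom.comp (integralClosure D (FractionRing D)).val.toRingHom).codRestrict D' hmem
  have hΦ : Function.Surjective Φ := by
    intro x
    obtain ⟨hxint, a, ha, d, hd, had⟩ := (hD' x).1 x.2
    let s : nonZeroDivisors D :=
      ⟨algebraMap A D a, map_le_nonZeroDivisors A D ⟨a, ha, rfl⟩⟩
    let y : FractionRing D := IsLocalization.mk' (FractionRing D) (⟨d, hd⟩ : D) s
    have h1 : y * algebraMap D (FractionRing D) s = algebraMap D (FractionRing D) ⟨d, hd⟩ :=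
      IsLocalization.mk'_spec _ _ _
    have hy : φ y = x := by
      have h2 := congrArg φ h1
      rw [map_mul, φ.commutes, φ.commutes] at h2
      have h3 : algebraMap D (FractionRing S) (s : D) = algebraMap A (FractionRing S) a :=
        (IsScalarTower.algebraMap_apply A D (FractionRing S) a).symm
      have h4 : algebraMap D (FractionRing S) (⟨d, hd⟩ : D) =
          algebraMap A (FractionRing S) a * x := had.symm
      rw [h3, h4, mul_comm] at h2
      exact (isUnit_algebraMap_fracS A S a ha).mul_left_cancel h2
    have hyint : IsIntegral D y := by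
      rw [← isIntegral_algHom_iff φ hφinj, hy]
      exact hxint
    exact ⟨⟨y, hyint⟩, Subtype.ext hy⟩
  have hfin := Groth.Agent.Helper2.SemiL.finite_max_integralClosure A D hE
  refine Set.Finite.of_injOn (f := Ideal.comap Φ) ?_ ?_ hfin
  · intro N hN
    haveI : N.IsMaximal := hN
    exact Ideal.comap_isMaximal_of_surjective Φ hΦ
  · intro N₁ _ N₂ _ h
    exact Ideal.comap_injective_of_surjective Φ hΦ h


set_option maxHeartbeats 1600000 in
include hA' hD' hι in
/-- (⇒) of S16450 -/
theorem normalization_of_isEssentiallyEtale [IsNoetherianRing A]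
    (hE : EGA4loc.IsEssentiallyEtale A D) :
    {N : Ideal D' | N.IsMaximal}.Finite ∧
      Function.Surjective ((Ideal.Quotient.mkₐ A (Ideal.jacobson (⊥ : Ideal D'))).comp
        (Algebra.TensorProduct.productMap (Subalgebra.inclusion hle) ι)) ∧
      RingHom.ker ((Ideal.Quotient.mkₐ A (Ideal.jacobson (⊥ : Ideal D'))).comp
        (Algebra.TensorProduct.productMap (Subalgebra.inclusion hle) ι)) =
        (Ideal.jacobson (⊥ : Ideal A')).map
            (Algebra.TensorProduct.includeLeft : A' →ₐ[A] A' ⊗[A] D) ⊔
          (maximalIdeal D).map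
            (Algebra.TensorProduct.includeRight : D →ₐ[A] A' ⊗[A] D) := by
  haveI : IsLocalHom (algebraMap A D) :=
    Groth.Agent.Helper2.EssEtSub.isLocalHom_algebraMap_sub A S D
  haveI : Module.Flat A D := flat_of_isEssentiallyEtale A D hE
  have hinj := productMap_injective A S D A' D' hA' hle ι hι
  have hsurj := productMap_surjective A S D A' D' hA' hD' hle ι hι hE
  refine ⟨finite_max_normalization A S D D' hD' hE, ?_, ?_⟩
  · intro z
    obtain ⟨d', rfl⟩ := Ideal.Quotient.mk_surjective z
    obtain ⟨w, rfl⟩ := hsurj d'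
    exact ⟨w, rfl⟩
  · letI : Algebra D D' := ι.toRingHom.toAlgebra
    haveI : IsScalarTower A D D' := IsScalarTower.of_algebraMap_eq (fun a => (ι.commutes a).symm)
    let jA : A' →ₐ[A] FractionRing S := A'.val
    let jD : D' →ₐ[D] FractionRing S :=
      { D'.val.toRingHom with
        commutes' := fun d => by
          show ((ι d : D') : FractionRing S) = algebraMap D (FractionRing S) d
          rw [hι]
          rfl }
    have hjD : Function.Injective jD := Subtype.val_injective
    haveI : Algebra.IsIntegral A A' := ⟨fun x =>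
      (isIntegral_algHom_iff jA Subtype.val_injective).1 ((hA' x).1 x.2).1⟩
    haveI : Algebra.IsIntegral D D' := ⟨fun x =>
      (isIntegral_algHom_iff jD hjD).1 ((hD' x).1 x.2).1⟩
    have hι' : IsScalarTower.toAlgHom A D D' = ι := AlgHom.ext (fun _ => rfl)
    apply le_antisymm
    · intro x hx
      rw [RingHom.mem_ker] at hx
      have h1 : Algebra.TensorProduct.productMap (Subalgebra.inclusion hle) ι x ∈
          Ideal.jacobson (⊥ : Ideal D') := Ideal.Quotient.eq_zero_iff_mem.1 hx
      have h2 : x ∈ Ideal.jacobson (⊥ : Ideal (A' ⊗[A] D)) := by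
        have h1' := Ideal.mem_jacobson_bot.1 h1
        refine (Ideal.mem_jacobson_bot (R := A' ⊗[A] D)).2 ?_
        intro y
        have h3 := h1' (Algebra.TensorProduct.productMap (Subalgebra.inclusion hle) ι y)
        rw [← map_mul, ← map_one (Algebra.TensorProduct.productMap (Subalgebra.inclusion hle) ι),
          ← map_add] at h3
        let e := AlgEquiv.ofBijective
          (Algebra.TensorProduct.productMap (Subalgebra.inclusion hle) ι) ⟨hinj, hsurj⟩
        exact (isUnit_map_iff e _).1 h3
      exact le_sup_left (a := (Ideal.jacobson (⊥ : Ideal A')).map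
            (Algebra.TensorProduct.includeLeft : A' →ₐ[A] A' ⊗[A] D))
        (jacobson_bot_le_of_essEtale A A' D hE h2)
    · have := J_le_ker_abstract (A := A) (D := D) (Subalgebra.inclusion hle)
      rwa [hι'] at this

end concrete

end Groth.Agent.Helper2.NrmR
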