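import Mathlib
import Groth.Prelude
import Groth.Agent.Helper2.NrmR13
import Groth.Agent.Helper2.EssEtSub4
import Groth.Agent.Helper2.BrnchF
import Groth.Agent.Helper1.HensTransfer

set_option autoImplicit false
set_option linter.style.haveILetI false
set_option linter.unusedSectionVars false
set_option linter.unusedVariables false

universe u

/-! S16451 (⇐), steps 1 and 2: `θ` injective without `hfg`; `D^h → S` faithfully flat. -/

namespace Groth.Agent.Helper2.NrmH

open IsLocalRing TensorProduct Polynomial Groth.Agent.Helper1.Hens Groth.Agent.Helper1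
  Groth.Agent.Helper2.NrmR Groth.Agent.Helper2.EssEtSub

section

variable (A S : Type u) [CommRing A] [IsLocalRing A] [IsReduced A]
    [CommRing S] [IsLocalRing S] [Algebra A S] [IsLocalHom (algebraMap A S)]
    [Hensel.IsStrictHenselization A S]

theorem KD_mono {D₀ D : Subalgebra A S} (h : D₀ ≤ D) : KD A S D₀ ≤ KD A S D := by
  rintro x ⟨a, ha, d, hd, had⟩
  exact ⟨a, ha, d, h hd, had⟩

/-- `K_D` is von Neumann regular for every subalgebra `D` -/
theorem vnr_KD' (hmin : (minimalPrimes A).Finite) (D : Subalgebra A S) (x : FractionRing S)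
    (hx : x ∈ KD A S D) : ∃ r ∈ KD A S D, x = x * x * r := by
  classical
  obtain ⟨a, ha, d, hd, had⟩ := hx
  obtain ⟨i, hi⟩ := exists_stage_of_finset A S {d}
  haveI := isLocalRing_range A S i
  have hE := isEssentiallyEtale_range A S i
  have hdE : d ∈ (stageHom A S i).range := hi (by simp)
  have hD₀E : Algebra.adjoin A {d} ≤ (stageHom A S i).range :=
    Algebra.adjoin_le (by simpa using hdE)
  have hD₀D : Algebra.adjoin A {d} ≤ D := Algebra.adjoin_le (by simpa using hd)
  have hx₀ : x ∈ KD A S (Algebra.adjoin A {d}) :=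
    ⟨a, ha, d, Algebra.subset_adjoin rfl, had⟩
  obtain ⟨r, hr, hxr⟩ := vnr_KD A S (Algebra.adjoin A {d}) hmin (stageHom A S i).range hD₀E hE x hx₀
  exact ⟨r, KD_mono A S hD₀D hr, hxr⟩

end

section flat

variable (D Dh S : Type u) [CommRing D] [IsLocalRing D] [CommRing Dh] [IsLocalRing Dh]
  [Algebra D Dh] [IsLocalHom (algebraMap D Dh)] [Hensel.IsHenselization D Dh]
  [CommRing S] [IsLocalRing S] [Algebra D S] [IsLocalHom (algebraMap D S)]
  [Algebra Dh S] [IsScalarTower D Dh S]

include D in
theorem isLocalHom_of_isHenselization_tower : IsLocalHom (algebraMap Dh S) := by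
  refine ((local_hom_TFAE (algebraMap Dh S)).out 0 2 rfl rfl).mpr ?_
  rw [← map_maximalIdeal_of_isHenselization D Dh, Ideal.map_map,
    ← IsScalarTower.algebraMap_eq]
  exact ((local_hom_TFAE (algebraMap D S)).out 0 2 rfl rfl).mp inferInstance

theorem flat_of_isHenselization_tower [Module.Flat D S] : Module.Flat Dh S := by
  let e := equivOfIsHenselization (R := D) Dh
  let χ : Hh D →ₐ[D] S := (IsScalarTower.toAlgHom D Dh S).comp e.symm.toAlgHom
  letI : Algebra (Hh D) S := χ.toRingHom.toAlgebra
  haveI : Module.Flat (Hh D) S := Groth.Agent.Helper2.Brnch.flat_of_algHom_hens S χ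
  letI : Algebra Dh (Hh D) := e.toAlgHom.toRingHom.toAlgebra
  haveI : IsScalarTower Dh (Hh D) S := IsScalarTower.of_algebraMap_eq (fun s => by
    change algebraMap Dh S s = algebraMap Dh S (e.symm (e s))
    rw [AlgEquiv.symm_apply_apply])
  haveI : Module.Flat Dh (Hh D) := by
    have : Module.Flat Dh Dh := inferInstance
    exact Module.Flat.of_linearEquiv
      ({ e.toLinearEquiv with
          map_smul' := fun s x => by
            change e (s * x) = e s * e x
            exact map_mul e s x } : Dh ≃ₗ[Dh] Hh D).symm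
  exact Module.Flat.trans Dh (Hh D) S

theorem faithfullyFlat_of_isHenselization_tower [Module.Flat D S] : Module.FaithfullyFlat Dh S := by
  haveI := isLocalHom_of_isHenselization_tower D Dh S
  haveI := flat_of_isHenselization_tower D Dh S
  exact Module.FaithfullyFlat.of_flat_of_isLocalHom

end flat

end Groth.Agent.Helper2.NrmH
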