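import Mathlib
import Groth.Prelude
import Groth.Agent.Helper2.HensQFin
import Groth.Agent.Helper2.EssEtSub1

set_option autoImplicit false
set_option linter.style.haveILetI false
set_option linter.unusedSectionVars false
set_option linter.unusedVariables false

universe u

/-! Descent of elements through a finite local étale factor over a henselian local ring. -/

namespace Groth.Agent.Helper2.NrmH

open IsLocalRing TensorProduct Polynomial

section FF

variable {H Dh S C : Type u} [CommRing H] [HenselianLocalRing H] [CommRing Dh] [IsLocalRing Dh]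
  [CommRing S] [IsLocalRing S] [CommRing C]
  [Algebra H Dh] [IsLocalHom (algebraMap H Dh)] [Algebra H S] [Algebra Dh S] [IsScalarTower H Dh S]
  [IsLocalHom (algebraMap Dh S)] [Module.Flat Dh S]
  [Algebra H C] [Algebra.Etale H C] (φ : C →ₐ[H] S)

set_option maxHeartbeats 1600000 in
theorem mem_range_of_etale_point
    (hres : ∀ y : Dh, ∃ h : H, y - algebraMap H Dh h ∈ maximalIdeal Dh)
    (y : Dh) (c u : C) (hu : IsUnit (φ u)) (hy : algebraMap Dh S y * φ u = φ c) :
    ∃ h : H, algebraMap H Dh h = y := by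
  haveI : IsLocalHom (algebraMap H S) := by
    rw [IsScalarTower.algebraMap_eq H Dh S]
    exact RingHom.isLocalHom_comp _ _
  let 𝔮 : Ideal C := (maximalIdeal S).comap φ.toRingHom
  haveI h𝔮p : 𝔮.IsPrime := Ideal.comap_isPrime _ _
  have hmem𝔮 : ∀ c' : C, c' ∈ 𝔮 ↔ ¬ IsUnit (φ c') := fun c' => Iff.rfl
  haveI hlies : 𝔮.LiesOver (maximalIdeal H) := ⟨by
    ext h
    rw [Ideal.mem_comap, hmem𝔮, AlgHom.commutes, IsLocalRing.mem_maximalIdeal, mem_nonunits_iff]
    exact ⟨fun hh hu' => hh (isUnit_of_map_unit _ _ hu'), fun hh hu' => hh (hu'.map _)⟩⟩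
  haveI : Algebra.QuasiFiniteAt H 𝔮 := inferInstance
  obtain ⟨hFsurj, hFfin⟩ := Groth.Agent.Helper2.HensQFin.qf_local_factor H C 𝔮
  haveI := hFfin
  let F := Localization.AtPrime 𝔮
  -- `φ` extends to `F`
  have hunits : ∀ v : 𝔮.primeCompl, IsUnit (φ (v : C)) := fun v => by
    by_contra h
    exact v.2 ((hmem𝔮 _).2 h)
  let φF : F →ₐ[H] S := IsLocalization.liftAlgHom (M := 𝔮.primeCompl) (f := φ) hunits
  have hφF : ∀ c' : C, φF (algebraMap C F c') = φ c' := fun c' =>
    IsLocalization.lift_eq _ _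
  have hφFloc : ∀ f : F, IsUnit (φF f) → IsUnit f := by
    intro f hf
    obtain ⟨c', rfl⟩ := hFsurj f
    rw [hφF] at hf
    exact IsLocalization.map_units F (⟨c', fun h => (hmem𝔮 c').1 h hf⟩ : 𝔮.primeCompl)
  haveI : IsLocalHom (algebraMap H F) := ⟨fun h hh => by
    have h1 : IsUnit (φF (algebraMap H F h)) := hh.map φF
    rw [AlgHom.commutes] at h1
    exact isUnit_of_map_unit (algebraMap H S) h h1⟩
  haveI : Module.Flat H C := inferInstance
  haveI : Module.Flat C F := IsLocalization.flat F 𝔮.primeCompl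
  haveI : Module.Flat H F := Module.Flat.trans H C F
  haveI : Module.FaithfullyFlat H F := Module.FaithfullyFlat.of_flat_of_isLocalHom
  haveI : Algebra.EssFiniteType C F := Algebra.EssFiniteType.of_isLocalization F 𝔮.primeCompl
  haveI : Algebra.EssFiniteType H F := Algebra.EssFiniteType.comp H C F
  haveI : Algebra.FormallyUnramified C F := Algebra.FormallyUnramified.of_isLocalization 𝔮.primeCompl
  haveI : Algebra.FormallyUnramified H F := Algebra.FormallyUnramified.comp H C F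
  have hmF : (maximalIdeal H).map (algebraMap H F) = maximalIdeal F :=
    Algebra.FormallyUnramified.map_maximalIdeal
  -- the tensor product `G = Dh ⊗ F`
  let χ : Dh ⊗[H] F →ₐ[Dh] S :=
    Algebra.TensorProduct.productLeftAlgHom (Algebra.ofId Dh S) φF
  have hχ : ∀ (z : Dh) (f : F), χ (z ⊗ₜ[H] f) = algebraMap Dh S z * φF f := fun z f => by
    simp [χ, Algebra.ofId_apply]
  let P : Ideal (Dh ⊗[H] F) := (maximalIdeal Dh).map (algebraMap Dh (Dh ⊗[H] F))
  have hPχ : P ≤ (maximalIdeal S).comap χ.toRingHom := by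
    rw [Ideal.map_le_iff_le_comap]
    intro μ hμ
    rw [Ideal.mem_comap, Ideal.mem_comap]
    show χ (algebraMap Dh (Dh ⊗[H] F) μ) ∈ maximalIdeal S
    rw [AlgHom.commutes]
    exact ((local_hom_TFAE (algebraMap Dh S)).out 0 3 rfl rfl).mp inferInstance hμ
  have hP1 : (1 : Dh ⊗[H] F) ∉ P := fun h => by
    have := hPχ h
    rw [Ideal.mem_comap, map_one] at this
    exact (Ideal.ne_top_iff_one _).1 (maximalIdeal.isMaximal S).ne_top this
  -- every element is congruent to `1 ⊗ f`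
  have hclaim1 : ∀ g : Dh ⊗[H] F, ∃ f : F, g - (1 : Dh) ⊗ₜ[H] f ∈ P := by
    intro g
    induction g using TensorProduct.induction_on with
    | zero => exact ⟨0, by simp⟩
    | tmul z f =>
      obtain ⟨h, hh⟩ := hres z
      refine ⟨h • f, ?_⟩
      have h1 : z ⊗ₜ[H] f - (1 : Dh) ⊗ₜ[H] (h • f) =
          algebraMap Dh (Dh ⊗[H] F) (z - algebraMap H Dh h) * ((1 : Dh) ⊗ₜ[H] f) := by
        rw [Algebra.TensorProduct.algebraMap_apply, Algebra.TensorProduct.tmul_mul_tmul, one_mul,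
          Algebra.algebraMap_self_apply, mul_one, TensorProduct.sub_tmul,
          Algebra.algebraMap_eq_smul_one (A := Dh) h, TensorProduct.smul_tmul]
      rw [h1]
      exact Ideal.mul_mem_right _ _ (Ideal.mem_map_of_mem _ hh)
    | add x y hx hy =>
      obtain ⟨f₁, h₁⟩ := hx
      obtain ⟨f₂, h₂⟩ := hy
      refine ⟨f₁ + f₂, ?_⟩
      have : x + y - (1 : Dh) ⊗ₜ[H] (f₁ + f₂) =
          (x - (1 : Dh) ⊗ₜ[H] f₁) + (y - (1 : Dh) ⊗ₜ[H] f₂) := by
        rw [TensorProduct.tmul_add]; ring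
      rw [this]
      exact Ideal.add_mem _ h₁ h₂
  -- `m_F` maps into `P`
  have hclaim2 : ∀ f ∈ maximalIdeal F, (1 : Dh) ⊗ₜ[H] f ∈ P := by
    have : maximalIdeal F ≤ P.comap
        (Algebra.TensorProduct.includeRight : F →ₐ[H] Dh ⊗[H] F).toRingHom := by
      rw [← hmF, Ideal.map_le_iff_le_comap]
      intro h hh
      rw [Ideal.mem_comap, Ideal.mem_comap]
      show (1 : Dh) ⊗ₜ[H] algebraMap H F h ∈ P
      rw [← Algebra.TensorProduct.tmul_one_eq_one_tmul]
      have : algebraMap H Dh h ⊗ₜ[H] (1 : F) =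
          algebraMap Dh (Dh ⊗[H] F) (algebraMap H Dh h) := by
        rw [Algebra.TensorProduct.algebraMap_apply, Algebra.algebraMap_self_apply]
      rw [this]
      exact Ideal.mem_map_of_mem _
        (((local_hom_TFAE (algebraMap H Dh)).out 0 3 rfl rfl).mp inferInstance hh)
    exact fun f hf => this hf
  -- `P` is maximal
  have hPmax : P.IsMaximal := by
    rw [Ideal.isMaximal_iff]
    refine ⟨hP1, fun J x hPJ hxP hxJ => ?_⟩
    obtain ⟨f, hf⟩ := hclaim1 x
    have hfu : IsUnit f := by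
      by_contra hfn
      apply hxP
      have h1 : x = (x - (1 : Dh) ⊗ₜ[H] f) + (1 : Dh) ⊗ₜ[H] f := by ring
      rw [h1]
      exact Ideal.add_mem _ hf (hclaim2 f ((mem_maximalIdeal f).mpr hfn))
    obtain ⟨f', hff'⟩ := hfu.exists_right_inv
    have h2 : (1 : Dh ⊗[H] F) = x * ((1 : Dh) ⊗ₜ[H] f') -
        (x - (1 : Dh) ⊗ₜ[H] f) * ((1 : Dh) ⊗ₜ[H] f') := by
      have : ((1 : Dh) ⊗ₜ[H] f) * ((1 : Dh) ⊗ₜ[H] f') = (1 : Dh ⊗[H] F) := by
        rw [Algebra.TensorProduct.tmul_mul_tmul, one_mul, hff']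
        rfl
      rw [sub_mul, this]; ring
    rw [h2]
    exact Ideal.sub_mem _ (Ideal.mul_mem_right _ _ hxJ)
      (hPJ (Ideal.mul_mem_right _ _ hf))
  haveI : Algebra.IsIntegral H F := Algebra.IsIntegral.of_finite H F
  haveI : Algebra.IsIntegral Dh (Dh ⊗[H] F) := Algebra.IsIntegral.tensorProduct H Dh F
  haveI hGloc : IsLocalRing (Dh ⊗[H] F) := by
    refine IsLocalRing.of_unique_max_ideal ⟨P, hPmax, fun 𝔑 h𝔑 => ?_⟩
    haveI := h𝔑
    have h1 : 𝔑.comap (algebraMap Dh (Dh ⊗[H] F)) = maximalIdeal Dh :=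
      IsLocalRing.eq_maximalIdeal (Ideal.isMaximal_comap_of_isIntegral_of_isMaximal (R := Dh) 𝔑)
    have h2 : P ≤ 𝔑 := by
      rw [Ideal.map_le_iff_le_comap, h1]
    exact (hPmax.eq_of_le h𝔑.ne_top h2).symm
  have hmaxG : maximalIdeal (Dh ⊗[H] F) = P := (IsLocalRing.eq_maximalIdeal hPmax).symm
  have hχloc : ∀ g : Dh ⊗[H] F, IsUnit (χ g) → IsUnit g := by
    intro g hg
    by_contra hgn
    have h1 : g ∈ P := by rw [← hmaxG]; exact (mem_maximalIdeal g).mpr hgn
    have h2 := hPχ h1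
    exact ((mem_maximalIdeal _).mp h2) hg
  have hχinj : Function.Injective χ :=
    Groth.Agent.Helper2.EssEtSub.injective_of_algHom_local χ hχloc
  -- the element `f₀`
  have hfu : IsUnit (algebraMap C F u) :=
    IsLocalization.map_units F (⟨u, fun h => (hmem𝔮 u).1 h hu⟩ : 𝔮.primeCompl)
  obtain ⟨fu', hfu'⟩ := hfu.exists_right_inv
  let f₀ : F := algebraMap C F c * fu'
  have hφf₀ : φF f₀ = algebraMap Dh S y := by
    have h1 : φ u * φF fu' = 1 := by rw [← hφF, ← map_mul, hfu', map_one]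
    show φF (algebraMap C F c * fu') = _
    rw [map_mul, hφF, ← hy, mul_assoc, h1, mul_one]
  have heq : y ⊗ₜ[H] (1 : F) = (1 : Dh) ⊗ₜ[H] f₀ := by
    apply hχinj
    rw [hχ, hχ, map_one, map_one, mul_one, one_mul, hφf₀]
  -- descend
  let N : Submodule H Dh := LinearMap.range (Algebra.linearMap H Dh)
  have h1N : (1 : Dh) ∈ N := ⟨1, by simp⟩
  have h3 : (LinearMap.rTensor F N.mkQ) (y ⊗ₜ[H] (1 : F)) =
      (LinearMap.rTensor F N.mkQ) ((1 : Dh) ⊗ₜ[H] f₀) := by rw [heq]
  have h1N' : N.mkQ (1 : Dh) = 0 := (Submodule.Quotient.mk_eq_zero N (x := (1 : Dh))).2 h1N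
  rw [LinearMap.rTensor_tmul, LinearMap.rTensor_tmul, h1N', TensorProduct.zero_tmul] at h3
  have h4 : TensorProduct.mk H F (Dh ⧸ N) 1 (N.mkQ y) = 0 := by
    have := congrArg (TensorProduct.comm H (Dh ⧸ N) F) h3
    rw [TensorProduct.comm_tmul, map_zero] at this
    exact this
  have h5 : N.mkQ y = 0 :=
    Module.FaithfullyFlat.tensorProduct_mk_injective (A := H) (B := F) (Dh ⧸ N)
      (by rw [h4, map_zero])
  obtain ⟨h, hh⟩ := (Submodule.Quotient.mk_eq_zero N).1 h5
  exact ⟨h, hh⟩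

end FF

end Groth.Agent.Helper2.NrmH
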