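import Mathlib
import Groth.Prelude
import Groth.Agent.Helper2.NrmH1
import Groth.Agent.Helper2.NrmH2

set_option autoImplicit false
set_option linter.style.haveILetI false
set_option linter.unusedSectionVars false
set_option linter.unusedVariables false

universe u

/-! S16451 (⇐), step 3: if `D → S` is flat then `D^h` is ind-étale over `A`. -/

namespace Groth.Agent.Helper2.NrmH

open IsLocalRing TensorProduct Polynomial Groth.Agent.Helper1.Hens Groth.Agent.Helper1
  Groth.Agent.Helper2.NrmR Groth.Agent.Helper2.EssEtSub

section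

variable (A S : Type u) [CommRing A] [IsLocalRing A]
    [CommRing S] [IsLocalRing S] [Algebra A S] [IsLocalHom (algebraMap A S)]
    [Hensel.IsStrictHenselization A S] (D : Subalgebra A S) [IsLocalRing D]
    [IsLocalHom (algebraMap D S)]

theorem isLocalHom_algebraMap_residueField_sub :
    IsLocalHom (algebraMap A (ResidueField D)) := by
  haveI : IsLocalHom (algebraMap A D) := isLocalHom_algebraMap_sub A S D
  have : algebraMap A (ResidueField D) = (residue D).comp (algebraMap A D) := rfl
  rw [this]
  exact RingHom.isLocalHom_comp _ _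

@[reducible] noncomputable def algebra_residueField_sub : Algebra (ResidueField A) (ResidueField D) :=
  haveI : IsLocalHom (algebraMap A D) := isLocalHom_algebraMap_sub A S D
  inferInstance

theorem isScalarTower_residueField_sub :
    letI := algebra_residueField_sub A S D
    IsScalarTower (ResidueField A) (ResidueField D) (ResidueField S) := by
  letI := algebra_residueField_sub A S D
  haveI : IsLocalHom (algebraMap A D) := isLocalHom_algebraMap_sub A S D
  refine IsScalarTower.of_algebraMap_eq (fun x => ?_)
  obtain ⟨a, rfl⟩ := residue_surjective x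
  rfl

theorem isScalarTower_residueField_sub' :
    letI := algebra_residueField_sub A S D
    IsScalarTower A (ResidueField A) (ResidueField D) := by
  letI := algebra_residueField_sub A S D
  haveI : IsLocalHom (algebraMap A D) := isLocalHom_algebraMap_sub A S D
  exact IsScalarTower.of_algebraMap_eq (fun x => rfl)

theorem isSeparable_residueField_sub :
    letI := algebra_residueField_sub A S D
    Algebra.IsSeparable (ResidueField A) (ResidueField D) := by
  letI := algebra_residueField_sub A S D
  haveI := isScalarTower_residueField_sub A S D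
  have hS : Hensel.IsStrictHenselization A S := inferInstance
  haveI : Algebra.IsSeparable (ResidueField A) (ResidueField S) := (hS.isSepClosure).separable
  exact Algebra.isSeparable_tower_bot_of_isSeparable (ResidueField A) (ResidueField D)
    (ResidueField S)


variable (Dh : Type u) [CommRing Dh] [IsLocalRing Dh] [Algebra D Dh] [IsLocalHom (algebraMap D Dh)]
    [Hensel.IsHenselization D Dh] [Algebra Dh S] [IsScalarTower D Dh S]

set_option maxHeartbeats 3200000 in
/-- if `D → S` is flat then `D^h → S` is injective with image a directed union of essentially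
étale local `A`-subalgebras -/
theorem indEtale_of_flat [Module.Flat D S] :
    Function.Injective (algebraMap Dh S) ∧
      ∀ s : Finset S, (s : Set S) ⊆ Set.range (algebraMap Dh S) →
        ∃ E : Subalgebra A S, (s : Set S) ⊆ (E : Set S) ∧
          (E : Set S) ⊆ Set.range (algebraMap Dh S) ∧
          ∃ _ : IsLocalRing E, EGA4loc.IsEssentiallyEtale A E := by
  classical
  haveI hAD : IsLocalHom (algebraMap A D) := isLocalHom_algebraMap_sub A S D
  haveI := isLocalHom_algebraMap_residueField_sub A S D
  letI := algebra_residueField_sub A S D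
  haveI := isScalarTower_residueField_sub A S D
  haveI := isScalarTower_residueField_sub' A S D
  haveI := isSeparable_residueField_sub A S D
  haveI : Module.FaithfullyFlat A S := faithfullyFlat_of_isStrictHenselization A S
  haveI : Module.FaithfullyFlat Dh S := faithfullyFlat_of_isHenselization_tower D Dh S
  haveI : IsLocalHom (algebraMap Dh S) := isLocalHom_of_isHenselization_tower D Dh S
  have hinj : Function.Injective (algebraMap Dh S) := FaithfulSMul.algebraMap_injective Dh S
  refine ⟨hinj, ?_⟩
  letI : Algebra A Dh := ((algebraMap D Dh).comp (algebraMap A D)).toAlgebra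
  haveI : IsScalarTower A D Dh := IsScalarTower.of_algebraMap_eq (fun _ => rfl)
  haveI : IsScalarTower A Dh S := IsScalarTower.of_algebraMap_eq (fun a => by
    show algebraMap A S a = algebraMap Dh S (algebraMap D Dh (algebraMap A D a))
    rw [← IsScalarTower.algebraMap_apply D Dh S]
    rfl)
  haveI : HenselianLocalRing Dh := Hensel.IsHenselization.henselian (R := D)
  let τ : ResidueField D →+* ResidueField Dh := ResidueField.map (algebraMap D Dh)
  have hτ : ∀ a : A, τ (algebraMap A (ResidueField D) a) = residue Dh (algebraMap A Dh a) :=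
    fun a => rfl
  let ψ : Hens A (ResidueField D) →ₐ[A] Dh := Hens.lift τ hτ
  have hψres : ∀ z, residue Dh (ψ z) = τ (Hens.γ z) := Hens.residue_lift τ hτ
  let ψS : Hens A (ResidueField D) →ₐ[A] S := (IsScalarTower.toAlgHom A Dh S).comp ψ
  letI : Algebra (Hens A (ResidueField D)) Dh := ψ.toRingHom.toAlgebra
  letI : Algebra (Hens A (ResidueField D)) S := ψS.toRingHom.toAlgebra
  haveI : IsScalarTower (Hens A (ResidueField D)) Dh S := IsScalarTower.of_algebraMap_eq (fun _ => rfl)
  haveI : IsLocalHom (algebraMap (Hens A (ResidueField D)) Dh) := ⟨fun z hz => by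
    have h1 : IsUnit (residue Dh (ψ z)) := hz.map (residue Dh)
    rw [hψres, isUnit_iff_ne_zero, Ne, map_eq_zero] at h1
    exact (Hens.isUnit_iff z).2 h1⟩
  have hres : ∀ y : Dh, ∃ h : Hens A (ResidueField D),
      y - algebraMap (Hens A (ResidueField D)) Dh h ∈ maximalIdeal Dh := by
    intro y
    obtain ⟨d, hd⟩ := exists_sub_mem_of_isHenselization D Dh y
    obtain ⟨h, hh⟩ := Hens.γ_surjective (R := A) (Ω := ResidueField D) (residue D d)
    refine ⟨h, ?_⟩
    have h1 : residue Dh (ψ h) = residue Dh (algebraMap D Dh d) := by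
      rw [hψres, hh]
      rfl
    have h2 : y - ψ h = (y - algebraMap D Dh d) + (algebraMap D Dh d - ψ h) := by ring
    show y - ψ h ∈ maximalIdeal Dh
    rw [h2]
    refine Ideal.add_mem _ hd ?_
    rw [← residue_eq_zero_iff, map_sub, h1, sub_self]
  -- surjectivity of `ψ`
  have hψsurj : Function.Surjective ψ := by
    intro y
    obtain ⟨i, hi⟩ := exists_stage_of_finset A S {algebraMap Dh S y}
    obtain ⟨c', hc'⟩ : algebraMap Dh S y ∈ (stageHom A S i).range := hi (by simp)
    obtain ⟨⟨c₀, u₀⟩, hcu⟩ := IsLocalization.surj (pt i.γ).primeCompl c'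
    let σ : i.C →ₐ[A] S := (stageHom A S i).comp (IsScalarTower.toAlgHom A i.C i.L)
    let φ : Hens A (ResidueField D) ⊗[A] i.C →ₐ[Hens A (ResidueField D)] S :=
      Algebra.TensorProduct.productLeftAlgHom (Algebra.ofId (Hens A (ResidueField D)) S) σ
    have hφ : ∀ c : i.C, φ ((1 : Hens A (ResidueField D)) ⊗ₜ[A] c) =
        stageHom A S i (algebraMap i.C i.L c) := fun c => by
      simp [φ, σ]
    have hu : IsUnit (φ ((1 : Hens A (ResidueField D)) ⊗ₜ[A] (u₀ : i.C))) := by
      rw [hφ]
      exact (IsLocalization.map_units i.L u₀).map _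
    have hy : algebraMap Dh S y * φ ((1 : Hens A (ResidueField D)) ⊗ₜ[A] (u₀ : i.C)) =
        φ ((1 : Hens A (ResidueField D)) ⊗ₜ[A] c₀) := by
      have hc'' : stageHom A S i c' = algebraMap Dh S y := hc'
      rw [hφ, hφ, ← hc'', ← map_mul, hcu]
    exact mem_range_of_etale_point (H := Hens A (ResidueField D)) (Dh := Dh) (S := S)
      (C := Hens A (ResidueField D) ⊗[A] i.C) φ hres y
      ((1 : Hens A (ResidueField D)) ⊗ₜ[A] c₀) ((1 : Hens A (ResidueField D)) ⊗ₜ[A] (u₀ : i.C)) hu hy
  -- injectivity of `ψS`
  haveI : IsLocalHom (algebraMap (Hens A (ResidueField D)) S) := by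
    rw [IsScalarTower.algebraMap_eq (Hens A (ResidueField D)) Dh S]
    exact RingHom.isLocalHom_comp _ _
  haveI : Module.Flat (Hens A (ResidueField D)) S :=
    Groth.Agent.Helper2.Brnch.flat_of_algHom_hens S ψS
  haveI : Module.FaithfullyFlat (Hens A (ResidueField D)) S :=
    Module.FaithfullyFlat.of_flat_of_isLocalHom
  have hψSinj : Function.Injective ψS :=
    FaithfulSMul.algebraMap_injective (Hens A (ResidueField D)) S
  intro s hs
  have hlift : ∀ k : s, ∃ z : Hens A (ResidueField D), ψS z = (k : S) := fun k => by
    obtain ⟨y, hy⟩ := hs k.2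
    obtain ⟨z, hz⟩ := hψsurj y
    refine ⟨z, ?_⟩
    show algebraMap Dh S (ψ z) = _
    rw [hz, hy]
  choose z hz using hlift
  obtain ⟨j, w, hw⟩ := Hens.exists_of_family z
  let g : j.L →ₐ[A] S := ψS.comp (Hens.ofAlg j)
  have hg : Function.Injective g := hψSinj.comp (ofAlg_injective j)
  have hcomap : (pt j.γ).comap (algebraMap A j.C) = maximalIdeal A := by
    ext a
    rw [Ideal.mem_comap, mem_pt, AlgHom.commutes]
    constructor
    · intro h
      by_contra ha
      have hu : IsUnit a := by
        by_contra hu
        exact ha ((mem_maximalIdeal a).mpr hu)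
      have := hu.map (algebraMap A (ResidueField D))
      rw [h] at this
      exact not_isUnit_zero this
    · intro h
      by_contra hne
      have hu : IsUnit (algebraMap A (ResidueField D) a) := isUnit_iff_ne_zero.2 hne
      exact ((mem_maximalIdeal a).mp h) (isUnit_of_map_unit _ a hu)
  refine ⟨g.range, ?_, ?_, ?_, ?_⟩
  · intro x hx
    refine ⟨w ⟨x, hx⟩, ?_⟩
    show ψS (Hens.ofAlg j (w ⟨x, hx⟩)) = x
    have h1 := hw ⟨x, hx⟩
    have h2 : ψS (z ⟨x, hx⟩) = x := hz ⟨x, hx⟩
    rw [← h1] at h2
    exact h2
  · rintro _ ⟨x, rfl⟩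
    exact ⟨ψ (Hens.ofAlg j x), rfl⟩
  · exact (AlgEquiv.ofInjective g hg).toRingEquiv.isLocalRing
  · exact ⟨j.C, inferInstance, inferInstance, pt j.γ, inferInstance, j.etale, hcomap,
      ⟨(AlgEquiv.ofInjective g hg).symm⟩⟩

end

end Groth.Agent.Helper2.NrmH
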