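import Mathlib
import Groth.Prelude
import Groth.Agent.Helper2.NrmH3
import Groth.Agent.Helper2.NrmR13

set_option autoImplicit false
set_option linter.style.haveILetI false
set_option linter.unusedSectionVars false
set_option linter.unusedVariables false

universe u

/-! Stages of an ind-étale subring: stage maps, flatness. -/

namespace Groth.Agent.Helper2.NrmH

open IsLocalRing TensorProduct Groth.Agent.Helper1.Hens Groth.Agent.Helper1
  Groth.Agent.Helper2.TotFrac Groth.Agent.Helper2.NrmR

section stage

variable {A S Dh : Type u} [CommRing A] [CommRing S] [CommRing Dh] [Algebra A S] [Algebra A Dh]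
  [Algebra Dh S] [IsScalarTower A Dh S]

/-- the stage map `E → Dh` for a subalgebra `E` of `S` inside the image of `Dh`. -/
noncomputable def tau (hinj : Function.Injective (algebraMap Dh S)) (E : Subalgebra A S)
    (hE : (E : Set S) ⊆ Set.range (algebraMap Dh S)) : E →ₐ[A] Dh :=
  ((AlgEquiv.ofInjective (IsScalarTower.toAlgHom A Dh S) hinj).symm : _ →ₐ[A] Dh).comp
    (Subalgebra.inclusion (S := E) (T := (IsScalarTower.toAlgHom A Dh S).range)
      (fun x hx => by
        obtain ⟨z, hz⟩ := hE hx
        exact ⟨z, hz⟩))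

theorem algebraMap_tau (hinj : Function.Injective (algebraMap Dh S)) (E : Subalgebra A S)
    (hE : (E : Set S) ⊆ Set.range (algebraMap Dh S)) (e : E) :
    algebraMap Dh S (tau hinj E hE e) = (e : S) := by
  have h := AlgEquiv.apply_symm_apply (AlgEquiv.ofInjective (IsScalarTower.toAlgHom A Dh S) hinj)
    (Subalgebra.inclusion (S := E) (T := (IsScalarTower.toAlgHom A Dh S).range)
      (fun x hx => by
        obtain ⟨z, hz⟩ := hE hx
        exact ⟨z, hz⟩) e)
  exact congrArg Subtype.val h

theorem tau_injective (hinj : Function.Injective (algebraMap Dh S)) (E : Subalgebra A S)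
    (hE : (E : Set S) ⊆ Set.range (algebraMap Dh S)) : Function.Injective (tau hinj E hE) := by
  intro e₁ e₂ h
  apply Subtype.ext
  rw [← algebraMap_tau hinj E hE e₁, ← algebraMap_tau hinj E hE e₂, h]

theorem tau_eq (hinj : Function.Injective (algebraMap Dh S)) (E : Subalgebra A S)
    (hE : (E : Set S) ⊆ Set.range (algebraMap Dh S)) (z : Dh) (hz : algebraMap Dh S z ∈ E) :
    tau hinj E hE ⟨algebraMap Dh S z, hz⟩ = z := by
  apply hinj
  rw [algebraMap_tau]

/-- the ind-étale hypothesis on `Dh → S`. -/
def IndEt (A S Dh : Type u) [CommRing A] [IsLocalRing A] [CommRing S] [CommRing Dh] [Algebra A S]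
    [Algebra Dh S] : Prop :=
  ∀ s : Finset S, (s : Set S) ⊆ Set.range (algebraMap Dh S) →
    ∃ E : Subalgebra A S, (s : Set S) ⊆ (E : Set S) ∧ (E : Set S) ⊆ Set.range (algebraMap Dh S) ∧
      ∃ _ : IsLocalRing E, EGA4loc.IsEssentiallyEtale A E

theorem exists_stage [IsLocalRing A] (hinj : Function.Injective (algebraMap Dh S))
    (hL : IndEt A S Dh) (t : Finset Dh) :
    ∃ (E : Subalgebra A S) (hE : (E : Set S) ⊆ Set.range (algebraMap Dh S)) (_ : IsLocalRing E),
      EGA4loc.IsEssentiallyEtale A E ∧ ∀ z ∈ t, ∃ e : E, tau hinj E hE e = z := by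
  classical
  obtain ⟨E, hsE, hE, hloc, hEt⟩ := hL (t.image (algebraMap Dh S)) (by
    intro x hx
    rw [Finset.coe_image] at hx
    obtain ⟨z, -, rfl⟩ := hx
    exact ⟨z, rfl⟩)
  refine ⟨E, hE, hloc, hEt, fun z hz => ?_⟩
  have hzE : algebraMap Dh S z ∈ E := hsE (by
    rw [Finset.coe_image]
    exact ⟨z, hz, rfl⟩)
  exact ⟨⟨algebraMap Dh S z, hzE⟩, tau_eq hinj E hE z hzE⟩

theorem flat_of_indEt [IsLocalRing A] (hinj : Function.Injective (algebraMap Dh S))
    (hL : IndEt A S Dh) : Module.Flat A Dh := by
  classical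
  refine Module.Flat.of_forall_exists_factorization ?_
  intro l f x hx
  obtain ⟨E, hE, hloc, hEt, hmem⟩ := exists_stage hinj hL
    (Finset.univ.image (fun i : Fin l => x (Finsupp.single i 1)))
  haveI : Module.Flat A E := flat_of_isEssentiallyEtale A E hEt
  have hmem' : ∀ i : Fin l, ∃ e : E, tau hinj E hE e = x (Finsupp.single i 1) := fun i =>
    hmem _ (Finset.mem_image_of_mem _ (Finset.mem_univ i))
  choose e he using hmem'
  let xE : (Fin l →₀ A) →ₗ[A] E := Finsupp.linearCombination A e
  have hcomp : (tau hinj E hE).toLinearMap ∘ₗ xE = x := by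
    apply Finsupp.lhom_ext'
    intro i
    apply LinearMap.ext_ring
    simp [xE, he]
  have hxE : xE f = 0 := by
    apply tau_injective hinj E hE
    rw [map_zero]
    have := congrArg (fun g => g f) hcomp
    simpa [hx] using this
  obtain ⟨k, a, y, hy, haf⟩ := Module.Flat.iff_forall_exists_factorization.mp
    (inferInstance : Module.Flat A E) hxE
  refine ⟨k, a, (tau hinj E hE).toLinearMap ∘ₗ y, ?_, haf⟩
  rw [LinearMap.comp_assoc, ← hy, hcomp]

end stage

section loc

variable {A S Dh : Type u} [CommRing A] [IsLocalRing A] [IsReduced A]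
    [CommRing S] [IsLocalRing S] [Algebra A S] [IsLocalHom (algebraMap A S)]
    [Hensel.IsStrictHenselization A S]
    [CommRing Dh] [IsLocalRing Dh] [Algebra A Dh] [Algebra Dh S] [IsScalarTower A Dh S]
    [IsLocalHom (algebraMap Dh S)]

theorem isLocalHom_tau (hinj : Function.Injective (algebraMap Dh S)) (E : Subalgebra A S)
    (hE : (E : Set S) ⊆ Set.range (algebraMap Dh S)) [IsLocalRing E]
    (hEt : EGA4loc.IsEssentiallyEtale A E) : IsLocalHom (tau hinj E hE).toRingHom := by
  haveI : IsLocalHom (algebraMap E S) := isLocalHom_of_essEtale A S E hEt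
  constructor
  intro e he
  have h1 : IsUnit (algebraMap Dh S (tau hinj E hE e)) := he.map (algebraMap Dh S)
  rw [algebraMap_tau] at h1
  exact isUnit_of_map_unit (algebraMap E S) e h1

variable (S) in
include S in
theorem isLocalHom_algebraMap_indEt : IsLocalHom (algebraMap A Dh) := by
  constructor
  intro a ha
  have h1 : IsUnit (algebraMap Dh S (algebraMap A Dh a)) := ha.map (algebraMap Dh S)
  rw [← IsScalarTower.algebraMap_apply A Dh S] at h1
  exact isUnit_of_map_unit (algebraMap A S) a h1

theorem map_maximalIdeal_indEt (hinj : Function.Injective (algebraMap Dh S))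
    (hL : IndEt A S Dh) :
    (maximalIdeal A).map (algebraMap A Dh) = maximalIdeal Dh := by
  classical
  haveI : IsLocalHom (algebraMap A Dh) := isLocalHom_algebraMap_indEt S
  apply le_antisymm
  · rw [Ideal.map_le_iff_le_comap]
    intro a ha
    rw [Ideal.mem_comap, mem_maximalIdeal, mem_nonunits_iff]
    intro h
    exact ((mem_maximalIdeal a).1 ha) (isUnit_of_map_unit (algebraMap A Dh) a h)
  · intro z hz
    obtain ⟨E, hE, hloc, hEt, hmem⟩ := exists_stage hinj hL {z}
    obtain ⟨e, he⟩ := hmem z (Finset.mem_singleton_self z)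
    haveI : IsLocalHom (algebraMap A E) :=
      Groth.Agent.Helper2.EssEtSub.isLocalHom_algebraMap_sub A S E
    obtain ⟨h1, h2⟩ := EssEt.props_of_isEssentiallyEtale hEt
    haveI := h1
    haveI : Algebra.FormallyUnramified A E := inferInstance
    have heM : e ∈ maximalIdeal E := by
      rw [mem_maximalIdeal, mem_nonunits_iff]
      intro hu
      have : IsUnit z := by
        rw [← he]
        exact hu.map (tau hinj E hE)
      exact ((mem_maximalIdeal z).1 hz) this
    rw [← Algebra.FormallyUnramified.map_maximalIdeal (R := A) (S := E)] at heM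
    have h3 := Ideal.mem_map_of_mem (tau hinj E hE).toRingHom heM
    rw [Ideal.map_map] at h3
    have h4 : (tau hinj E hE).toRingHom.comp (algebraMap A E) = algebraMap A Dh := by
      ext a
      exact (tau hinj E hE).commutes a
    rw [h4] at h3
    rw [← he]
    exact h3

end loc

end Groth.Agent.Helper2.NrmH
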