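import Mathlib
import Groth.Prelude
import Groth.Agent.Helper2.NrmH4
import Groth.Agent.Helper1.FlatUnram

set_option autoImplicit false
set_option linter.style.haveILetI false
set_option linter.unusedSectionVars false
set_option linter.unusedVariables false

universe u

/-! Base change of the stage maps is injective; reducedness of `R₁ ⊗_A Dh`. -/

namespace Groth.Agent.Helper2.NrmH

open IsLocalRing TensorProduct Groth.Agent.Helper1.Hens Groth.Agent.Helper1
  Groth.Agent.Helper2.TotFrac Groth.Agent.Helper2.NrmR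

section red

variable {A S Dh : Type u} [CommRing A] [IsLocalRing A] [IsReduced A]
    [CommRing S] [IsLocalRing S] [Algebra A S] [IsLocalHom (algebraMap A S)]
    [Hensel.IsStrictHenselization A S]
    [CommRing Dh] [IsLocalRing Dh] [Algebra A Dh] [Algebra Dh S] [IsScalarTower A Dh S]
    [IsLocalHom (algebraMap Dh S)]
    (R₁ : Type u) [CommRing R₁] [Algebra A R₁]

theorem faithfullyFlat_tau (hinj : Function.Injective (algebraMap Dh S)) (hL : IndEt A S Dh)
    (E : Subalgebra A S) (hE : (E : Set S) ⊆ Set.range (algebraMap Dh S)) [IsLocalRing E]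
    (hEt : EGA4loc.IsEssentiallyEtale A E) :
    letI : Algebra E Dh := (tau hinj E hE).toRingHom.toAlgebra
    Module.FaithfullyFlat E Dh := by
  letI : Algebra E Dh := (tau hinj E hE).toRingHom.toAlgebra
  haveI : Module.Flat A Dh := flat_of_indEt hinj hL
  obtain ⟨h1, h2⟩ := EssEt.props_of_isEssentiallyEtale hEt
  haveI := h1
  haveI : Algebra.FormallyUnramified A E := inferInstance
  haveI : Module.Flat E Dh := FlatUnram.flat_of_algHom (tau hinj E hE)
  haveI : IsLocalHom (algebraMap E Dh) := isLocalHom_tau hinj E hE hEt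
  exact Module.FaithfullyFlat.of_flat_of_isLocalHom

theorem rTensor_tau_injective (hinj : Function.Injective (algebraMap Dh S)) (hL : IndEt A S Dh)
    (E : Subalgebra A S) (hE : (E : Set S) ⊆ Set.range (algebraMap Dh S)) [IsLocalRing E]
    (hEt : EGA4loc.IsEssentiallyEtale A E) :
    Function.Injective (LinearMap.rTensor R₁ (tau hinj E hE).toLinearMap) := by
  letI : Algebra E Dh := (tau hinj E hE).toRingHom.toAlgebra
  haveI : IsScalarTower A E Dh :=
    IsScalarTower.of_algebraMap_eq (fun a => ((tau hinj E hE).commutes a).symm)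
  haveI : Module.FaithfullyFlat E Dh := faithfullyFlat_tau hinj hL E hE hEt
  have h1 := Module.FaithfullyFlat.tensorProduct_mk_injective (A := E) (B := Dh) (E ⊗[A] R₁)
  let e := TensorProduct.AlgebraTensorModule.cancelBaseChange A E E Dh R₁
  have key : ∀ y : E ⊗[A] R₁,
      LinearMap.rTensor R₁ (tau hinj E hE).toLinearMap y = e ((1 : Dh) ⊗ₜ[E] y) := by
    intro y
    induction y using TensorProduct.induction_on with
    | zero => simp
    | tmul x r =>
      rw [LinearMap.rTensor_tmul, TensorProduct.AlgebraTensorModule.cancelBaseChange_tmul]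
      congr 1
      show tau hinj E hE x = x • (1 : Dh)
      rw [Algebra.smul_def, mul_one]
      rfl
    | add x y hx hy => rw [map_add, hx, hy, TensorProduct.tmul_add, map_add]
  intro y₁ y₂ h
  apply h1
  apply e.injective
  show e ((1 : Dh) ⊗ₜ[E] y₁) = e ((1 : Dh) ⊗ₜ[E] y₂)
  rw [← key, ← key, h]

theorem map_tau_injective (hinj : Function.Injective (algebraMap Dh S)) (hL : IndEt A S Dh)
    (E : Subalgebra A S) (hE : (E : Set S) ⊆ Set.range (algebraMap Dh S)) [IsLocalRing E]
    (hEt : EGA4loc.IsEssentiallyEtale A E) :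
    Function.Injective (Algebra.TensorProduct.map (AlgHom.id A R₁) (tau hinj E hE)) := by
  have h := rTensor_tau_injective R₁ hinj hL E hE hEt
  have key : ∀ x : R₁ ⊗[A] E, Algebra.TensorProduct.map (AlgHom.id A R₁) (tau hinj E hE) x =
      TensorProduct.comm A Dh R₁ (LinearMap.rTensor R₁ (tau hinj E hE).toLinearMap
        (TensorProduct.comm A R₁ E x)) := by
    intro x
    induction x using TensorProduct.induction_on with
    | zero => simp
    | tmul r e => simp
    | add x y hx hy => rw [map_add, hx, hy, map_add, map_add, map_add]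
  intro x₁ x₂ hx
  rw [key, key] at hx
  exact (TensorProduct.comm A R₁ E).injective (h ((TensorProduct.comm A Dh R₁).injective hx))

theorem exists_stage_tensor (hinj : Function.Injective (algebraMap Dh S)) (hL : IndEt A S Dh)
    (w : R₁ ⊗[A] Dh) :
    ∃ (E : Subalgebra A S) (hE : (E : Set S) ⊆ Set.range (algebraMap Dh S)) (_ : IsLocalRing E),
      EGA4loc.IsEssentiallyEtale A E ∧
        ∃ wE : R₁ ⊗[A] E, Algebra.TensorProduct.map (AlgHom.id A R₁) (tau hinj E hE) wE = w := by
  classical
  obtain ⟨T, hT⟩ := TensorProduct.exists_finset w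
  obtain ⟨E, hE, hloc, hEt, hmem⟩ := exists_stage hinj hL (T.image Prod.snd)
  refine ⟨E, hE, hloc, hEt, ?_⟩
  let g : Dh → E := fun z => if h : ∃ e : E, tau hinj E hE e = z then h.choose else 0
  have hg : ∀ i ∈ T, tau hinj E hE (g i.2) = i.2 := by
    intro i hi
    have h : ∃ e : E, tau hinj E hE e = i.2 := hmem _ (Finset.mem_image_of_mem _ hi)
    show tau hinj E hE (if h : ∃ e : E, tau hinj E hE e = i.2 then h.choose else 0) = i.2
    rw [dif_pos h]
    exact h.choose_spec
  refine ⟨T.sum fun i => i.1 ⊗ₜ[A] g i.2, ?_⟩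
  rw [map_sum, hT]
  refine Finset.sum_congr rfl fun i hi => ?_
  rw [Algebra.TensorProduct.map_tmul, hg i hi]
  rfl

theorem isReduced_tensor_indEt (hinj : Function.Injective (algebraMap Dh S)) (hL : IndEt A S Dh)
    [IsReduced R₁] : IsReduced (R₁ ⊗[A] Dh) := by
  constructor
  intro w hw
  obtain ⟨E, hE, hloc, hEt, wE, rfl⟩ := exists_stage_tensor R₁ hinj hL w
  haveI : IsReduced (R₁ ⊗[A] E) := isReduced_tensor_of_essEtale A R₁ E hEt
  have h1 : IsNilpotent wE :=
    (IsNilpotent.map_iff (map_tau_injective R₁ hinj hL E hE hEt)).1 hw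
  rw [IsReduced.eq_zero _ h1, map_zero]

end red

end Groth.Agent.Helper2.NrmH
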