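import Mathlib
import Groth.Prelude
import Groth.Agent.Helper2.NrmH5

set_option autoImplicit false
set_option linter.style.haveILetI false
set_option linter.unusedSectionVars false
set_option linter.unusedVariables false

universe u

/-! The Jacobson radical of `A' ⊗_A Dh` for `Dh` ind-étale. -/

namespace Groth.Agent.Helper2.NrmH

open IsLocalRing TensorProduct Groth.Agent.Helper1.Hens Groth.Agent.Helper1
  Groth.Agent.Helper2.TotFrac Groth.Agent.Helper2.NrmR

section jac

variable (A Ap E : Type u) [CommRing A] [IsLocalRing A] [CommRing Ap] [Algebra A Ap]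
    [Algebra.IsIntegral A Ap] [CommRing E] [IsLocalRing E] [Algebra A E]
    [IsLocalHom (algebraMap A E)]

theorem jacobson_bot_le_of_reduced
    (hred : IsReduced ((Ap ⧸ Ideal.jacobson (⊥ : Ideal Ap)) ⊗[A] E))
    (hm : (maximalIdeal A).map (algebraMap A E) = maximalIdeal E) :
    Ideal.jacobson (⊥ : Ideal (Ap ⊗[A] E)) ≤
      (Ideal.jacobson (⊥ : Ideal Ap)).map
        (Algebra.TensorProduct.includeLeft : Ap →ₐ[A] Ap ⊗[A] E) := by
  set Rad : Ideal Ap := Ideal.jacobson (⊥ : Ideal Ap) with hRad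
  set J₀ : Ideal (Ap ⊗[A] E) :=
    Rad.map (Algebra.TensorProduct.includeLeft : Ap →ₐ[A] Ap ⊗[A] E) with hJ₀
  -- `J₀` is a kernel
  have hker : RingHom.ker (Algebra.TensorProduct.map (Ideal.Quotient.mkₐ A Rad) (AlgHom.id A E)) =
      J₀ := by
    rw [Algebra.TensorProduct.map_ker _ _ (Ideal.Quotient.mkₐ_surjective A Rad)
      Function.surjective_id]
    have h1 : RingHom.ker (AlgHom.id A E) = ⊥ := by
      ext x
      simp [RingHom.mem_ker]
    have h0 : RingHom.ker (Ideal.Quotient.mkₐ A Rad) = Rad := by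
      ext x
      rw [RingHom.mem_ker]
      exact Ideal.Quotient.eq_zero_iff_mem
    rw [h1, Ideal.map_bot, sup_bot_eq, h0]
  have hrad : J₀.IsRadical := by
    rw [← hker]
    intro x hx
    obtain ⟨n, hn⟩ := hx
    rw [RingHom.mem_ker] at hn ⊢
    rw [map_pow] at hn
    exact IsReduced.eq_zero _ ⟨n, hn⟩
  -- `m_E B ≤ J₀`
  have hmE : (maximalIdeal E).map
      (Algebra.TensorProduct.includeRight : E →ₐ[A] Ap ⊗[A] E).toRingHom ≤ J₀ := by
    rw [← hm, Ideal.map_map]
    have h2 : (Algebra.TensorProduct.includeRight : E →ₐ[A] Ap ⊗[A] E).toRingHom.comp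
        (algebraMap A E) =
        (Algebra.TensorProduct.includeLeft : Ap →ₐ[A] Ap ⊗[A] E).toRingHom.comp
          (algebraMap A Ap) := by
      ext a
      show (1 : Ap) ⊗ₜ[A] algebraMap A E a = algebraMap A Ap a ⊗ₜ[A] (1 : E)
      exact (Algebra.TensorProduct.tmul_one_eq_one_tmul a).symm
    rw [h2, ← Ideal.map_map]
    exact Ideal.map_mono (map_maximalIdeal_le_jacobson A Ap)
  -- primes over `J₀` are maximal
  have hmax : ∀ P : Ideal (Ap ⊗[A] E), J₀ ≤ P → P.IsPrime → P.IsMaximal := by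
    intro P hJP hP
    haveI := hP
    have h3 : P.comap (Algebra.TensorProduct.includeRight : E →ₐ[A] Ap ⊗[A] E).toRingHom =
        maximalIdeal E := by
      refine le_antisymm (IsLocalRing.le_maximalIdeal (Ideal.comap_ne_top _ hP.ne_top)) ?_
      rw [← Ideal.map_le_iff_le_comap]
      exact hmE.trans hJP
    refine Ideal.isMaximal_of_isIntegral_of_isMaximal_comap' _
      (includeRight_isIntegral' (D := A) (Dp := Ap) (T := E)) P ?_
    rw [h3]
    infer_instance
  calc Ideal.jacobson (⊥ : Ideal (Ap ⊗[A] E)) ≤ Ideal.jacobson J₀ := Ideal.jacobson_mono bot_le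
    _ ≤ J₀.radical := by
        rw [Ideal.radical_eq_sInf]
        exact le_sInf fun P hP => sInf_le ⟨hP.1, hmax P hP.1 hP.2⟩
    _ = J₀ := hrad.radical

end jac

section indEt

variable {A S Dh : Type u} [CommRing A] [IsLocalRing A] [IsReduced A]
    [CommRing S] [IsLocalRing S] [Algebra A S] [IsLocalHom (algebraMap A S)]
    [Hensel.IsStrictHenselization A S]
    [CommRing Dh] [IsLocalRing Dh] [Algebra A Dh] [Algebra Dh S] [IsScalarTower A Dh S]
    [IsLocalHom (algebraMap Dh S)]
    (Ap : Type u) [CommRing Ap] [Algebra A Ap] [Algebra.IsIntegral A Ap]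

theorem jacobson_bot_le_of_indEt (hinj : Function.Injective (algebraMap Dh S))
    (hL : IndEt A S Dh) :
    Ideal.jacobson (⊥ : Ideal (Ap ⊗[A] Dh)) ≤
      (Ideal.jacobson (⊥ : Ideal Ap)).map
        (Algebra.TensorProduct.includeLeft : Ap →ₐ[A] Ap ⊗[A] Dh) := by
  haveI : IsReduced (Ap ⧸ Ideal.jacobson (⊥ : Ideal Ap)) :=
    (Ideal.isRadical_iff_quotient_reduced _).1 (Ideal.isRadical_jacobson _)
  haveI : IsLocalHom (algebraMap A Dh) := isLocalHom_algebraMap_indEt S
  exact jacobson_bot_le_of_reduced A Ap Dh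
    (isReduced_tensor_indEt (Ap ⧸ Ideal.jacobson (⊥ : Ideal Ap)) hinj hL)
    (map_maximalIdeal_indEt hinj hL)

end indEt

end Groth.Agent.Helper2.NrmH
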