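import Mathlib
import Groth.Prelude
import Groth.Agent.Helper2.NrmR8

set_option autoImplicit false
set_option linter.style.haveILetI false
set_option linter.unusedSectionVars false
set_option linter.unusedVariables false

universe u

/-! Common denominators from a submonoid; the comparison map `β : A' ⊗_A Dh → D' ⊗_D Dh`. -/

namespace Groth.Agent.Helper2.NrmH

open IsLocalRing TensorProduct Groth.Agent.Helper2.NrmR

section denom

variable {A S K Ap : Type u} [CommRing A] [CommRing S] [CommRing K] [CommRing Ap]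
  [Algebra A S] [Module.Flat A S] [Algebra A K] [Algebra S K] [IsScalarTower A S K] [Algebra A Ap]
  (jA : Ap →ₐ[A] K) (M : Submonoid A)

theorem exists_smul_eq_one_tmul'
    (hden : ∀ a' : Ap, ∃ a ∈ M, ∃ b : A, a • a' = algebraMap A Ap b)
    (x : Ap ⊗[A] S) : ∃ a ∈ M, ∃ s : S, a • x = (1 : Ap) ⊗ₜ[A] s := by
  induction x using TensorProduct.induction_on with
  | zero => exact ⟨1, one_mem _, 0, by simp⟩
  | tmul a' s =>
    obtain ⟨a, ha, b, hb⟩ := hden a'
    refine ⟨a, ha, b • s, ?_⟩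
    rw [TensorProduct.smul_tmul', hb, Algebra.algebraMap_eq_smul_one, TensorProduct.smul_tmul]
  | add x y hx hy =>
    obtain ⟨a₁, ha₁, s₁, h₁⟩ := hx
    obtain ⟨a₂, ha₂, s₂, h₂⟩ := hy
    refine ⟨a₁ * a₂, mul_mem ha₁ ha₂, a₂ • s₁ + a₁ • s₂, ?_⟩
    rw [smul_add, mul_comm a₁ a₂, mul_smul, h₁, mul_comm a₂ a₁, mul_smul, h₂,
      TensorProduct.tmul_add, TensorProduct.tmul_smul, TensorProduct.tmul_smul]

theorem muS_injective' (hjA : Function.Injective jA) (hSK : Function.Injective (algebraMap S K))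
    (hunit : ∀ a ∈ M, IsUnit (algebraMap A K a))
    (hden : ∀ a' : Ap, ∃ a ∈ M, ∃ b : A, a • a' = algebraMap A Ap b) :
    Function.Injective (muS (S := S) jA) := by
  rw [injective_iff_map_eq_zero]
  intro x hx
  obtain ⟨a, ha, s, hs⟩ := exists_smul_eq_one_tmul' M hden x
  have h1 : muS (S := S) jA (a • x) = 0 := by rw [map_smul, hx, smul_zero]
  rw [hs] at h1
  have h1' : algebraMap S K s = 0 := by simpa [muS] using h1
  have h2 : s = 0 := hSK (by rw [h1', map_zero])
  rw [h2, TensorProduct.tmul_zero] at hs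
  exact smul_injective_tensor jA hjA a (hunit a ha) x hs

end denom

section mus

variable {A S K Ap : Type u} [CommRing A] [CommRing S] [CommRing K] [CommRing Ap]
  [Algebra A S] [Algebra A K] [Algebra S K] [IsScalarTower A S K] [Algebra A Ap]
  (jA : Ap →ₐ[A] K)

theorem muS_tmul' (a' : Ap) (s : S) :
    muS (S := S) jA (a' ⊗ₜ[A] s) = jA a' * algebraMap S K s := by
  simp [muS]

end mus

section beta

variable {A D Dh K Ap Dp : Type u} [CommRing A] [CommRing D] [CommRing Dh] [CommRing K]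
  [CommRing Ap] [CommRing Dp]
  [Algebra A D] [Algebra A Dh] [Algebra D Dh] [IsScalarTower A D Dh]
  [Algebra A K] [Algebra D K] [Algebra Dh K] [IsScalarTower A Dh K] [IsScalarTower D Dh K]
  [IsScalarTower A D K]
  [Algebra A Ap] [Algebra A Dp] [Algebra D Dp] [IsScalarTower A D Dp]
  (jA : Ap →ₐ[A] K) (jD : Dp →ₐ[D] K) (incl : Ap →ₐ[A] Dp)

variable (A D Dh Dp) in
/-- `Dh → D' ⊗_D Dh` as an `A`-algebra map -/
noncomputable def incR : Dh →ₐ[A] Dp ⊗[D] Dh :=
  (Algebra.TensorProduct.includeRight : Dh →ₐ[D] Dp ⊗[D] Dh).restrictScalars A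

theorem incR_apply (z : Dh) : incR A D Dh Dp z = (1 : Dp) ⊗ₜ[D] z := rfl

variable (D Dh) in
/-- the comparison map `β : A' ⊗_A Dh → D' ⊗_D Dh` -/
noncomputable def beta : Ap ⊗[A] Dh →ₐ[A] Dp ⊗[D] Dh :=
  Algebra.TensorProduct.productMap
    ((Algebra.TensorProduct.includeLeft : Dp →ₐ[A] Dp ⊗[D] Dh).comp incl) (incR A D Dh Dp)

theorem beta_tmul (a' : Ap) (z : Dh) :
    beta D Dh incl (a' ⊗ₜ[A] z) = incl a' ⊗ₜ[D] z := by
  simp [beta, incR_apply]

theorem chiD_beta (hincl : ∀ a', jD (incl a') = jA a') (w : Ap ⊗[A] Dh) :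
    muS (S := Dh) jD (beta D Dh incl w) = muS (S := Dh) jA w := by
  induction w using TensorProduct.induction_on with
  | zero => simp
  | tmul a' z => rw [beta_tmul, muS_tmul', muS_tmul', hincl]
  | add x y hx hy => rw [map_add, map_add, map_add, hx, hy]

theorem beta_injective (hincl : ∀ a', jD (incl a') = jA a')
    (hχA : Function.Injective (muS (S := Dh) jA)) : Function.Injective (beta D Dh incl) := by
  intro w₁ w₂ h
  apply hχA
  rw [← chiD_beta jA jD incl hincl, ← chiD_beta jA jD incl hincl, h]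

theorem beta_surjective (hincl : ∀ a', jD (incl a') = jA a')
    (hχD : Function.Injective (muS (S := Dh) jD))
    (hrange : ∀ x : Dp, ∃ w : Ap ⊗[A] Dh, muS (S := Dh) jA w = jD x) :
    Function.Surjective (beta D Dh incl) := by
  intro g
  have h1 : ∃ w : Ap ⊗[A] Dh, muS (S := Dh) jA w = muS (S := Dh) jD g := by
    induction g using TensorProduct.induction_on with
    | zero => exact ⟨0, by simp⟩
    | tmul x z =>
      obtain ⟨w, hw⟩ := hrange x
      refine ⟨w * ((1 : Ap) ⊗ₜ[A] z), ?_⟩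
      rw [map_mul, hw, muS_tmul', muS_tmul', map_one, one_mul]
    | add x y hx hy =>
      obtain ⟨w₁, h₁⟩ := hx
      obtain ⟨w₂, h₂⟩ := hy
      exact ⟨w₁ + w₂, by rw [map_add, map_add, h₁, h₂]⟩
  obtain ⟨w, hw⟩ := h1
  refine ⟨w, hχD ?_⟩
  rw [chiD_beta jA jD incl hincl, hw]

/-- `β` is compatible with the product map. -/
theorem beta_map (v : Ap ⊗[A] D) :
    beta D Dh incl (Algebra.TensorProduct.map (AlgHom.id A Ap) (IsScalarTower.toAlgHom A D Dh) v) =
      (Algebra.TensorProduct.productMap incl (IsScalarTower.toAlgHom A D Dp) v) ⊗ₜ[D] (1 : Dh) := by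
  induction v using TensorProduct.induction_on with
  | zero => simp
  | tmul a' d =>
    rw [Algebra.TensorProduct.map_tmul, beta_tmul, Algebra.TensorProduct.productMap_apply_tmul]
    show incl a' ⊗ₜ[D] algebraMap D Dh d = (incl a' * algebraMap D Dp d) ⊗ₜ[D] (1 : Dh)
    rw [Algebra.algebraMap_eq_smul_one, TensorProduct.tmul_smul, Algebra.algebraMap_eq_smul_one,
      mul_smul_comm, mul_one, TensorProduct.smul_tmul']
  | add x y hx hy => rw [map_add, map_add, hx, hy, map_add, TensorProduct.add_tmul]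

end beta

section betaLocal

variable {A D Dh Ap Dp : Type u} [CommRing A] [CommRing D] [CommRing Dh]
  [CommRing Ap] [CommRing Dp]
  [Algebra A D] [Algebra A Dh] [Algebra D Dh] [IsScalarTower A D Dh]
  [Algebra A Ap] [Algebra A Dp] [Algebra D Dp] [IsScalarTower A D Dp]
  [IsLocalRing D] [IsLocalRing Dh] [IsLocalHom (algebraMap D Dh)]
  (incl : Ap →ₐ[A] Dp)

theorem exists_map_sub_mem
    (hres : ∀ z : Dh, ∃ d : D, z - algebraMap D Dh d ∈ maximalIdeal Dh) (w : Ap ⊗[A] Dh) :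
    ∃ v : Ap ⊗[A] D,
      w - Algebra.TensorProduct.map (AlgHom.id A Ap) (IsScalarTower.toAlgHom A D Dh) v ∈
        (maximalIdeal Dh).map (Algebra.TensorProduct.includeRight : Dh →ₐ[A] Ap ⊗[A] Dh) := by
  induction w using TensorProduct.induction_on with
  | zero => exact ⟨0, by simp⟩
  | tmul a' z =>
    obtain ⟨d, hd⟩ := hres z
    refine ⟨a' ⊗ₜ[A] d, ?_⟩
    rw [Algebra.TensorProduct.map_tmul]
    have h1 : a' ⊗ₜ[A] z - (AlgHom.id A Ap) a' ⊗ₜ[A] (IsScalarTower.toAlgHom A D Dh) d =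
        (a' ⊗ₜ[A] (1 : Dh)) * ((1 : Ap) ⊗ₜ[A] (z - algebraMap D Dh d)) := by
      rw [Algebra.TensorProduct.tmul_mul_tmul, mul_one, one_mul, TensorProduct.tmul_sub]
      rfl
    rw [h1]
    exact Ideal.mul_mem_left _ _ (Ideal.mem_map_of_mem
      (Algebra.TensorProduct.includeRight : Dh →ₐ[A] Ap ⊗[A] Dh) hd)
  | add x y hx hy =>
    obtain ⟨v₁, h₁⟩ := hx
    obtain ⟨v₂, h₂⟩ := hy
    refine ⟨v₁ + v₂, ?_⟩
    have : x + y - Algebra.TensorProduct.map (AlgHom.id A Ap) (IsScalarTower.toAlgHom A D Dh)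
        (v₁ + v₂) =
        (x - Algebra.TensorProduct.map (AlgHom.id A Ap) (IsScalarTower.toAlgHom A D Dh) v₁) +
        (y - Algebra.TensorProduct.map (AlgHom.id A Ap) (IsScalarTower.toAlgHom A D Dh) v₂) := by
      rw [map_add]; ring
    rw [this]
    exact Ideal.add_mem _ h₁ h₂

theorem beta_mem {ω : Ap ⊗[A] Dh}
    (hω : ω ∈ (maximalIdeal Dh).map
      (Algebra.TensorProduct.includeRight : Dh →ₐ[A] Ap ⊗[A] Dh)) :
    beta D Dh incl ω ∈ (maximalIdeal Dh).map
      (Algebra.TensorProduct.includeRight : Dh →ₐ[D] Dp ⊗[D] Dh) := by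
  have h1 : (maximalIdeal Dh).map
      (Algebra.TensorProduct.includeRight : Dh →ₐ[A] Ap ⊗[A] Dh) ≤
      ((maximalIdeal Dh).map
        (Algebra.TensorProduct.includeRight : Dh →ₐ[D] Dp ⊗[D] Dh)).comap (beta D Dh incl) := by
    rw [Ideal.map_le_iff_le_comap]
    intro z hz
    rw [Ideal.mem_comap, Ideal.mem_comap]
    show beta D Dh incl ((1 : Ap) ⊗ₜ[A] z) ∈ _
    rw [beta_tmul, map_one]
    exact Ideal.mem_map_of_mem
      (Algebra.TensorProduct.includeRight : Dh →ₐ[D] Dp ⊗[D] Dh) hz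
  exact h1 hω

theorem map_includeRight_eq (hm : (maximalIdeal D).map (algebraMap D Dh) = maximalIdeal Dh) :
    (maximalIdeal Dh).map (Algebra.TensorProduct.includeRight : Dh →ₐ[D] Dp ⊗[D] Dh) =
      ((maximalIdeal D).map (algebraMap D Dp)).map (algebraMap Dp (Dp ⊗[D] Dh)) := by
  rw [← hm]
  show ((maximalIdeal D).map (algebraMap D Dh)).map
    (Algebra.TensorProduct.includeRight : Dh →ₐ[D] Dp ⊗[D] Dh).toRingHom = _
  rw [Ideal.map_map, Ideal.map_map]
  congr 1
  ext d
  show (1 : Dp) ⊗ₜ[D] algebraMap D Dh d = algebraMap Dp (Dp ⊗[D] Dh) (algebraMap D Dp d)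
  rw [Algebra.TensorProduct.algebraMap_apply, Algebra.algebraMap_self, RingHom.id_apply,
    Algebra.TensorProduct.tmul_one_eq_one_tmul]

theorem exists_productMap_sub_mem [Module.FaithfullyFlat D Dh]
    (hres : ∀ z : Dh, ∃ d : D, z - algebraMap D Dh d ∈ maximalIdeal Dh)
    (hm : (maximalIdeal D).map (algebraMap D Dh) = maximalIdeal Dh)
    (x : Dp) (w : Ap ⊗[A] Dh) (hw : beta D Dh incl w = x ⊗ₜ[D] (1 : Dh)) :
    ∃ v : Ap ⊗[A] D,
      x - Algebra.TensorProduct.productMap incl (IsScalarTower.toAlgHom A D Dp) v ∈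
        (maximalIdeal D).map (algebraMap D Dp) := by
  obtain ⟨v, hv⟩ := exists_map_sub_mem hres w
  refine ⟨v, ?_⟩
  have h1 := beta_mem (D := D) incl hv
  rw [map_sub, hw, beta_map, ← TensorProduct.sub_tmul, map_includeRight_eq hm] at h1
  rw [← Ideal.comap_map_eq_self_of_faithfullyFlat (B := Dp ⊗[D] Dh)
    ((maximalIdeal D).map (algebraMap D Dp)), Ideal.mem_comap,
    Algebra.TensorProduct.algebraMap_apply, Algebra.algebraMap_self, RingHom.id_apply]
  exact h1

theorem finite_max_of_beta [Module.FaithfullyFlat D Dh]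
    (hβ : Function.Surjective (beta D Dh incl))
    (hfin : {M : Ideal (Ap ⊗[A] Dh) | M.IsMaximal}.Finite) :
    {N : Ideal Dp | N.IsMaximal}.Finite := by
  have hG : {M : Ideal (Dp ⊗[D] Dh) | M.IsMaximal}.Finite := by
    refine Set.Finite.of_injOn (f := Ideal.comap (beta D Dh incl)) ?_ ?_ hfin
    · intro N hN
      haveI : N.IsMaximal := hN
      exact Ideal.comap_isMaximal_of_surjective (beta D Dh incl) hβ
    · intro N₁ _ N₂ _ h
      exact Ideal.comap_injective_of_surjective (beta D Dh incl) hβ h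
  refine (hG.image (Ideal.comap (algebraMap Dp (Dp ⊗[D] Dh)))).subset ?_
  intro N hN
  haveI : N.IsMaximal := hN
  obtain ⟨P, hP, hPN⟩ := Ideal.exists_isPrime_liesOver_of_faithfullyFlat (B := Dp ⊗[D] Dh) N
  obtain ⟨M, hM, hPM⟩ := Ideal.exists_le_maximal P hP.ne_top
  refine ⟨M, hM, ?_⟩
  have h1 : N ≤ M.comap (algebraMap Dp (Dp ⊗[D] Dh)) := by
    rw [hPN.over]
    exact Ideal.comap_mono hPM
  have h2 : M.comap (algebraMap Dp (Dp ⊗[D] Dh)) ≠ ⊤ := Ideal.comap_ne_top _ hM.ne_top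
  exact (hN.eq_of_le h2 h1).symm

end betaLocal

end Groth.Agent.Helper2.NrmH
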