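import Mathlib
import Groth.Prelude
import Groth.Agent.Helper2.NrmH7

set_option autoImplicit false
set_option linter.style.haveILetI false
set_option linter.unusedSectionVars false
set_option linter.unusedVariables false

universe u

/-! Transfer of the kernel condition between `D` and `Dh`. -/

namespace Groth.Agent.Helper2.NrmH

open IsLocalRing TensorProduct Groth.Agent.Helper2.NrmR

theorem ker_mkₐ' (A : Type u) {R : Type u} [CommRing A] [CommRing R] [Algebra A R] (I : Ideal R) :
    RingHom.ker (Ideal.Quotient.mkₐ A I) = I := by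
  ext x
  rw [RingHom.mem_ker]
  exact Ideal.Quotient.eq_zero_iff_mem

section transfer

variable {A D Dh Ap Dp : Type u} [CommRing A] [CommRing D] [CommRing Dh]
  [CommRing Ap] [CommRing Dp]
  [Algebra A D] [Algebra A Dh] [Algebra D Dh] [IsScalarTower A D Dh]
  [Algebra A Ap] [Algebra A Dp] [Algebra D Dp] [IsScalarTower A D Dp]
  [IsLocalRing D] [IsLocalRing Dh] [IsLocalHom (algebraMap D Dh)]
  (incl : Ap →ₐ[A] Dp)

theorem map_mem_jacobson [Algebra.IsIntegral D Dp]
    (hβ : Function.Bijective (beta D Dh incl)) (x : Ap ⊗[A] D)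
    (hx : Algebra.TensorProduct.productMap incl (IsScalarTower.toAlgHom A D Dp) x ∈
      Ideal.jacobson (⊥ : Ideal Dp)) :
    Algebra.TensorProduct.map (AlgHom.id A Ap) (IsScalarTower.toAlgHom A D Dh) x ∈
      Ideal.jacobson (⊥ : Ideal (Ap ⊗[A] Dh)) := by
  set y := Algebra.TensorProduct.productMap incl (IsScalarTower.toAlgHom A D Dp) x with hy
  have h1 : y ⊗ₜ[D] (1 : Dh) ∈ Ideal.jacobson (⊥ : Ideal (Dp ⊗[D] Dh)) := by
    rw [Ideal.jacobson, Ideal.mem_sInf]
    rintro M ⟨-, hM⟩
    haveI := hM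
    have hMDh := comap_includeRight_eq (D := D) (T := Dh) (Dp := Dp) M
    have hcomap : (M.comap (algebraMap Dp (Dp ⊗[D] Dh))).comap (algebraMap D Dp) =
        maximalIdeal D := by
      ext d
      rw [Ideal.mem_comap, Ideal.mem_comap, Algebra.TensorProduct.algebraMap_apply,
        Algebra.algebraMap_self, RingHom.id_apply, Algebra.TensorProduct.tmul_one_eq_one_tmul]
      have h2 : (1 : Dp) ⊗ₜ[D] algebraMap D Dh d ∈ M ↔ algebraMap D Dh d ∈ maximalIdeal Dh := by
        rw [← hMDh, Ideal.mem_comap]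
        rfl
      rw [h2, mem_maximalIdeal, mem_maximalIdeal, map_mem_nonunits_iff]
    haveI : (M.comap (algebraMap Dp (Dp ⊗[D] Dh))).IsPrime := Ideal.comap_isPrime _ _
    have hNmax : (M.comap (algebraMap Dp (Dp ⊗[D] Dh))).IsMaximal := by
      refine Ideal.isMaximal_of_isIntegral_of_isMaximal_comap (R := D) _ ?_
      rw [hcomap]
      infer_instance
    have h3 : y ∈ M.comap (algebraMap Dp (Dp ⊗[D] Dh)) := by
      rw [Ideal.jacobson, Ideal.mem_sInf] at hx
      exact hx ⟨bot_le, hNmax⟩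
    rw [Ideal.mem_comap, Algebra.TensorProduct.algebraMap_apply, Algebra.algebraMap_self,
      RingHom.id_apply] at h3
    exact h3
  rw [← beta_map] at h1
  have h1' := Ideal.mem_jacobson_bot.1 h1
  refine (Ideal.mem_jacobson_bot (R := Ap ⊗[A] Dh)).2 ?_
  intro b
  have h3 := h1' (beta D Dh incl b)
  rw [← map_mul, ← map_one (beta D Dh incl), ← map_add] at h3
  let e := AlgEquiv.ofBijective (beta D Dh incl) hβ
  exact (isUnit_map_iff e _).1 h3

theorem mem_of_map_mem
    (hres : ∀ z : Dh, ∃ d : D, z - algebraMap D Dh d ∈ maximalIdeal Dh) (x : Ap ⊗[A] D)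
    (hx : Algebra.TensorProduct.map (AlgHom.id A Ap) (IsScalarTower.toAlgHom A D Dh) x ∈
      (Ideal.jacobson (⊥ : Ideal Ap)).map
          (Algebra.TensorProduct.includeLeft : Ap →ₐ[A] Ap ⊗[A] Dh) ⊔
        (maximalIdeal Dh).map
          (Algebra.TensorProduct.includeRight : Dh →ₐ[A] Ap ⊗[A] Dh)) :
    x ∈ (Ideal.jacobson (⊥ : Ideal Ap)).map
          (Algebra.TensorProduct.includeLeft : Ap →ₐ[A] Ap ⊗[A] D) ⊔
        (maximalIdeal D).map
          (Algebra.TensorProduct.includeRight : D →ₐ[A] Ap ⊗[A] D) := by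
  set Rad : Ideal Ap := Ideal.jacobson (⊥ : Ideal Ap) with hRad
  let fD := Algebra.TensorProduct.map (Ideal.Quotient.mkₐ A Rad)
    (Ideal.Quotient.mkₐ A (maximalIdeal D))
  let fH := Algebra.TensorProduct.map (Ideal.Quotient.mkₐ A Rad)
    (Ideal.Quotient.mkₐ A (maximalIdeal Dh))
  have hkD : RingHom.ker fD = Rad.map
      (Algebra.TensorProduct.includeLeft : Ap →ₐ[A] Ap ⊗[A] D) ⊔ (maximalIdeal D).map
      (Algebra.TensorProduct.includeRight : D →ₐ[A] Ap ⊗[A] D) := by
    rw [Algebra.TensorProduct.map_ker _ _ (Ideal.Quotient.mkₐ_surjective A Rad)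
      (Ideal.Quotient.mkₐ_surjective A (maximalIdeal D)), ker_mkₐ', ker_mkₐ']
  have hkH : RingHom.ker fH = Rad.map
      (Algebra.TensorProduct.includeLeft : Ap →ₐ[A] Ap ⊗[A] Dh) ⊔ (maximalIdeal Dh).map
      (Algebra.TensorProduct.includeRight : Dh →ₐ[A] Ap ⊗[A] Dh) := by
    rw [Algebra.TensorProduct.map_ker _ _ (Ideal.Quotient.mkₐ_surjective A Rad)
      (Ideal.Quotient.mkₐ_surjective A (maximalIdeal Dh)), ker_mkₐ', ker_mkₐ']
  have hle : maximalIdeal D ≤ (maximalIdeal Dh).comap (IsScalarTower.toAlgHom A D Dh) := by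
    intro d hd
    rw [Ideal.mem_comap]
    show algebraMap D Dh d ∈ maximalIdeal Dh
    rw [mem_maximalIdeal, map_mem_nonunits_iff]
    exact hd
  let q : (D ⧸ maximalIdeal D) →ₐ[A] (Dh ⧸ maximalIdeal Dh) :=
    Ideal.quotientMapₐ (maximalIdeal Dh) (IsScalarTower.toAlgHom A D Dh) hle
  have hq : Function.Bijective q := by
    constructor
    · rw [injective_iff_map_eq_zero]
      intro z hz
      obtain ⟨d, rfl⟩ := Ideal.Quotient.mk_surjective z
      have h1 : q (Ideal.Quotient.mk _ d) = Ideal.Quotient.mk _ (algebraMap D Dh d) := rfl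
      rw [h1, Ideal.Quotient.eq_zero_iff_mem, mem_maximalIdeal, map_mem_nonunits_iff] at hz
      exact Ideal.Quotient.eq_zero_iff_mem.2 hz
    · intro z
      obtain ⟨z, rfl⟩ := Ideal.Quotient.mk_surjective z
      obtain ⟨d, hd⟩ := hres z
      refine ⟨Ideal.Quotient.mk _ d, ?_⟩
      show Ideal.Quotient.mk _ (algebraMap D Dh d) = Ideal.Quotient.mk _ z
      symm
      rw [Ideal.Quotient.eq]
      exact hd
  let e := Algebra.TensorProduct.congr (AlgEquiv.refl (R := A) (A₁ := Ap ⧸ Rad))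
    (AlgEquiv.ofBijective q hq)
  have hcomm : ∀ v : Ap ⊗[A] D, e (fD v) =
      fH (Algebra.TensorProduct.map (AlgHom.id A Ap) (IsScalarTower.toAlgHom A D Dh) v) := by
    intro v
    induction v using TensorProduct.induction_on with
    | zero => simp
    | tmul a' d =>
      show e ((Ideal.Quotient.mkₐ A Rad a') ⊗ₜ[A] (Ideal.Quotient.mkₐ A (maximalIdeal D) d)) = _
      rw [Algebra.TensorProduct.congr_apply, Algebra.TensorProduct.map_tmul,
        Algebra.TensorProduct.map_tmul]
      show _ = fH (a' ⊗ₜ[A] algebraMap D Dh d)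
      rfl
    | add x y hx hy => rw [map_add, map_add, hx, hy, map_add, map_add]
  rw [← hkH, RingHom.mem_ker, ← hcomm] at hx
  rw [← hkD, RingHom.mem_ker]
  exact e.injective (by rw [hx, map_zero])

end transfer

end Groth.Agent.Helper2.NrmH
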