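import Mathlib
import Groth.Prelude
import Groth.Agent.Helper2.NrmH6
import Groth.Agent.Helper2.NrmH8

set_option autoImplicit false
set_option linter.style.haveILetI false
set_option linter.unusedSectionVars false
set_option linter.unusedVariables false

universe u

/-! Elements of `D'` come from `A' ⊗_A Dh`. -/

namespace Groth.Agent.Helper2.NrmH

open IsLocalRing TensorProduct Groth.Agent.Helper1.Hens Groth.Agent.Helper1
  Groth.Agent.Helper2.TotFrac Groth.Agent.Helper2.NrmR

section concrete

variable (A S : Type u) [CommRing A] [IsLocalRing A] [IsReduced A]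
    [CommRing S] [IsLocalRing S] [Algebra A S] [IsLocalHom (algebraMap A S)]
    [Hensel.IsStrictHenselization A S]

/-- the normalization of a subalgebra `E` of `S` inside `Frac S` -/
noncomputable def Nrm (E : Subalgebra A S) : Subalgebra A (FractionRing S) :=
  KD A S E ⊓ (integralClosure E (FractionRing S)).restrictScalars A

theorem mem_Nrm (E : Subalgebra A S) (x : FractionRing S) :
    x ∈ Nrm A S E ↔ (IsIntegral E x ∧ ∃ a ∈ nonZeroDivisors A, ∃ d ∈ E,
      algebraMap A (FractionRing S) a * x = algebraMap S (FractionRing S) d) := by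
  rw [Nrm, Algebra.mem_inf, mem_KD, and_comm]
  rfl

theorem isIntegral_stage (D : Subalgebra A S) (x : FractionRing S) (hx : IsIntegral D x) :
    ∃ t : Finset S, (t : Set S) ⊆ (D : Set S) ∧
      ∀ E : Subalgebra A S, (t : Set S) ⊆ (E : Set S) → IsIntegral E x := by
  classical
  obtain ⟨s, hsfin, hs⟩ := isIntegral_iff_isIntegral_closure_finite.1 hx
  refine ⟨hsfin.toFinset.image D.val, ?_, ?_⟩
  · intro y hy
    rw [Finset.coe_image] at hy
    obtain ⟨d, -, rfl⟩ := hy
    exact d.2
  · intro E hE
    have hle : Subring.closure s ≤ E.toSubring.comap D.val.toRingHom := by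
      rw [Subring.closure_le]
      intro d hd
      show (d : S) ∈ E
      apply hE
      rw [Finset.coe_image]
      exact ⟨d, by simpa using hd, rfl⟩
    let φ : Subring.closure s →+* E :=
      { toFun := fun d => ⟨((d : D) : S), hle d.2⟩
        map_one' := rfl
        map_mul' := fun _ _ => rfl
        map_zero' := rfl
        map_add' := fun _ _ => rfl }
    have h := IsIntegral.map_of_comp_eq φ (RingHom.id (FractionRing S)) (by
      ext d
      rfl) hs
    exact h

variable (D : Subalgebra A S) [IsLocalRing D] [IsLocalHom (algebraMap D S)]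
    (Dh : Type u) [CommRing Dh] [IsLocalRing Dh] [Algebra D Dh] [IsLocalHom (algebraMap D Dh)]
    [Algebra Dh S] [IsScalarTower D Dh S]
    [Algebra A Dh] [IsScalarTower A D Dh] [IsScalarTower A Dh S]
    (A' D' : Subalgebra A (FractionRing S))
    (hA' : ∀ x : (FractionRing S), x ∈ A' ↔ (IsIntegral A x ∧
      ∃ a ∈ nonZeroDivisors A, ∃ b : A,
        algebraMap A (FractionRing S) a * x = algebraMap A (FractionRing S) b))
    (hD' : ∀ x : (FractionRing S), x ∈ D' ↔ (IsIntegral D x ∧
      ∃ a ∈ nonZeroDivisors A, ∃ d ∈ D,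
        algebraMap A (FractionRing S) a * x = algebraMap S (FractionRing S) d))

set_option maxHeartbeats 800000 in
include hA' hD' in
theorem exists_muS_eq (hinj : Function.Injective (algebraMap Dh S)) (hL : IndEt A S Dh)
    (x : FractionRing S) (hx : x ∈ D') :
    ∃ w : A' ⊗[A] Dh, muS (S := Dh) A'.val w = x := by
  classical
  obtain ⟨hxint, a, ha, d, hd, had⟩ := (hD' x).1 hx
  obtain ⟨t, htD, ht⟩ := isIntegral_stage A S D x hxint
  have hrange : ((insert d t : Finset S) : Set S) ⊆ Set.range (algebraMap Dh S) := by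
    intro y hy
    have hyD : y ∈ D := by
      rw [Finset.coe_insert] at hy
      rcases hy with rfl | hy
      · exact hd
      · exact htD hy
    refine ⟨algebraMap D Dh ⟨y, hyD⟩, ?_⟩
    rw [← IsScalarTower.algebraMap_apply D Dh S]
    rfl
  obtain ⟨E, hsE, hE, hloc, hEt⟩ := hL (insert d t) hrange
  haveI := hloc
  haveI : IsLocalHom (algebraMap E S) := isLocalHom_of_essEtale A S E hEt
  have hdE : d ∈ E := hsE (by rw [Finset.coe_insert]; exact Set.mem_insert _ _)
  have htE : (t : Set S) ⊆ (E : Set S) := fun y hy =>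
    hsE (by rw [Finset.coe_insert]; exact Set.mem_insert_of_mem _ hy)
  have hxE : x ∈ Nrm A S E := (mem_Nrm A S E x).2 ⟨ht E htE, a, ha, d, hdE, had⟩
  have hleE : A' ≤ Nrm A S E := by
    intro y hy
    obtain ⟨hyint, a₁, ha₁, b, hb⟩ := (hA' y).1 hy
    refine (mem_Nrm A S E y).2 ⟨hyint.tower_top, a₁, ha₁, algebraMap A S b,
      E.algebraMap_mem b, ?_⟩
    rw [hb, ← IsScalarTower.algebraMap_apply A S (FractionRing S)]
  let ιE : E →ₐ[A] Nrm A S E :=
    ((IsScalarTower.toAlgHom A S (FractionRing S)).comp E.val).codRestrict (Nrm A S E)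
      (fun e => (mem_Nrm A S E _).2 ⟨isIntegral_algebraMap (R := E) (x := e),
        1, one_mem _, (e : S), e.2, by rw [map_one, one_mul]; rfl⟩)
  have hιE : ∀ e : E, (ιE e : FractionRing S) = algebraMap S (FractionRing S) e := fun e => rfl
  obtain ⟨v, hv⟩ := productMap_surjective A S E A' (Nrm A S E) hA' (mem_Nrm A S E) hleE ιE hιE hEt
    ⟨x, hxE⟩
  refine ⟨Algebra.TensorProduct.map (AlgHom.id A A') (tau hinj E hE) v, ?_⟩
  have key : ∀ v : A' ⊗[A] E,
      muS (S := Dh) A'.val (Algebra.TensorProduct.map (AlgHom.id A A') (tau hinj E hE) v) =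
      ((Algebra.TensorProduct.productMap (Subalgebra.inclusion hleE) ιE v : Nrm A S E) :
        FractionRing S) := by
    intro v
    induction v using TensorProduct.induction_on with
    | zero => simp
    | tmul a' e =>
      rw [Algebra.TensorProduct.map_tmul, muS_tmul', Algebra.TensorProduct.productMap_apply_tmul,
        Subalgebra.coe_mul, hιE, IsScalarTower.algebraMap_apply Dh S (FractionRing S),
        algebraMap_tau]
      rfl
    | add x y hx hy => rw [map_add, map_add, map_add, Subalgebra.coe_add, hx, hy]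
  rw [key, hv]

end concrete

end Groth.Agent.Helper2.NrmH
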