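import Mathlib
import Groth.Prelude
import Groth.Agent.Helper2.NrmH9
import Groth.Agent.Helper2.AnUnr7
import Groth.Agent.Helper2.EssFT1

set_option autoImplicit false
set_option linter.style.haveILetI false
set_option linter.unusedSectionVars false
set_option linter.unusedVariables false

universe u

/-! Finiteness of the normalization `A'`; finitely many maximal ideals of `A' ⊗_A Dh`. -/

namespace Groth.Agent.Helper2.NrmH

open IsLocalRing TensorProduct Groth.Agent.Helper1.Hens Groth.Agent.Helper1
  Groth.Agent.Helper2.TotFrac Groth.Agent.Helper2.NrmR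

section concrete

variable (A S : Type u) [CommRing A] [IsLocalRing A] [IsReduced A]
    [CommRing S] [IsLocalRing S] [Algebra A S] [IsLocalHom (algebraMap A S)]
    [Hensel.IsStrictHenselization A S]
    (A' : Subalgebra A (FractionRing S))
    (hA' : ∀ x : (FractionRing S), x ∈ A' ↔ (IsIntegral A x ∧
      ∃ a ∈ nonZeroDivisors A, ∃ b : A,
        algebraMap A (FractionRing S) a * x = algebraMap A (FractionRing S) b))

set_option maxHeartbeats 800000 in
include hA' in
theorem finite_normalization (hNag : CAlg.IsNagata A) : Module.Finite A A' := by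
  haveI : Module.FaithfullyFlat A S :=
    Groth.Agent.Helper1.Hens.faithfullyFlat_of_isStrictHenselization A S
  haveI := Groth.Agent.Helper2.AnUnr7.finite_integralClosure_fractionRing A hNag
  let φ : FractionRing A →ₐ[A] FractionRing S :=
    { fracMap A S with commutes' := fracMap_algebraMap A S }
  have hAK : Function.Injective (algebraMap A (FractionRing S)) := by
    rw [IsScalarTower.algebraMap_eq A S (FractionRing S)]
    exact (IsFractionRing.injective S (FractionRing S)).comp
      (FaithfulSMul.algebraMap_injective A S)
  have hφinj : Function.Injective φ := by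
    show Function.Injective (fracMap A S)
    unfold fracMap
    rw [IsLocalization.lift_injective_iff]
    intro x y
    constructor
    · intro h
      rw [IsFractionRing.injective A (FractionRing A) h]
    · intro h
      rw [hAK h]
  have hmem : ∀ y : integralClosure A (FractionRing A),
      (φ.comp (integralClosure A (FractionRing A)).val) y ∈ A' := by
    intro y
    show φ (y : FractionRing A) ∈ A'
    rw [hA']
    refine ⟨y.2.map φ, ?_⟩
    obtain ⟨⟨b, m⟩, hbm⟩ := IsLocalization.surj (nonZeroDivisors A) (y : FractionRing A)
    refine ⟨m, m.2, b, ?_⟩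
    have h1 := congrArg φ hbm
    rw [map_mul, φ.commutes, φ.commutes] at h1
    rw [mul_comm, h1]
  let Φ : integralClosure A (FractionRing A) →ₐ[A] A' :=
    (φ.comp (integralClosure A (FractionRing A)).val).codRestrict A' hmem
  have hΦ : Function.Surjective Φ := by
    intro x
    obtain ⟨hxint, a, ha, b, hab⟩ := (hA' x).1 x.2
    let y : FractionRing A := IsLocalization.mk' (FractionRing A) b (⟨a, ha⟩ : nonZeroDivisors A)
    have h1 : y * algebraMap A (FractionRing A) a = algebraMap A (FractionRing A) b :=
      IsLocalization.mk'_spec _ _ _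
    have hy : φ y = x := by
      have h2 := congrArg φ h1
      rw [map_mul, φ.commutes, φ.commutes, ← hab, mul_comm] at h2
      exact (isUnit_algebraMap_fracS A S a ha).mul_left_cancel h2
    have hyint : IsIntegral A y := by
      rw [← isIntegral_algHom_iff φ hφinj, hy]
      exact hxint
    exact ⟨⟨y, hyint⟩, Subtype.ext hy⟩
  exact Module.Finite.of_surjective Φ.toLinearMap hΦ

theorem finite_max_tensor (Dh : Type u) [CommRing Dh] [IsLocalRing Dh] [Algebra A Dh]
    [Module.Finite A A'] : {M : Ideal (A' ⊗[A] Dh) | M.IsMaximal}.Finite := by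
  haveI : Module.Finite Dh (Dh ⊗[A] A') := inferInstance
  have h0 := Groth.Agent.Helper2.EssFT.finite_setOf_isMaximal Dh (Dh ⊗[A] A')
  let e : Dh ⊗[A] A' ≃ₐ[A] A' ⊗[A] Dh := Algebra.TensorProduct.comm A Dh A'
  refine Set.Finite.of_injOn (f := Ideal.comap e.toAlgHom.toRingHom) ?_ ?_ h0
  · intro N hN
    haveI : N.IsMaximal := hN
    exact Ideal.comap_isMaximal_of_surjective e.toAlgHom.toRingHom e.surjective
  · intro N₁ _ N₂ _ h
    exact Ideal.comap_injective_of_surjective e.toAlgHom.toRingHom e.surjective h

end concrete

end Groth.Agent.Helper2.NrmH
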