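import Mathlib
import Groth.Prelude
import Groth.Agent.Helper2.NrmH10
import Groth.Agent.Helper2.NrmR10
import Groth.Agent.Helper2.QENag

set_option autoImplicit false
set_option linter.style.haveILetI false
set_option linter.unusedSectionVars false
set_option linter.unusedVariables false

universe u

/-! S16451: both directions. -/

namespace Groth.Agent.Helper2.NrmH

open IsLocalRing TensorProduct Groth.Agent.Helper1.Hens Groth.Agent.Helper1
  Groth.Agent.Helper2.TotFrac Groth.Agent.Helper2.NrmR

section concrete

variable (A S : Type u) [CommRing A] [IsLocalRing A] [IsReduced A]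
    [CommRing S] [IsLocalRing S] [Algebra A S] [IsLocalHom (algebraMap A S)]
    [Hensel.IsStrictHenselization A S] (D : Subalgebra A S) [IsLocalRing D]
    [IsLocalHom (algebraMap D S)]
    (Dh : Type u) [CommRing Dh] [IsLocalRing Dh] [Algebra D Dh] [IsLocalHom (algebraMap D Dh)]
    [Hensel.IsHenselization D Dh] [Algebra Dh S] [IsScalarTower D Dh S]
    (A' D' : Subalgebra A (FractionRing S))
    (hA' : ∀ x : (FractionRing S), x ∈ A' ↔ (IsIntegral A x ∧
      ∃ a ∈ nonZeroDivisors A, ∃ b : A,
        algebraMap A (FractionRing S) a * x = algebraMap A (FractionRing S) b))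
    (hD' : ∀ x : (FractionRing S), x ∈ D' ↔ (IsIntegral D x ∧
      ∃ a ∈ nonZeroDivisors A, ∃ d ∈ D,
        algebraMap A (FractionRing S) a * x = algebraMap S (FractionRing S) d))
    (hle : A' ≤ D') (ι : D →ₐ[A] D')
    (hι : ∀ d : D, (ι d : (FractionRing S)) = algebraMap S (FractionRing S) d)

set_option maxHeartbeats 3200000 in
include hA' hD' hι in
/-- (⇒) of S16451 -/
theorem normalization_of_indEt (hA : EGA4.IsExcellent A)
    (hinj : Function.Injective (algebraMap Dh S))
    (hL : ∀ s : Finset S, (s : Set S) ⊆ Set.range (algebraMap Dh S) →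
      ∃ E : Subalgebra A S, (s : Set S) ⊆ (E : Set S) ∧
        (E : Set S) ⊆ Set.range (algebraMap Dh S) ∧
        ∃ _ : IsLocalRing E, EGA4loc.IsEssentiallyEtale A E) :
    {N : Ideal D' | N.IsMaximal}.Finite ∧
      Function.Surjective ((Ideal.Quotient.mkₐ A (Ideal.jacobson (⊥ : Ideal D'))).comp
        (Algebra.TensorProduct.productMap (Subalgebra.inclusion hle) ι)) ∧
      RingHom.ker ((Ideal.Quotient.mkₐ A (Ideal.jacobson (⊥ : Ideal D'))).comp
        (Algebra.TensorProduct.productMap (Subalgebra.inclusion hle) ι)) =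
        (Ideal.jacobson (⊥ : Ideal A')).map
            (Algebra.TensorProduct.includeLeft : A' →ₐ[A] A' ⊗[A] D) ⊔
          (maximalIdeal D).map
            (Algebra.TensorProduct.includeRight : D →ₐ[A] A' ⊗[A] D) := by
  have hNag : CAlg.IsNagata A := Groth.Agent.Helper2.QENag.s2654 A ⟨hA.1, hA.2.2.1, hA.2.2.2⟩
  letI : Algebra A Dh := ((algebraMap D Dh).comp (algebraMap A D)).toAlgebra
  haveI : IsScalarTower A D Dh := IsScalarTower.of_algebraMap_eq (fun _ => rfl)
  haveI : IsScalarTower A Dh S := IsScalarTower.of_algebraMap_eq (fun a => by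
    show algebraMap A S a = algebraMap Dh S (algebraMap D Dh (algebraMap A D a))
    rw [← IsScalarTower.algebraMap_apply D Dh S]
    rfl)
  have hL' : IndEt A S Dh := hL
  haveI : IsLocalHom (algebraMap A D) :=
    Groth.Agent.Helper2.EssEtSub.isLocalHom_algebraMap_sub A S D
  haveI : IsLocalHom (algebraMap Dh S) := isLocalHom_of_isHenselization_tower D Dh S
  haveI : Module.FaithfullyFlat D Dh := faithfullyFlat_of_isHenselization D Dh
  have hres := exists_sub_mem_of_isHenselization D Dh
  have hm := map_maximalIdeal_of_isHenselization D Dh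
  haveI : Module.Flat A Dh := flat_of_indEt hinj hL'
  haveI : IsScalarTower D Dh (FractionRing S) := IsScalarTower.of_algebraMap_eq (fun d => by
    rw [IsScalarTower.algebraMap_apply Dh S (FractionRing S),
      ← IsScalarTower.algebraMap_apply D Dh S]
    rfl)
  letI : Algebra D D' := ι.toRingHom.toAlgebra
  haveI : IsScalarTower A D D' := IsScalarTower.of_algebraMap_eq (fun a => (ι.commutes a).symm)
  let jA : A' →ₐ[A] FractionRing S := A'.val
  let jD : D' →ₐ[D] FractionRing S :=
    { D'.val.toRingHom with
      commutes' := fun d => by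
        show ((ι d : D') : FractionRing S) = algebraMap D (FractionRing S) d
        rw [hι]
        rfl }
  have hjD : Function.Injective jD := Subtype.val_injective
  haveI : Algebra.IsIntegral A A' := ⟨fun x =>
    (isIntegral_algHom_iff jA Subtype.val_injective).1 ((hA' x).1 x.2).1⟩
  haveI : Algebra.IsIntegral D D' := ⟨fun x =>
    (isIntegral_algHom_iff jD hjD).1 ((hD' x).1 x.2).1⟩
  have hι' : IsScalarTower.toAlgHom A D D' = ι := AlgHom.ext (fun _ => rfl)
  let incl : A' →ₐ[A] D' := Subalgebra.inclusion hle
  have hincl : ∀ a', jD (incl a') = jA a' := fun _ => rfl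
  have hSK : Function.Injective (algebraMap Dh (FractionRing S)) := by
    rw [IsScalarTower.algebraMap_eq Dh S (FractionRing S)]
    exact (IsFractionRing.injective S (FractionRing S)).comp hinj
  -- injectivity of `χ_A` and `χ_D`
  have hχA : Function.Injective (muS (S := Dh) jA) :=
    muS_injective jA Subtype.val_injective hSK (isUnit_algebraMap_fracS A S)
      (hden_normalization A S A' hA')
  have hχD : Function.Injective (muS (S := Dh) jD) := by
    refine muS_injective' jD ((nonZeroDivisors A).map (algebraMap A D)) hjD hSK ?_ ?_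
    · rintro d ⟨a, ha, rfl⟩
      rw [← IsScalarTower.algebraMap_apply A D (FractionRing S)]
      exact isUnit_algebraMap_fracS A S a ha
    · intro x
      obtain ⟨-, a, ha, d, hd, had⟩ := (hD' x).1 x.2
      refine ⟨algebraMap A D a, ⟨a, ha, rfl⟩, ⟨d, hd⟩, Subtype.ext ?_⟩
      show ((algebraMap A D a • x : D') : FractionRing S) = ((ι ⟨d, hd⟩ : D') : FractionRing S)
      rw [hι, Algebra.smul_def]
      show ((ι (algebraMap A D a) : D') : FractionRing S) * (x : FractionRing S) = _
      rw [hι, ← had]
      rfl
  have hrange : ∀ x : D', ∃ w : A' ⊗[A] Dh, muS (S := Dh) jA w = jD x := fun x =>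
    exists_muS_eq A S D Dh A' D' hA' hD' hinj hL' x x.2
  have hβs := beta_surjective (D := D) (Dh := Dh) jA jD incl hincl hχD hrange
  have hβi := beta_injective (D := D) (Dh := Dh) jA jD incl hincl hχA
  haveI : Module.Finite A A' := finite_normalization A S A' hA' hNag
  have hfin := finite_max_tensor A S A' Dh
  refine ⟨finite_max_of_beta (D := D) (Dh := Dh) incl hβs hfin, ?_, ?_⟩
  · intro z
    obtain ⟨x, rfl⟩ := Ideal.Quotient.mk_surjective z
    obtain ⟨w, hw⟩ := hβs (x ⊗ₜ[D] (1 : Dh))
    obtain ⟨v, hv⟩ := exists_productMap_sub_mem (D := D) (Dh := Dh) incl hres hm x w hw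
    refine ⟨v, ?_⟩
    show Ideal.Quotient.mk _ (Algebra.TensorProduct.productMap (Subalgebra.inclusion hle) ι v) =
      Ideal.Quotient.mk _ x
    symm
    rw [Ideal.Quotient.eq, ← hι']
    exact map_maximalIdeal_le_jacobson D D' hv
  · apply le_antisymm
    · intro x hx
      rw [RingHom.mem_ker] at hx
      have h1 : Algebra.TensorProduct.productMap incl (IsScalarTower.toAlgHom A D D') x ∈
          Ideal.jacobson (⊥ : Ideal D') := by
        rw [hι']
        exact Ideal.Quotient.eq_zero_iff_mem.1 hx
      have h2 := map_mem_jacobson (D := D) (Dh := Dh) incl ⟨hβi, hβs⟩ x h1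
      have h3 := jacobson_bot_le_of_indEt A' hinj hL' h2
      exact mem_of_map_mem (D := D) (Dh := Dh) hres x (Ideal.mem_sup_left h3)
    · have := J_le_ker_abstract (A := A) (D := D) (Subalgebra.inclusion hle)
      rwa [hι'] at this

include hA' hD' hι in
/-- (⇐) of S16451 -/
theorem indEt_of_surjective (hA : EGA4.IsExcellent A)
    (hsurj : Function.Surjective ((Ideal.Quotient.mkₐ A (Ideal.jacobson (⊥ : Ideal D'))).comp
          (Algebra.TensorProduct.productMap (Subalgebra.inclusion hle) ι))) :
    Function.Injective (algebraMap Dh S) ∧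
      ∀ s : Finset S, (s : Set S) ⊆ Set.range (algebraMap Dh S) →
        ∃ E : Subalgebra A S, (s : Set S) ⊆ (E : Set S) ∧
          (E : Set S) ⊆ Set.range (algebraMap Dh S) ∧
          ∃ _ : IsLocalRing E, EGA4loc.IsEssentiallyEtale A E := by
  have hNag : CAlg.IsNagata A := Groth.Agent.Helper2.QENag.s2654 A ⟨hA.1, hA.2.2.1, hA.2.2.2⟩
  haveI := hNag.1
  have hmin : (minimalPrimes A).Finite := minimalPrimes.finite_of_isNoetherianRing A
  have hvnr := vnr_KD' A S hmin D
  have hinj := theta_injective A S D A' D' hA' hD' hle ι hι hvnr hsurj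
  haveI : Module.FaithfullyFlat D S := faithfullyFlat_of_theta_injective A S D hinj
  exact indEtale_of_flat A S D Dh

end concrete

end Groth.Agent.Helper2.NrmH
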