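import Mathlib
import Groth.Prelude.Def_SGA3b

/-!
# Connected fibres: an idempotent vanishing along the unit section is zero
-/

set_option autoImplicit false

namespace Groth.Agent.Helper2.OC
open TensorProduct

universe u

section T1
variable (A : Type*) [CommRing A] (C : Type*) [CommRing C] [Algebra A C]

/-- if all fibres of `Spec C → Spec A` are connected, a clopen subset of `Spec C` missing a
section is empty -/
theorem clopen_eq_empty (ε : C →ₐ[A] A)
    (hconn : ∀ (p : Ideal A) [p.IsPrime], ConnectedSpace (PrimeSpectrum (p.ResidueField ⊗[A] C)))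
    (Z : Set (PrimeSpectrum C)) (hZ : IsClopen Z)
    (hε : ∀ p : PrimeSpectrum A, PrimeSpectrum.comap (ε : C →+* A) p ∉ Z) : Z = ∅ := by
  by_contra hne
  obtain ⟨x, hx⟩ := Set.nonempty_iff_ne_empty.mpr hne
  set p := PrimeSpectrum.comap (algebraMap A C) x with hp
  set F : Set (PrimeSpectrum C) := PrimeSpectrum.comap (algebraMap A C) ⁻¹' {p} with hF
  have hxF : x ∈ F := rfl
  have huF : PrimeSpectrum.comap (ε : C →+* A) p ∈ F := by
    show PrimeSpectrum.comap (algebraMap A C) (PrimeSpectrum.comap (ε : C →+* A) p) = p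
    rw [← PrimeSpectrum.comap_comp_apply]
    have : (ε : C →+* A).comp (algebraMap A C) = RingHom.id A := by
      ext a
      simp
    rw [this, PrimeSpectrum.comap_id]
  haveI := hconn p.asIdeal
  haveI : ConnectedSpace F :=
    (PrimeSpectrum.preimageHomeomorphFiber A C p).symm.surjective.connectedSpace
      (PrimeSpectrum.preimageHomeomorphFiber A C p).symm.continuous
  have hFc : IsConnected F := isConnected_iff_connectedSpace.mpr inferInstance
  have hsub : F ⊆ Z := hFc.isPreconnected.subset_isClopen hZ ⟨x, hxF, hx⟩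
  exact hε p (hsub huF)

end T1

section T2
variable (A : Type u) [CommRing A] (B : Type u) [CommRing B] [Algebra A B]
  (C : Type u) [CommRing C] [Algebra A C]

/-- for a finite flat finitely presented `B`, `Spec (B ⊗ C) → Spec C` is open -/
theorem isOpenMap_comap_includeRight [Module.Flat A B] [Algebra.FinitePresentation A B] :
    IsOpenMap (PrimeSpectrum.comap
      ((Algebra.TensorProduct.includeRight : C →ₐ[A] B ⊗[A] C) : C →+* B ⊗[A] C)) := by
  have h1 : IsOpenMap (PrimeSpectrum.comap (algebraMap C (C ⊗[A] B))) :=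
    PrimeSpectrum.isOpenMap_comap_of_hasGoingDown_of_finitePresentation
  let E : C ⊗[A] B ≃+* B ⊗[A] C := (Algebra.TensorProduct.comm A C B).toRingEquiv
  have h2 : IsOpenMap (PrimeSpectrum.comap (E : C ⊗[A] B →+* B ⊗[A] C)) :=
    (PrimeSpectrum.homeomorphOfRingEquiv E).symm.isOpenMap
  have h3 : ((Algebra.TensorProduct.includeRight : C →ₐ[A] B ⊗[A] C) : C →+* B ⊗[A] C) =
      (E : C ⊗[A] B →+* B ⊗[A] C).comp (algebraMap C (C ⊗[A] B)) := by
    ext c
    simp [E]
  rw [h3, PrimeSpectrum.comap_comp]
  exact h1.comp h2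

/-- for a finite `B`, `Spec (B ⊗ C) → Spec C` is closed -/
theorem isClosedMap_comap_includeRight [Module.Finite A B] :
    IsClosedMap (PrimeSpectrum.comap
      ((Algebra.TensorProduct.includeRight : C →ₐ[A] B ⊗[A] C) : C →+* B ⊗[A] C)) := by
  have h1 : IsClosedMap (PrimeSpectrum.comap (algebraMap C (C ⊗[A] B))) :=
    PrimeSpectrum.isClosedMap_comap_of_isIntegral _ (algebraMap_isIntegral_iff.mpr inferInstance)
  let E : C ⊗[A] B ≃+* B ⊗[A] C := (Algebra.TensorProduct.comm A C B).toRingEquiv
  have h2 : IsClosedMap (PrimeSpectrum.comap (E : C ⊗[A] B →+* B ⊗[A] C)) :=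
    (PrimeSpectrum.homeomorphOfRingEquiv E).symm.isClosedMap
  have h3 : ((Algebra.TensorProduct.includeRight : C →ₐ[A] B ⊗[A] C) : C →+* B ⊗[A] C) =
      (E : C ⊗[A] B →+* B ⊗[A] C).comp (algebraMap C (C ⊗[A] B)) := by
    ext c
    simp [E]
  rw [h3, PrimeSpectrum.comap_comp]
  exact h1.comp h2

end T2

section T3
variable (A : Type u) [CommRing A] (B : Type u) [CommRing B] [Algebra A B]
  (C : Type u) [CommRing C] [HopfAlgebra A C]

/-- `z - ε(z)` lies in the ideal generated by the augmentation ideal of `C` -/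
lemma sub_counit_mem (z : B ⊗[A] C) :
    z - algebraMap B (B ⊗[A] C) (Coalgebra.counit (R := B) z) ∈
      Ideal.map (Algebra.TensorProduct.includeRight : C →ₐ[A] B ⊗[A] C)
        (RingHom.ker (Bialgebra.counitAlgHom A C)) := by
  induction z using TensorProduct.induction_on with
  | zero => simp
  | add x y hx hy =>
    have : x + y - algebraMap B (B ⊗[A] C) (Coalgebra.counit (R := B) (x + y)) =
        (x - algebraMap B (B ⊗[A] C) (Coalgebra.counit (R := B) x)) +
        (y - algebraMap B (B ⊗[A] C) (Coalgebra.counit (R := B) y)) := by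
      rw [map_add, map_add]; ring
    rw [this]
    exact Ideal.add_mem _ hx hy
  | tmul b c =>
    have h1 : Coalgebra.counit (R := B) (b ⊗ₜ[A] c) = (Coalgebra.counit (R := A) c) • b := by
      simp
    have h2 : b ⊗ₜ[A] c - algebraMap B (B ⊗[A] C) (Coalgebra.counit (R := B) (b ⊗ₜ[A] c)) =
        (b ⊗ₜ[A] (1 : C)) * ((1 : B) ⊗ₜ[A] (c - algebraMap A C (Coalgebra.counit (R := A) c))) := by
      rw [h1, Algebra.TensorProduct.algebraMap_apply, Algebra.TensorProduct.tmul_mul_tmul,
        mul_one, one_mul, tmul_sub, Algebra.algebraMap_eq_smul_one, Algebra.algebraMap_eq_smul_one,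
        tmul_smul, smul_tmul', smul_eq_mul, mul_one]
    rw [h2]
    apply Ideal.mul_mem_left
    apply Ideal.mem_map_of_mem
    rw [RingHom.mem_ker]
    show Coalgebra.counit (R := A) _ = 0
    rw [map_sub, Bialgebra.counit_algebraMap, sub_self]

/-- an element of `B ⊗ C` killed by the counit lies in every prime over a unit-section point -/
theorem mem_of_comap_eq (e' : B ⊗[A] C) (he' : Coalgebra.counit (R := B) e' = 0)
    (q' : PrimeSpectrum (B ⊗[A] C)) (p : PrimeSpectrum A)
    (h : PrimeSpectrum.comap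
      ((Algebra.TensorProduct.includeRight : C →ₐ[A] B ⊗[A] C) : C →+* B ⊗[A] C) q' =
      PrimeSpectrum.comap ((Bialgebra.counitAlgHom A C : C →ₐ[A] A) : C →+* A) p) :
    e' ∈ q'.asIdeal := by
  have h1 := sub_counit_mem A B C e'
  rw [he', map_zero, sub_zero] at h1
  refine (Ideal.map_le_iff_le_comap.mpr ?_) h1
  intro c hc
  have : c ∈ (PrimeSpectrum.comap ((Bialgebra.counitAlgHom A C : C →ₐ[A] A) : C →+* A) p).asIdeal := by
    show (Bialgebra.counitAlgHom A C) c ∈ p.asIdeal
    rw [RingHom.mem_ker] at hc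
    rw [show (Bialgebra.counitAlgHom A C) c = 0 from hc]
    exact Ideal.zero_mem _
  rw [← h] at this
  exact this

end T3

section main
variable (A : Type u) [CommRing A] (B : Type u) [CommRing B] [Algebra A B]
  (C : Type u) [CommRing C] [HopfAlgebra A C]

/-- an idempotent of `B ⊗ C` killed by the counit is zero, if the fibres of `C` are connected and
`B` is finite flat of finite presentation -/
theorem idem_eq_zero_of_conn [Module.Flat A B] [Algebra.FinitePresentation A B] [Module.Finite A B]
    (hconn : ∀ (p : Ideal A) [p.IsPrime], ConnectedSpace (PrimeSpectrum (p.ResidueField ⊗[A] C)))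
    (e' : B ⊗[A] C) (hidem : IsIdempotentElem e') (he' : Coalgebra.counit (R := B) e' = 0) :
    e' = 0 := by
  set f := PrimeSpectrum.comap
      ((Algebra.TensorProduct.includeRight : C →ₐ[A] B ⊗[A] C) : C →+* B ⊗[A] C) with hf
  set U : Set (PrimeSpectrum (B ⊗[A] C)) :=
    SetLike.coe (PrimeSpectrum.basicOpen e') with hU
  have hUclopen : IsClopen U := PrimeSpectrum.isClopen_iff.mpr ⟨e', hidem, rfl⟩
  have hZ : IsClopen (f '' U) :=
    ⟨isClosedMap_comap_includeRight A B C _ hUclopen.1, isOpenMap_comap_includeRight A B C _ hUclopen.2⟩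
  have hε : ∀ p : PrimeSpectrum A,
      PrimeSpectrum.comap ((Bialgebra.counitAlgHom A C : C →ₐ[A] A) : C →+* A) p ∉ f '' U := by
    rintro p ⟨q', hq', hq'p⟩
    exact hq' (mem_of_comap_eq A B C e' he' q' p hq'p)
  have h0 := clopen_eq_empty A C (Bialgebra.counitAlgHom A C) hconn (f '' U) hZ hε
  rw [Set.image_eq_empty] at h0
  have hnil : IsNilpotent e' := by
    rw [← PrimeSpectrum.basicOpen_eq_bot_iff]
    apply TopologicalSpace.Opens.ext
    exact h0
  exact hidem.eq_zero_of_isNilpotent hnil

end main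

end Groth.Agent.Helper2.OC
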