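import Mathlib
import Groth.Prelude.Def_SGA3b
import Groth.Agent.Helper2.OCSetup
import Groth.Agent.Helper2.OCCore
import Groth.Agent.Helper2.OCConn

/-!
# S5251: connected fibres over a complete base with isotrivial reduction
-/

set_option autoImplicit false

namespace Groth.Agent.Helper2.OC
open TensorProduct Groth.Agent.Helper2.MultTypeSemi Groth.Agent.Helper2.SemiIso
  Groth.Agent.Helper2.NilSplit Groth.Agent.Helper2.NilLift Groth.Agent.Helper2.ADiag
  Groth.Agent.Helper2.DefApp Groth.Agent.Helper2.MultTypeChart SGA3b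

universe u

section main
variable (A : Type u) [CommRing A] [IsNoetherianRing A] (I : Ideal A) [IsAdicComplete I A]
  (C : Type u) [CommRing C] [HopfAlgebra A C] [Module.Flat A C]

/-- the common output: a finite étale cover `B` with `B ⊗ C ≅ B[M]`, where moreover
`Rb' ⊗ C₀ ≅ Rb'[M]` for the given trivialising cover `Rb'` of `A/I` with `B/IB = Rb'`. -/
theorem s5251_aux (hft : Algebra.FiniteType A C)
    (hconn : ∀ (p : Ideal A) [p.IsPrime], ConnectedSpace (PrimeSpectrum (p.ResidueField ⊗[A] C)))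
    (Rb' : Type u) [CommRing Rb'] [Algebra (A ⧸ I) Rb'] [Algebra.Etale (A ⧸ I) Rb']
    [Module.Finite (A ⧸ I) Rb'] [Module.FaithfullyFlat (A ⧸ I) Rb']
    (M : Type u) [CommGroup M]
    (e : (Rb' ⊗[A ⧸ I] ((A ⧸ I) ⊗[A] C)) ≃ₐc[Rb'] MonoidAlgebra Rb' M) :
    ∃ (B : Type u) (_ : CommRing B) (_ : Algebra A B),
      Algebra.Etale A B ∧ Module.Finite A B ∧ Module.FaithfullyFlat A B ∧
      Nonempty ((B ⊗[A] C) ≃ₐc[B] MonoidAlgebra B M) := by
  letI : Algebra A Rb' := ((algebraMap (A ⧸ I) Rb').comp (algebraMap A (A ⧸ I))).toAlgebra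
  haveI : IsScalarTower A (A ⧸ I) Rb' := IsScalarTower.of_algebraMap_eq (fun _ => rfl)
  let χ := chart A C (A ⧸ I) Rb' M e
  have hχ : IsSemiIso A Rb' χ := chart_isSemiIso _ _ _ _ _ e
  obtain ⟨B, _, _, _, _, hBfin, hBet, hBff, hBn, hπs, hker, hcpl⟩ := exists_cover A I Rb'
  haveI := hBn
  haveI := hcpl
  haveI := hft
  haveI := hBfin
  haveI := hBet
  haveI := hBff
  set J : Ideal B := RingHom.ker (algebraMap B Rb') with hJ
  have hftH : Algebra.FiniteType B (B ⊗[A] C) := Algebra.FiniteType.baseChange B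
  have hflat : ∀ n, Module.Flat (B ⧸ Kp J n) ((B ⧸ Kp J n) ⊗[B] (B ⊗[A] C)) :=
    fun n => inferInstance
  obtain ⟨φ, e', hsurj, he1, he2, he3⟩ :=
    core hπs hflat hftH (liftMap A B χ) (hχ.lift A B Rb')
  have hφe : φ e' = 0 := by
    have : e' ∈ RingHom.ker (φ : B ⊗[A] C →ₐ[B] MonoidAlgebra B M) := by
      rw [he3]
      exact Ideal.mem_span_singleton_self e'
    exact this
  have hcounit : Coalgebra.counit (R := B) e' = 0 := by
    rw [← CoalgHomClass.counit_comp_apply φ e', hφe, map_zero]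
  have he0 : e' = 0 := idem_eq_zero_of_conn A B C hconn e' he1 hcounit
  have hinj : Function.Injective φ := by
    rw [injective_iff_map_eq_zero]
    intro x hx
    have : x ∈ RingHom.ker (φ : B ⊗[A] C →ₐ[B] MonoidAlgebra B M) := hx
    rw [he3, he0, Ideal.span_singleton_eq_bot.mpr rfl] at this
    exact this
  exact ⟨B, inferInstance, inferInstance, hBet, hBfin, hBff,
    ⟨BialgEquiv.ofBijective φ ⟨hinj, hsurj⟩⟩⟩

theorem s5251 (hft : Algebra.FiniteType A C)
    (hconn : ∀ (p : Ideal A) [p.IsPrime], ConnectedSpace (PrimeSpectrum (p.ResidueField ⊗[A] C)))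
    (h0 : IsIsotrivial (A ⧸ I) ((A ⧸ I) ⊗[A] C)) :
    IsIsotrivial A C := by
  obtain ⟨Rb', _, _, hEt, hFin, hFF, M, _, ⟨e⟩⟩ := h0
  obtain ⟨B, _, _, hBet, hBfin, hBff, ⟨ψ⟩⟩ := s5251_aux A I C hft hconn Rb' M e
  exact ⟨B, inferInstance, inferInstance, hBet, hBfin, hBff, ⟨M, inferInstance, ⟨ψ⟩⟩⟩

end main

end Groth.Agent.Helper2.OC
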