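import Mathlib
import Groth.Prelude.Def_SGA3b
import Groth.Agent.Helper2.OCS5251
import Groth.Agent.Helper2.OCTorus

/-!
# S5277: connected fibres over a complete base with isotrivial torus reduction
-/

set_option autoImplicit false

namespace Groth.Agent.Helper2.OC
open TensorProduct Groth.Agent.Helper2.MultTypeSemi Groth.Agent.Helper2.SemiIso
  Groth.Agent.Helper2.NilSplit Groth.Agent.Helper2.NilLift Groth.Agent.Helper2.ADiag
  Groth.Agent.Helper2.DefApp Groth.Agent.Helper2.MultTypeChart SGA3b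

universe u

section rank
variable {R₀ : Type u} [CommRing R₀] [Nontrivial R₀] {Q : Type u} [CommRing Q] [HopfAlgebra R₀ Q]

/-- a torus over a nontrivial ring which is split by a faithfully flat chart with group `M`:
`M` is free of finite rank -/
theorem exists_rank_of_isTorus (hT : IsTorus R₀ Q) {Rb' : Type u} [CommRing Rb'] [Algebra R₀ Rb']
    [Module.FaithfullyFlat R₀ Rb'] {M : Type u} [CommGroup M]
    (χ : Q →ₐ[R₀] MonoidAlgebra Rb' M) (hχ : IsSemiIso R₀ Rb' χ) :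
    ∃ n : ℕ, Nonempty (M ≃* Multiplicative (Fin n → ℤ)) := by
  obtain ⟨s, hs, h⟩ := hT
  obtain ⟨𝔪, h𝔪⟩ := Ideal.exists_maximal R₀
  have hex : ∃ f ∈ s, f ∉ 𝔪 := by
    by_contra hcon
    push_neg at hcon
    have : Ideal.span s ≤ 𝔪 := Ideal.span_le.mpr hcon
    rw [hs] at this
    exact h𝔪.ne_top (top_le_iff.mp this)
  obtain ⟨f, hfs, hf𝔪⟩ := hex
  obtain ⟨R', _, _, hFF', n, ⟨eT⟩⟩ := h f hfs
  refine ⟨n, ?_⟩
  haveI : Nontrivial (Localization.Away f) := by
    rw [← not_subsingleton_iff_nontrivial,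
      IsLocalization.subsingleton_iff (M := Submonoid.powers f)]
    rintro ⟨k, hk⟩
    apply hf𝔪
    apply h𝔪.isPrime.mem_of_pow_mem k
    dsimp only at hk
    rw [hk]
    exact Ideal.zero_mem _
  haveI : Nontrivial R' :=
    (TensorProduct.rid (Localization.Away f) R').symm.toEquiv.nontrivial
  letI : Algebra R₀ R' :=
    ((algebraMap (Localization.Away f) R').comp (algebraMap R₀ (Localization.Away f))).toAlgebra
  haveI : IsScalarTower R₀ (Localization.Away f) R' := IsScalarTower.of_algebraMap_eq (fun _ => rfl)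
  let χT : Q →ₐ[R₀] MonoidAlgebra R' (Multiplicative (Fin n → ℤ)) :=
    ((eT.toBialgHom : _ →ₐ[R'] MonoidAlgebra R' (Multiplicative (Fin n → ℤ))).restrictScalars R₀).comp
      (((Algebra.TensorProduct.includeRight : (Localization.Away f ⊗[R₀] Q) →ₐ[Localization.Away f]
          R' ⊗[Localization.Away f] (Localization.Away f ⊗[R₀] Q)).restrictScalars R₀).comp
        (Algebra.TensorProduct.includeRight : Q →ₐ[R₀] Localization.Away f ⊗[R₀] Q))
  have hχT : IsSemiIso R₀ R' χT := by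
    have h1 := isSemiIso_includeRight R₀ (Localization.Away f) Q
    have h2 := isSemiIso_includeRight (Localization.Away f) R' (Localization.Away f ⊗[R₀] Q)
    have h12 := h1.comp R₀ (Localization.Away f) R' h2
    have h3 := isSemiIso_bialgEquiv R' eT
    exact h12.comp R₀ R' R' h3
  let T := R' ⊗[R₀] Rb'
  haveI : Nontrivial T := Module.FaithfullyFlat.rTensor_nontrivial R₀ Rb' R'
  obtain ⟨𝔫, h𝔫⟩ := Ideal.exists_maximal T
  letI : Field (T ⧸ 𝔫) := Ideal.Quotient.field 𝔫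
  letI : Algebra Rb' T := Algebra.TensorProduct.rightAlgebra
  haveI : IsScalarTower R₀ Rb' T := Algebra.TensorProduct.right_isScalarTower
  have h1 : IsSemiIso R₀ (T ⧸ 𝔫) (((rho R' (T ⧸ 𝔫) (Multiplicative (Fin n → ℤ))).restrictScalars R₀).comp χT) :=
    isSemiIso_rho_comp (T₂ := T ⧸ 𝔫) hχT
  have h2 : IsSemiIso R₀ (T ⧸ 𝔫) (((rho Rb' (T ⧸ 𝔫) M).restrictScalars R₀).comp χ) :=
    isSemiIso_rho_comp (T₂ := T ⧸ 𝔫) hχ
  exact mulEquiv_of_charts _ h2 _ h1

end rank

section main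
variable (A : Type u) [CommRing A] [IsNoetherianRing A] (I : Ideal A) [IsAdicComplete I A]
  (C : Type u) [CommRing C] [HopfAlgebra A C] [Module.Flat A C]

theorem s5277 (hft : Algebra.FiniteType A C)
    (hconn : ∀ (p : Ideal A) [p.IsPrime], ConnectedSpace (PrimeSpectrum (p.ResidueField ⊗[A] C)))
    (h0 : IsIsotrivial (A ⧸ I) ((A ⧸ I) ⊗[A] C) ∧ IsTorus (A ⧸ I) ((A ⧸ I) ⊗[A] C)) :
    IsIsotrivial A C ∧ IsTorus A C := by
  refine ⟨s5251 A I C hft hconn h0.1, ?_⟩
  rcases subsingleton_or_nontrivial A with hA | hA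
  · refine ⟨∅, Subsingleton.elim _ _, ?_⟩
    intro f hf
    exact absurd hf (Set.notMem_empty f)
  · haveI : Nontrivial (A ⧸ I) := by
      rw [Ideal.Quotient.nontrivial_iff]
      intro htop
      have hjac : I ≤ Ideal.jacobson ⊥ := IsAdicComplete.le_jacobson_bot I
      rw [htop, top_le_iff] at hjac
      exact Ideal.jacobson_eq_top_iff.mp hjac ▸ bot_ne_top (α := Ideal A) <| rfl
    obtain ⟨Rb', _, _, hEt, hFin, hFF, M, _, ⟨e⟩⟩ := h0.1
    let χM : ((A ⧸ I) ⊗[A] C) →ₐ[A ⧸ I] MonoidAlgebra Rb' M :=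
      ((e.toBialgHom : _ →ₐ[Rb'] MonoidAlgebra Rb' M).restrictScalars (A ⧸ I)).comp
        (Algebra.TensorProduct.includeRight : ((A ⧸ I) ⊗[A] C) →ₐ[A ⧸ I] Rb' ⊗[A ⧸ I] ((A ⧸ I) ⊗[A] C))
    have hχM : IsSemiIso (A ⧸ I) Rb' χM :=
      (isSemiIso_includeRight (A ⧸ I) Rb' ((A ⧸ I) ⊗[A] C)).comp (A ⧸ I) Rb' Rb'
        (isSemiIso_bialgEquiv Rb' e)
    obtain ⟨n, ⟨μ⟩⟩ := exists_rank_of_isTorus h0.2 χM hχM
    obtain ⟨B, _, _, hBet, hBfin, hBff, ⟨ψ⟩⟩ := s5251_aux A I C hft hconn Rb' M e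
    haveI := hBff
    let ψ' : (B ⊗[A] C) ≃ₐc[B] MonoidAlgebra B (Multiplicative (Fin n → ℤ)) :=
      ψ.trans (MonoidAlgebra.domCongrBialgEquiv B B μ)
    let χ : C →ₐ[A] MonoidAlgebra B (Multiplicative (Fin n → ℤ)) :=
      ((ψ'.toBialgHom : _ →ₐ[B] MonoidAlgebra B (Multiplicative (Fin n → ℤ))).restrictScalars A).comp
        (Algebra.TensorProduct.includeRight : C →ₐ[A] B ⊗[A] C)
    have hχ : IsSemiIso A B χ :=
      (isSemiIso_includeRight A B C).comp A B B (isSemiIso_bialgEquiv B ψ')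
    exact isTorus_of_chart n χ hχ

end main

end Groth.Agent.Helper2.OC
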