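import Mathlib
import Groth.Prelude

namespace Groth.Agent.Helper2.ObsGen

open W4bk4hartshdef114 IsLocalRing TensorProduct Function

universe u

section Small

variable {k : Type u} [Field k] {C : Type u} [CommRing C] [Algebra k C]

/-- a quotient of a small extension by a smaller ideal is a small extension. -/
theorem isSmallExt_quot {J K : Ideal C} (h : IsSmallExt k C J) (hK : K ≤ J) :
    IsSmallExt k (C ⧸ K) (J.map (Ideal.Quotient.mkₐ k K)) := by
  obtain ⟨hloc, hart, hres, hkill, hJ⟩ := h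
  haveI := hloc
  haveI := hart
  have hKtop : K ≠ ⊤ := fun h => hJ (top_le_iff.1 (h ▸ hK))
  haveI : Nontrivial (C ⧸ K) := Ideal.Quotient.nontrivial_iff.2 hKtop
  haveI : IsLocalRing (C ⧸ K) :=
    IsLocalRing.of_surjective' (Ideal.Quotient.mk K) Ideal.Quotient.mk_surjective
  have hnu : ∀ c : C, c ∈ nonunits C → Ideal.Quotient.mk K c ∈ nonunits (C ⧸ K) := by
    intro c hc hu
    -- `mk c` unit implies `c` unit
    have : IsUnit c := by
      by_contra hcu
      obtain ⟨y, hy⟩ := hu.exists_right_inv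
      obtain ⟨y, rfl⟩ := Ideal.Quotient.mk_surjective y
      rw [← map_mul, ← map_one (Ideal.Quotient.mk K), Ideal.Quotient.eq] at hy
      have h1 : c * y - 1 ∈ maximalIdeal C := IsLocalRing.le_maximalIdeal hKtop hy
      have h2 : c * y ∈ maximalIdeal C := Ideal.mul_mem_right _ _ hcu
      have h3 : (1 : C) ∈ maximalIdeal C := by
        have := Ideal.sub_mem _ h2 h1
        rwa [sub_sub_cancel] at this
      exact (maximalIdeal.isMaximal C).ne_top ((Ideal.eq_top_iff_one _).2 h3)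
    exact hc this
  refine ⟨inferInstance, inferInstance, ?_, ?_, ?_⟩
  · intro x
    obtain ⟨c, rfl⟩ := Ideal.Quotient.mk_surjective x
    obtain ⟨a, ha⟩ := hres c
    refine ⟨a, ?_⟩
    have := hnu _ ha
    rwa [map_sub] at this
  · intro x j hx hj
    obtain ⟨c, rfl⟩ := Ideal.Quotient.mk_surjective x
    have hc : c ∈ nonunits C := fun hcu => hx (hcu.map (Ideal.Quotient.mk K))
    obtain ⟨j', hj', rfl⟩ := (Ideal.mem_map_iff_of_surjective (Ideal.Quotient.mkₐ k K)
      Ideal.Quotient.mk_surjective).1 hj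
    change Ideal.Quotient.mk K c * Ideal.Quotient.mk K j' = 0
    rw [← map_mul, hkill c j' hc hj', map_zero]
  · intro htop
    have h1 : (J.map (Ideal.Quotient.mkₐ k K)).comap (Ideal.Quotient.mkₐ k K) = ⊤ := by
      rw [htop]; rfl
    have h2 : (J.map (Ideal.Quotient.mk K)).comap (Ideal.Quotient.mk K) = J ⊔ K := by
      rw [Ideal.comap_map_of_surjective' _ Ideal.Quotient.mk_surjective, Ideal.mk_ker]
    have h3 : J ⊔ K = ⊤ := h2.symm.trans h1
    rw [sup_eq_left.2 hK] at h3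
    exact hJ h3

end Small

section Base

variable {k : Type u} [Field k] {P : Type u} [CommRing P] [IsLocalRing P] [IsNoetherianRing P]
  [Algebra k P]

lemma mk_mem_nonunits_iff {𝔞 : Ideal P} (h𝔞 : 𝔞 ≤ maximalIdeal P) (p : P) :
    Ideal.Quotient.mk 𝔞 p ∈ nonunits (P ⧸ 𝔞) ↔ p ∈ maximalIdeal P := by
  constructor
  · intro h
    by_contra hp
    have hu : IsUnit p := by
      by_contra hpu
      exact hp hpu
    exact h (hu.map (Ideal.Quotient.mk 𝔞))
  · intro hp hu
    obtain ⟨y, hy⟩ := hu.exists_right_inv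
    obtain ⟨y, rfl⟩ := Ideal.Quotient.mk_surjective y
    rw [← map_mul, ← map_one (Ideal.Quotient.mk 𝔞), Ideal.Quotient.eq] at hy
    have h1 : p * y - 1 ∈ maximalIdeal P := h𝔞 hy
    have h2 : p * y ∈ maximalIdeal P := Ideal.mul_mem_right _ _ hp
    have h3 : (1 : P) ∈ maximalIdeal P := by
      have := Ideal.sub_mem _ h2 h1
      rwa [sub_sub_cancel] at this
    exact (maximalIdeal.isMaximal P).ne_top ((Ideal.eq_top_iff_one _).2 h3)

theorem isSmallExt_base (hres : Surjective (algebraMap k (ResidueField P)))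
    {𝔞 I : Ideal P} (h𝔞 : 𝔞 ≤ maximalIdeal P) {n : ℕ} (hn : maximalIdeal P ^ n ≤ 𝔞)
    (hI : I ≤ maximalIdeal P) (hmI : maximalIdeal P * I ≤ 𝔞) :
    IsSmallExt k (P ⧸ 𝔞) (I.map (Ideal.Quotient.mk 𝔞)) := by
  have h𝔞top : 𝔞 ≠ ⊤ := fun h => (maximalIdeal.isMaximal P).ne_top (top_le_iff.1 (h ▸ h𝔞))
  haveI : Nontrivial (P ⧸ 𝔞) := Ideal.Quotient.nontrivial_iff.2 h𝔞top
  haveI : IsLocalRing (P ⧸ 𝔞) :=
    IsLocalRing.of_surjective' (Ideal.Quotient.mk 𝔞) Ideal.Quotient.mk_surjective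
  have hmax : maximalIdeal (P ⧸ 𝔞) = (maximalIdeal P).map (Ideal.Quotient.mk 𝔞) := by
    ext x
    obtain ⟨p, rfl⟩ := Ideal.Quotient.mk_surjective x
    rw [mem_maximalIdeal, mk_mem_nonunits_iff h𝔞,
      Ideal.mem_map_iff_of_surjective _ Ideal.Quotient.mk_surjective]
    constructor
    · intro hp; exact ⟨p, hp, rfl⟩
    · rintro ⟨p', hp', h⟩
      rw [Ideal.Quotient.eq] at h
      have := Ideal.sub_mem _ hp' (h𝔞 h)
      rwa [sub_sub_cancel] at this
  haveI : IsArtinianRing (P ⧸ 𝔞) := by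
    rw [isArtinianRing_iff_isNilpotent_maximalIdeal]
    refine ⟨n, ?_⟩
    rw [hmax, ← Ideal.map_pow, Ideal.zero_eq_bot, Ideal.map_eq_bot_iff_le_ker, Ideal.mk_ker]
    exact hn
  refine ⟨inferInstance, inferInstance, ?_, ?_, ?_⟩
  · intro x
    obtain ⟨p, rfl⟩ := Ideal.Quotient.mk_surjective x
    obtain ⟨c, hc⟩ := hres (residue P p)
    refine ⟨c, ?_⟩
    have h1 : p - algebraMap k P c ∈ maximalIdeal P := by
      rw [← Ideal.Quotient.eq_zero_iff_mem]
      change residue P (p - algebraMap k P c) = 0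
      rw [map_sub, ← hc, sub_eq_zero]
      rfl
    have := (mk_mem_nonunits_iff h𝔞 _).2 h1
    rwa [map_sub] at this
  · intro x j hx hj
    obtain ⟨p, rfl⟩ := Ideal.Quotient.mk_surjective x
    obtain ⟨i, hi, rfl⟩ := (Ideal.mem_map_iff_of_surjective _ Ideal.Quotient.mk_surjective).1 hj
    have hp := (mk_mem_nonunits_iff h𝔞 p).1 hx
    rw [← map_mul, Ideal.Quotient.eq_zero_iff_mem]
    exact hmI (Ideal.mul_mem_mul hp hi)
  · intro htop
    have h1 : I.map (Ideal.Quotient.mk 𝔞) ≤ maximalIdeal (P ⧸ 𝔞) := by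
      rw [hmax]; exact Ideal.map_mono hI
    exact (maximalIdeal.isMaximal (P ⧸ 𝔞)).ne_top (top_le_iff.1 (htop ▸ h1))

/-- Artin–Rees in the form we need. -/
lemma exists_AR (I : Ideal P) : ∃ n, 1 ≤ n ∧
    I ⊓ (maximalIdeal P * I ⊔ maximalIdeal P ^ n) ≤ maximalIdeal P * I := by
  obtain ⟨c, hc⟩ := Ideal.exists_pow_inf_eq_pow_smul (maximalIdeal P) (I : Submodule P P)
  refine ⟨c + 1, Nat.le_add_left 1 c, ?_⟩
  have h1 : (maximalIdeal P ^ (c + 1) : Ideal P) ⊓ I ≤ maximalIdeal P * I := by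
    have := hc (c + 1) (Nat.le_succ c)
    rw [Nat.add_sub_cancel_left, pow_one] at this
    intro x hx
    have hx' : x ∈ (maximalIdeal P ^ (c + 1) • ⊤ ⊓ I : Submodule P P) := by
      refine ⟨?_, hx.2⟩
      rw [Ideal.smul_top_eq_map]
      simpa using hx.1
    rw [this] at hx'
    exact Submodule.smul_mono le_rfl inf_le_right hx'
  rintro x ⟨hxI, hx⟩
  obtain ⟨a, ha, b, hb, rfl⟩ := Submodule.mem_sup.1 hx
  have haI : a ∈ I := Ideal.mul_le_right ha
  have hbI : b ∈ I := by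
    have := Ideal.sub_mem _ hxI haI
    rwa [add_sub_cancel_left] at this
  exact Ideal.add_mem _ ha (h1 ⟨hb, hbI⟩)

omit [IsNoetherianRing P] in
/-- two ring maps into a small extension agreeing modulo the kernel agree on `m²`. -/
lemma eq_on_sq {D : Type*} [CommRing D] [IsLocalRing D] (Jb : Ideal D)
    (hkill : ∀ x j : D, x ∈ nonunits D → j ∈ Jb → x * j = 0) (hJb : Jb ≠ ⊤)
    (θ Pr : P →+* D) (hδ : ∀ p, θ p - Pr p ∈ Jb)
    (hPr : ∀ p ∈ maximalIdeal P, Pr p ∈ nonunits D) :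
    ∀ f ∈ maximalIdeal P ^ 2, θ f = Pr f := by
  have hJm : Jb ≤ maximalIdeal D := IsLocalRing.le_maximalIdeal hJb
  have hθ : ∀ p ∈ maximalIdeal P, θ p ∈ nonunits D := by
    intro p hp
    have h1 : Pr p ∈ maximalIdeal D := hPr p hp
    have h2 : θ p - Pr p ∈ maximalIdeal D := hJm (hδ p)
    have := Ideal.add_mem _ h2 h1
    rwa [sub_add_cancel] at this
  intro f hf
  rw [pow_two] at hf
  refine Submodule.mul_induction_on hf ?_ ?_
  · intro x hx y hy
    have e1 : θ x * (θ y - Pr y) = 0 := hkill _ _ (hθ x hx) (hδ y)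
    have e2 : Pr y * (θ x - Pr x) = 0 := hkill _ _ (hPr y hy) (hδ x)
    rw [map_mul, map_mul, ← sub_eq_zero]
    have : θ x * θ y - Pr x * Pr y = θ x * (θ y - Pr y) + Pr y * (θ x - Pr x) := by ring
    rw [this, e1, e2, add_zero]
  · intro a b ha hb
    rw [map_add, map_add, ha, hb]

end Base

section Repr

variable {k : Type*} [Field k] {V J : Type*} [AddCommGroup V] [Module k V] [AddCommGroup J]
  [Module k J]

lemma exists_repr {d : ℕ} (v : Module.Basis (Fin d) k V) (ω : V ⊗[k] J) :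
    ∃ j : Fin d → J, ω = ∑ a, v a ⊗ₜ[k] j a := by
  induction ω using TensorProduct.induction_on with
  | zero => exact ⟨fun _ => 0, by simp⟩
  | tmul x y =>
    refine ⟨fun a => v.repr x a • y, ?_⟩
    conv_lhs => rw [← v.sum_repr x]
    rw [TensorProduct.sum_tmul]
    refine Finset.sum_congr rfl fun a _ => ?_
    rw [TensorProduct.smul_tmul]
  | add x y hx hy =>
    obtain ⟨j₁, rfl⟩ := hx
    obtain ⟨j₂, rfl⟩ := hy
    refine ⟨j₁ + j₂, ?_⟩
    rw [← Finset.sum_add_distrib]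
    refine Finset.sum_congr rfl fun a _ => ?_
    rw [Pi.add_apply, TensorProduct.tmul_add]

end Repr

section Main

variable {k : Type u} [Field k] {P : Type u} [CommRing P] [IsLocalRing P] [IsNoetherianRing P]
  [Algebra k P]

/-- **An obstruction theory with obstruction space `V` bounds the number of generators.** -/
theorem exists_generators (hres : Surjective (algebraMap k (ResidueField P)))
    (I : Ideal P) (hI : I ≤ maximalIdeal P ^ 2)
    (V : Type u) [AddCommGroup V] [Module k V] [Module.Finite k V]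
    (T : ObsTheory k (P ⧸ I) V) :
    ∃ i : Fin (Module.finrank k V) → P, I = Ideal.span (Set.range i) := by
  classical
  have hIm : I ≤ maximalIdeal P := hI.trans (Ideal.pow_le_self two_ne_zero)
  obtain ⟨n, hn1, hAR⟩ := exists_AR I
  let 𝔞 : Ideal P := maximalIdeal P * I ⊔ maximalIdeal P ^ n
  have h𝔞m : 𝔞 ≤ maximalIdeal P :=
    sup_le Ideal.mul_le_left (Ideal.pow_le_self (Nat.one_le_iff_ne_zero.1 hn1))
  have hn : maximalIdeal P ^ n ≤ 𝔞 := le_sup_right
  have hmI : maximalIdeal P * I ≤ 𝔞 := le_sup_left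
  let C' := P ⧸ 𝔞
  let J : Ideal C' := I.map (Ideal.Quotient.mk 𝔞)
  have hsmall : IsSmallExt k C' J := isSmallExt_base hres h𝔞m hn hIm hmI
  let u : (P ⧸ I) →ₐ[k] C' ⧸ J :=
    Ideal.Quotient.liftₐ I ((Ideal.Quotient.mkₐ k J).comp (Ideal.Quotient.mkₐ k 𝔞)) (fun a ha => by
      change Ideal.Quotient.mk J (Ideal.Quotient.mk 𝔞 a) = 0
      rw [Ideal.Quotient.eq_zero_iff_mem]
      exact Ideal.mem_map_of_mem _ ha)
  have hu : ∀ p : P, u (Ideal.Quotient.mk I p) = Ideal.Quotient.mk J (Ideal.Quotient.mk 𝔞 p) :=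
    fun p => rfl
  obtain ⟨j, hj⟩ := exists_repr (Module.finBasis k V) (T.obs C' J u)
  let K : Ideal C' := Ideal.span (Set.range fun a => (j a : C'))
  have hKJ : K ≤ J := by
    rw [Ideal.span_le]
    rintro _ ⟨a, rfl⟩
    exact (j a).2
  have hobs := T.obs_quot C' J K hsmall hKJ u
  have hzero : LinearMap.lTensor V (idealToQuot k J K) (T.obs C' J u) = 0 := by
    rw [hj, map_sum]
    refine Finset.sum_eq_zero fun a _ => ?_
    rw [LinearMap.lTensor_tmul]
    have : idealToQuot k J K (j a) = 0 := by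
      apply Subtype.ext
      change Ideal.Quotient.mk K (j a : C') = 0
      rw [Ideal.Quotient.eq_zero_iff_mem]
      exact Ideal.subset_span ⟨a, rfl⟩
    rw [this, TensorProduct.tmul_zero]
  have hsmall' := isSmallExt_quot hsmall hKJ
  obtain ⟨u', hu'⟩ := (T.obs_eq_zero_iff _ _ hsmall' _).1 (hobs.trans hzero)
  -- the two maps `P → C'/K`
  haveI : IsLocalRing (C' ⧸ K) := hsmall'.1
  let θ : P →+* C' ⧸ K := (u' : (P ⧸ I) →+* C' ⧸ K).comp (Ideal.Quotient.mk I)
  let Pr : P →+* C' ⧸ K := (Ideal.Quotient.mk K).comp (Ideal.Quotient.mk 𝔞)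
  have hδ : ∀ p, θ p - Pr p ∈ J.map (Ideal.Quotient.mkₐ k K) := by
    intro p
    rw [← Ideal.Quotient.eq]
    have h1 := congrFun (congrArg DFunLike.coe hu') (Ideal.Quotient.mk I p)
    rw [AlgHom.comp_apply, AlgHom.comp_apply, hu] at h1
    exact h1
  have hPr : ∀ p ∈ maximalIdeal P, Pr p ∈ nonunits (C' ⧸ K) := by
    intro p hp hunit
    have h1 : Ideal.Quotient.mk 𝔞 p ∈ nonunits C' := (mk_mem_nonunits_iff h𝔞m p).2 hp
    haveI : IsLocalRing C' := hsmall.1
    -- a unit in the quotient comes from a unit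
    obtain ⟨y, hy⟩ := hunit.exists_right_inv
    obtain ⟨y, rfl⟩ := Ideal.Quotient.mk_surjective y
    change Ideal.Quotient.mk K (Ideal.Quotient.mk 𝔞 p) * Ideal.Quotient.mk K y = 1 at hy
    rw [← map_mul, ← map_one (Ideal.Quotient.mk K), Ideal.Quotient.eq] at hy
    have hKtop : K ≠ ⊤ := fun h => hsmall.2.2.2.2 (top_le_iff.1 (h ▸ hKJ))
    have h2 : Ideal.Quotient.mk 𝔞 p * y - 1 ∈ maximalIdeal C' := IsLocalRing.le_maximalIdeal hKtop hy
    have h3 : Ideal.Quotient.mk 𝔞 p * y ∈ maximalIdeal C' := Ideal.mul_mem_right _ _ h1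
    have h4 : (1 : C') ∈ maximalIdeal C' := by
      have := Ideal.sub_mem _ h3 h2
      rwa [sub_sub_cancel] at this
    exact (maximalIdeal.isMaximal C').ne_top ((Ideal.eq_top_iff_one _).2 h4)
  have hsq := eq_on_sq (J.map (Ideal.Quotient.mkₐ k K)) hsmall'.2.2.2.1 hsmall'.2.2.2.2 θ Pr hδ hPr
  have hJK : J ≤ K := by
    rw [Ideal.map_le_iff_le_comap]
    intro f hf
    have h1 : θ f = 0 := by
      change u' (Ideal.Quotient.mk I f) = 0
      rw [Ideal.Quotient.eq_zero_iff_mem.2 hf, map_zero]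
    have h2 : Pr f = 0 := by rw [← hsq f (hI hf), h1]
    rw [Ideal.mem_comap]
    exact Ideal.Quotient.eq_zero_iff_mem.1 h2
  -- lift the generators
  have hjI : ∀ a, ∃ i ∈ I, Ideal.Quotient.mk 𝔞 i = (j a : C') := fun a =>
    (Ideal.mem_map_iff_of_surjective _ Ideal.Quotient.mk_surjective).1 (j a).2
  choose i hiI hi using hjI
  refine ⟨i, le_antisymm ?_ (Ideal.span_le.2 (by rintro _ ⟨a, rfl⟩; exact hiI a))⟩
  have hle : I ≤ Ideal.span (Set.range i) ⊔ maximalIdeal P • I := by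
    intro f hf
    have hfK : Ideal.Quotient.mk 𝔞 f ∈ K := hJK (Ideal.mem_map_of_mem _ hf)
    obtain ⟨c, hc⟩ := (Ideal.mem_span_range_iff_exists_fun).1 hfK
    choose p hp using fun a => Ideal.Quotient.mk_surjective (c a)
    have hdiff : f - ∑ a, p a * i a ∈ 𝔞 := by
      rw [← Ideal.Quotient.eq, ← hc, map_sum]
      refine Finset.sum_congr rfl fun a _ => ?_
      rw [map_mul, hp, hi]
    have hsumI : ∑ a, p a * i a ∈ I :=
      Ideal.sum_mem _ fun a _ => Ideal.mul_mem_left _ _ (hiI a)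
    have hdiffI : f - ∑ a, p a * i a ∈ I := Ideal.sub_mem _ hf hsumI
    have hmI' : f - ∑ a, p a * i a ∈ maximalIdeal P * I := hAR ⟨hdiffI, hdiff⟩
    have : f = ∑ a, p a * i a + (f - ∑ a, p a * i a) := by ring
    rw [this]
    refine Submodule.add_mem_sup ?_ hmI'
    exact Ideal.sum_mem _ fun a _ => Ideal.mul_mem_left _ _ (Ideal.subset_span ⟨a, rfl⟩)
  exact Submodule.le_of_le_smul_of_le_jacobson_bot (IsNoetherian.noetherian I)
    (IsLocalRing.maximalIdeal_le_jacobson ⊥) hle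

theorem spanFinrank_le (hres : Surjective (algebraMap k (ResidueField P)))
    (I : Ideal P) (hI : I ≤ maximalIdeal P ^ 2)
    (V : Type u) [AddCommGroup V] [Module k V] [Module.Finite k V]
    (T : ObsTheory k (P ⧸ I) V) : I.spanFinrank ≤ Module.finrank k V := by
  classical
  obtain ⟨i, hi⟩ := exists_generators hres I hI V T
  rw [hi]
  refine (Submodule.spanFinrank_span_le_ncard_of_finite (Set.finite_range i)).trans ?_
  have h1 : (Set.range i) = ((Finset.univ.image i : Finset P) : Set P) := by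
    ext x; simp
  rw [h1, Set.ncard_coe_finset]
  exact Finset.card_image_le.trans (by simp)

end Main

end Groth.Agent.Helper2.ObsGen
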