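import Mathlib
import Groth.Prelude
import Groth.Agent.Helper2.ObsGen

namespace Groth.Agent.Helper2.ObsGen

open W4bk4hartshdef114 IsLocalRing TensorProduct Function

universe u

variable {k : Type u} [Field k] {P : Type u} [CommRing P] [IsLocalRing P] [IsNoetherianRing P]
  [Algebra k P]

theorem dim_bound (hres : Surjective (algebraMap k (ResidueField P)))
    (I : Ideal P) (hI : I ≤ maximalIdeal P ^ 2)
    (V : Type u) [AddCommGroup V] [Module k V] [Module.Finite k V]
    (T : ObsTheory k (P ⧸ I) V) :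
    ringKrullDim P ≤ ringKrullDim (P ⧸ I) + (Module.finrank k V : WithBot ℕ∞) ∧
      (ringKrullDim (P ⧸ I) + (Module.finrank k V : WithBot ℕ∞) = ringKrullDim P →
        ∃ s : Finset P, Ideal.span (s : Set P) = I ∧
          ringKrullDim (P ⧸ I) + (s.card : WithBot ℕ∞) = ringKrullDim P) := by
  classical
  have hjac : ∀ J : Ideal P, J ≠ ⊤ → J ≤ Ring.jacobson P := by
    intro J hJ
    rw [← Ideal.jacobson_bot]
    exact (IsLocalRing.le_maximalIdeal hJ).trans (IsLocalRing.maximalIdeal_le_jacobson ⊥)
  have hIm : I ≤ maximalIdeal P := hI.trans (Ideal.pow_le_self two_ne_zero)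
  have hItop : I ≠ ⊤ := fun h => (maximalIdeal.isMaximal P).ne_top (top_le_iff.1 (h ▸ hIm))
  obtain ⟨i, hi⟩ := exists_generators hres I hI V T
  let s : Finset P := Finset.univ.image i
  have hs : Ideal.span (s : Set P) = I := by
    rw [hi]; congr 1; ext x; simp [s]
  have hcard : s.card ≤ Module.finrank k V := Finset.card_image_le.trans (by simp)
  have h1 : ringKrullDim P ≤ ringKrullDim (P ⧸ I) + (s.card : WithBot ℕ∞) := by
    have := ringKrullDim_le_ringKrullDim_quotient_add_card s (by
      intro x hx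
      exact hjac _ (hs ▸ hItop) (Ideal.subset_span hx))
    rw [hs] at this
    exact this
  have h2 : ringKrullDim (P ⧸ I) + (s.card : WithBot ℕ∞) ≤
      ringKrullDim (P ⧸ I) + (Module.finrank k V : WithBot ℕ∞) := by
    gcongr
  exact ⟨h1.trans h2, fun heq => ⟨s, hs, le_antisymm (h2.trans heq.le) h1⟩⟩


end Groth.Agent.Helper2.ObsGen
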