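import Mathlib
import Groth.Agent.Helper2.OlivC
import Groth.Agent.Lead.WESpec
import Groth.Agent.Helper1.HensStrictTransfer
import Groth.Agent.S1996

open TensorProduct Polynomial IsLocalRing

namespace Groth.Agent.Helper2.Oliv

universe u

open Groth.Agent.Lead.WEField Groth.Agent.Helper3.WEtale Groth.Agent.Helper2.WEInt
open Groth.Agent.Helper1.Hens

/-- residue field extension of a local weakly étale map is weakly étale -/
theorem weaklyEtale_residueField (A B : Type u) [CommRing A] [CommRing B] [IsLocalRing A]
    [IsLocalRing B] [Algebra A B] [IsLocalHom (algebraMap A B)] [Algebra.WeaklyEtale A B] :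
    Algebra.WeaklyEtale (ResidueField A) (ResidueField B) := by
  let k := ResidueField A
  let φ : k ⊗[A] B →ₐ[k] ResidueField B :=
    Algebra.TensorProduct.lift (Algebra.ofId k (ResidueField B))
      (IsScalarTower.toAlgHom A B (ResidueField B)) (fun _ _ => mul_comm _ _)
  have hφ : Function.Surjective φ := by
    intro z
    obtain ⟨b, rfl⟩ := residue_surjective z
    refine ⟨(1 : k) ⊗ₜ[A] b, ?_⟩
    simp [φ]
  exact weaklyEtale_of_surjective k φ hφ

theorem isSeparable_residueField (A B : Type u) [CommRing A] [CommRing B] [IsLocalRing A]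
    [IsLocalRing B] [Algebra A B] [IsLocalHom (algebraMap A B)] [Algebra.WeaklyEtale A B] :
    Algebra.IsSeparable (ResidueField A) (ResidueField B) := by
  haveI := weaklyEtale_residueField A B
  exact Groth.Agent.S0426.result

/-- (⇒) ring-level: a strict henselization of `B` is one of `A` when `A → B` is weakly étale. -/
theorem strict_of_weaklyEtale (A B R : Type u) [CommRing A] [IsLocalRing A] [CommRing B]
    [IsLocalRing B] [CommRing R] [IsLocalRing R] [Algebra A B] [IsLocalHom (algebraMap A B)]
    [Algebra.WeaklyEtale A B] [Algebra B R] [IsLocalHom (algebraMap B R)]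
    [hBR : Hensel.IsStrictHenselization B R] [Algebra A R] [IsScalarTower A B R] :
    ∃ _ : IsLocalHom (algebraMap A R), Hensel.IsStrictHenselization A R := by
  haveI hloc : IsLocalHom (algebraMap A R) := by
    rw [IsScalarTower.algebraMap_eq A B R]; exact RingHom.isLocalHom_comp _ _
  refine ⟨hloc, ?_⟩
  haveI : HenselianLocalRing R := hBR.henselian
  haveI hsc : IsSepClosure (ResidueField B) (ResidueField R) := hBR.isSepClosure
  haveI : IsSepClosed (ResidueField R) := hsc.sep_closed
  haveI : Algebra.IsSeparable (ResidueField B) (ResidueField R) := hsc.separable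
  haveI : Algebra.WeaklyEtale B R :=
    Groth.Agent.Lead.WESpec.weaklyEtale_of_equiv_hens R (equivOfIsStrictHenselization B R)
  haveI : Algebra.WeaklyEtale A R := Algebra.WeaklyEtale.trans A B R
  haveI : Algebra.IsSeparable (ResidueField A) (ResidueField B) := isSeparable_residueField A B
  haveI : Algebra.IsSeparable (ResidueField A) (ResidueField R) :=
    Algebra.IsSeparable.trans (ResidueField A) (ResidueField B) (ResidueField R)
  haveI : IsSepClosure (ResidueField A) (ResidueField R) := ⟨inferInstance, inferInstance⟩
  let Ω := ResidueField R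
  let S := Hens A Ω
  haveI hAS : Hensel.IsStrictHenselization A S := isStrictHenselization
  -- the comparison map
  have hτ : ∀ a : A, (RingHom.id Ω) (algebraMap A Ω a) = residue R (algebraMap A R a) :=
    fun a => rfl
  let ψ : S →ₐ[A] R := Hens.lift (RingHom.id Ω) hτ
  have hψres : ∀ z : S, residue R (ψ z) = Hens.γ z := fun z => Hens.residue_lift _ hτ z
  letI : Algebra S R := ψ.toRingHom.toAlgebra
  haveI : IsScalarTower A S R := IsScalarTower.of_algebraMap_eq fun a => (ψ.commutes a).symm
  haveI : IsLocalHom (algebraMap S R) := by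
    constructor
    intro z hz
    rw [Hens.isUnit_iff]
    have : residue R (ψ z) ≠ 0 := by
      intro h0
      exact ((residue_eq_zero_iff _).1 h0) hz
    rwa [hψres] at this
  haveI : Algebra.WeaklyEtale A S :=
    Groth.Agent.Lead.WESpec.weaklyEtale_of_equiv_hens S AlgEquiv.refl
  haveI : Algebra.WeaklyEtale S R := weaklyEtale_of_weaklyEtale A S R
  haveI : IsSepClosed (ResidueField S) :=
    isSepClosed_of_ringEquiv (Hens.resEquiv A Ω).symm.toRingEquiv
  have hbij : Function.Bijective (algebraMap S R) := olivier S R
  let e : S ≃+* R := RingEquiv.ofBijective (algebraMap S R) hbij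
  have he : ∀ z, e z = ψ z := fun z => rfl
  refine ⟨inferInstance, inferInstance, ?_⟩
  intro T _ _ f _ τ hτ'
  let τS : ResidueField S →+* ResidueField T := τ.comp (ResidueField.map (algebraMap S R))
  have hτS : τS.comp (ResidueField.map (algebraMap A S)) = ResidueField.map f := by
    ext x
    obtain ⟨a, rfl⟩ := residue_surjective x
    have h1 := RingHom.congr_fun hτ' (residue A a)
    rw [RingHom.comp_apply, ResidueField.map_residue] at h1
    rw [← h1]
    show τ (ResidueField.map (algebraMap S R) (ResidueField.map (algebraMap A S) (residue A a))) = _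
    rw [ResidueField.map_residue, ResidueField.map_residue, ← IsScalarTower.algebraMap_apply]
  obtain ⟨gS, ⟨hgS1, hgS2⟩, hgSu⟩ := hAS.universal T f τS hτS
  refine ⟨gS.comp e.symm.toRingHom, ⟨?_, ?_⟩, ?_⟩
  · ext a
    show gS (e.symm (algebraMap A R a)) = f a
    have h1 : algebraMap A R a = e (algebraMap A S a) := (ψ.commutes a).symm
    rw [h1, e.symm_apply_apply]
    exact RingHom.congr_fun hgS1 a
  · intro x
    obtain ⟨z, rfl⟩ := e.surjective x
    show residue T (gS (e.symm (e z))) = τ (residue R (e z))
    rw [e.symm_apply_apply, hgS2]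
    show τ (ResidueField.map (algebraMap S R) (residue S z)) = _
    rw [ResidueField.map_residue]
    rfl
  · rintro g' ⟨hg1, hg2⟩
    have h1 : g'.comp e.toRingHom = gS := by
      apply hgSu
      refine ⟨?_, ?_⟩
      · ext a
        show g' (e (algebraMap A S a)) = f a
        rw [he, ψ.commutes]
        exact RingHom.congr_fun hg1 a
      · intro z
        show residue T (g' (e z)) = τ (ResidueField.map (algebraMap S R) (residue S z))
        rw [hg2, ResidueField.map_residue]
        rfl
    ext x
    obtain ⟨z, rfl⟩ := e.surjective x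
    show g' (e z) = gS (e.symm (e z))
    rw [e.symm_apply_apply, ← h1]
    rfl

end Groth.Agent.Helper2.Oliv
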