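import Mathlib
import Groth.Agent.Helper2.OlivD
import Groth.Prelude

open TensorProduct Polynomial IsLocalRing AlgebraicGeometry

namespace Groth.Agent.Helper2.Oliv

universe u

open Groth.Agent.Lead.WEField Groth.Agent.Helper3.WEtale Groth.Agent.Helper2.WEInt
open Groth.Agent.Helper1.Hens

/-- (⇐) ring-level. -/
theorem weaklyEtale_of_strict (A B : Type u) [CommRing A] [IsLocalRing A] [CommRing B]
    [IsLocalRing B] [Algebra A B]
    (h : ∀ (R : Type u) [CommRing R] [IsLocalRing R] [Algebra B R]
      [IsLocalHom (algebraMap B R)] [Hensel.IsStrictHenselization B R],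
      letI : Algebra A R := ((algebraMap B R).comp (algebraMap A B)).toAlgebra
      ∃ _ : IsLocalHom (algebraMap A R), Hensel.IsStrictHenselization A R) :
    Algebra.WeaklyEtale A B := by
  let Ω := SeparableClosure (ResidueField B)
  haveI : IsSepClosure (ResidueField B) Ω := inferInstance
  let R := Hens B Ω
  haveI hS : Hensel.IsStrictHenselization B R := isStrictHenselization
  letI : Algebra A R := ((algebraMap B R).comp (algebraMap A B)).toAlgebra
  obtain ⟨hloc, hAR⟩ := h R
  haveI : IsScalarTower A B R := IsScalarTower.of_algebraMap_eq fun a => rfl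
  haveI : Module.FaithfullyFlat B R := faithfullyFlat_of_isStrictHenselization B R
  haveI : Algebra.WeaklyEtale A R :=
    Groth.Agent.Lead.WESpec.weaklyEtale_of_equiv_hens R (equivOfIsStrictHenselization A R)
  exact Groth.Agent.S1996.result A B R

theorem s1467 {X Y : Scheme.{u}} (f : X ⟶ Y) :
    WeaklyEtale f ↔ ∀ (x : X) (R : Type u) [CommRing R] [IsLocalRing R] [Algebra ↑(X.presheaf.stalk x) R]
      [IsLocalHom (algebraMap ↑(X.presheaf.stalk x) R)] [Hensel.IsStrictHenselization ↑(X.presheaf.stalk x) R],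
      letI : Algebra ↑(Y.presheaf.stalk (f x)) R := ((algebraMap ↑(X.presheaf.stalk x) R).comp (f.stalkMap x).hom).toAlgebra
      ∃ _ : IsLocalHom (algebraMap ↑(Y.presheaf.stalk (f x)) R), Hensel.IsStrictHenselization ↑(Y.presheaf.stalk (f x)) R := by
  rw [weaklyEtale_iff_stalkMap]
  constructor
  · intro hf x R _ _ _ _ _
    have h1 := hf x
    rw [WE_iff] at h1
    letI : Algebra (Y.presheaf.stalk (f x)) (X.presheaf.stalk x) := (f.stalkMap x).hom.toAlgebra
    letI : Algebra ↑(Y.presheaf.stalk (f x)) R :=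
      ((algebraMap ↑(X.presheaf.stalk x) R).comp (f.stalkMap x).hom).toAlgebra
    haveI : IsScalarTower (Y.presheaf.stalk (f x)) (X.presheaf.stalk x) R :=
      IsScalarTower.of_algebraMap_eq fun a => rfl
    haveI : IsLocalHom (algebraMap (Y.presheaf.stalk (f x)) (X.presheaf.stalk x)) :=
      inferInstanceAs (IsLocalHom (f.stalkMap x).hom)
    exact strict_of_weaklyEtale (Y.presheaf.stalk (f x)) (X.presheaf.stalk x) R
  · intro h x
    rw [WE_iff]
    letI : Algebra (Y.presheaf.stalk (f x)) (X.presheaf.stalk x) := (f.stalkMap x).hom.toAlgebra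
    exact weaklyEtale_of_strict (Y.presheaf.stalk (f x)) (X.presheaf.stalk x) (fun R _ _ _ _ _ => h x R)

end Groth.Agent.Helper2.Oliv
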