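import Mathlib
import Groth.Prelude
import Groth.Agent.Helper5.GaPts1

set_option autoImplicit false
set_option linter.unusedSectionVars false
set_option linter.style.haveILetI false
universe u

open CategoryTheory CategoryTheory.Limits AlgebraicGeometry Polynomial

noncomputable section

namespace Groth.Agent.Helper2.OmegaCover

attribute [-instance] ULift.module ULift.module' in
section

/-- the cyclotomic-type polynomial `X² + X + 1` over `ULift ℤ` -/
def cpoly : Polynomial (ULift.{u} ℤ) := X ^ 2 + X + 1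

lemma cpoly_monic : (cpoly.{u}).Monic := by
  unfold cpoly
  monicity!

/-- `ℤ[ω]` -/
abbrev Zω : Type u := AdjoinRoot (cpoly.{u})

/-- `ω` -/
def ω0 : Zω.{u} := AdjoinRoot.root cpoly

lemma eval₂_cpoly {B : Type u} [CommRing B] (f : ULift.{u} ℤ →+* B) (r : B) :
    eval₂ f r cpoly.{u} = r ^ 2 + r + 1 := by
  unfold cpoly; simp

lemma ω0_rel : 1 + ω0.{u} + ω0 ^ 2 = 0 := by
  have h := AdjoinRoot.eval₂_root (cpoly.{u})
  rw [eval₂_cpoly] at h
  unfold ω0
  linear_combination h

lemma ω0_unit : IsUnit ω0.{u} := by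
  refine IsUnit.of_mul_eq_one (-(1 + ω0)) ?_
  linear_combination (-1 : Zω.{u}) * ω0_rel

instance : Module.Free (ULift.{u} ℤ) Zω.{u} :=
  Module.Free.of_basis (AdjoinRoot.powerBasis' cpoly_monic).basis

instance : Nontrivial Zω.{u} := by
  have h1 : Module.finrank (ULift.{u} ℤ) Zω.{u} = 2 := by
    rw [(AdjoinRoot.powerBasis' cpoly_monic.{u}).finrank, AdjoinRoot.powerBasis'_dim]
    unfold cpoly; compute_degree!
  exact Module.nontrivial_of_finrank_pos (R := ULift.{u} ℤ) (by rw [h1]; norm_num)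

lemma ff : (algebraMap (ULift.{u} ℤ) Zω.{u}).FaithfullyFlat := by
  rw [RingHom.faithfullyFlat_algebraMap_iff]
  infer_instance

end

/-- `Spec ℤ[ω] ⟶ Spec ℤ` -/
def q : Spec (CommRingCat.of Zω.{u}) ⟶ Spec (CommRingCat.of (ULift.{u} ℤ)) :=
  Spec.map (CommRingCat.ofHom (algebraMap (ULift.{u} ℤ) Zω.{u}))

instance : Flat q.{u} := ((flat_and_surjective_SpecMap_iff _).2 ff).1
instance : Surjective q.{u} := ((flat_and_surjective_SpecMap_iff _).2 ff).2

variable {S : Scheme.{u}} (X : Over S)

/-- the cover `X' = X ×_ℤ Spec ℤ[ω]` -/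
def cov : Over S :=
  Over.mk (pullback.fst (specULiftZIsTerminal.from X.left) q ≫ X.hom)

/-- the projection `X' ⟶ X` -/
def π : cov X ⟶ X := Over.homMk (pullback.fst (specULiftZIsTerminal.from X.left) q) rfl

instance : Flat (π X).left := by
  show Flat (pullback.fst _ _)
  infer_instance

instance : Surjective (π X).left := by
  show Surjective (pullback.fst _ _)
  infer_instance

lemma π_epi {Y : Over S} (a b : X ⟶ Y) (h : π X ≫ a = π X ≫ b) : a = b := by
  haveI : Epi (π X).left := Flat.epi_of_flat_of_surjective _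
  apply Over.OverMorphism.ext
  rw [← cancel_epi (π X).left]
  exact congrArg CommaMorphism.left h

/-- the ring map `ℤ[ω] → Γ(X')` -/
def φX : Zω.{u} →+* Γ((cov X).left, ⊤) :=
  ((pullback.snd (specULiftZIsTerminal.from X.left) q).appTop.hom).comp
    (Scheme.ΓSpecIso (CommRingCat.of Zω.{u})).inv.hom

/-- the function `ω` on `X'` -/
def ωX : Γ((cov X).left, ⊤) := φX X ω0

lemma ωX_rel : 1 + ωX X + ωX X ^ 2 = 0 := by
  have := congrArg (φX X) ω0_rel.{u}
  simpa [ωX] using this

lemma ωX_unit : IsUnit (ωX X) := ω0_unit.map (φX X)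

end Groth.Agent.Helper2.OmegaCover
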