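import Mathlib
import Groth.Prelude.Def_EGA43
open CategoryTheory CategoryTheory.Limits AlgebraicGeometry Topology
universe u

namespace Groth.Agent.Helper2.OpenAt
open EGA43

section Top
variable {α β γ : Type*} [TopologicalSpace α] [TopologicalSpace β] [TopologicalSpace γ]

lemma comp {f : α → β} {g : β → γ} {x : α} (hf : IsOpenAt f x) (hg : IsOpenAt g (f x)) :
    IsOpenAt (g ∘ f) x := by
  intro U hU
  rw [Set.image_comp]
  exact hg _ (hf U hU)

lemma of_comp {f : α → β} {g : β → γ} {x : α} (hf : ContinuousAt f x) (h : IsOpenAt (g ∘ f) x) :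
    IsOpenAt g (f x) := by
  intro V hV
  have h1 := h (f ⁻¹' V) (hf hV)
  refine Filter.mem_of_superset h1 ?_
  rw [Set.image_comp]
  exact Set.image_mono (Set.image_preimage_subset _ _)

lemma of_isOpenMap {f : α → β} (hf : IsOpenMap f) (x : α) : IsOpenAt f x :=
  fun _ hU => hf.image_mem_nhds hU

end Top

section Sch
variable {X Y Z : Scheme.{u}}

lemma comp_sch {f : X ⟶ Y} {g : Y ⟶ Z} {x : X} (hf : IsOpenAt f.base x)
    (hg : IsOpenAt g.base (f.base x)) : IsOpenAt (f ≫ g).base x := by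
  have : ⇑(f ≫ g).base = ⇑g.base ∘ ⇑f.base := by
    ext y; simp
  rw [this]
  exact comp hf hg

lemma of_comp_sch {f : X ⟶ Y} {g : Y ⟶ Z} {x : X} (h : IsOpenAt (f ≫ g).base x) :
    IsOpenAt g.base (f.base x) := by
  have : ⇑(f ≫ g).base = ⇑g.base ∘ ⇑f.base := by
    ext y; simp
  rw [this] at h
  exact of_comp f.continuous.continuousAt h

lemma of_isIso (f : X ⟶ Y) [IsIso f] (x : X) : IsOpenAt f.base x :=
  of_isOpenMap f.isOpenEmbedding.isOpenMap x

/-- Universal openness at a point can be tested on arbitrary pullback squares. -/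
lemma isOpenAt_of_isPullback {f : X ⟶ Y} {x : X} (hf : IsUnivOpenAt f x) {P Y' : Scheme.{u}}
    {fst : P ⟶ X} {snd : P ⟶ Y'} {g : Y' ⟶ Y} (hpb : IsPullback fst snd f g) (p : P)
    (hp : fst.base p = x) : IsOpenAt snd.base p := by
  have e1 : hpb.isoPullback.hom ≫ pullback.fst f g = fst := hpb.isoPullback_hom_fst
  have e2 : hpb.isoPullback.hom ≫ pullback.snd f g = snd := hpb.isoPullback_hom_snd
  rw [← e2]
  apply comp_sch (of_isIso _ p)
  apply hf
  rw [← Scheme.Hom.comp_apply, e1, hp]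

/-- Universal openness at a point is stable under base change. -/
lemma isUnivOpenAt_of_isPullback {f : X ⟶ Y} {x : X} (hf : IsUnivOpenAt f x) {P Y' : Scheme.{u}}
    {fst : P ⟶ X} {snd : P ⟶ Y'} {g : Y' ⟶ Y} (hpb : IsPullback fst snd f g) (p : P)
    (hp : fst.base p = x) : IsUnivOpenAt snd p := by
  intro W h w hw
  have hbig := (IsPullback.of_hasPullback snd h).paste_horiz hpb
  apply isOpenAt_of_isPullback hf hbig w
  rw [Scheme.Hom.comp_apply, hw, hp]

end Sch

end Groth.Agent.Helper2.OpenAt
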