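import Mathlib
import Groth.Agent.Helper2.OpenAt
open CategoryTheory CategoryTheory.Limits AlgebraicGeometry Topology
universe u w

namespace Groth.Agent.Helper2.OpenAt
open EGA43

lemma isOpenAt_snd_snd {X Y Y₁ Y' : Scheme.{u}} (f : X ⟶ Y) (v : Y₁ ⟶ Y) (g : Y' ⟶ Y) (x : X)
    (h : ∀ x₁ : ↥(pullback f v), (pullback.fst f v).base x₁ = x →
      IsUnivOpenAt (pullback.snd f v) x₁)
    (z : ↥(pullback (pullback.snd f g) (pullback.snd v g)))
    (hz : (pullback.fst f g).base ((pullback.fst (pullback.snd f g) (pullback.snd v g)).base z) = x) :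
    IsOpenAt (pullback.snd (pullback.snd f g) (pullback.snd v g)).base z := by
  let a : pullback (pullback.snd f g) (pullback.snd v g) ⟶ pullback f v :=
    pullback.lift (pullback.fst (pullback.snd f g) (pullback.snd v g) ≫ pullback.fst f g)
      (pullback.snd (pullback.snd f g) (pullback.snd v g) ≫ pullback.fst v g) (by
      rw [Category.assoc, Category.assoc, pullback.condition, ← Category.assoc, pullback.condition,
        Category.assoc, pullback.condition (f := v)])
  have ha1 : a ≫ pullback.fst f v =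
      pullback.fst (pullback.snd f g) (pullback.snd v g) ≫ pullback.fst f g :=
    pullback.lift_fst _ _ _
  have ha2 : a ≫ pullback.snd f v =
      pullback.snd (pullback.snd f g) (pullback.snd v g) ≫ pullback.fst v g :=
    pullback.lift_snd _ _ _
  have hbig : IsPullback (a ≫ pullback.fst f v) (pullback.snd (pullback.snd f g) (pullback.snd v g))
      f (pullback.fst v g ≫ v) := by
    rw [ha1, pullback.condition (f := v)]
    exact (IsPullback.of_hasPullback (pullback.snd f g) (pullback.snd v g)).paste_horiz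
      (IsPullback.of_hasPullback f g)
  have hsq : IsPullback a (pullback.snd (pullback.snd f g) (pullback.snd v g)) (pullback.snd f v)
      (pullback.fst v g) :=
    IsPullback.of_right hbig ha2 (IsPullback.of_hasPullback f v)
  have hz1 : (pullback.fst f v).base (a.base z) = x := by
    rw [← Scheme.Hom.comp_apply, ha1, Scheme.Hom.comp_apply, hz]
  exact isOpenAt_of_isPullback (h (a.base z) hz1) hsq z rfl

lemma isOpenAt_of_finite_closed_cover {X Y : Scheme.{u}} (f : X ⟶ Y) (x : X) {ι : Type w}
    [Finite ι] (T : ι → Scheme.{u}) (g : ∀ i, T i ⟶ Y) [∀ i, IsClosedImmersion (g i)]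
    (hcov : ⋃ i, Set.range (g i).base = Set.univ)
    (h : ∀ i, ∀ x' : ↥(pullback f (g i)), (pullback.fst f (g i)).base x' = x →
      IsOpenAt (pullback.snd f (g i)).base x') :
    IsOpenAt f.base x := by
  intro U hU
  obtain ⟨U', hU'U, hU'o, hxU'⟩ := mem_nhds_iff.mp hU
  refine Filter.mem_of_superset ?_ (Set.image_mono hU'U)
  have hV : ∀ i, ∃ V : Set Y, IsOpen V ∧ f.base x ∈ V ∧
      V ∩ Set.range (g i).base ⊆ f.base '' U' := by
    intro i
    by_cases hy : f.base x ∈ Set.range (g i).base
    · obtain ⟨t, ht⟩ := hy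
      obtain ⟨x₁, hx₁1, hx₁2⟩ := Scheme.Pullback.exists_preimage_pullback x t ht.symm
      have := h i x₁ hx₁1 ((pullback.fst f (g i)).base ⁻¹' U')
        ((hU'o.preimage (pullback.fst f (g i)).continuous).mem_nhds (by
          rw [Set.mem_preimage, hx₁1]; exact hxU'))
      rw [Scheme.image_preimage_eq_of_isPullback (IsPullback.of_hasPullback f (g i)) U', hx₁2,
        (g i).isEmbedding.isInducing.nhds_eq_comap, Filter.mem_comap] at this
      obtain ⟨s, hs, hsub⟩ := this
      obtain ⟨V, hVs, hVo, hgV⟩ := mem_nhds_iff.mp hs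
      refine ⟨V, hVo, ht ▸ hgV, ?_⟩
      rintro _ ⟨hyV, t', rfl⟩
      exact hsub (hVs hyV)
    · exact ⟨(Set.range (g i).base)ᶜ, (g i).isClosedEmbedding.isClosed_range.isOpen_compl, hy,
        by rintro y ⟨h1, h2⟩; exact absurd h2 h1⟩
  choose V hVo hyV hVsub using hV
  refine Filter.mem_of_superset ((isOpen_iInter_of_finite hVo).mem_nhds (Set.mem_iInter.mpr hyV)) ?_
  intro y hy
  have : y ∈ ⋃ i, Set.range (g i).base := hcov ▸ Set.mem_univ y
  obtain ⟨i, hi⟩ := Set.mem_iUnion.mp this
  exact hVsub i ⟨Set.mem_iInter.mp hy i, hi⟩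

end Groth.Agent.Helper2.OpenAt
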