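import Mathlib
import Groth.Prelude

set_option autoImplicit false
universe u
open Function PrimeSpectrum

namespace Groth.Agent.Helper2.OpenInt

/-- formal skeleton of the openness argument -/
theorem nhds_of_tower {A A' C D B : Type u} [CommRing A] [CommRing A'] [CommRing C] [CommRing D]
    [CommRing B]
    (iA : A →+* A') (iA' : A' →+* C) (iC : C →+* D) (iB : B →+* D) (φ : A →+* B)
    (hcomm : iC.comp (iA'.comp iA) = iB.comp φ)
    (hclosed : IsClosedMap (comap iA)) (hsurjA : Surjective (comap iA))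
    (hopen : IsOpenMap (comap iA'))
    (hsurjC : Surjective (comap iC)) (hsurjB : Surjective (comap iB))
    (q : PrimeSpectrum B) (b : B) (hb : b ∉ q.asIdeal) (x : C) (hx : iC x = iB b)
    (huniq : ∀ a₁ a₂ : PrimeSpectrum A', comap iA a₁ = comap φ q → comap iA a₂ = comap φ q →
      a₁ = a₂) :
    comap φ '' (basicOpen b : Set (PrimeSpectrum B)) ∈ nhds (comap φ q) := by
  set W' : Set (PrimeSpectrum A') := comap iA' '' (basicOpen x : Set (PrimeSpectrum C)) with hW'
  have hW'open : IsOpen W' := hopen _ (basicOpen x).isOpen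
  set N : Set (PrimeSpectrum A) := (comap iA '' W'ᶜ)ᶜ with hN
  have hNopen : IsOpen N := (hclosed _ hW'open.isClosed_compl).isOpen_compl
  have hcomm' : ∀ P : PrimeSpectrum D, comap iA (comap iA' (comap iC P)) = comap φ (comap iB P) := by
    intro P
    rw [← comap_comp_apply, ← comap_comp_apply, ← comap_comp_apply, hcomm]
  have hpN : comap φ q ∈ N := by
    rintro ⟨a', ha', ha'p⟩
    obtain ⟨Q', hQ'⟩ := hsurjB q
    have hxQ' : comap iC Q' ∈ (basicOpen x : Set (PrimeSpectrum C)) := by
      change x ∉ (comap iC Q').asIdeal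
      rw [comap_asIdeal, Ideal.mem_comap, hx]
      intro hmem
      apply hb
      rw [← hQ']
      exact hmem
    have h2 : comap iA (comap iA' (comap iC Q')) = comap φ q := by rw [hcomm', hQ']
    have h3 := huniq a' _ ha'p h2
    apply ha'
    rw [h3]
    exact ⟨_, hxQ', rfl⟩
  refine Filter.mem_of_superset (hNopen.mem_nhds hpN) ?_
  intro a ha
  obtain ⟨a', rfl⟩ := hsurjA a
  have ha'W : a' ∈ W' := by
    by_contra hcon
    exact ha ⟨a', hcon, rfl⟩
  obtain ⟨P, hP, rfl⟩ := ha'W
  obtain ⟨P', rfl⟩ := hsurjC P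
  refine ⟨comap iB P', ?_, (hcomm' P').symm⟩
  change b ∉ (comap iB P').asIdeal
  rw [comap_asIdeal, Ideal.mem_comap, ← hx]
  exact hP

end Groth.Agent.Helper2.OpenInt
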