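import Mathlib
import Groth.Prelude
import Groth.Agent.Helper2.OpenInt1

set_option autoImplicit false
universe u
open Function PrimeSpectrum

namespace Groth.Agent.Helper2.OpenInt

/-- lying over for integral injective ring maps, spectrum form -/
theorem comap_surjective_of_integral {R S : Type u} [CommRing R] [CommRing S] (f : R →+* S)
    (hf : f.IsIntegral) (hinj : Injective f) : Surjective (comap f) := by
  intro P
  letI : Algebra R S := f.toAlgebra
  haveI : Algebra.IsIntegral R S := ⟨hf⟩
  obtain ⟨Q, -, hQ, hQP⟩ := Ideal.exists_ideal_over_prime_of_isIntegral P.asIdeal (⊥ : Ideal S)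
    (by
      rw [← RingHom.ker_eq_comap_bot]
      have : RingHom.ker (algebraMap R S) = ⊥ := (RingHom.injective_iff_ker_eq_bot _).1 hinj
      rw [this]; exact bot_le)
  exact ⟨⟨Q, hQ⟩, PrimeSpectrum.ext hQP⟩

theorem isIntegralElem_of_injective {A R S L : Type u} [CommRing A] [CommRing R] [CommRing S]
    [CommRing L] [Algebra A L] (g : R →+* S) (ι : S →+* L) (hι : Injective ι) (j : A →+* R)
    (hj : ι.comp (g.comp j) = algebraMap A L) (d : S) (hd : IsIntegral A (ι d)) :
    g.IsIntegralElem d := by
  obtain ⟨p, hp, hpe⟩ := hd
  refine ⟨p.map j, hp.map j, ?_⟩
  apply hι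
  rw [map_zero, Polynomial.eval₂_map, Polynomial.hom_eval₂, hj]
  exact hpe

theorem core (A B K L : Type u) [CommRing A] [IsDomain A] [CommRing B] [IsDomain B] [Algebra A B]
    [Algebra.IsIntegral A B] [Field K] [Field L] [Algebra A K] [IsFractionRing A K]
    [Algebra B L] (hBL : Injective (algebraMap B L))
    [Algebra K L] [Algebra A L] [IsScalarTower A K L] [IsScalarTower A B L]
    (q : PrimeSpectrum B)
    (huniq : ∀ a₁ a₂ : PrimeSpectrum (integralClosure A K),
      comap (algebraMap A (integralClosure A K)) a₁ = comap (algebraMap A B) q →
      comap (algebraMap A (integralClosure A K)) a₂ = comap (algebraMap A B) q → a₁ = a₂)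
    (b : B) (hb : b ∉ q.asIdeal) :
    comap (algebraMap A B) '' (basicOpen b : Set (PrimeSpectrum B)) ∈
      nhds (comap (algebraMap A B) q) := by
  classical
  haveI hic : IsIntegrallyClosed (integralClosure A K) :=
    integralClosure.isIntegrallyClosedOfFiniteExtension (R := A) K (L := K)
  -- the element
  set x : L := algebraMap B L b with hxdef
  have hxA : IsIntegral A x := (Algebra.IsIntegral.isIntegral b).map (IsScalarTower.toAlgHom A B L)
  have hx : IsIntegral (integralClosure A K) x := hxA.tower_top
  haveI : Module.IsTorsionFree (integralClosure A K) L := by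
    rw [Module.isTorsionFree_iff_algebraMap_injective]
    intro a a' h
    exact Subtype.ext ((algebraMap K L).injective h)
  let pb := Algebra.adjoin.powerBasis' hx
  let C : Subalgebra (integralClosure A K) L := Algebra.adjoin (integralClosure A K) {x}
  haveI : Module.Finite (integralClosure A K) C := pb.finite
  haveI : Module.Free (integralClosure A K) C := Module.Free.of_basis pb.basis
  haveI : Module.FinitePresentation (integralClosure A K) C :=
    Module.finitePresentation_of_projective _ _
  haveI : Algebra.FinitePresentation (integralClosure A K) C :=
    Algebra.FinitePresentation.of_finitePresentation _ _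
  have hopen : IsOpenMap (comap (algebraMap (integralClosure A K) C)) :=
    PrimeSpectrum.isOpenMap_comap_of_hasGoingDown_of_finitePresentation
  -- integrality of elements of `C` over `A`
  have hCint : ∀ c : C, IsIntegral A (c : L) := by
    intro c
    have h1 : IsIntegral (integralClosure A K) c := Algebra.IsIntegral.isIntegral c
    have h2 : IsIntegral (integralClosure A K) (c : L) := h1.map C.val
    exact isIntegral_trans (R := A) (A := integralClosure A K) _ h2
  let D : Subalgebra A L := integralClosure A L
  let iC : C →+* D :=
    { toFun := fun c => ⟨(c : L), hCint c⟩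
      map_one' := rfl
      map_mul' := fun _ _ => rfl
      map_zero' := rfl
      map_add' := fun _ _ => rfl }
  let iB : B →+* D :=
    { toFun := fun b' => ⟨algebraMap B L b',
        (Algebra.IsIntegral.isIntegral b').map (IsScalarTower.toAlgHom A B L)⟩
      map_one' := Subtype.ext (map_one _)
      map_mul' := fun _ _ => Subtype.ext (map_mul _ _ _)
      map_zero' := Subtype.ext (map_zero _)
      map_add' := fun _ _ => Subtype.ext (map_add _ _ _) }
  have hcomm : iC.comp ((algebraMap (integralClosure A K) C).comp
      (algebraMap A (integralClosure A K))) = iB.comp (algebraMap A B) := by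
    ext a
    change algebraMap K L (algebraMap A K a) = algebraMap B L (algebraMap A B a)
    rw [← IsScalarTower.algebraMap_apply, ← IsScalarTower.algebraMap_apply]
  have hclosed : IsClosedMap (comap (algebraMap A (integralClosure A K))) :=
    PrimeSpectrum.isClosedMap_comap_of_isIntegral _ (algebraMap_isIntegral_iff.2 inferInstance)
  have hsurjA : Surjective (comap (algebraMap A (integralClosure A K))) :=
    comap_surjective_of_integral _ (algebraMap_isIntegral_iff.2 inferInstance)
      (by
        intro a a' h
        have := congrArg Subtype.val h
        exact IsFractionRing.injective A K this)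
  have hintC : iC.IsIntegral := by
    intro d
    refine isIntegralElem_of_injective (A := A) iC D.val.toRingHom Subtype.val_injective
      ((algebraMap (integralClosure A K) C).comp (algebraMap A (integralClosure A K))) ?_ d d.2
    ext a
    change algebraMap K L (algebraMap A K a) = algebraMap A L a
    rw [← IsScalarTower.algebraMap_apply]
  have hintB : iB.IsIntegral := by
    intro d
    refine isIntegralElem_of_injective (A := A) iB D.val.toRingHom Subtype.val_injective
      (algebraMap A B) ?_ d d.2
    ext a
    change algebraMap B L (algebraMap A B a) = algebraMap A L a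
    rw [← IsScalarTower.algebraMap_apply]
  have hsurjC : Surjective (comap iC) :=
    comap_surjective_of_integral iC hintC (fun c c' h => by
      have h1 : ((iC c : D) : L) = ((iC c' : D) : L) := congrArg Subtype.val h
      exact Subtype.ext h1)
  have hsurjB : Surjective (comap iB) :=
    comap_surjective_of_integral iB hintB
      (fun b₁ b₂ h => by
        have h1 : ((iB b₁ : D) : L) = ((iB b₂ : D) : L) := congrArg Subtype.val h
        exact hBL h1)
  exact nhds_of_tower (algebraMap A (integralClosure A K))
    (algebraMap (integralClosure A K) C) iC iB (algebraMap A B) hcomm hclosed hsurjA hopen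
    hsurjC hsurjB q b hb ⟨x, Algebra.subset_adjoin (Set.mem_singleton x)⟩ rfl huniq

end Groth.Agent.Helper2.OpenInt
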