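import Mathlib
import Groth.Prelude
import Groth.Agent.Helper2.OpenInt2

set_option autoImplicit false
universe u
open Function PrimeSpectrum IsLocalRing

namespace Groth.Agent.Helper2.OpenInt

/-- unibranch localization ⇒ the integral closure of the reduction has a single prime over `p` -/
theorem unique_prime_over {R A : Type u} [CommRing R] [CommRing A] [IsDomain A] (π : R →+* A)
    (hπ : Surjective π) (hker : RingHom.ker π = nilradical R) (p : Ideal R) [p.IsPrime]
    (hU : CAlg2.IsUnibranch (Localization.AtPrime p)) :
    ∃ (K : Type u) (_ : Field K) (_ : Algebra A K) (_ : IsFractionRing A K),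
      ∀ a₁ a₂ : PrimeSpectrum (integralClosure A K),
        (comap (algebraMap A (integralClosure A K)) a₁).asIdeal.comap π = p →
        (comap (algebraMap A (integralClosure A K)) a₂).asIdeal.comap π = p → a₁ = a₂ := by
  classical
  haveI hdom : IsDomain (CAlg2.red (Localization.AtPrime p)) := hU.1
  set Rp := Localization.AtPrime p with hRp
  set S₀ := CAlg2.red Rp with hS₀
  set F := FractionRing S₀ with hF
  let M : Submonoid R := p.primeCompl
  let g₀ : R →+* S₀ := (Ideal.Quotient.mk (nilradical Rp)).comp (algebraMap R Rp)
  have hg₀ : RingHom.ker π ≤ RingHom.ker g₀ := by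
    intro r hr
    rw [hker] at hr
    rw [RingHom.mem_ker]
    change Ideal.Quotient.mk (nilradical Rp) (algebraMap R Rp r) = 0
    rw [Ideal.Quotient.eq_zero_iff_mem, mem_nilradical]
    exact (mem_nilradical.1 hr).map _
  let ψ : A →+* S₀ := π.liftOfSurjective hπ ⟨g₀, hg₀⟩
  have hψπ : ∀ r, ψ (π r) = g₀ r := fun r => RingHom.liftOfSurjective_comp_apply π hπ ⟨g₀, hg₀⟩ r
  letI : Algebra A S₀ := ψ.toAlgebra
  have halg : ∀ r, algebraMap A S₀ (π r) = g₀ r := hψπ
  haveI hloc : IsLocalization (M.map π) S₀ := by
    refine IsLocalization.of_surjective M Rp π hπ (Ideal.Quotient.mk (nilradical Rp))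
      Ideal.Quotient.mk_surjective ?_ ?_
    · ext r
      exact (halg r).symm
    · rw [Ideal.mk_ker, hker]
      intro y hy
      obtain ⟨r, s, rfl⟩ := IsLocalization.exists_mk'_eq M y
      rw [IsLocalization.mk'_mem_map_algebraMap_iff]
      obtain ⟨n, hn⟩ := mem_nilradical.1 hy
      rw [← IsLocalization.mk'_pow, IsLocalization.mk'_eq_zero_iff] at hn
      obtain ⟨t, ht⟩ := hn
      refine ⟨t, t.2, ?_⟩
      rw [mem_nilradical]
      refine ⟨n + 1, ?_⟩
      have : ((t : R) * r) ^ (n + 1) = (t : R) ^ n * r * ((t : R) * r ^ n) := by ring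
      rw [this, ht, mul_zero]
  have hM' : M.map π ≤ nonZeroDivisors A := by
    rintro _ ⟨s, hs, rfl⟩
    apply mem_nonZeroDivisors_of_ne_zero
    intro h0
    have h1 : s ∈ RingHom.ker π := h0
    rw [hker] at h1
    exact hs (nilradical_le_prime p h1)
  have hψinj : Injective (algebraMap A S₀) := IsLocalization.injective S₀ hM'
  haveI : IsScalarTower A S₀ F := inferInstance
  haveI hfrac : IsFractionRing A F := by
    have h1 := IsLocalization.localization_localization_isLocalization_of_has_all_units (M.map π)
      (nonZeroDivisors S₀) F (fun x hx => hx.mem_nonZeroDivisors)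
    have h2 : (nonZeroDivisors S₀).comap (algebraMap A S₀) = nonZeroDivisors A := by
      ext a
      rw [Submonoid.mem_comap, mem_nonZeroDivisors_iff_ne_zero, mem_nonZeroDivisors_iff_ne_zero]
      exact map_ne_zero_iff _ hψinj
    rw [h2] at h1
    exact h1
  refine ⟨F, inferInstance, inferInstance, hfrac, ?_⟩
  haveI hNloc : IsLocalRing (integralClosure S₀ F) := hU.2
  haveI hS₀loc : IsLocalRing S₀ :=
    IsLocalRing.of_surjective' (Ideal.Quotient.mk (nilradical Rp)) Ideal.Quotient.mk_surjective
  let ι : integralClosure A F →+* integralClosure S₀ F :=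
    { toFun := fun y => ⟨(y : F), y.2.tower_top⟩
      map_one' := rfl
      map_mul' := fun _ _ => rfl
      map_zero' := rfl
      map_add' := fun _ _ => rfl }
  set Q : Ideal (integralClosure A F) := (maximalIdeal (integralClosure S₀ F)).comap ι with hQ
  haveI : Q.IsPrime := Ideal.comap_isPrime _ _
  have hQc : (Q.comap (algebraMap A (integralClosure A F))).comap π = p := by
    have h1 : (maximalIdeal (integralClosure S₀ F)).comap (algebraMap S₀ (integralClosure S₀ F)) =
        maximalIdeal S₀ := by
      have := Ideal.isMaximal_comap_of_isIntegral_of_isMaximal (R := S₀)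
        (maximalIdeal (integralClosure S₀ F))
      exact IsLocalRing.eq_maximalIdeal this
    have h2 : (maximalIdeal S₀).comap (Ideal.Quotient.mk (nilradical Rp)) = maximalIdeal Rp := by
      have := Ideal.comap_isMaximal_of_surjective (Ideal.Quotient.mk (nilradical Rp))
        Ideal.Quotient.mk_surjective (K := maximalIdeal S₀)
      exact IsLocalRing.eq_maximalIdeal this
    have h3 : (maximalIdeal Rp).comap (algebraMap R Rp) = p :=
      IsLocalization.AtPrime.comap_maximalIdeal Rp p
    refine Eq.trans ?_ h3
    rw [← h2, ← h1]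
    ext r
    simp only [Ideal.mem_comap, hQ]
    have e1 : ι (algebraMap A (integralClosure A F) (π r)) =
        algebraMap S₀ (integralClosure S₀ F) (Ideal.Quotient.mk (nilradical Rp)
          (algebraMap R Rp r)) := by
      apply Subtype.ext
      change algebraMap A F (π r) = algebraMap S₀ F _
      rw [IsScalarTower.algebraMap_apply A S₀ F, halg]
      rfl
    rw [e1]
  have key : ∀ a : PrimeSpectrum (integralClosure A F),
      (comap (algebraMap A (integralClosure A F)) a).asIdeal.comap π = p → a.asIdeal = Q := by
    intro a ha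
    have hle : a.asIdeal ≤ Q := by
      intro y hy
      by_contra hyQ
      have hu : IsUnit (ι y) := by
        by_contra hnu
        exact hyQ ((IsLocalRing.mem_maximalIdeal _).2 hnu)
      obtain ⟨z, hz⟩ := hu.exists_right_inv
      obtain ⟨m, hm⟩ :=
        IsIntegral.exists_multiple_integral_of_isLocalization (M.map π) (z : F) z.2
      obtain ⟨m, s, hs, rfl⟩ := m
      let w : integralClosure A F := ⟨π s • (z : F), hm⟩
      have hyw : y * w = algebraMap A (integralClosure A F) (π s) := by
        apply Subtype.ext
        change (y : F) * (π s • (z : F)) = algebraMap A F (π s)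
        have hz' : (y : F) * (z : F) = 1 := congrArg Subtype.val hz
        rw [mul_smul_comm, hz', Algebra.smul_def, mul_one]
      have h1 : algebraMap A (integralClosure A F) (π s) ∈ a.asIdeal := by
        rw [← hyw]
        exact Ideal.mul_mem_right _ _ hy
      have h2 : s ∈ (comap (algebraMap A (integralClosure A F)) a).asIdeal.comap π := h1
      rw [ha] at h2
      exact hs h2
    by_contra hne
    have hlt : a.asIdeal < Q := lt_of_le_of_ne hle hne
    have h3 := Ideal.IsIntegral.comap_lt_comap (R := A) hlt
    have h4 : (a.asIdeal.comap (algebraMap A (integralClosure A F))).comap π =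
        (Q.comap (algebraMap A (integralClosure A F))).comap π := by
      rw [hQc]; exact ha
    exact h3.ne (Ideal.comap_injective_of_surjective π hπ h4)
  intro a₁ a₂ h₁ h₂
  exact PrimeSpectrum.ext ((key a₁ h₁).trans (key a₂ h₂).symm)

end Groth.Agent.Helper2.OpenInt
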