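import Mathlib
import Groth.Prelude
import Groth.Agent.Helper2.OpenInt3

set_option autoImplicit false
universe u
open Function PrimeSpectrum IsLocalRing

namespace Groth.Agent.Helper2.OpenInt

theorem isOpenAt_of_unibranch {R A B : Type u} [CommRing R] [CommRing A] [IsDomain A]
    [CommRing B] [IsDomain B] [Algebra A B] (hinj : Injective (algebraMap A B))
    [Algebra.IsIntegral A B] (π : R →+* A) (hπ : Surjective π)
    (hker : RingHom.ker π = nilradical R) (q : PrimeSpectrum B) (p : Ideal R) [p.IsPrime]
    (hp : (q.asIdeal.comap (algebraMap A B)).comap π = p)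
    (hU : CAlg2.IsUnibranch (Localization.AtPrime p)) :
    EGA43.IsOpenAt (comap (algebraMap A B)) q := by
  obtain ⟨K, iK1, iK2, iK3, huniq⟩ := unique_prime_over π hπ hker p hU
  letI := iK1
  letI := iK2
  haveI := iK3
  let L := FractionRing B
  have hAL : Injective (algebraMap A L) := by
    rw [IsScalarTower.algebraMap_eq A B L]
    exact (IsFractionRing.injective B L).comp hinj
  letI : Algebra K L := (IsFractionRing.lift hAL).toAlgebra
  haveI : IsScalarTower A K L := IsScalarTower.of_algebraMap_eq
    (fun a => (IsFractionRing.lift_algebraMap hAL a).symm)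
  intro U hU'
  obtain ⟨_, ⟨b, rfl⟩, hqb, hbU⟩ :=
    PrimeSpectrum.isTopologicalBasis_basic_opens.exists_subset_of_mem_open
      (mem_interior_iff_mem_nhds.mpr hU') isOpen_interior
  have h1 := core A B K L (IsFractionRing.injective B L) q (fun a₁ a₂ h₁ h₂ => by
    refine huniq a₁ a₂ ?_ ?_
    · rw [h₁]; exact hp
    · rw [h₂]; exact hp) b hqb
  refine Filter.mem_of_superset h1 ?_
  exact Set.image_mono (hbU.trans interior_subset)

/-- part (i) of S5383 -/
theorem part1 (A B : Type u) [CommRing A] [IsDomain A] [CommRing B] [IsDomain B] [Algebra A B]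
    (hinj : Injective (algebraMap A B)) (hint : Algebra.IsIntegral A B) (q : PrimeSpectrum B)
    (hU : CAlg2.IsUnibranch (Localization.AtPrime (q.asIdeal.comap (algebraMap A B)))) :
    EGA43.IsOpenAt (PrimeSpectrum.comap (algebraMap A B)) q := by
  refine isOpenAt_of_unibranch hinj (RingHom.id A) (fun a => ⟨a, rfl⟩) ?_ q
    (q.asIdeal.comap (algebraMap A B)) (Ideal.comap_id _) hU
  rw [nilradical_eq_zero]
  ext a
  simp [RingHom.mem_ker]

end Groth.Agent.Helper2.OpenInt
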