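import Mathlib
import Groth.Prelude
import Groth.Agent.Helper2.OpenInt4
import Groth.Agent.Helper2.OpenAt

set_option autoImplicit false
universe u
open Function PrimeSpectrum IsLocalRing

namespace Groth.Agent.Helper2.OpenInt

open Groth.Agent.Helper2

/-- a ring map which becomes bijective after inverting `r` is open at primes not containing `r` -/
theorem isOpenAt_of_awayMap_bijective {S' S : Type u} [CommRing S'] [CommRing S] (f : S' →+* S)
    (r : S') (hbij : Bijective (Localization.awayMap f r)) (q : PrimeSpectrum S)
    (hq : f r ∉ q.asIdeal) : EGA43.IsOpenAt (comap f) q := by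
  have he₁ := PrimeSpectrum.localization_away_isOpenEmbedding (Localization.Away (f r)) (f r)
  have he₂ := PrimeSpectrum.localization_away_isOpenEmbedding (Localization.Away r) r
  have hrange := PrimeSpectrum.localization_away_comap_range (Localization.Away (f r)) (f r)
  have hqr : q ∈ Set.range (comap (algebraMap S (Localization.Away (f r)))) := by
    rw [hrange]; exact hq
  obtain ⟨q₁, rfl⟩ := hqr
  refine OpenAt.of_comp he₁.continuous.continuousAt ?_
  have hcomp : comap f ∘ comap (algebraMap S (Localization.Away (f r))) =
      comap (algebraMap S' (Localization.Away r)) ∘ comap (Localization.awayMap f r) := by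
    funext P
    simp only [Function.comp_apply]
    rw [← comap_comp_apply, ← comap_comp_apply]
    congr 1
    exact (IsLocalization.map_comp _).symm
  rw [hcomp]
  exact OpenAt.of_isOpenMap
    (he₂.isOpenMap.comp (isHomeomorph_comap_of_bijective hbij).isOpenMap) q₁

/-- quotient maps of integral maps are integral -/
theorem isIntegral_quotientMap {R S : Type u} [CommRing R] [CommRing S] (f : R →+* S)
    (hf : f.IsIntegral) (I : Ideal R) (J : Ideal S) (h : I ≤ J.comap f) :
    (Ideal.quotientMap J f h).IsIntegral := by
  intro y
  obtain ⟨s, rfl⟩ := Ideal.Quotient.mk_surjective y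
  obtain ⟨p, hp, hpe⟩ := hf s
  refine ⟨p.map (Ideal.Quotient.mk I), hp.map _, ?_⟩
  rw [Polynomial.eval₂_map]
  have : (Ideal.quotientMap J f h).comp (Ideal.Quotient.mk I) = (Ideal.Quotient.mk J).comp f := by
    ext a; simp
  rw [this, ← Polynomial.hom_eval₂, hpe, map_zero]

/-- the algebraic form of part (ii) -/
theorem part2_alg {R S : Type u} [CommRing R] [CommRing S] [Algebra R S] [Algebra.FiniteType R S]
    (hR : (nilradical R).IsPrime) (hS : (nilradical S).IsPrime)
    (hdom : RingHom.ker (algebraMap R S) ≤ nilradical R)
    (q : PrimeSpectrum S) [Algebra.QuasiFiniteAt R q.asIdeal]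
    (hU : CAlg2.IsUnibranch (Localization.AtPrime (q.asIdeal.comap (algebraMap R S)))) :
    EGA43.IsOpenAt (comap (algebraMap R S)) q := by
  classical
  obtain ⟨S', hS'fg, r, hrq, hbij⟩ :=
    Algebra.QuasiFiniteAt.exists_fg_and_exists_notMem_and_awayMap_bijective (R := R) q.asIdeal
  haveI : Module.Finite R S' := ⟨(Submodule.fg_top _).mpr hS'fg⟩
  -- step 6 : `Spec S → Spec S'` is open at `q`
  have h6 : EGA43.IsOpenAt (comap S'.val.toRingHom) q :=
    isOpenAt_of_awayMap_bijective S'.val.toRingHom r hbij q hrq
  -- the reductions
  have hnilS' : nilradical S' = (nilradical S).comap S'.val.toRingHom := by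
    ext y
    simp only [mem_nilradical, Ideal.mem_comap]
    constructor
    · intro h; exact h.map _
    · rintro ⟨n, hn⟩
      refine ⟨n, Subtype.ext ?_⟩
      simpa using hn
  haveI hS'prime : (nilradical S').IsPrime := by
    rw [hnilS']; exact Ideal.comap_isPrime _ _
  haveI := hR
  have hle : nilradical R ≤ (nilradical S').comap (algebraMap R S') := by
    intro a ha
    rw [Ideal.mem_comap, mem_nilradical]
    exact (mem_nilradical.1 ha).map _
  have hge : (nilradical S').comap (algebraMap R S') ≤ nilradical R := by
    intro a ha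
    rw [Ideal.mem_comap, mem_nilradical] at ha
    obtain ⟨n, hn⟩ := ha
    have h1 : algebraMap R S (a ^ n) = 0 := by
      have := congrArg Subtype.val hn
      simpa using this
    have h2 : a ^ n ∈ nilradical R := hdom h1
    rw [mem_nilradical] at h2 ⊢
    obtain ⟨m, hm⟩ := h2
    exact ⟨n * m, by rw [pow_mul, hm]⟩
  let A := R ⧸ nilradical R
  let B := S' ⧸ nilradical S'
  letI : Algebra A B := (Ideal.quotientMap (nilradical S') (algebraMap R S') hle).toAlgebra
  have hinj : Injective (algebraMap A B) := Ideal.quotientMap_injective' hge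
  haveI : Algebra.IsIntegral A B := by
    have : (algebraMap R S').IsIntegral := algebraMap_isIntegral_iff.2 inferInstance
    exact ⟨isIntegral_quotientMap (algebraMap R S') this _ _ hle⟩
  -- the prime of `B`
  let q' : PrimeSpectrum S' := comap S'.val.toRingHom q
  have hq'nil : nilradical S' ≤ q'.asIdeal := nilradical_le_prime _
  let πS : S' →+* B := Ideal.Quotient.mk (nilradical S')
  have hπS : Surjective πS := Ideal.Quotient.mk_surjective
  haveI : (q'.asIdeal.map πS).IsPrime :=
    Ideal.map_isPrime_of_surjective hπS (by rw [Ideal.mk_ker]; exact hq'nil)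
  let qB : PrimeSpectrum B := ⟨q'.asIdeal.map πS, inferInstance⟩
  have hqB : comap πS qB = q' := by
    apply PrimeSpectrum.ext
    change (q'.asIdeal.map πS).comap πS = q'.asIdeal
    rw [Ideal.comap_map_of_surjective πS hπS, ← RingHom.ker_eq_comap_bot, Ideal.mk_ker]
    exact sup_eq_left.mpr hq'nil
  let πR : R →+* A := Ideal.Quotient.mk (nilradical R)
  have hsq : (algebraMap A B).comp πR = πS.comp (algebraMap R S') := by
    ext a; rfl
  have hp : (qB.asIdeal.comap (algebraMap A B)).comap πR = q.asIdeal.comap (algebraMap R S) := by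
    rw [Ideal.comap_comap, hsq, ← Ideal.comap_comap]
    have : qB.asIdeal.comap πS = q'.asIdeal := congrArg PrimeSpectrum.asIdeal hqB
    rw [this]
    rfl
  have h4 : EGA43.IsOpenAt (comap (algebraMap A B)) qB :=
    isOpenAt_of_unibranch hinj πR Ideal.Quotient.mk_surjective Ideal.mk_ker qB
      (q.asIdeal.comap (algebraMap R S)) hp hU
  -- step 5 : transfer to `Spec S' → Spec R`
  have hopenR : IsOpenMap (comap πR) := by
    have hemb := PrimeSpectrum.isClosedEmbedding_comap_of_surjective A πR
      Ideal.Quotient.mk_surjective
    have hsurj : Surjective (comap πR) :=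
      (PrimeSpectrum.comap_quotientMk_bijective_of_le_nilradical le_rfl).2
    have : Topology.IsOpenEmbedding (comap πR) :=
      ⟨hemb.toIsEmbedding, by rw [hsurj.range_eq]; exact isOpen_univ⟩
    exact this.isOpenMap
  have h5 : EGA43.IsOpenAt (comap (algebraMap R S')) q' := by
    rw [← hqB]
    refine OpenAt.of_comp (continuous_comap πS).continuousAt ?_
    have hcomp : comap (algebraMap R S') ∘ comap πS = comap πR ∘ comap (algebraMap A B) := by
      funext P
      simp only [Function.comp_apply]
      rw [← comap_comp_apply, ← comap_comp_apply, hsq]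
    rw [hcomp]
    exact OpenAt.comp h4 (OpenAt.of_isOpenMap hopenR _)
  -- compose
  have hfinal : comap (algebraMap R S) = comap (algebraMap R S') ∘ comap S'.val.toRingHom := by
    funext P
    simp only [Function.comp_apply]
    rw [← comap_comp_apply]
    rfl
  rw [hfinal]
  exact OpenAt.comp h6 h5

end Groth.Agent.Helper2.OpenInt
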