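import Mathlib
import Groth.Prelude
import Groth.Agent.Helper2.SmGU2
import Groth.Agent.Helper2.HensQFin
set_option autoImplicit false
universe u
open IsLocalRing TensorProduct

namespace Groth.Agent.Helper2.SmGU3

/-- a strictly henselian local domain is geometrically unibranch. -/
theorem geomUnibranch_of_strictlyHenselian_domain (R : Type u) [CommRing R] [IsDomain R]
    [HenselianLocalRing R] [IsSepClosed (IsLocalRing.ResidueField R)] :
    CAlg2.IsGeomUnibranch R := by
  haveI : IsLocalHom (algebraMap R R) := ⟨fun a ha => ha⟩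
  haveI := Groth.Agent.Helper2.HensQFin.isStrictHenselization_self R
  exact ((Groth.Agent.Helper2.Unibr6.s2750 R R).2 inferInstance).2

theorem s13199 (R R' : Type u) [CommRing R] [IsDomain R] [HenselianLocalRing R]
    [IsSepClosed (IsLocalRing.ResidueField R)]
    [CommRing R'] [Algebra R R'] [Algebra.Smooth R R']
    (p : Ideal R') [p.IsPrime] (hp : (IsLocalRing.maximalIdeal R).map (algebraMap R R') ≤ p) :
    IsDomain (Localization.AtPrime p) ∧ CAlg2.IsGeomUnibranch (Localization.AtPrime p) := by
  obtain ⟨h1, h2⟩ := Groth.Agent.Helper2.SmGU2.main R R' p hp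
    (geomUnibranch_of_strictlyHenselian_domain R)
  exact ⟨h2 inferInstance, h1⟩

end Groth.Agent.Helper2.SmGU3
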