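import Mathlib
import Groth.Prelude
import Groth.Agent.Helper2.SmGU3
import Groth.Agent.Helper2.SmGU4
import Groth.Agent.Helper2.HensIntS
import Groth.Agent.Helper2.HensInt
import Groth.Agent.Helper5.GuBir3
set_option autoImplicit false
universe u
open IsLocalRing TensorProduct

/-! S17730: a prime element of a strictly henselian local ring stays prime in the strict
henselization of a smooth algebra. -/

namespace Groth.Agent.Helper2.SmGU5

open Groth.Agent.Helper1.Hens

section Quot

variable (L : Type u) [CommRing L] [IsLocalRing L] (J : Ideal L)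

theorem nontrivial_quot (hJ : J ≤ maximalIdeal L) : Nontrivial (L ⧸ J) := by
  rw [Ideal.Quotient.nontrivial_iff]
  rintro rfl
  exact (maximalIdeal.isMaximal L).ne_top (top_le_iff.1 hJ)

variable [Nontrivial (L ⧸ J)]

instance : IsLocalRing (L ⧸ J) :=
  IsLocalRing.of_surjective' (Ideal.Quotient.mk J) Ideal.Quotient.mk_surjective

instance : IsLocalHom (algebraMap L (L ⧸ J)) :=
  IsLocalHom.of_surjective _ Ideal.Quotient.mk_surjective

instance : Algebra.IsIntegral L (L ⧸ J) :=
  Algebra.isIntegral_of_surjective Ideal.Quotient.mk_surjective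

instance : IsPurelyInseparable (ResidueField L) (ResidueField (L ⧸ J)) := by
  rw [isPurelyInseparable_iff_pow_mem (ResidueField L) (ringExpChar (ResidueField L))]
  intro x
  refine ⟨0, ?_⟩
  obtain ⟨c, rfl⟩ := residue_surjective x
  obtain ⟨a, rfl⟩ := Ideal.Quotient.mk_surjective c
  exact ⟨residue L a, by simp⟩

theorem isSepClosed_quot [IsSepClosed (ResidueField L)] : IsSepClosed (ResidueField (L ⧸ J)) := by
  let f : ResidueField L →+* ResidueField (L ⧸ J) := algebraMap _ _
  have hsurj : Function.Surjective f := by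
    intro x
    obtain ⟨c, rfl⟩ := residue_surjective x
    obtain ⟨a, rfl⟩ := Ideal.Quotient.mk_surjective c
    exact ⟨residue L a, rfl⟩
  exact isSepClosed_of_ringEquiv (RingEquiv.ofBijective f ⟨f.injective, hsurj⟩)

end Quot

section Main

variable (R R' T : Type u) [CommRing R] [HenselianLocalRing R] [IsSepClosed (ResidueField R)]
  [CommRing R'] [Algebra R R'] [Algebra.Smooth R R'] (q : Ideal R') [q.IsPrime]
  [CommRing T] [IsLocalRing T] [Algebra (Localization.AtPrime q) T]
  [IsLocalHom (algebraMap (Localization.AtPrime q) T)]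
  [Hensel.IsStrictHenselization (Localization.AtPrime q) T]

/-- the quotient of the localization by the image of a prime element is a geometrically unibranch
domain. -/
theorem quot_domGU (hq : (maximalIdeal R).map (algebraMap R R') ≤ q) (Δ : R) (hΔ : Prime Δ)
    [Nontrivial (Localization.AtPrime q ⧸
      (Ideal.span {Δ}).map (algebraMap R (Localization.AtPrime q)))] :
    IsDomain (Localization.AtPrime q ⧸
      (Ideal.span {Δ}).map (algebraMap R (Localization.AtPrime q))) ∧
    CAlg2.IsGeomUnibranch (Localization.AtPrime q ⧸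
      (Ideal.span {Δ}).map (algebraMap R (Localization.AtPrime q))) := by
  set I : Ideal R := Ideal.span {Δ} with hI
  haveI hIp : I.IsPrime := (Ideal.span_singleton_prime hΔ.ne_zero).2 hΔ
  haveI : IsDomain (R ⧸ I) := Ideal.Quotient.isDomain I
  haveI : HenselianLocalRing (R ⧸ I) :=
    Groth.Agent.Helper2.HensInt.henselianLocalRing_of_isIntegral R (R ⧸ I)
  haveI : IsSepClosed (ResidueField (R ⧸ I)) := isSepClosed_quot R I
  have hGU : CAlg2.IsGeomUnibranch (R ⧸ I) :=
    Groth.Agent.Helper2.SmGU3.geomUnibranch_of_strictlyHenselian_domain (R ⧸ I)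
  haveI hRL := Groth.Agent.Helper2.SmGU2.isLocalHom_atPrime R R' q hq
  let e : (Localization.AtPrime q ⧸ I.map (algebraMap R (Localization.AtPrime q))) ≃ₐ[R ⧸ I]
      (R ⧸ I) ⊗[R] Localization.AtPrime q :=
    Algebra.TensorProduct.quotIdealMapEquivQuotTensor (Localization.AtPrime q) I
  haveI : Nontrivial ((R ⧸ I) ⊗[R] Localization.AtPrime q) := e.symm.toEquiv.nontrivial
  haveI : IsLocalRing ((R ⧸ I) ⊗[R] Localization.AtPrime q) := e.toRingEquiv.isLocalRing
  -- the inclusion of `L` is a surjective local homomorphism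
  let incR : Localization.AtPrime q →+* (R ⧸ I) ⊗[R] Localization.AtPrime q :=
    (Algebra.TensorProduct.includeRight : Localization.AtPrime q →ₐ[R]
      (R ⧸ I) ⊗[R] Localization.AtPrime q).toRingHom
  have hincR : Function.Surjective incR := by
    intro x
    induction x using TensorProduct.induction_on with
    | zero => exact ⟨0, map_zero _⟩
    | tmul a l =>
      obtain ⟨r, rfl⟩ := Ideal.Quotient.mk_surjective a
      refine ⟨r • l, ?_⟩
      show (1 : R ⧸ I) ⊗ₜ[R] (r • l) = (Ideal.Quotient.mk I r) ⊗ₜ[R] l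
      rw [← TensorProduct.smul_tmul]
      congr 1
      rw [Algebra.smul_def, mul_one]
      rfl
    | add x y hx hy =>
      obtain ⟨x', rfl⟩ := hx
      obtain ⟨y', rfl⟩ := hy
      exact ⟨x' + y', map_add _ _ _⟩
  haveI hincRloc : IsLocalHom incR := IsLocalHom.of_surjective incR hincR
  haveI : IsLocalHom (algebraMap (R ⧸ I) ((R ⧸ I) ⊗[R] Localization.AtPrime q)) := by
    constructor
    intro a ha
    obtain ⟨r, rfl⟩ := Ideal.Quotient.mk_surjective a
    have h1 : algebraMap (R ⧸ I) ((R ⧸ I) ⊗[R] Localization.AtPrime q) (Ideal.Quotient.mk I r) =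
        incR (algebraMap R (Localization.AtPrime q) r) := by
      show (Ideal.Quotient.mk I r) ⊗ₜ[R] (1 : Localization.AtPrime q) =
        (1 : R ⧸ I) ⊗ₜ[R] (algebraMap R (Localization.AtPrime q) r)
      rw [Algebra.algebraMap_eq_smul_one, ← TensorProduct.smul_tmul]
      congr 1
      rw [Algebra.smul_def, mul_one]
      rfl
    rw [h1] at ha
    have h2 : IsUnit (algebraMap R (Localization.AtPrime q) r) := hincRloc.map_nonunit _ ha
    have h3 : IsUnit r := hRL.map_nonunit _ h2
    exact h3.map _
  -- the localization structure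
  let fTE : ((R ⧸ I) ⊗[R] R') →ₐ[R ⧸ I] ((R ⧸ I) ⊗[R] Localization.AtPrime q) :=
    Algebra.TensorProduct.map (AlgHom.id (R ⧸ I) (R ⧸ I))
      (IsScalarTower.toAlgHom R R' (Localization.AtPrime q))
  letI algTE : Algebra ((R ⧸ I) ⊗[R] R') ((R ⧸ I) ⊗[R] Localization.AtPrime q) :=
    fTE.toRingHom.toAlgebra
  haveI : IsScalarTower (R ⧸ I) ((R ⧸ I) ⊗[R] R') ((R ⧸ I) ⊗[R] Localization.AtPrime q) :=
    IsScalarTower.of_algHom fTE
  let M' : Submonoid ((R ⧸ I) ⊗[R] R') := q.primeCompl.map
      (Algebra.TensorProduct.includeRight (R := R) (A := R ⧸ I) (B := R'))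
  haveI hloc : IsLocalization M' ((R ⧸ I) ⊗[R] Localization.AtPrime q) :=
    IsLocalization.tensorProduct_tensorProduct_right R (R ⧸ I) q.primeCompl
      (Localization.AtPrime q) (by
        ext r
        simp [RingHom.algebraMap_toAlgebra, fTE])
  obtain ⟨h1, h2⟩ := Groth.Agent.Helper2.SmGU4.main (R ⧸ I) ((R ⧸ I) ⊗[R] R')
    ((R ⧸ I) ⊗[R] Localization.AtPrime q) M' hGU
  haveI hdom : IsDomain ((R ⧸ I) ⊗[R] Localization.AtPrime q) := h2 inferInstance
  exact ⟨e.toRingEquiv.toMulEquiv.isDomain _,
    Groth.Agent.Helper5.GuBir.gu_of_ringEquiv e.symm.toRingEquiv h1⟩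

theorem s17730 (hq : (maximalIdeal R).map (algebraMap R R') ≤ q) (Δ : R) (hΔ : Prime Δ) :
    Prime (algebraMap (Localization.AtPrime q) T
      (algebraMap R' (Localization.AtPrime q) (algebraMap R R' Δ))) := by
  haveI hRL := Groth.Agent.Helper2.SmGU2.isLocalHom_atPrime R R' q hq
  set J : Ideal (Localization.AtPrime q) :=
    (Ideal.span {Δ}).map (algebraMap R (Localization.AtPrime q)) with hJdef
  have hΔm : Δ ∈ maximalIdeal R := hΔ.not_isUnit
  have hΔL : algebraMap R (Localization.AtPrime q) Δ ∈ maximalIdeal (Localization.AtPrime q) := by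
    intro hu
    exact hΔm (hRL.map_nonunit _ hu)
  have hJ : J ≤ maximalIdeal (Localization.AtPrime q) := by
    rw [hJdef, Ideal.map_span, Set.image_singleton, Ideal.span_le, Set.singleton_subset_iff]
    exact hΔL
  haveI := nontrivial_quot (Localization.AtPrime q) J hJ
  obtain ⟨hQd, hQgu⟩ := quot_domGU R R' q hq Δ hΔ
  haveI := hQd
  obtain ⟨hloc, hlh, hH⟩ := Groth.Agent.Helper2.HensIntS.main (Localization.AtPrime q)
    (Localization.AtPrime q ⧸ J) T
  haveI := hloc
  haveI := hlh
  haveI := hH
  haveI hdomT : IsDomain ((Localization.AtPrime q ⧸ J) ⊗[Localization.AtPrime q] T) :=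
    (Groth.Agent.Helper2.Unibr6.s2750 (Localization.AtPrime q ⧸ J)
      ((Localization.AtPrime q ⧸ J) ⊗[Localization.AtPrime q] T)).1 ⟨inferInstance, hQgu⟩
  let e1 : (T ⧸ J.map (algebraMap (Localization.AtPrime q) T)) ≃ₐ[T]
      T ⊗[Localization.AtPrime q] (Localization.AtPrime q ⧸ J) :=
    Algebra.TensorProduct.quotIdealMapEquivTensorQuot T J
  let e2 : T ⊗[Localization.AtPrime q] (Localization.AtPrime q ⧸ J) ≃ₐ[Localization.AtPrime q]
      (Localization.AtPrime q ⧸ J) ⊗[Localization.AtPrime q] T :=
    Algebra.TensorProduct.comm (Localization.AtPrime q) T (Localization.AtPrime q ⧸ J)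
  haveI : IsDomain (T ⧸ J.map (algebraMap (Localization.AtPrime q) T)) :=
    (e1.toRingEquiv.trans e2.toRingEquiv).toMulEquiv.isDomain _
  have hprime : (J.map (algebraMap (Localization.AtPrime q) T)).IsPrime :=
    (Ideal.Quotient.isDomain_iff_prime _).1 inferInstance
  have hspan : J.map (algebraMap (Localization.AtPrime q) T) =
      Ideal.span {algebraMap (Localization.AtPrime q) T
        (algebraMap R' (Localization.AtPrime q) (algebraMap R R' Δ))} := by
    rw [hJdef, Ideal.map_span, Set.image_singleton, Ideal.map_span, Set.image_singleton,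
      IsScalarTower.algebraMap_apply R R' (Localization.AtPrime q)]
  rw [hspan] at hprime
  have hne : algebraMap (Localization.AtPrime q) T
      (algebraMap R' (Localization.AtPrime q) (algebraMap R R' Δ)) ≠ 0 := by
    haveI : Module.Flat R (Localization.AtPrime q) := Module.Flat.trans R R' _
    haveI : Module.FaithfullyFlat R (Localization.AtPrime q) :=
      Module.FaithfullyFlat.of_flat_of_isLocalHom
    haveI := faithfullyFlat_of_isStrictHenselization (Localization.AtPrime q) T
    rw [← IsScalarTower.algebraMap_apply R R' (Localization.AtPrime q)]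
    rw [map_ne_zero_iff _ (FaithfulSMul.algebraMap_injective (Localization.AtPrime q) T),
      map_ne_zero_iff _ (FaithfulSMul.algebraMap_injective R (Localization.AtPrime q))]
    exact hΔ.ne_zero
  exact (Ideal.span_singleton_prime hne).1 hprime

end Main

end Groth.Agent.Helper2.SmGU5
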