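import Mathlib
import Groth.Prelude
import Groth.Agent.Helper2.SmU1
import Groth.Agent.Helper2.SmGU2
set_option autoImplicit false
universe u
open IsLocalRing TensorProduct

/-! Unibranch version of `SmGU4.main`: a local localization `B` of a smooth algebra over a unibranch
local ring `A`, with `A → B` local and purely inseparable residue field extension, is unibranch. -/

namespace Groth.Agent.Helper2.SmU2

open Groth.Agent.Helper2.SmGU2 Groth.Agent.Helper2.SmU1

section Main

variable (A R' B : Type u) [CommRing A] [IsLocalRing A] [CommRing R'] [Algebra A R']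
  [CommRing B] [IsLocalRing B] [Algebra R' B] [Algebra A B] [IsScalarTower A R' B]
  (M : Submonoid R') [IsLocalization M B] [IsLocalHom (algebraMap A B)]

attribute [local instance] Algebra.TensorProduct.rightAlgebra

variable [Algebra.Smooth A R']

include M in
theorem main (hA : CAlg2.IsUnibranch A) (hpi : PIres A B) :
    CAlg2.IsUnibranch B ∧ (IsReduced A → IsDomain B) := by
  obtain ⟨hD, hN⟩ := hA
  haveI := hD
  haveI := hN
  haveI : Module.Flat R' B := IsLocalization.flat B M
  haveI : Module.Flat A B := Module.Flat.trans A R' _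
  haveI : Module.FaithfullyFlat A B :=
    Module.FaithfullyFlat.of_flat_of_isLocalHom
  haveI : FaithfulSMul (CAlg2.red A) (CAlg2.normRed A) :=
    (faithfulSMul_iff_algebraMap_injective _ _).2 (algebraMap_red_normRed_injective A)
  haveI : IsLocalHom (algebraMap (CAlg2.red A) (CAlg2.normRed A)) := inferInstance
  haveI : IsLocalHom (algebraMap A (CAlg2.normRed A)) := by
    rw [IsScalarTower.algebraMap_eq A (CAlg2.red A) (CAlg2.normRed A)]
    exact RingHom.isLocalHom_comp _ _
  haveI : Algebra.IsIntegral A (CAlg2.normRed A) := Algebra.IsIntegral.trans (CAlg2.red A)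
  obtain ⟨hEloc, hEhom⟩ := Groth.Agent.Helper2.SmU1.main' A (CAlg2.normRed A) B hpi
  haveI := hEloc
  haveI := hEhom
  -- integrality
  haveI hint : Algebra.IsIntegral B (CAlg2.normRed A ⊗[A] B) :=
    ⟨fun x => Groth.Agent.Helper6.TensorLocal.includeRight_isIntegral A (CAlg2.normRed A) B x⟩
  haveI : IsLocalHom (algebraMap B (CAlg2.normRed A ⊗[A] B)) := hEhom
  -- normality
  haveI : IsIntegrallyClosed (CAlg2.normRed A) :=
    integralClosure.isIntegrallyClosedOfFiniteExtension (FractionRing (CAlg2.red A))
  have hT : EGA4.IsNormalRing (CAlg2.normRed A ⊗[A] R') :=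
    (Groth.Agent.Helper5.SmNorm.s1182 (CAlg2.normRed A) (CAlg2.normRed A ⊗[A] R')).1
      (isNormalRing_of_isIntegrallyClosed _)
  let fTE : (CAlg2.normRed A ⊗[A] R') →ₐ[CAlg2.normRed A] (CAlg2.normRed A ⊗[A] B) :=
    Algebra.TensorProduct.map (AlgHom.id (CAlg2.normRed A) (CAlg2.normRed A))
      (IsScalarTower.toAlgHom A R' B)
  letI algTE : Algebra (CAlg2.normRed A ⊗[A] R') (CAlg2.normRed A ⊗[A] B) :=
    fTE.toRingHom.toAlgebra
  haveI : IsScalarTower (CAlg2.normRed A) (CAlg2.normRed A ⊗[A] R')
      (CAlg2.normRed A ⊗[A] B) := IsScalarTower.of_algHom fTE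
  let M' : Submonoid (CAlg2.normRed A ⊗[A] R') := M.map
      (Algebra.TensorProduct.includeRight (R := A) (A := CAlg2.normRed A) (B := R'))
  haveI hloc : IsLocalization M' (CAlg2.normRed A ⊗[A] B) :=
    IsLocalization.tensorProduct_tensorProduct_right A (CAlg2.normRed A) M
      B (by
        ext r
        simp [RingHom.algebraMap_toAlgebra, fTE])
  obtain ⟨hEd, hEic⟩ := normal_of_isLocalization (CAlg2.normRed A ⊗[A] R')
    (CAlg2.normRed A ⊗[A] B) M' hT
  haveI := hEd
  haveI := hEic
  -- injectivity of N → E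
  have hinjN : Function.Injective (algebraMap (CAlg2.normRed A) (CAlg2.normRed A ⊗[A] B)) := by
    have h1 := Module.FaithfullyFlat.tensorProduct_mk_injective (A := A)
      (B := B) (CAlg2.normRed A)
    have h2 : (algebraMap (CAlg2.normRed A) (CAlg2.normRed A ⊗[A] B) :
        CAlg2.normRed A → _) =
        (TensorProduct.comm A B (CAlg2.normRed A)) ∘
          (TensorProduct.mk A B (CAlg2.normRed A) 1) := by
      funext n
      simp [Algebra.TensorProduct.algebraMap_apply]
    rw [h2]
    exact (TensorProduct.comm A B (CAlg2.normRed A)).injective.comp h1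
  have halg : ∀ b : B,
      algebraMap B (CAlg2.normRed A ⊗[A] B) b = (1 : CAlg2.normRed A) ⊗ₜ[A] b := fun b => rfl
  refine ⟨unibranch_of_cover B (CAlg2.normRed A ⊗[A] B) ?_ ?_, ?_⟩
  · intro b hb
    rw [halg] at hb
    exact isNilpotent_of_tmul_eq_zero A B b hb
  · intro e
    obtain ⟨b, c, hc, h⟩ := exists_frac A B hinjN e
    exact ⟨b, c, hc, h⟩
  · intro hred
    have hinjB : Function.Injective (algebraMap B (CAlg2.normRed A ⊗[A] B)) := by
      rw [injective_iff_map_eq_zero]
      intro b hb
      rw [halg] at hb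
      have h1 := mem_of_tmul_eq_zero A B b hb
      rw [nilradical_eq_zero, Ideal.zero_eq_bot, Submodule.bot_smul] at h1
      exact (Submodule.mem_bot A).1 h1
    exact Function.Injective.isDomain _ hinjB

end Main

end Groth.Agent.Helper2.SmU2
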