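import Mathlib
import Groth.Prelude
import Groth.Agent.Helper2.SmU2
import Groth.Agent.Helper2.SmGU5
import Groth.Agent.Helper2.Unibr3
import Groth.Agent.Helper2.HensInt
import Groth.Agent.Helper2.HensQFin
set_option autoImplicit false
universe u
open IsLocalRing TensorProduct

/-! Minimal primes of henselizations along smooth ring maps with purely inseparable residue field
extension. -/

namespace Groth.Agent.Helper2.SmU3

open Groth.Agent.Helper1.Hens Groth.Agent.Helper2.SmGU5 Groth.Agent.Helper2.SmU1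

/-- a henselian local domain is unibranch. -/
theorem unibranch_of_henselian_domain (R : Type u) [CommRing R] [IsDomain R]
    [HenselianLocalRing R] : CAlg2.IsUnibranch R := by
  haveI : IsLocalHom (algebraMap R R) := ⟨fun a ha => ha⟩
  haveI := Groth.Agent.Helper2.HensQFin.isHenselization_self R
  exact ((Groth.Agent.Helper2.Unibr3.s2749 R R).2 inferInstance).2

/-- unibranchness is invariant under ring isomorphisms. -/
theorem unibranch_of_ringEquiv {A C : Type u} [CommRing A] [CommRing C] [IsLocalRing A]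
    [IsLocalRing C] (e : A ≃+* C) (hA : CAlg2.IsUnibranch A) : CAlg2.IsUnibranch C := by
  obtain ⟨hD, hN⟩ := hA
  haveI := hD
  haveI := hN
  letI algCE : Algebra C (CAlg2.normRed A) :=
    ((algebraMap A (CAlg2.normRed A)).comp (e.symm : C →+* A)).toAlgebra
  have halg : ∀ c : C, algebraMap C (CAlg2.normRed A) c =
      algebraMap A (CAlg2.normRed A) (e.symm c) := fun c => rfl
  haveI : IsIntegrallyClosed (CAlg2.normRed A) :=
    integralClosure.isIntegrallyClosedOfFiniteExtension (FractionRing (CAlg2.red A))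
  haveI : Algebra.IsIntegral A (CAlg2.normRed A) := Algebra.IsIntegral.trans (CAlg2.red A)
  haveI : Algebra.IsIntegral C (CAlg2.normRed A) := by
    refine ⟨fun x => ?_⟩
    have hx : IsIntegral A x := Algebra.IsIntegral.isIntegral x
    have := IsIntegral.map_of_comp_eq (e : A →+* C) (RingHom.id (CAlg2.normRed A)) (by
      ext a
      simp [halg]) hx
    simpa using this
  refine unibranch_of_cover C (CAlg2.normRed A) ?_ ?_
  · intro c hc
    rw [halg, IsScalarTower.algebraMap_apply A (CAlg2.red A) (CAlg2.normRed A)] at hc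
    have h1 : algebraMap A (CAlg2.red A) (e.symm c) = 0 :=
      Groth.Agent.Helper2.SmGU2.algebraMap_red_normRed_injective A (by rw [hc, map_zero])
    have h2 : e.symm c ∈ nilradical A := Ideal.Quotient.eq_zero_iff_mem.1 h1
    have h3 : IsNilpotent (e (e.symm c)) := (mem_nilradical.1 h2).map e
    rwa [RingEquiv.apply_symm_apply] at h3
  · intro x
    obtain ⟨a, a', ha, haa'⟩ := Groth.Agent.Helper2.SmGU2.exists_den A x
    refine ⟨e a', e a, ?_, ?_⟩
    · rw [halg, RingEquiv.symm_apply_apply]
      exact ha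
    · rw [halg, halg, RingEquiv.symm_apply_apply, RingEquiv.symm_apply_apply]
      exact haa'

section Main

variable (R R' T : Type u) [CommRing R] [HenselianLocalRing R]
  [CommRing R'] [Algebra R R'] [Algebra.Smooth R R'] (q : Ideal R') [q.IsPrime]
  [CommRing T] [IsLocalRing T] [Algebra (Localization.AtPrime q) T]
  [IsLocalHom (algebraMap (Localization.AtPrime q) T)]
  [Hensel.IsHenselization (Localization.AtPrime q) T]

/-- the quotient of the localization by the image of a prime ideal is a unibranch domain. -/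
theorem quot_domU' (hq : (maximalIdeal R).map (algebraMap R R') ≤ q)
    (hpi : PIres R (Localization.AtPrime q)) (I : Ideal R) [I.IsPrime]
    [Nontrivial (Localization.AtPrime q ⧸ I.map (algebraMap R (Localization.AtPrime q)))] :
    IsDomain (Localization.AtPrime q ⧸ I.map (algebraMap R (Localization.AtPrime q))) ∧
    CAlg2.IsUnibranch (Localization.AtPrime q ⧸
      I.map (algebraMap R (Localization.AtPrime q))) := by
  haveI : IsDomain (R ⧸ I) := Ideal.Quotient.isDomain I
  haveI : HenselianLocalRing (R ⧸ I) :=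
    Groth.Agent.Helper2.HensInt.henselianLocalRing_of_isIntegral R (R ⧸ I)
  have hU : CAlg2.IsUnibranch (R ⧸ I) := unibranch_of_henselian_domain (R ⧸ I)
  haveI hRL := Groth.Agent.Helper2.SmGU2.isLocalHom_atPrime R R' q hq
  let e : (Localization.AtPrime q ⧸ I.map (algebraMap R (Localization.AtPrime q))) ≃ₐ[R ⧸ I]
      (R ⧸ I) ⊗[R] Localization.AtPrime q :=
    Algebra.TensorProduct.quotIdealMapEquivQuotTensor (Localization.AtPrime q) I
  haveI : Nontrivial ((R ⧸ I) ⊗[R] Localization.AtPrime q) := e.symm.toEquiv.nontrivial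
  haveI : IsLocalRing ((R ⧸ I) ⊗[R] Localization.AtPrime q) := e.toRingEquiv.isLocalRing
  -- the inclusion of `L` is a surjective local homomorphism
  let incR : Localization.AtPrime q →+* (R ⧸ I) ⊗[R] Localization.AtPrime q :=
    (Algebra.TensorProduct.includeRight : Localization.AtPrime q →ₐ[R]
      (R ⧸ I) ⊗[R] Localization.AtPrime q).toRingHom
  have hincR : Function.Surjective incR := by
    intro x
    induction x using TensorProduct.induction_on with
    | zero => exact ⟨0, map_zero _⟩
    | tmul a l =>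
      obtain ⟨r, rfl⟩ := Ideal.Quotient.mk_surjective a
      refine ⟨r • l, ?_⟩
      show (1 : R ⧸ I) ⊗ₜ[R] (r • l) = (Ideal.Quotient.mk I r) ⊗ₜ[R] l
      rw [← TensorProduct.smul_tmul]
      congr 1
      rw [Algebra.smul_def, mul_one]
      rfl
    | add x y hx hy =>
      obtain ⟨x', rfl⟩ := hx
      obtain ⟨y', rfl⟩ := hy
      exact ⟨x' + y', map_add _ _ _⟩
  haveI hincRloc : IsLocalHom incR := IsLocalHom.of_surjective incR hincR
  have halgincR : ∀ r : R, algebraMap (R ⧸ I) ((R ⧸ I) ⊗[R] Localization.AtPrime q)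
      (Ideal.Quotient.mk I r) = incR (algebraMap R (Localization.AtPrime q) r) := by
    intro r
    show (Ideal.Quotient.mk I r) ⊗ₜ[R] (1 : Localization.AtPrime q) =
      (1 : R ⧸ I) ⊗ₜ[R] (algebraMap R (Localization.AtPrime q) r)
    rw [Algebra.algebraMap_eq_smul_one, ← TensorProduct.smul_tmul]
    congr 1
    rw [Algebra.smul_def, mul_one]
    rfl
  haveI : IsLocalHom (algebraMap (R ⧸ I) ((R ⧸ I) ⊗[R] Localization.AtPrime q)) := by
    constructor
    intro a ha
    obtain ⟨r, rfl⟩ := Ideal.Quotient.mk_surjective a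
    rw [halgincR] at ha
    have h2 : IsUnit (algebraMap R (Localization.AtPrime q) r) := hincRloc.map_nonunit _ ha
    have h3 : IsUnit r := hRL.map_nonunit _ h2
    exact h3.map _
  -- the purely inseparable condition
  have hpi' : PIres (R ⧸ I) ((R ⧸ I) ⊗[R] Localization.AtPrime q) := by
    intro b
    obtain ⟨l, rfl⟩ := hincR b
    obtain ⟨n, r, hr⟩ := hpi l
    haveI : ExpChar (ResidueField ((R ⧸ I) ⊗[R] Localization.AtPrime q))
        (ringExpChar (ResidueField (Localization.AtPrime q))) :=
      expChar_of_injective_ringHom (f := ResidueField.map incR) (RingHom.injective _) _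
    have hqq : ringExpChar (ResidueField ((R ⧸ I) ⊗[R] Localization.AtPrime q)) =
        ringExpChar (ResidueField (Localization.AtPrime q)) := ringExpChar.eq _ _
    refine ⟨n, Ideal.Quotient.mk I r, ?_⟩
    rw [hqq, halgincR, ← map_pow, ← map_sub]
    intro hu
    exact hr (hincRloc.map_nonunit _ hu)
  -- the localization structure
  let fTE : ((R ⧸ I) ⊗[R] R') →ₐ[R ⧸ I] ((R ⧸ I) ⊗[R] Localization.AtPrime q) :=
    Algebra.TensorProduct.map (AlgHom.id (R ⧸ I) (R ⧸ I))
      (IsScalarTower.toAlgHom R R' (Localization.AtPrime q))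
  letI algTE : Algebra ((R ⧸ I) ⊗[R] R') ((R ⧸ I) ⊗[R] Localization.AtPrime q) :=
    fTE.toRingHom.toAlgebra
  haveI : IsScalarTower (R ⧸ I) ((R ⧸ I) ⊗[R] R') ((R ⧸ I) ⊗[R] Localization.AtPrime q) :=
    IsScalarTower.of_algHom fTE
  let M' : Submonoid ((R ⧸ I) ⊗[R] R') := q.primeCompl.map
      (Algebra.TensorProduct.includeRight (R := R) (A := R ⧸ I) (B := R'))
  haveI hloc : IsLocalization M' ((R ⧸ I) ⊗[R] Localization.AtPrime q) :=
    IsLocalization.tensorProduct_tensorProduct_right R (R ⧸ I) q.primeCompl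
      (Localization.AtPrime q) (by
        ext r
        simp [RingHom.algebraMap_toAlgebra, fTE])
  obtain ⟨h1, h2⟩ := Groth.Agent.Helper2.SmU2.main (R ⧸ I) ((R ⧸ I) ⊗[R] R')
    ((R ⧸ I) ⊗[R] Localization.AtPrime q) M' hU hpi'
  haveI hdom : IsDomain ((R ⧸ I) ⊗[R] Localization.AtPrime q) := h2 inferInstance
  haveI hdomQ : IsDomain (Localization.AtPrime q ⧸ I.map (algebraMap R (Localization.AtPrime q))) :=
    e.toRingEquiv.toMulEquiv.isDomain _
  refine ⟨hdomQ, ?_⟩
  exact unibranch_of_ringEquiv e.symm.toRingEquiv h1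

theorem map_isPrime (hq : (maximalIdeal R).map (algebraMap R R') ≤ q)
    (hpi : PIres R (Localization.AtPrime q)) (I : Ideal R) [I.IsPrime] :
    ((I.map (algebraMap R (Localization.AtPrime q))).map
      (algebraMap (Localization.AtPrime q) T)).IsPrime := by
  haveI hRL := Groth.Agent.Helper2.SmGU2.isLocalHom_atPrime R R' q hq
  set J : Ideal (Localization.AtPrime q) := I.map (algebraMap R (Localization.AtPrime q)) with hJdef
  have hJ : J ≤ maximalIdeal (Localization.AtPrime q) := by
    rw [hJdef, Ideal.map_le_iff_le_comap]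
    intro x hx
    show algebraMap R (Localization.AtPrime q) x ∈ maximalIdeal (Localization.AtPrime q)
    intro hu
    have h1 : IsUnit x := hRL.map_nonunit _ hu
    exact (Ideal.IsPrime.ne_top inferInstance) (Ideal.eq_top_of_isUnit_mem I hx h1)
  haveI := nontrivial_quot (Localization.AtPrime q) J hJ
  obtain ⟨hQd, hQu⟩ := quot_domU' R R' q hq hpi I
  haveI := hQd
  obtain ⟨hloc, hlh, hH⟩ := Groth.Agent.Helper2.HensInt.main (Localization.AtPrime q)
    (Localization.AtPrime q ⧸ J) T
  haveI := hloc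
  haveI := hlh
  haveI := hH
  haveI hdomT : IsDomain ((Localization.AtPrime q ⧸ J) ⊗[Localization.AtPrime q] T) :=
    (Groth.Agent.Helper2.Unibr3.s2749 (Localization.AtPrime q ⧸ J)
      ((Localization.AtPrime q ⧸ J) ⊗[Localization.AtPrime q] T)).1 ⟨inferInstance, hQu⟩
  let e1 : (T ⧸ J.map (algebraMap (Localization.AtPrime q) T)) ≃ₐ[T]
      T ⊗[Localization.AtPrime q] (Localization.AtPrime q ⧸ J) :=
    Algebra.TensorProduct.quotIdealMapEquivTensorQuot T J
  let e2 : T ⊗[Localization.AtPrime q] (Localization.AtPrime q ⧸ J) ≃ₐ[Localization.AtPrime q]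
      (Localization.AtPrime q ⧸ J) ⊗[Localization.AtPrime q] T :=
    Algebra.TensorProduct.comm (Localization.AtPrime q) T (Localization.AtPrime q ⧸ J)
  haveI : IsDomain (T ⧸ J.map (algebraMap (Localization.AtPrime q) T)) :=
    (e1.toRingEquiv.trans e2.toRingEquiv).toMulEquiv.isDomain _
  exact (Ideal.Quotient.isDomain_iff_prime _).1 inferInstance

theorem encard_eq (hq : (maximalIdeal R).map (algebraMap R R') ≤ q)
    (hpi : PIres R (Localization.AtPrime q)) :
    (minimalPrimes R).encard = (minimalPrimes T).encard := by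
  haveI hRL := Groth.Agent.Helper2.SmGU2.isLocalHom_atPrime R R' q hq
  letI algRT : Algebra R T :=
    ((algebraMap (Localization.AtPrime q) T).comp (algebraMap R (Localization.AtPrime q))).toAlgebra
  haveI : IsScalarTower R (Localization.AtPrime q) T := IsScalarTower.of_algebraMap_eq (fun _ => rfl)
  haveI : Module.Flat R (Localization.AtPrime q) := Module.Flat.trans R R' _
  haveI : Module.FaithfullyFlat R (Localization.AtPrime q) :=
    Module.FaithfullyFlat.of_flat_of_isLocalHom
  haveI := faithfullyFlat_of_isHenselization (Localization.AtPrime q) T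
  haveI : Module.FaithfullyFlat R T := Module.FaithfullyFlat.trans R (Localization.AtPrime q) T
  have hmapmap : ∀ I : Ideal R, I.map (algebraMap R T) =
      (I.map (algebraMap R (Localization.AtPrime q))).map (algebraMap (Localization.AtPrime q) T) := by
    intro I
    rw [Ideal.map_map, ← IsScalarTower.algebraMap_eq]
  have hprime : ∀ (I : Ideal R), I.IsPrime → (I.map (algebraMap R T)).IsPrime := by
    intro I hI
    rw [hmapmap]
    exact map_isPrime R R' T q hq hpi I
  have hcm : ∀ I : Ideal R, (I.map (algebraMap R T)).comap (algebraMap R T) = I :=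
    fun I => Ideal.comap_map_eq_self_of_faithfullyFlat I
  have himage : Ideal.map (algebraMap R T) '' minimalPrimes R = minimalPrimes T := by
    ext 𝔔
    constructor
    · rintro ⟨𝔭, h𝔭, rfl⟩
      have h𝔭p : 𝔭.IsPrime := h𝔭.1.1
      refine ⟨⟨hprime 𝔭 h𝔭p, bot_le⟩, ?_⟩
      rintro 𝔔' ⟨h𝔔'p, -⟩ hle
      have h1 : 𝔔'.comap (algebraMap R T) ≤ 𝔭 := by
        rw [← hcm 𝔭]
        exact Ideal.comap_mono hle
      have h2 : 𝔭 ≤ 𝔔'.comap (algebraMap R T) :=
        h𝔭.2 ⟨Ideal.comap_isPrime _ _, bot_le⟩ h1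
      exact (Ideal.map_mono h2).trans Ideal.map_comap_le
    · intro h𝔔
      have h𝔔p : 𝔔.IsPrime := h𝔔.1.1
      have hmin : 𝔔.comap (algebraMap R T) ∈ minimalPrimes R := by
        refine ⟨⟨Ideal.comap_isPrime _ _, bot_le⟩, ?_⟩
        rintro 𝔭' ⟨h𝔭'p, -⟩ hle
        haveI : 𝔔.LiesOver (𝔔.comap (algebraMap R T)) := ⟨rfl⟩
        obtain ⟨𝔔', h𝔔'le, h𝔔'p, h𝔔'lo⟩ :=
          Ideal.exists_ideal_le_liesOver_of_le (S := T) (p := 𝔭') (q := 𝔔.comap (algebraMap R T))
            𝔔 hle
        have h3 : 𝔔 ≤ 𝔔' := h𝔔.2 ⟨h𝔔'p, bot_le⟩ h𝔔'le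
        have h4 : 𝔔' = 𝔔 := le_antisymm h𝔔'le h3
        rw [h𝔔'lo.over, h4]
      refine ⟨𝔔.comap (algebraMap R T), hmin, ?_⟩
      have h5 : ((𝔔.comap (algebraMap R T)).map (algebraMap R T)).IsPrime :=
        hprime _ hmin.1.1
      exact le_antisymm Ideal.map_comap_le (h𝔔.2 ⟨h5, bot_le⟩ Ideal.map_comap_le)
  rw [← himage]
  refine (Set.InjOn.encard_image ?_).symm
  intro a _ b _ hab
  have := congrArg (Ideal.comap (algebraMap R T)) hab
  rwa [hcm, hcm] at this

end Main

end Groth.Agent.Helper2.SmU3
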