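import Mathlib
import Groth.Prelude
import Groth.Agent.Helper2.OpenInt5
import Groth.Agent.Helper2.SmU3
import Groth.Agent.Helper5.PtOpen3

set_option autoImplicit false
universe u
open Function PrimeSpectrum IsLocalRing AlgebraicGeometry CategoryTheory

namespace Groth.Agent.Helper2.OpenInt

open Groth.Agent.Helper2

theorem quasiFiniteAt_of_isolated {X Y : Scheme.{u}} (f : X ⟶ Y) [LocallyOfFiniteType f] (x : X)
    (hx : nhdsWithin x (f.base ⁻¹' {f.base x}) = pure x) : f.QuasiFiniteAt x := by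
  rw [Scheme.Hom.quasiFiniteAt_iff_isOpen_singleton_asFiber,
    ← (f.fiberHomeo (f x)).isOpen_image]
  simp only [Set.image_singleton, Scheme.Hom.asFiber, Homeomorph.apply_symm_apply]
  rw [isOpen_singleton_iff_nhds_eq_pure, nhds_subtype_eq_comap_nhdsWithin]
  change Filter.comap Subtype.val (nhdsWithin x (f.base ⁻¹' {f.base x})) = _
  rw [hx, Filter.comap_pure]
  have : (Subtype.val : ↥(f.base ⁻¹' {f.base x}) → X) ⁻¹' {x} = {⟨x, rfl⟩} := by
    ext y
    simp [Subtype.ext_iff]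
  rw [this, Filter.principal_singleton]

theorem irreducibleSpace_of_isOpenImmersion {P X : Scheme.{u}} (i : P ⟶ X) [IsOpenImmersion i]
    [IrreducibleSpace X] (z : P) : IrreducibleSpace P := by
  haveI : PreirreducibleSpace P := ⟨by
    have := (PreirreducibleSpace.isPreirreducible_univ (X := X)).preimage i.isOpenEmbedding
    simpa using this⟩
  exact { toNonempty := ⟨z⟩ }

theorem part2_alg' {R S : Type u} [CommRing R] [CommRing S] [Algebra R S] [Algebra.FiniteType R S]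
    (hR : (nilradical R).IsPrime) (hS : (nilradical S).IsPrime)
    (hdom : RingHom.ker (algebraMap R S) ≤ nilradical R)
    (q : PrimeSpectrum S) [Algebra.QuasiFiniteAt R q.asIdeal] (p : Ideal R) [p.IsPrime]
    (hp : q.asIdeal.comap (algebraMap R S) = p)
    (hU : CAlg2.IsUnibranch (Localization.AtPrime p)) :
    EGA43.IsOpenAt (comap (algebraMap R S)) q := by
  subst hp
  exact part2_alg hR hS hdom q hU

/-- part (ii) of S5383 -/
theorem part2 (X Y : Scheme.{u}) (f : X ⟶ Y) [IrreducibleSpace X] [IrreducibleSpace Y]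
    [LocallyOfFiniteType f] (hdense : DenseRange f.base) (x : X)
    (hx : nhdsWithin x (f.base ⁻¹' {f.base x}) = pure x)
    (hU : CAlg2.IsUnibranch (Y.presheaf.stalk (f.base x))) : EGA43.IsOpenAt f.base x := by
  have hqf : f.QuasiFiniteAt x := quasiFiniteAt_of_isolated f x hx
  -- affine charts
  obtain ⟨_, ⟨U, hUaff, rfl⟩, hfxU, -⟩ := Y.isBasis_affineOpens.exists_subset_of_mem_open
    (Set.mem_univ (f x)) isOpen_univ
  obtain ⟨_, ⟨V, hVaff, rfl⟩, hxV, hVU'⟩ := X.isBasis_affineOpens.exists_subset_of_mem_open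
    (show x ∈ (f ⁻¹ᵁ U : Set X) from hfxU) (f ⁻¹ᵁ U).isOpen
  have hVU : V ≤ f ⁻¹ᵁ U := hVU'
  let φ := f.appLE U V hVU
  have e : Spec.map φ ≫ hUaff.fromSpec = hVaff.fromSpec ≫ f :=
    IsAffineOpen.SpecMap_appLE_fromSpec f hUaff hVaff hVU
  let z' : ↥(Spec Γ(X, V)) := hVaff.primeIdealOf ⟨x, hxV⟩
  have hz' : hVaff.fromSpec z' = x := hVaff.fromSpec_primeIdealOf ⟨x, hxV⟩
  rw [← hz']
  refine Groth.Agent.Helper5.PtOpen.isOpenAt_of_square f (Spec.map φ) hVaff.fromSpec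
    hUaff.fromSpec e z' ?_
  letI : Algebra Γ(Y, U) Γ(X, V) := φ.hom.toAlgebra
  haveI : Algebra.FiniteType Γ(Y, U) Γ(X, V) :=
    HasRingHomProperty.appLE (P := @LocallyOfFiniteType) f inferInstance ⟨U, hUaff⟩ ⟨V, hVaff⟩ hVU
  haveI : Algebra.QuasiFiniteAt Γ(Y, U) z'.asIdeal := hqf.quasiFiniteAt hVaff hUaff hVU hxV
  -- irreducibility
  haveI hirrS : IrreducibleSpace ↥(Spec Γ(X, V)) :=
    irreducibleSpace_of_isOpenImmersion hVaff.fromSpec z'
  haveI hirrR : IrreducibleSpace ↥(Spec Γ(Y, U)) :=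
    irreducibleSpace_of_isOpenImmersion hUaff.fromSpec (Spec.map φ z')
  have hS : (nilradical Γ(X, V)).IsPrime :=
    PrimeSpectrum.irreducibleSpace_iff_isPrime_nilradical.1 hirrS
  have hR : (nilradical Γ(Y, U)).IsPrime :=
    PrimeSpectrum.irreducibleSpace_iff_isPrime_nilradical.1 hirrR
  -- dominance
  have hdq' : DenseRange (Spec.map φ : ↥(Spec Γ(X, V)) → ↥(Spec Γ(Y, U))) := by
    have h1 : DenseRange (hVaff.fromSpec : ↥(Spec Γ(X, V)) → X) :=
      hVaff.fromSpec.isOpenEmbedding.isOpen_range.dense ⟨_, ⟨z', rfl⟩⟩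
    have h2 : DenseRange ((f : X → Y) ∘ (hVaff.fromSpec : ↥(Spec Γ(X, V)) → X)) :=
      hdense.comp h1 f.continuous
    have h3 : ((f : X → Y) ∘ (hVaff.fromSpec : ↥(Spec Γ(X, V)) → X)) =
        (hUaff.fromSpec : ↥(Spec Γ(Y, U)) → Y) ∘ (Spec.map φ : ↥(Spec Γ(X, V)) → _) :=
      funext (fun w => (congrArg (fun ψ : Spec Γ(X, V) ⟶ Y => ψ w) e).symm)
    rw [h3] at h2
    intro t
    have h4 := hUaff.fromSpec.isOpenEmbedding.isInducing.closure_eq_preimage_closure_image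
      (Set.range (Spec.map φ : ↥(Spec Γ(X, V)) → ↥(Spec Γ(Y, U))))
    rw [h4, Set.mem_preimage, ← Set.range_comp]
    exact h2 _
  have hdq : DenseRange (PrimeSpectrum.comap (algebraMap Γ(Y, U) Γ(X, V))) := hdq'
  have hdom : RingHom.ker (algebraMap Γ(Y, U) Γ(X, V)) ≤ nilradical Γ(Y, U) :=
    (PrimeSpectrum.denseRange_comap_iff_ker_le_nilRadical _).1 hdq
  -- unibranch
  have hcomap : z'.asIdeal.comap (algebraMap Γ(Y, U) Γ(X, V)) =
      (hUaff.primeIdealOf ⟨f x, hfxU⟩).asIdeal :=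
    congrArg PrimeSpectrum.asIdeal
      (IsAffineOpen.comap_primeIdealOf_appLE U hUaff V hVaff hVU hxV)
  letI : Algebra Γ(Y, U) (Y.presheaf.stalk (f x)) :=
    TopCat.Presheaf.algebra_section_stalk Y.presheaf ⟨f x, hfxU⟩
  haveI := hUaff.isLocalization_stalk ⟨f x, hfxU⟩
  let e₀ : Y.presheaf.stalk (f x) ≃ₐ[Γ(Y, U)]
      Localization.AtPrime (hUaff.primeIdealOf ⟨f x, hfxU⟩).asIdeal :=
    IsLocalization.algEquiv (hUaff.primeIdealOf ⟨f x, hfxU⟩).asIdeal.primeCompl _ _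
  have hU' : CAlg2.IsUnibranch (Localization.AtPrime (hUaff.primeIdealOf ⟨f x, hfxU⟩).asIdeal) :=
    Groth.Agent.Helper2.SmU3.unibranch_of_ringEquiv e₀.toRingEquiv hU
  exact part2_alg' hR hS hdom z' _ hcomap hU'

end Groth.Agent.Helper2.OpenInt
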