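import Mathlib
import Groth.Agent.Helper2.OrbitLC

set_option autoImplicit false
universe u
open CategoryTheory MonoidalCategory CartesianMonoidalCategory MonObj AlgebraicGeometry
open Topology

namespace Groth.Agent.Helper2.OrbitCl

open Groth.Agent.Helper2 Groth.Agent.Helper2.HS2 Groth.Agent.Helper2.OrbitLC

variable {k : Type u} [Field k] {G X : Over (Spec (CommRingCat.of k))} [GrpObj G]
  (a : AlgGrp.Action G X) (x : 𝟙_ (Over (Spec (CommRingCat.of k))) ⟶ X)

/-- the orbit is stable under the inverse action -/
lemma orbit_stable' (p : ↥(G ⊗ X).left)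
    (hp : a.act.left p ∈ Set.range (a.orbitMap x).left) :
    (snd G X).left p ∈ Set.range (a.orbitMap x).left := by
  have h4 : (snd G X).left ((σ a).left p) ∈ Set.range (a.orbitMap x).left := by
    rw [← Scheme.Hom.comp_apply, ← Over.comp_left, σ_snd]
    exact hp
  have h5 := orbit_stable a x _ h4
  rwa [← Scheme.Hom.comp_apply, ← Over.comp_left, σ_act] at h5

/-- the orbit of a point of a stable set lies in this set -/
lemma orbit_subset (S : Set X.left)
    (hS : ∀ p : ↥(G ⊗ X).left, (snd G X).left p ∈ S → a.act.left p ∈ S)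
    (hx : x.left (IsLocalRing.closedPoint k) ∈ S) :
    Set.range (a.orbitMap x).left ⊆ S := by
  rintro _ ⟨g, rfl⟩
  rw [HS8.orbitMap_eq, Over.comp_left, Scheme.Hom.comp_apply]
  apply hS
  rw [HS8.sx_snd_apply (IsLocalRing.closedPoint k)]
  exact hx

end Groth.Agent.Helper2.OrbitCl
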