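import Groth.Agent.Helper9.FMH
import Groth.Agent.Helper9.FM3
import Mathlib

/-!
# Element-level criteria for homology maps of cochain complexes (flexible indices)
-/

set_option autoImplicit false

namespace Groth.Agent.Helper2.PC1

open CategoryTheory CategoryTheory.Limits
open Groth.Agent.Helper9.FM Groth.Agent.Helper9.FMH

universe v u

variable {A : Type u} [Category.{v} A] [Abelian A]
variable {K L : CochainComplex A ℤ}

/-- `H^j(φ)` is an epimorphism iff every cocycle of `L^j` is, up to a coboundary, the image of a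
cocycle of `K^j`. -/
theorem epi_homologyMap_iff (φ : K ⟶ L) (i j k : ℤ) (hij : i + 1 = j) (hjk : j + 1 = k) :
    Epi (HomologicalComplex.homologyMap φ j) ↔
      ∀ y : (F A).obj (L.X j), m (L.d j k) y = 0 →
        ∃ x : (F A).obj (K.X j), m (K.d j k) x = 0 ∧
          ∃ w : (F A).obj (L.X i), m (L.d i j) w = m (φ.f j) x - y := by
  obtain rfl : i = j - 1 := by omega
  obtain rfl : k = j + 1 := by omega
  rw [epi_iff]
  constructor
  · intro h y hy
    obtain ⟨c, hc⟩ := h (cls L j y hy)
    obtain ⟨x, hx, rfl⟩ := exists_cls K j c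
    rw [homologyMap_cls j φ hx, cls_eq_cls_iff] at hc
    exact ⟨x, hx, hc⟩
  · intro h c
    obtain ⟨y, hy, rfl⟩ := exists_cls L j c
    obtain ⟨x, hx, w, hw⟩ := h y hy
    refine ⟨cls K j x hx, ?_⟩
    rw [homologyMap_cls j φ hx, cls_eq_cls_iff]
    exact ⟨w, hw⟩

/-- `H^j(φ)` is a monomorphism iff every cocycle of `K^j` whose image is a coboundary is a
coboundary. -/
theorem mono_homologyMap_iff (φ : K ⟶ L) (i j k : ℤ) (hij : i + 1 = j) (hjk : j + 1 = k) :
    Mono (HomologicalComplex.homologyMap φ j) ↔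
      ∀ x : (F A).obj (K.X j), m (K.d j k) x = 0 →
        (∃ w : (F A).obj (L.X i), m (L.d i j) w = m (φ.f j) x) →
          ∃ v : (F A).obj (K.X i), m (K.d i j) v = x := by
  obtain rfl : i = j - 1 := by omega
  obtain rfl : k = j + 1 := by omega
  rw [mono_iff, injective_iff_map_eq_zero]
  constructor
  · intro h x hx hw
    have h0 : m (HomologicalComplex.homologyMap φ j) (cls K j x hx) = 0 := by
      rw [homologyMap_cls j φ hx, cls_eq_zero_iff]
      exact hw
    exact (cls_eq_zero_iff K j hx).1 (h _ h0)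
  · intro h c hc
    obtain ⟨x, hx, rfl⟩ := exists_cls K j c
    rw [homologyMap_cls j φ hx, cls_eq_zero_iff] at hc
    rw [cls_eq_zero_iff]
    exact h x hx hc

theorem isZero_homology_iff (K : CochainComplex A ℤ) (i j k : ℤ) (hij : i + 1 = j)
    (hjk : j + 1 = k) :
    IsZero (K.homology j) ↔
      ∀ x : (F A).obj (K.X j), m (K.d j k) x = 0 → ∃ v : (F A).obj (K.X i), m (K.d i j) v = x := by
  obtain rfl : i = j - 1 := by omega
  obtain rfl : k = j + 1 := by omega
  rw [isZero_iff]
  constructor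
  · intro h x hx
    rw [← cls_eq_zero_iff K j hx]
    exact Subsingleton.elim _ _
  · intro h
    refine ⟨fun a b => ?_⟩
    obtain ⟨x, hx, rfl⟩ := exists_cls K j a
    obtain ⟨y, hy, rfl⟩ := exists_cls K j b
    rw [(cls_eq_zero_iff K j hx).2 (h x hx), (cls_eq_zero_iff K j hy).2 (h y hy)]

theorem isIso_homologyMap_iff (φ : K ⟶ L) (j : ℤ) :
    IsIso (HomologicalComplex.homologyMap φ j) ↔
      Mono (HomologicalComplex.homologyMap φ j) ∧ Epi (HomologicalComplex.homologyMap φ j) := by
  constructor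
  · intro h
    exact ⟨inferInstance, inferInstance⟩
  · rintro ⟨h1, h2⟩
    exact isIso_of_mono_of_epi _

theorem d_d_apply (K : CochainComplex A ℤ) (i j k : ℤ) (x : (F A).obj (K.X i)) :
    m (K.d j k) (m (K.d i j) x) = 0 := by
  rw [← m_comp_apply, K.d_comp_d]; simp

theorem f_d_apply (φ : K ⟶ L) (i j : ℤ) (x : (F A).obj (K.X i)) :
    m (L.d i j) (m (φ.f i) x) = m (φ.f j) (m (K.d i j) x) := by
  rw [← m_comp_apply, ← m_comp_apply, φ.comm]

theorem comp_f_apply {M : CochainComplex A ℤ} (φ : K ⟶ L) (ψ : L ⟶ M) (i : ℤ)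
    (x : (F A).obj (K.X i)) : m ((φ ≫ ψ).f i) x = m (ψ.f i) (m (φ.f i) x) := by
  rw [HomologicalComplex.comp_f, m_comp_apply]

theorem eq_zero_of_isZero {X : A} (h : IsZero X) (x : (F A).obj X) : x = 0 := by
  haveI := (isZero_iff X).1 h
  exact Subsingleton.elim _ _

end Groth.Agent.Helper2.PC1
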