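import Groth.Agent.Helper2.PC9
import Mathlib

set_option autoImplicit false

namespace Groth.Agent.Helper2.PC10

open CategoryTheory CategoryTheory.Limits CategoryTheory.Pretriangulated
open Groth.Agent.Helper9.FM Groth.Agent.Helper2.PC1

universe w v u

variable {A : Type u} [Category.{v} A] [Abelian A]

/-- a map from a single complex, landing in cocycles and surjecting onto `H^n`, is an
`n`-quasi-isomorphism when the target is acyclic above `n` -/
theorem exists_single_map (P : ObjectProperty A) [P.IsClosedUnderIsomorphisms] [P.ContainsZero]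
    (K : CochainComplex A ℤ) (n : ℤ) (Q₀ : A) (hQ₀ : P Q₀)
    (γ : Q₀ ⟶ K.X n) (hγ : γ ≫ K.d n (n + 1) = 0)
    (hsurj : ∀ c : (F A).obj (K.X n), m (K.d n (n + 1)) c = 0 →
        ∃ (q : (F A).obj Q₀) (w : (F A).obj (K.X (n - 1))), m (K.d (n - 1) n) w = m γ q - c) :
    ∃ (T : CochainComplex A ℤ) (ι : T ⟶ K), (∀ i, P (T.X i)) ∧ (∀ i, i ≠ n → IsZero (T.X i)) ∧
      Epi (HomologicalComplex.homologyMap ι n) ∧ (∀ i, i ≠ n → IsZero (T.homology i)) := by
  let T : CochainComplex A ℤ := (HomologicalComplex.single A (ComplexShape.up ℤ) n).obj Q₀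
  let ι : T ⟶ K := HomologicalComplex.mkHomFromSingle γ (by
    intro k hk
    obtain rfl : k = n + 1 := by
      have : n + 1 = k := hk
      omega
    exact hγ)
  have hT0 : ∀ i : ℤ, i ≠ n → IsZero (T.X i) := fun i hi =>
    HomologicalComplex.isZero_single_obj_X _ _ _ _ hi
  let eT : T.X n ≅ Q₀ := HomologicalComplex.singleObjXSelf (ComplexShape.up ℤ) n Q₀
  have hιn : ∀ x : (F A).obj (T.X n), m (ι.f n) x = m γ (m eT.hom x) := by
    intro x
    have : ι.f n = eT.hom ≫ γ := HomologicalComplex.mkHomFromSingle_f γ _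
    rw [this, m_comp_apply]
  refine ⟨T, ι, fun i => ?_, hT0, ?_, fun i hi => PC7.isZero_homology_of_isZero_X T i (hT0 i hi)⟩
  · by_cases hi : i = n
    · subst hi
      exact P.prop_of_iso eT.symm hQ₀
    · exact P.prop_of_isZero (hT0 i hi)
  · rw [epi_homologyMap_iff _ (n - 1) n (n + 1) (by omega) rfl]
    intro c hc
    obtain ⟨q, w, hw⟩ := hsurj c hc
    refine ⟨m eT.inv q, eq_zero_of_isZero (hT0 (n + 1) (by omega)) _, w, ?_⟩
    have h1 : m eT.hom (m eT.inv q) = q := by
      rw [← m_comp_apply, eT.inv_hom_id, m_id]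
      rfl
    rw [hw, hιn, h1]

variable [HasDerivedCategory.{w} A]
variable (P : ObjectProperty A) [P.IsClosedUnderIsomorphisms] [P.ContainsZero]

/-- for complexes: acyclic above `n` and `H^n` of finite type implies `n`-pseudo-coherent -/
theorem isNPC_of_ft (hql : PCoh.IsQuasiLiftable P) (n : ℤ) (K : CochainComplex A ℤ)
    (hac : ∀ i : ℤ, n < i → IsZero (K.homology i)) (hft : PCoh.IsOfFiniteType P (K.homology n)) :
    PC9.IsNPC P n (DerivedCategory.Q.obj K) := by
  obtain ⟨Q₀, γ, hQ₀, hγ, hsurj⟩ := PC5.exists_lift_to_cocycles P hql K n hft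
  obtain ⟨T, ι, hPT, hT0, hepi, hTH⟩ := exists_single_map P K n Q₀ hQ₀ γ hγ hsurj
  have hiso : ∀ i : ℤ, n < i → IsIso (HomologicalComplex.homologyMap ι i) := fun i hi =>
    ⟨⟨0, (hTH i (by omega)).eq_of_src _ _, (hac i hi).eq_of_src _ _⟩⟩
  obtain ⟨E', v, g', -, hE', hq, -, -⟩ := PC8.strictPC_of_nQuasiIso P n
    (⟨⟨n, fun i hi => hT0 i (by omega)⟩, fun i _ => hPT i⟩ : PCoh.IsStrictPC P n T) ι hiso hepi
  haveI : IsIso (DerivedCategory.Q.map g') := by
    rw [DerivedCategory.isIso_Q_map_iff_quasiIso]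
    exact hq
  exact ⟨E', hE', ⟨asIso (DerivedCategory.Q.map g')⟩⟩

/-- for complexes: `n`-pseudo-coherent and acyclic above `n` implies `H^n` of finite type -/
theorem ft_of_isNPC (hqs : PCoh.IsQuasiStableUnderKernels P) (n : ℤ) (F : DerivedCategory A)
    (hac : ∀ i : ℤ, n < i → IsZero ((DerivedCategory.homologyFunctor A i).obj F))
    (h : PC9.IsNPC P n F) :
    PCoh.IsOfFiniteType P ((DerivedCategory.homologyFunctor A n).obj F) := by
  obtain ⟨E, hE, ⟨e⟩⟩ := h
  have hacE : ∀ i : ℤ, n < i → IsZero (E.homology i) := by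
    intro i hi
    rw [← PC8.isZero_homology_Q_iff]
    exact (hac i hi).of_iso ((DerivedCategory.homologyFunctor A i).mapIso e)
  have hft := Groth.Agent.Helper9.PCohB.S5602 P hqs n E hE hacE
  exact PC7.isOfFiniteType_of_iso P
    (((DerivedCategory.homologyFunctorFactors A n).app E).symm ≪≫
      (DerivedCategory.homologyFunctor A n).mapIso e) hft

/-- **S5603** -/
theorem s5603 (hqs : PCoh.IsQuasiStableUnderKernels P) (hql : PCoh.IsQuasiLiftable P)
    (n : ℤ) (F : DerivedCategory A)
    (hac : ∀ i : ℤ, n < i → IsZero ((DerivedCategory.homologyFunctor A i).obj F)) :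
    PC9.IsNPC P n F ↔ PCoh.IsOfFiniteType P ((DerivedCategory.homologyFunctor A n).obj F) := by
  constructor
  · exact ft_of_isNPC P hqs n F hac
  · intro hft
    let F₁ := DerivedCategory.Q.objPreimage F
    let e : DerivedCategory.Q.obj F₁ ≅ F := DerivedCategory.Q.objObjPreimageIso F
    have hac₁ : ∀ i : ℤ, n < i → IsZero (F₁.homology i) := by
      intro i hi
      rw [← PC8.isZero_homology_Q_iff]
      exact (hac i hi).of_iso ((DerivedCategory.homologyFunctor A i).mapIso e)
    have hft₁ : PCoh.IsOfFiniteType P (F₁.homology n) :=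
      PC7.isOfFiniteType_of_iso P
        (((DerivedCategory.homologyFunctor A n).mapIso e).symm ≪≫
          (DerivedCategory.homologyFunctorFactors A n).app F₁) hft
    exact (isNPC_of_ft P hql n F₁ hac₁ hft₁).of_iso e

end Groth.Agent.Helper2.PC10
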