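import Groth.Agent.Helper2.PC10
import Mathlib

set_option autoImplicit false

namespace Groth.Agent.Helper2.PC11

open CategoryTheory CategoryTheory.Limits CategoryTheory.Pretriangulated
open Groth.Agent.Helper9.FM Groth.Agent.Helper2.PC1

universe w v u

variable {A : Type u} [Category.{v} A] [Abelian A] [HasDerivedCategory.{w} A]
variable (P : ObjectProperty A) [P.IsClosedUnderIsomorphisms] [P.ContainsZero]

/-- the cone of a map from an `n`-pseudo-coherent complex to an `n`-pseudo-coherent complex has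
`H^m` of finite type if it is acyclic above `m ≥ n` -/
theorem ft_cone' (hsum : ∀ X Y : A, P X → P Y → P (X ⨯ Y))
    (hqs : PCoh.IsQuasiStableUnderKernels P) (hql : PCoh.IsQuasiLiftable P)
    (n m : ℤ) (hnm : n ≤ m) {E H : CochainComplex A ℤ} (u : E ⟶ H)
    (hE : PC9.IsNPC P (n + 1) (DerivedCategory.Q.obj E)) (hH : PC9.IsNPC P n (DerivedCategory.Q.obj H))
    (hac : ∀ i : ℤ, m < i → IsZero ((CochainComplex.mappingCone u).homology i)) :
    PCoh.IsOfFiniteType P ((CochainComplex.mappingCone u).homology m) := by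
  have hT : DerivedCategory.Q.mapTriangle.obj (CochainComplex.mappingCone.triangle u) ∈
      distTriang (DerivedCategory A) := by
    rw [DerivedCategory.mem_distTriang_iff]
    exact ⟨_, _, u, ⟨Iso.refl _⟩⟩
  have h3 : PC9.IsNPC P n (DerivedCategory.Q.obj (CochainComplex.mappingCone u)) :=
    PC9.isNPC_obj₃ hsum hqs hql n _ hT hE hH
  have hft := PC10.ft_of_isNPC P hqs m _ (fun i hi => (PC8.isZero_homology_Q_iff i _).2 (hac i hi))
    (h3.mono hnm)
  exact PC7.isOfFiniteType_of_iso P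
    ((DerivedCategory.homologyFunctorFactors A m).app (CochainComplex.mappingCone u)) hft

/-- partial factorisations -/
def Fac {E H : CochainComplex A ℤ} (u : E ⟶ H) (n i m : ℤ) : Prop :=
  ∃ (E' : CochainComplex A ℤ) (v : E ⟶ E') (u' : E' ⟶ H), v ≫ u' = u ∧ PCoh.IsStrictPC P n E' ∧
    (∀ j : ℤ, Mono (v.f j)) ∧ (∀ j : ℤ, i ≤ j → IsIso (v.f j)) ∧
    (∀ j : ℤ, m < j → IsIso (HomologicalComplex.homologyMap u' j)) ∧
    Epi (HomologicalComplex.homologyMap u' m)

theorem fac_base {E H : CochainComplex A ℤ} (u : E ⟶ H) (n i : ℤ) (hE : PCoh.IsStrictPC P n E)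
    (hiso : ∀ j : ℤ, i < j → IsIso (HomologicalComplex.homologyMap u j))
    (hepi : Epi (HomologicalComplex.homologyMap u i)) : Fac P u n i i :=
  ⟨E, 𝟙 E, u, Category.id_comp u, hE, fun j => by rw [HomologicalComplex.id_f]; infer_instance,
    fun j _ => by rw [HomologicalComplex.id_f]; infer_instance, hiso, hepi⟩

theorem fac_step (hsum : ∀ X Y : A, P X → P Y → P (X ⨯ Y))
    (hqs : PCoh.IsQuasiStableUnderKernels P) (hql : PCoh.IsQuasiLiftable P)
    {E H : CochainComplex A ℤ} (u : E ⟶ H) (n i m : ℤ) (hnm : n ≤ m) (hmi : m < i)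
    (hH : PC9.IsNPC P n (DerivedCategory.Q.obj H)) (h : Fac P u n i (m + 1)) : Fac P u n i m := by
  obtain ⟨E', v, u', hvu, hE', hmono, hisov, hiso, hepi⟩ := h
  have hac : ∀ j : ℤ, m < j → IsZero ((CochainComplex.mappingCone u').homology j) := fun j hj =>
    PC4.isZero_homology_cone_of_nQuasiIso u' (m + 1) hiso hepi j (by omega)
  have hft := ft_cone' P hsum hqs hql n m hnm u'
    (PC9.IsNPC.mono (by omega) (⟨E', hE', ⟨Iso.refl _⟩⟩ : PC9.IsNPC P n _)) hH hac
  obtain ⟨E'', v', u'', hvu', hmono', hisov', -, hiso', hepi', hX, Q₀, hQ₀, ⟨eXm⟩⟩ :=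
    PC5.step P hql m E' H u' hiso hepi hft
  obtain ⟨⟨b, hb⟩, hP⟩ := hE'
  refine ⟨E'', v ≫ v', u'', by rw [Category.assoc, hvu', hvu], ⟨⟨max b m, fun j hj => ?_⟩,
    fun j hj => ?_⟩, fun j => ?_, fun j hj => ?_, hiso', hepi'⟩
  · obtain ⟨e⟩ := hX j (by have := le_max_right b m; omega)
    exact (hb j (by have := le_max_left b m; omega)).of_iso e
  · by_cases hjm : j = m
    · subst hjm
      exact P.prop_of_iso eXm.symm (PC7.prop_biprod P hsum _ _ hQ₀ (hP j hj))
    · obtain ⟨e⟩ := hX j hjm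
      exact P.prop_of_iso e.symm (hP j hj)
  · rw [HomologicalComplex.comp_f]
    haveI := hmono j
    haveI := hmono' j
    exact mono_comp _ _
  · rw [HomologicalComplex.comp_f]
    haveI := hisov j hj
    haveI := hisov' j (by omega)
    infer_instance

theorem fac_all (hsum : ∀ X Y : A, P X → P Y → P (X ⨯ Y))
    (hqs : PCoh.IsQuasiStableUnderKernels P) (hql : PCoh.IsQuasiLiftable P)
    {E H : CochainComplex A ℤ} (u : E ⟶ H) (n i : ℤ) (hE : PCoh.IsStrictPC P n E)
    (hH : PC9.IsNPC P n (DerivedCategory.Q.obj H))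
    (hiso : ∀ j : ℤ, i < j → IsIso (HomologicalComplex.homologyMap u j))
    (hepi : Epi (HomologicalComplex.homologyMap u i)) :
    ∀ t : ℕ, n ≤ i - t → Fac P u n i (i - t) := by
  intro t
  induction t with
  | zero =>
    intro _
    simpa using fac_base P u n i hE hiso hepi
  | succ t ih =>
    intro ht
    have h1 := ih (by push_cast at ht; omega)
    have h2 : i - (t : ℤ) = (i - ((t + 1 : ℕ) : ℤ)) + 1 := by push_cast; ring
    rw [h2] at h1
    exact fac_step P hsum hqs hql u n i _ ht (by push_cast; omega) hH h1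

/-- **S12100** -/
theorem s12100 (hsum : ∀ X Y : A, P X → P Y → P (X ⨯ Y))
    (hqs : PCoh.IsQuasiStableUnderKernels P) (hql : PCoh.IsQuasiLiftable P)
    (n i : ℤ) (E H : CochainComplex A ℤ) (hE : PCoh.IsStrictPC P n E)
    (hH : PC9.IsNPC P n (DerivedCategory.Q.obj H))
    (u : E ⟶ H) (hiso : ∀ j : ℤ, i < j → IsIso (HomologicalComplex.homologyMap u j))
    (hepi : Epi (HomologicalComplex.homologyMap u i)) :
    ∃ (E' : CochainComplex A ℤ) (v : E ⟶ E') (u' : E' ⟶ H), v ≫ u' = u ∧ PCoh.IsStrictPC P n E' ∧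
      QuasiIso u' ∧ (∀ j : ℤ, Mono (v.f j)) ∧ (∀ j : ℤ, i ≤ j → IsIso (v.f j)) := by
  -- reach level `k = min i n`
  have hk : ∃ k : ℤ, k ≤ i ∧ k ≤ n ∧ Fac P u n i k := by
    by_cases hin : i ≤ n
    · exact ⟨i, le_rfl, hin, fac_base P u n i hE hiso hepi⟩
    · refine ⟨n, by omega, le_rfl, ?_⟩
      have := fac_all P hsum hqs hql u n i hE hH hiso hepi (i - n).toNat (by
        rw [Int.toNat_of_nonneg (by omega)]; omega)
      rwa [Int.toNat_of_nonneg (by omega), show i - (i - n) = n by ring] at this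
  obtain ⟨k, hki, hkn, E', v, u', hvu, ⟨⟨b, hb⟩, hP⟩, hmono, hisov, hiso', hepi'⟩ := hk
  obtain ⟨E'', v', u'', hvu', hq, hmono', hisov', -⟩ := PC4.s5600 k E' H u' hiso' hepi'
  refine ⟨E'', v ≫ v', u'', by rw [Category.assoc, hvu', hvu], ⟨⟨max b k, fun j hj => ?_⟩,
    fun j hj => ?_⟩, hq, fun j => ?_, fun j hj => ?_⟩
  · haveI := hisov' j (by have := le_max_right b k; omega)
    exact (hb j (by have := le_max_left b k; omega)).of_iso (asIso (v'.f j)).symm
  · haveI := hisov' j (by omega)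
    exact P.prop_of_iso (asIso (v'.f j)) (hP j hj)
  · rw [HomologicalComplex.comp_f]
    haveI := hmono j
    haveI := hmono' j
    exact mono_comp _ _
  · rw [HomologicalComplex.comp_f]
    haveI := hisov j hj
    haveI := hisov' j (by omega)
    infer_instance

end Groth.Agent.Helper2.PC11
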