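import Groth.Agent.Helper2.PC11
import Mathlib

set_option autoImplicit false

namespace Groth.Agent.Helper2.PC12

open CategoryTheory CategoryTheory.Limits CategoryTheory.Pretriangulated
open Groth.Agent.Helper9.FM Groth.Agent.Helper2.PC1

universe w v u

variable {A : Type u} [Category.{v} A] [Abelian A] [HasDerivedCategory.{w} A]
variable (P : ObjectProperty A) [P.IsClosedUnderIsomorphisms] [P.ContainsZero]

/-- **S5617** -/
theorem s5617 (hsum : ∀ X Y : A, P X → P Y → P (X ⨯ Y))
    (hqs : PCoh.IsQuasiStableUnderKernels P) (hql : PCoh.IsQuasiLiftable P)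
    (n m : ℤ) (hnm : n < m) (F : DerivedCategory A) (hF : PC9.IsNPC P n F)
    (hac : ∀ i : ℤ, m ≤ i → IsZero ((DerivedCategory.homologyFunctor A i).obj F)) :
    ∃ E : CochainComplex A ℤ, PCoh.IsStrictPC P n E ∧ (∀ i : ℤ, m ≤ i → IsZero (E.X i)) ∧
      Nonempty (DerivedCategory.Q.obj E ≅ F) := by
  obtain ⟨K, hK, ⟨e⟩⟩ := hF
  have hacK : ∀ i : ℤ, m ≤ i → IsZero (K.homology i) := by
    intro i hi
    rw [← PC8.isZero_homology_Q_iff]
    exact (hac i hi).of_iso ((DerivedCategory.homologyFunctor A i).mapIso e)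
  have hK' : PCoh.IsStrictPC P (m - 1) K := ⟨hK.1, fun i hi => hK.2 i (by omega)⟩
  have hft := Groth.Agent.Helper9.PCohB.S5602 P hqs (m - 1) K hK' (fun i hi => hacK i (by omega))
  obtain ⟨Q₀, γ, hQ₀, hγ, hsurj⟩ := PC5.exists_lift_to_cocycles P hql K (m - 1) hft
  obtain ⟨T, ι, hPT, hT0, hepi, hTH⟩ := PC10.exists_single_map P K (m - 1) Q₀ hQ₀ γ hγ hsurj
  have hiso : ∀ i : ℤ, m - 1 < i → IsIso (HomologicalComplex.homologyMap ι i) := fun i hi =>
    ⟨⟨0, (hTH i (by omega)).eq_of_src _ _, (hacK i (by omega)).eq_of_src _ _⟩⟩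
  have hT : PCoh.IsStrictPC P n T := ⟨⟨m - 1, fun i hi => hT0 i (by omega)⟩, fun i _ => hPT i⟩
  obtain ⟨E', v, u', -, hE', hq, -, hisov⟩ := PC11.s12100 P hsum hqs hql n (m - 1) T K hT
    ⟨K, hK, ⟨Iso.refl _⟩⟩ ι hiso hepi
  refine ⟨E', hE', fun i hi => ?_, ⟨?_⟩⟩
  · haveI := hisov i (by omega)
    exact (hT0 i (by omega)).of_iso (asIso (v.f i)).symm
  · haveI : IsIso (DerivedCategory.Q.map u') := by
      rw [DerivedCategory.isIso_Q_map_iff_quasiIso]
      exact hq
    exact asIso (DerivedCategory.Q.map u') ≪≫ e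

end Groth.Agent.Helper2.PC12

namespace Groth.Agent.Helper2.PC12

open CategoryTheory CategoryTheory.Limits CategoryTheory.Pretriangulated
open Groth.Agent.Helper9.FM Groth.Agent.Helper2.PC1

universe w v u

variable {A : Type u} [Category.{v} A] [Abelian A] [HasDerivedCategory.{w} A]
variable (P : ObjectProperty A) [P.IsClosedUnderIsomorphisms] [P.ContainsZero]

/-- uniqueness of the point of a bilimit bicone -/
noncomputable def ptIso {C : Type*} [Category C] [HasZeroMorphisms C] {X Y : C}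
    {b b' : BinaryBicone X Y} (hb : b.IsBilimit) (hb' : b'.IsBilimit) : b.pt ≅ b'.pt :=
  hb.isLimit.conePointUniqueUpToIso hb'.isLimit

/-- the swapped bicone -/
def swapBicone {C : Type*} [Category C] [Preadditive C] {X Y : C} (b : BinaryBicone X Y) :
    BinaryBicone Y X where
  pt := b.pt
  fst := b.snd
  snd := b.fst
  inl := b.inr
  inr := b.inl

noncomputable def swapBicone_isBilimit {C : Type*} [Category C] [Preadditive C] {X Y : C}
    {b : BinaryBicone X Y} (hb : b.IsBilimit) : (swapBicone b).IsBilimit :=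
  isBinaryBilimitOfTotal _ (by
    show b.snd ≫ b.inr + b.fst ≫ b.inl = 𝟙 b.pt
    rw [add_comm]
    exact IsBilimit.binary_total hb)

theorem isNPC_biprod_pt (hsum : ∀ X Y : A, P X → P Y → P (X ⨯ Y)) (n : ℤ)
    {F' F'' : DerivedCategory A} {b : BinaryBicone F' F''} (hb : b.IsBilimit)
    (h' : PC9.IsNPC P n F') (h'' : PC9.IsNPC P n F'') : PC9.IsNPC P n b.pt := by
  obtain ⟨E', ⟨⟨b', hb'⟩, hP'⟩, ⟨e'⟩⟩ := h'
  obtain ⟨E'', ⟨⟨b'', hb''⟩, hP''⟩, ⟨e''⟩⟩ := h''
  let c : BinaryBicone F' F'' :=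
    { pt := DerivedCategory.Q.obj (E' ⊞ E'')
      fst := DerivedCategory.Q.map biprod.fst ≫ e'.hom
      snd := DerivedCategory.Q.map biprod.snd ≫ e''.hom
      inl := e'.inv ≫ DerivedCategory.Q.map biprod.inl
      inr := e''.inv ≫ DerivedCategory.Q.map biprod.inr
      inl_fst := by
        rw [Category.assoc, ← Category.assoc (DerivedCategory.Q.map _), ← Functor.map_comp,
          biprod.inl_fst, CategoryTheory.Functor.map_id, Category.id_comp, Iso.inv_hom_id]
      inl_snd := by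
        rw [Category.assoc, ← Category.assoc (DerivedCategory.Q.map _), ← Functor.map_comp,
          biprod.inl_snd, Functor.map_zero, zero_comp, comp_zero]
      inr_fst := by
        rw [Category.assoc, ← Category.assoc (DerivedCategory.Q.map _), ← Functor.map_comp,
          biprod.inr_fst, Functor.map_zero, zero_comp, comp_zero]
      inr_snd := by
        rw [Category.assoc, ← Category.assoc (DerivedCategory.Q.map _), ← Functor.map_comp,
          biprod.inr_snd, CategoryTheory.Functor.map_id, Category.id_comp, Iso.inv_hom_id] }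
  have hc : c.IsBilimit := isBinaryBilimitOfTotal c (by
    show (DerivedCategory.Q.map biprod.fst ≫ e'.hom) ≫ e'.inv ≫ DerivedCategory.Q.map biprod.inl +
      (DerivedCategory.Q.map biprod.snd ≫ e''.hom) ≫ e''.inv ≫ DerivedCategory.Q.map biprod.inr =
        𝟙 _
    simp only [Category.assoc, Iso.hom_inv_id_assoc]
    rw [← Functor.map_comp, ← Functor.map_comp, ← Functor.map_add, biprod.total, CategoryTheory.Functor.map_id])
  have eX : ∀ i : ℤ, (E' ⊞ E'').X i ≅ E'.X i ⊞ E''.X i := fun i =>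
    (HomologicalComplex.eval A (ComplexShape.up ℤ) i).mapBiprod E' E''
  refine ⟨E' ⊞ E'', ⟨⟨max b' b'', fun i hi => ?_⟩, fun i hi => ?_⟩, ⟨ptIso hc hb⟩⟩
  · refine IsZero.of_iso ?_ (eX i)
    have h1 := hb' i (by have := le_max_left b' b''; omega)
    have h2 := hb'' i (by have := le_max_right b' b''; omega)
    rw [IsZero.iff_id_eq_zero]
    apply biprod.hom_ext
    · exact h1.eq_of_tgt _ _
    · exact h2.eq_of_tgt _ _
  · exact P.prop_of_iso (eX i).symm (PC7.prop_biprod P hsum _ _ (hP' i hi) (hP'' i hi))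

end Groth.Agent.Helper2.PC12

namespace Groth.Agent.Helper2.PC12

open CategoryTheory CategoryTheory.Limits CategoryTheory.Pretriangulated
open Groth.Agent.Helper9.FM Groth.Agent.Helper2.PC1

universe w v u

variable {A : Type u} [Category.{v} A] [Abelian A] [HasDerivedCategory.{w} A]
variable (P : ObjectProperty A) [P.IsClosedUnderIsomorphisms] [P.ContainsZero]

open ZeroObject in
/-- an object acyclic above `b` is `(b+1)`-pseudo-coherent -/
theorem isNPC_of_acyclic (hql : PCoh.IsQuasiLiftable P) (b : ℤ) (F : DerivedCategory A)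
    (hac : ∀ i : ℤ, b < i → IsZero ((DerivedCategory.homologyFunctor A i).obj F)) :
    PC9.IsNPC P (b + 1) F := by
  let F₁ := DerivedCategory.Q.objPreimage F
  let e : DerivedCategory.Q.obj F₁ ≅ F := DerivedCategory.Q.objObjPreimageIso F
  have hac₁ : ∀ i : ℤ, b < i → IsZero (F₁.homology i) := by
    intro i hi
    rw [← PC8.isZero_homology_Q_iff]
    exact (hac i hi).of_iso ((DerivedCategory.homologyFunctor A i).mapIso e)
  have hft : PCoh.IsOfFiniteType P (F₁.homology (b + 1)) :=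
    ⟨0, 0, P.prop_zero, ⟨fun f g _ => (hac₁ (b + 1) (by omega)).eq_of_src _ _⟩⟩
  exact (PC10.isNPC_of_ft P hql (b + 1) F₁ (fun i hi => hac₁ i (by omega)) hft).of_iso e

theorem isZero_homology_of_retract {F S : DerivedCategory A} (i' : F ⟶ S) (p : S ⟶ F)
    (hip : i' ≫ p = 𝟙 F) (i : ℤ) (h : IsZero ((DerivedCategory.homologyFunctor A i).obj S)) :
    IsZero ((DerivedCategory.homologyFunctor A i).obj F) := by
  rw [IsZero.iff_id_eq_zero, ← CategoryTheory.Functor.map_id, ← hip, Functor.map_comp]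
  rw [h.eq_of_tgt ((DerivedCategory.homologyFunctor A i).map i') 0, zero_comp]

theorem isNPC_summands (hsum : ∀ X Y : A, P X → P Y → P (X ⨯ Y))
    (hqs : PCoh.IsQuasiStableUnderKernels P) (hql : PCoh.IsQuasiLiftable P) (n : ℤ)
    {F' F'' : DerivedCategory A} {b : BinaryBicone F' F''} (hb : b.IsBilimit)
    (h : PC9.IsNPC P n b.pt) : PC9.IsNPC P n F' ∧ PC9.IsNPC P n F'' := by
  obtain ⟨E, ⟨⟨b₀, hb₀⟩, hP⟩, ⟨e⟩⟩ := id h
  have hS : ∀ i : ℤ, b₀ < i → IsZero ((DerivedCategory.homologyFunctor A i).obj b.pt) := by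
    intro i hi
    have h1 : IsZero (E.homology i) := PC7.isZero_homology_of_isZero_X E i (hb₀ i hi)
    rw [← PC8.isZero_homology_Q_iff] at h1
    exact h1.of_iso ((DerivedCategory.homologyFunctor A i).mapIso e).symm
  have hF' : ∀ i : ℤ, b₀ < i → IsZero ((DerivedCategory.homologyFunctor A i).obj F') :=
    fun i hi => isZero_homology_of_retract b.inl b.fst b.inl_fst i (hS i hi)
  have hF'' : ∀ i : ℤ, b₀ < i → IsZero ((DerivedCategory.homologyFunctor A i).obj F'') :=
    fun i hi => isZero_homology_of_retract b.inr b.snd b.inr_snd i (hS i hi)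
  -- the two split triangles
  have e₁ : (binaryBiproductTriangle F'' F').obj₂ ≅ b.pt :=
    ptIso (BinaryBiproduct.isBilimit F'' F') (swapBicone_isBilimit hb)
  have e₂ : (binaryBiproductTriangle F' F'').obj₂ ≅ b.pt :=
    ptIso (BinaryBiproduct.isBilimit F' F'') hb
  have key : ∀ t : ℕ, n ≤ b₀ + 1 - t →
      PC9.IsNPC P (b₀ + 1 - t) F' ∧ PC9.IsNPC P (b₀ + 1 - t) F'' := by
    intro t
    induction t with
    | zero =>
      intro _
      simpa using ⟨isNPC_of_acyclic P hql b₀ F' hF', isNPC_of_acyclic P hql b₀ F'' hF''⟩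
    | succ t ih =>
      intro ht
      obtain ⟨h1, h2⟩ := ih (by push_cast at ht; omega)
      have hk : b₀ + 1 - (t : ℤ) = (b₀ + 1 - ((t + 1 : ℕ) : ℤ)) + 1 := by push_cast; ring
      rw [hk] at h1 h2
      have hS' : PC9.IsNPC P (b₀ + 1 - ((t + 1 : ℕ) : ℤ)) b.pt := h.mono ht
      exact ⟨PC9.isNPC_obj₃ hsum hqs hql _ (binaryBiproductTriangle F'' F')
          (binaryBiproductTriangle_distinguished F'' F') h2 (hS'.of_iso e₁.symm),
        PC9.isNPC_obj₃ hsum hqs hql _ (binaryBiproductTriangle F' F'')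
          (binaryBiproductTriangle_distinguished F' F'') h1 (hS'.of_iso e₂.symm)⟩
  by_cases hnb : n ≤ b₀ + 1
  · have := key (b₀ + 1 - n).toNat (by rw [Int.toNat_of_nonneg (by omega)]; omega)
    rwa [Int.toNat_of_nonneg (by omega), show b₀ + 1 - (b₀ + 1 - n) = n by ring] at this
  · exact ⟨(isNPC_of_acyclic P hql b₀ F' hF').mono (by omega),
      (isNPC_of_acyclic P hql b₀ F'' hF'').mono (by omega)⟩

/-- **S5605** -/
theorem s5605 (hsum : ∀ X Y : A, P X → P Y → P (X ⨯ Y))
    (hqs : PCoh.IsQuasiStableUnderKernels P) (hql : PCoh.IsQuasiLiftable P)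
    (n : ℤ) (F' F'' : DerivedCategory A) [HasBinaryBiproduct F' F''] :
    PC9.IsNPC P n (F' ⊞ F'') ↔ PC9.IsNPC P n F' ∧ PC9.IsNPC P n F'' := by
  constructor
  · intro h
    exact isNPC_summands P hsum hqs hql n (BinaryBiproduct.isBilimit F' F'') h
  · rintro ⟨h', h''⟩
    exact isNPC_biprod_pt P hsum n (BinaryBiproduct.isBilimit F' F'') h' h''

end Groth.Agent.Helper2.PC12
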