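import Groth.Agent.Helper2.PC12
import Mathlib

set_option autoImplicit false

namespace Groth.Agent.Helper2.PC13

open CategoryTheory CategoryTheory.Limits CategoryTheory.Pretriangulated
open Groth.Agent.Helper9.FM Groth.Agent.Helper2.PC1 Groth.Agent.Helper2.PC2

universe w v u

variable {A : Type u} [Category.{v} A] [Abelian A] [HasDerivedCategory.{w} A]
variable (P : ObjectProperty A) [P.IsClosedUnderIsomorphisms] [P.ContainsZero]

/-- a morphism of `D(A)` from a strictly `n`-pseudo-coherent complex which is an `n`-isomorphism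
exhibits the target as `n`-pseudo-coherent -/
theorem isNPC_of_nIso (n : ℤ) (F : DerivedCategory A) (E : CochainComplex A ℤ)
    (hE : PCoh.IsStrictPC P n E) (α : DerivedCategory.Q.obj E ⟶ F)
    (hiso : ∀ i : ℤ, n < i → IsIso ((DerivedCategory.homologyFunctor A i).map α))
    (hepi : Epi ((DerivedCategory.homologyFunctor A n).map α)) : PC9.IsNPC P n F := by
  let F₁ := DerivedCategory.Q.objPreimage F
  let e : DerivedCategory.Q.obj F₁ ≅ F := DerivedCategory.Q.objObjPreimageIso F
  obtain ⟨F₂, g, s, hs, hfac⟩ := DerivedCategory.left_fac (α ≫ e.inv)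
  have hg : DerivedCategory.Q.map g = α ≫ e.inv ≫ DerivedCategory.Q.map s := by
    rw [← Category.assoc, hfac]
    simp
  have hiso' : ∀ i : ℤ, n < i → IsIso (HomologicalComplex.homologyMap g i) := by
    intro i hi
    rw [← PC8.isIso_map_Q_iff, hg, Functor.map_comp, Functor.map_comp]
    haveI := hiso i hi
    infer_instance
  have hepi' : Epi (HomologicalComplex.homologyMap g n) := by
    rw [← PC8.epi_map_Q_iff, hg, Functor.map_comp, Functor.map_comp]
    infer_instance
  obtain ⟨E', v, g', -, hE', hq, -, -⟩ := PC8.strictPC_of_nQuasiIso P n hE g hiso' hepi'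
  refine ⟨E', hE', ⟨?_⟩⟩
  haveI : IsIso (DerivedCategory.Q.map g') := by
    rw [DerivedCategory.isIso_Q_map_iff_quasiIso]
    exact hq
  exact asIso (DerivedCategory.Q.map g') ≪≫ (asIso (DerivedCategory.Q.map s)).symm ≪≫ e

variable {P}

/-- pseudo-coherence of a single complex in degree `k` from that in degree `0` -/
theorem isNPC_single {r : ℤ} {X : A}
    (h : PC9.IsNPC P r ((DerivedCategory.singleFunctor A 0).obj X)) (k : ℤ) :
    PC9.IsNPC P (r + k)
      (DerivedCategory.Q.obj ((HomologicalComplex.single A (ComplexShape.up ℤ) k).obj X)) := by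
  have h1 := h.shift (-k) (r + k) (by omega)
  have e1 : (shiftFunctor (DerivedCategory A) (-k)).obj ((DerivedCategory.singleFunctor A 0).obj X) ≅
      (DerivedCategory.singleFunctor A k).obj X :=
    ((DerivedCategory.singleFunctors A).shiftIso (-k) k 0 (by omega)).app X
  have e2 : (DerivedCategory.singleFunctor A k).obj X ≅
      DerivedCategory.Q.obj ((HomologicalComplex.single A (ComplexShape.up ℤ) k).obj X) :=
    (DerivedCategory.singleFunctorIsoCompQ A k).app X
  exact h1.of_iso (e1 ≪≫ e2)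

theorem isNPC_sh {r : ℤ} {T : CochainComplex A ℤ} (h : PC9.IsNPC P r (DerivedCategory.Q.obj T)) :
    PC9.IsNPC P (r + 1) (DerivedCategory.Q.obj (PC3.sh T)) := by
  have h1 := h.shift (-1) (r + 1) (by omega)
  exact h1.of_iso ((DerivedCategory.Q.commShiftIso (-1 : ℤ)).app T).symm

end Groth.Agent.Helper2.PC13

namespace Groth.Agent.Helper2.PC13

open CategoryTheory CategoryTheory.Limits CategoryTheory.Pretriangulated
open Groth.Agent.Helper9.FM Groth.Agent.Helper2.PC1 Groth.Agent.Helper2.PC2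

universe w v u

variable {A : Type u} [Category.{v} A] [Abelian A]

section Step

variable {S H : CochainComplex A ℤ} (j : S ⟶ H) (k : ℤ) [IsIso (j.f (k + 1))]

/-- the attaching cocycle `H^k ⟶ cone(j)^k`, `x ↦ (-j⁻¹ (d x), x)` -/
noncomputable def γ : H.X k ⟶ (CochainComplex.mappingCone j).X k :=
  -(H.d k (k + 1) ≫ inv (j.f (k + 1))) ≫ (CochainComplex.mappingCone.inl j).v (k + 1) k (by omega) +
    (CochainComplex.mappingCone.inr j).f k

theorem γ_apply (x : (F A).obj (H.X k)) :
    m (γ j k) x = cmk j k (k + 1) rfl (-(m (inv (j.f (k + 1))) (m (H.d k (k + 1)) x))) x := by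
  unfold γ cmk
  rw [m_add, LinearMap.add_apply, m_neg, LinearMap.neg_apply, m_comp_apply, m_comp_apply, map_neg]

theorem γ_d (hj2 : Mono (j.f (k + 1 + 1))) :
    γ j k ≫ (CochainComplex.mappingCone j).d k (k + 1) = 0 := by
  rw [comp_eq_zero_iff]
  intro x
  rw [γ_apply, d_eq_zero_iff j k (k + 1) (k + 1 + 1) rfl rfl, cfst_cmk, csnd_cmk]
  have h1 : m (j.f (k + 1)) (m (inv (j.f (k + 1))) (m (H.d k (k + 1)) x)) = m (H.d k (k + 1)) x := by
    rw [← m_comp_apply, IsIso.inv_hom_id, m_id]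
    rfl
  constructor
  · apply (mono_iff (j.f (k + 1 + 1))).1 hj2
    rw [map_zero, map_neg, map_neg, ← PC1.f_d_apply, h1, PC1.d_d_apply, neg_zero]
  · rw [map_neg, h1, neg_add_cancel]

end Step

end Groth.Agent.Helper2.PC13

namespace Groth.Agent.Helper2.PC13

open CategoryTheory CategoryTheory.Limits CategoryTheory.Pretriangulated
open Groth.Agent.Helper9.FM Groth.Agent.Helper2.PC1 Groth.Agent.Helper2.PC2

universe w v u

variable {A : Type u} [Category.{v} A] [Abelian A]

section Sigma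

variable {S H : CochainComplex A ℤ} (j : S ⟶ H) (k : ℤ) [IsIso (j.f (k + 1))]
  (hj2 : Mono (j.f (k + 1 + 1)))

/-- the single complex `H^k[-k]` -/
noncomputable abbrev TT (H : CochainComplex A ℤ) (k : ℤ) : CochainComplex A ℤ :=
  (HomologicalComplex.single A (ComplexShape.up ℤ) k).obj (H.X k)

/-- the attaching map `H^k[-k] ⟶ cone(j)` -/
noncomputable def ιι : TT H k ⟶ CochainComplex.mappingCone j :=
  HomologicalComplex.mkHomFromSingle (γ j k) (by
    intro l hl
    obtain rfl : l = k + 1 := by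
      have : k + 1 = l := hl
      omega
    exact γ_d j k hj2)

noncomputable abbrev eTT (H : CochainComplex A ℤ) (k : ℤ) : (TT H k).X k ≅ H.X k :=
  HomologicalComplex.singleObjXSelf (ComplexShape.up ℤ) k (H.X k)

theorem ιι_f (x : (F A).obj ((TT H k).X k)) :
    m ((ιι j k hj2).f k) x = m (γ j k) (m (eTT H k).hom x) := by
  have : (ιι j k hj2).f k = (eTT H k).hom ≫ γ j k := HomologicalComplex.mkHomFromSingle_f _ _
  rw [this, m_comp_apply]

theorem isZero_TT (i : ℤ) (hi : i ≠ k) : IsZero ((TT H k).X i) :=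
  HomologicalComplex.isZero_single_obj_X _ _ _ _ hi

/-- the new complex is zero below `k` -/
theorem isZero_E'_X (hlow : ∀ i, i < k + 1 → IsZero (S.X i)) (i : ℤ) (hi : i < k) :
    IsZero ((PC3.E' j (ιι j k hj2)).X i) := by
  obtain ⟨e⟩ := PC3.nonempty_X_iso j (ιι j k hj2) i
  refine IsZero.of_iso ?_ e
  rw [IsZero.iff_id_eq_zero]
  apply biprod.hom_ext
  · exact (isZero_TT k i (by omega)).eq_of_tgt _ _
  · exact (hlow i (by omega)).eq_of_tgt _ _

/-- the new map is an isomorphism in degree `k` -/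
theorem isIso_u'_k (hlow : ∀ i, i < k + 1 → IsZero (S.X i)) :
    IsIso ((PC3.u' j (ιι j k hj2)).f k) := by
  have hS : IsZero (S.X k) := hlow k (by omega)
  have key : ∀ w, m ((PC3.u' j (ιι j k hj2)).f k) w =
      - m (eTT H k).hom (PC3.tfst j (ιι j k hj2) k w) := by
    intro w
    rw [PC3.u'_apply, ιι_f, γ_apply, csnd_cmk, eq_zero_of_isZero hS (PC3.tsnd j (ιι j k hj2) k w),
      map_zero, add_zero]
  have hinj : Function.Injective (m (eTT H k).hom) := (mono_iff _).1 inferInstance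
  rw [isIso_iff]
  constructor
  · rw [injective_iff_map_eq_zero]
    intro w hw
    rw [key, neg_eq_zero] at hw
    have h1 : PC3.tfst j (ιι j k hj2) k w = 0 := hinj (by rw [hw, map_zero])
    apply PC3.t_ext j (ιι j k hj2) k
    · rw [h1, map_zero]
    · rw [eq_zero_of_isZero hS (PC3.tsnd j (ιι j k hj2) k w), map_zero]
  · intro x
    refine ⟨PC3.tmk j (ιι j k hj2) k (-(m (eTT H k).inv x)) 0, ?_⟩
    rw [key, PC3.tfst_tmk, map_neg, neg_neg, ← m_comp_apply, Iso.inv_hom_id, m_id]
    rfl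

/-- the new map is an isomorphism in degrees `> k` -/
theorem isIso_u'_gt (i : ℤ) (hi : k < i) (hiso : IsIso (j.f i)) :
    IsIso ((PC3.u' j (ιι j k hj2)).f i) := by
  haveI := PC3.isIso_vv_f j (ιι j k hj2) i (isZero_TT k i (by omega))
  have h : (PC3.vv j (ιι j k hj2)).f i ≫ (PC3.u' j (ιι j k hj2)).f i = j.f i := by
    rw [← HomologicalComplex.comp_f, PC3.vv_u']
  exact IsIso.of_isIso_fac_left h

end Sigma

end Groth.Agent.Helper2.PC13

namespace Groth.Agent.Helper2.PC13

open CategoryTheory CategoryTheory.Limits CategoryTheory.Pretriangulated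
open Groth.Agent.Helper9.FM Groth.Agent.Helper2.PC1 Groth.Agent.Helper2.PC2

universe w v u

variable {A : Type u} [Category.{v} A] [Abelian A] [HasDerivedCategory.{w} A]
variable (P : ObjectProperty A) [P.IsClosedUnderIsomorphisms] [P.ContainsZero]

/-- pseudo-coherence of the modified complex `E'` of `PC3` -/
theorem isNPC_E' (hsum : ∀ X Y : A, P X → P Y → P (X ⨯ Y))
    (hqs : PCoh.IsQuasiStableUnderKernels P) (hql : PCoh.IsQuasiLiftable P)
    {E G T : CochainComplex A ℤ} (u : E ⟶ G) (ι : T ⟶ CochainComplex.mappingCone u) (n : ℤ)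
    (hT : PC9.IsNPC P (n + 1) (DerivedCategory.Q.obj (PC3.sh T)))
    (hE : PC9.IsNPC P n (DerivedCategory.Q.obj E)) :
    PC9.IsNPC P n (DerivedCategory.Q.obj (PC3.E' u ι)) := by
  have hTr : DerivedCategory.Q.mapTriangle.obj
      (CochainComplex.mappingCone.triangle (PC3.ψ u ι)) ∈ distTriang (DerivedCategory A) := by
    rw [DerivedCategory.mem_distTriang_iff]
    exact ⟨_, _, PC3.ψ u ι, ⟨Iso.refl _⟩⟩
  exact PC9.isNPC_obj₃ hsum hqs hql n _ hTr hT hE

/-- the stupid truncation `σ_{≥k} H`, up to isomorphism -/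
def Inv (H : CochainComplex A ℤ) (n k : ℤ) : Prop :=
  ∃ (S : CochainComplex A ℤ) (j : S ⟶ H), (∀ i, i < k → IsZero (S.X i)) ∧
    (∀ i, k ≤ i → IsIso (j.f i)) ∧ PC9.IsNPC P n (DerivedCategory.Q.obj S)

open ZeroObject in
theorem inv_base (H : CochainComplex A ℤ) (n b : ℤ) (hb : ∀ i : ℤ, b < i → IsZero (H.X i)) :
    Inv P H n (b + 1) := by
  have hz : ∀ i, IsZero ((0 : CochainComplex A ℤ).X i) := fun i =>
    (HomologicalComplex.eval A (ComplexShape.up ℤ) i).map_isZero (isZero_zero _)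
  refine ⟨0, 0, fun i _ => hz i, fun i hi => ?_, ⟨0, ⟨⟨0, fun i _ => hz i⟩, fun i _ =>
    P.prop_of_isZero (hz i)⟩, ⟨Iso.refl _⟩⟩⟩
  exact ⟨⟨0, (hz i).eq_of_src _ _, (hb i (by omega)).eq_of_src _ _⟩⟩

theorem inv_step (hsum : ∀ X Y : A, P X → P Y → P (X ⨯ Y))
    (hqs : PCoh.IsQuasiStableUnderKernels P) (hql : PCoh.IsQuasiLiftable P)
    (H : CochainComplex A ℤ) (n k : ℤ)
    (hk : PC9.IsNPC P (n - k) ((DerivedCategory.singleFunctor A 0).obj (H.X k)))
    (h : Inv P H n (k + 1)) : Inv P H n k := by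
  obtain ⟨S, j, hlow, hiso, hS⟩ := h
  haveI := hiso (k + 1) le_rfl
  have hj2 : Mono (j.f (k + 1 + 1)) := by
    haveI := hiso (k + 1 + 1) (by omega)
    infer_instance
  refine ⟨PC3.E' j (ιι j k hj2), PC3.u' j (ιι j k hj2), isZero_E'_X j k hj2 hlow, ?_, ?_⟩
  · intro i hi
    rcases hi.lt_or_eq with h | h
    · exact isIso_u'_gt j k hj2 i h (hiso i (by omega))
    · rw [← h]
      exact isIso_u'_k j k hj2 hlow
  · apply isNPC_E' P hsum hqs hql j (ιι j k hj2) n _ hS
    have h1 := isNPC_single hk k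
    rw [show n - k + k = n by ring] at h1
    exact isNPC_sh h1

theorem inv_all (hsum : ∀ X Y : A, P X → P Y → P (X ⨯ Y))
    (hqs : PCoh.IsQuasiStableUnderKernels P) (hql : PCoh.IsQuasiLiftable P)
    (H : CochainComplex A ℤ) (n b : ℤ) (hb : ∀ i : ℤ, b < i → IsZero (H.X i))
    (hfp : ∀ i : ℤ, n ≤ i → PC9.IsNPC P (n - i) ((DerivedCategory.singleFunctor A 0).obj (H.X i))) :
    ∀ t : ℕ, n ≤ b + 1 - t → Inv P H n (b + 1 - t) := by
  intro t
  induction t with
  | zero =>
    intro _
    simpa using inv_base P H n b hb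
  | succ t ih =>
    intro ht
    have h1 := ih (by push_cast at ht; omega)
    have h2 : b + 1 - (t : ℤ) = (b + 1 - ((t + 1 : ℕ) : ℤ)) + 1 := by push_cast; ring
    rw [h2] at h1
    exact inv_step P hsum hqs hql H n _ (hfp _ ht) h1

/-- **S5619** -/
theorem s5619 (hsum : ∀ X Y : A, P X → P Y → P (X ⨯ Y))
    (hqs : PCoh.IsQuasiStableUnderKernels P) (hql : PCoh.IsQuasiLiftable P)
    (n : ℤ) (H : CochainComplex A ℤ) (b : ℤ) (hb : ∀ i : ℤ, b < i → IsZero (H.X i))
    (hfp : ∀ i : ℤ, n ≤ i → PC9.IsNPC P (n - i) ((DerivedCategory.singleFunctor A 0).obj (H.X i))) :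
    PC9.IsNPC P n (DerivedCategory.Q.obj H) := by
  -- enlarge the bound so that `n ≤ b + 1`
  set b' := max b n with hb'def
  have hb' : ∀ i : ℤ, b' < i → IsZero (H.X i) := fun i hi =>
    hb i (lt_of_le_of_lt (le_max_left b n) hi)
  have hnb : n ≤ b' + 1 := by have := le_max_right b n; omega
  have := inv_all P hsum hqs hql H n b' hb' hfp (b' + 1 - n).toNat (by
    rw [Int.toNat_of_nonneg (by omega)]; omega)
  rw [Int.toNat_of_nonneg (by omega), show b' + 1 - (b' + 1 - n) = n by ring] at this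
  obtain ⟨S, j, hlow, hiso, K, hK, ⟨e⟩⟩ := this
  -- `j` is an `n`-quasi-isomorphism
  have hepi : ∀ i : ℤ, n ≤ i → Epi (HomologicalComplex.homologyMap j i) := by
    intro i hi
    rw [epi_homologyMap_iff _ (i - 1) i (i + 1) (by omega) rfl]
    intro y hy
    haveI := hiso i hi
    haveI := hiso (i + 1) (by omega)
    have h1 : m (j.f i) (m (inv (j.f i)) y) = y := by
      rw [← m_comp_apply, IsIso.inv_hom_id, m_id]; rfl
    refine ⟨m (inv (j.f i)) y, ?_, 0, ?_⟩
    · apply (mono_iff (j.f (i + 1))).1 inferInstance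
      rw [map_zero, ← PC1.f_d_apply, h1, hy]
    · rw [h1, sub_self, map_zero]
  have hmono : ∀ i : ℤ, n < i → Mono (HomologicalComplex.homologyMap j i) := by
    intro i hi
    rw [mono_homologyMap_iff _ (i - 1) i (i + 1) (by omega) rfl]
    rintro x hx ⟨w, hw⟩
    haveI := hiso i (by omega)
    haveI := hiso (i - 1) (by omega)
    have h1 : m (j.f (i - 1)) (m (inv (j.f (i - 1))) w) = w := by
      rw [← m_comp_apply, IsIso.inv_hom_id, m_id]; rfl
    refine ⟨m (inv (j.f (i - 1))) w, ?_⟩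
    apply (mono_iff (j.f i)).1 inferInstance
    rw [← PC1.f_d_apply, h1, hw]
  apply isNPC_of_nIso P n _ K hK (e.hom ≫ DerivedCategory.Q.map j)
  · intro i hi
    rw [Functor.map_comp]
    haveI := hepi i (by omega)
    haveI := hmono i hi
    haveI : IsIso (HomologicalComplex.homologyMap j i) := isIso_of_mono_of_epi _
    haveI := (PC8.isIso_map_Q_iff j i).2 inferInstance
    infer_instance
  · rw [Functor.map_comp]
    haveI := (PC8.epi_map_Q_iff j n).2 (hepi n le_rfl)
    infer_instance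

end Groth.Agent.Helper2.PC13
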