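import Groth.Agent.Helper2.PC13
import Mathlib

set_option autoImplicit false

namespace Groth.Agent.Helper2.PC14

open CategoryTheory CategoryTheory.Limits CategoryTheory.Pretriangulated

universe w v u

variable {A : Type u} [Category.{v} A] [Abelian A] [HasDerivedCategory.{w} A]
variable (P : ObjectProperty A) [P.IsClosedUnderIsomorphisms] [P.ContainsZero]

theorem s5607 (hsum : ∀ X Y : A, P X → P Y → P (X ⨯ Y))
    (hqs : PCoh.IsQuasiStableUnderKernels P) (hql : PCoh.IsQuasiLiftable P)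
    (P₁ : ObjectProperty A) (hle : ∀ X : A, P X → P₁ X)
    (hpc : ∀ X : A, P₁ X → PCoh.IsPC P ((DerivedCategory.singleFunctor A 0).obj X)) (n : ℤ)
    (H : DerivedCategory A) :
    PC9.IsNPC P₁ n H ↔ PC9.IsNPC P n H := by
  constructor
  · rintro ⟨E, ⟨⟨b, hb⟩, hP⟩, ⟨e⟩⟩
    exact (PC13.s5619 P hsum hqs hql n E b hb (fun i hi => hpc (E.X i) (hP i hi) (n - i))).of_iso e
  · rintro ⟨E, ⟨hb, hP⟩, he⟩
    exact ⟨E, ⟨hb, fun i hi => hle _ (hP i hi)⟩, he⟩

end Groth.Agent.Helper2.PC14
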