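import Groth.Agent.Helper2.PC14
import Mathlib

set_option autoImplicit false

namespace Groth.Agent.Helper2.PC15

open CategoryTheory CategoryTheory.Limits CategoryTheory.Pretriangulated

universe w v u

variable {A : Type u} [Category.{v} A] [Abelian A] [HasDerivedCategory.{w} A]
variable (P : ObjectProperty A) [P.IsClosedUnderIsomorphisms] [P.ContainsZero]

/-- 0-pseudo-coherence of a single object is finite type -/
theorem ft_of_isNPC_single (hqs : PCoh.IsQuasiStableUnderKernels P) (X : A)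
    (h : PC9.IsNPC P 0 ((DerivedCategory.singleFunctor A 0).obj X)) :
    PCoh.IsOfFiniteType P X := by
  have hac : ∀ i : ℤ, 0 < i →
      IsZero ((DerivedCategory.homologyFunctor A i).obj ((DerivedCategory.singleFunctor A 0).obj X)) :=
    fun i hi => DerivedCategory.isZero_of_isLE _ 0 i hi
  have := PC10.ft_of_isNPC P hqs 0 _ hac h
  exact PC7.isOfFiniteType_of_iso P
    ((DerivedCategory.singleFunctorCompHomologyFunctorIso A 0).app X) this

theorem ql (hqs : PCoh.IsQuasiStableUnderKernels P) (hql : PCoh.IsQuasiLiftable P)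
    (P₁ : ObjectProperty A) (hle : ∀ X : A, P X → P₁ X)
    (hpc : ∀ X : A, P₁ X → PCoh.IsPC P ((DerivedCategory.singleFunctor A 0).obj X)) :
    PCoh.IsQuasiLiftable P₁ := by
  intro E X u hu hX
  obtain ⟨X₀, π, hX₀, hπ⟩ := ft_of_isNPC_single P hqs X (hpc X hX 0)
  haveI : Epi (pullback.snd u π) := inferInstance
  obtain ⟨F', v, hF', hv⟩ := hql (pullback u π) X₀ (pullback.snd u π) inferInstance hX₀
  refine ⟨F', v ≫ pullback.fst u π, hle _ hF', ?_⟩
  rw [Category.assoc, pullback.condition, ← Category.assoc]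
  exact epi_comp _ _

section QS

variable (K : CochainComplex A ℕ)

noncomputable def Z (i : ℕ) : A := kernel (K.d i (i + 1))

noncomputable def ι (i : ℕ) : Z K i ⟶ K.X i := kernel.ι _

noncomputable def p (i : ℕ) : K.X i ⟶ Z K (i + 1) :=
  kernel.lift (K.d (i + 1) (i + 1 + 1)) (K.d i (i + 1)) (K.d_comp_d _ _ _)

@[reassoc (attr := simp)]
theorem p_ι (i : ℕ) : p K i ≫ ι K (i + 1) = K.d i (i + 1) := kernel.lift_ι _ _ _

instance (i : ℕ) : Mono (ι K i) := by unfold ι; exact equalizer.ι_mono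

@[reassoc (attr := simp)]
theorem ι_p (i : ℕ) : ι K i ≫ p K i = 0 := by
  rw [← cancel_mono (ι K (i + 1)), Category.assoc, p_ι, zero_comp]
  exact kernel.condition _

noncomputable def S (i : ℕ) : ShortComplex A := ShortComplex.mk (ι K i) (p K i) (ι_p K i)

theorem epi_p (hex : ∀ i : ℕ, K.ExactAt i) (i : ℕ) : Epi (p K i) := by
  have h := hex (i + 1)
  rw [HomologicalComplex.exactAt_iff' _ i (i + 1) (i + 1 + 1) (by simp) (by simp)] at h
  exact (ShortComplex.exact_iff_epi_kernel_lift _).1 h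

theorem shortExact_S (hex : ∀ i : ℕ, K.ExactAt i) (i : ℕ) : (S K i).ShortExact := by
  haveI : Mono (S K i).f := by dsimp [S]; infer_instance
  haveI : Epi (S K i).g := epi_p K hex i
  refine ShortComplex.ShortExact.mk ?_
  apply ShortComplex.exact_of_f_is_kernel
  exact isKernelOfComp (ι K (i + 1)) (K.d i (i + 1)) (kernelIsKernel (K.d i (i + 1)))
    (ι_p K i) (p_ι K i)

theorem mono_d_zero (hex : ∀ i : ℕ, K.ExactAt i) : Mono (K.d 0 1) := by
  have h := hex 0
  rw [HomologicalComplex.exactAt_iff' _ 0 0 1 (by simp) (by simp)] at h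
  exact (ShortComplex.exact_iff_mono _ (K.shape _ _ (by simp))).1 h

theorem isIso_p_zero (hex : ∀ i : ℕ, K.ExactAt i) : IsIso (p K 0) := by
  haveI := epi_p K hex 0
  haveI : Mono (p K 0) := by
    haveI := mono_d_zero K hex
    haveI : Mono (p K 0 ≫ ι K (0 + 1)) := by rw [p_ι]; infer_instance
    exact mono_of_mono _ (ι K (0 + 1))
  exact isIso_of_mono_of_epi _

end QS

open ZeroObject in
theorem isNPC_zero (n : ℤ) (X : DerivedCategory A) (hX : IsZero X) : PC9.IsNPC P n X := by
  refine ⟨0, ⟨⟨0, fun i _ => ?_⟩, fun i _ => ?_⟩, ⟨?_⟩⟩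
  · exact (HomologicalComplex.eval A (ComplexShape.up ℤ) i).map_isZero (isZero_zero _)
  · exact ObjectProperty.prop_of_isZero P
      ((HomologicalComplex.eval A (ComplexShape.up ℤ) i).map_isZero (isZero_zero _))
  · exact (DerivedCategory.Q.map_isZero (isZero_zero _)).iso hX

theorem qs (hsum : ∀ X Y : A, P X → P Y → P (X ⨯ Y))
    (hqs : PCoh.IsQuasiStableUnderKernels P) (hql : PCoh.IsQuasiLiftable P)
    (P₁ : ObjectProperty A) (hle : ∀ X : A, P X → P₁ X)
    (hpc : ∀ X : A, P₁ X → PCoh.IsPC P ((DerivedCategory.singleFunctor A 0).obj X)) :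
    PCoh.IsQuasiStableUnderKernels P₁ := by
  intro K hex ⟨N, hN⟩ hK
  have key : ∀ m : ℕ, ∀ i : ℕ, 1 ≤ i → N + 1 ≤ i + m →
      PC9.IsNPC P (1 - (i : ℤ)) ((DerivedCategory.singleFunctor A 0).obj (Z K i)) := by
    intro m
    induction m with
    | zero =>
      intro i _ hi
      apply isNPC_zero
      apply Functor.map_isZero
      exact IsZero.of_mono (ι K i) (hN i (by omega))
    | succ m ih =>
      intro i hi1 hi
      have h3 := ih (i + 1) (by omega) (by omega)
      have hT := (shortExact_S K hex i).singleTriangle_distinguished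
      have h2 : PC9.IsNPC P (-(i : ℤ) + 1) ((DerivedCategory.singleFunctor A 0).obj (K.X i)) :=
        hpc (K.X i) (hK i hi1) _
      have h3' : PC9.IsNPC P (-(i : ℤ)) ((shortExact_S K hex i).singleTriangle.obj₃) := by
        have e : (1 - ((i + 1 : ℕ) : ℤ)) = -(i : ℤ) := by push_cast; ring
        rw [e] at h3; exact h3
      have := (PC9.s5599 hsum hqs hql (-(i : ℤ)) _ hT).2.2 h2 h3'
      have e : (-(i : ℤ) + 1) = 1 - (i : ℤ) := by ring
      rw [e] at this; exact this
  have h1 := (key N 1 le_rfl (by omega)).mono (n' := 0) (by simp)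
  have hft := ft_of_isNPC_single P hqs _ h1
  haveI := isIso_p_zero K hex
  obtain ⟨E, π, hE, hπ⟩ := hft
  exact ⟨E, π ≫ inv (p K 0), hle _ hE, epi_comp _ _⟩

theorem s5606 (hsum : ∀ X Y : A, P X → P Y → P (X ⨯ Y))
    (hqs : PCoh.IsQuasiStableUnderKernels P) (hql : PCoh.IsQuasiLiftable P)
    (P₁ : ObjectProperty A) (hle : ∀ X : A, P X → P₁ X)
    (hpc : ∀ X : A, P₁ X → PCoh.IsPC P ((DerivedCategory.singleFunctor A 0).obj X)) :
    PCoh.IsQuasiLiftable P₁ ∧ PCoh.IsQuasiStableUnderKernels P₁ :=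
  ⟨ql P hqs hql P₁ hle hpc, qs P hsum hqs hql P₁ hle hpc⟩

end Groth.Agent.Helper2.PC15
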