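import Groth.Agent.Helper2.PC16
import Mathlib

set_option autoImplicit false

namespace Groth.Agent.Helper2.PC17

open CategoryTheory CategoryTheory.Limits CategoryTheory.Pretriangulated
open Groth.Agent.Helper9.FM Groth.Agent.Helper2.PC1 Groth.Agent.Helper2.PC2

universe w v u

section Homology

variable {A : Type u} [Category.{v} A] [Abelian A]
variable {S H : CochainComplex A ℤ} (j : S ⟶ H)

theorem epi_homologyMap_of_f (i : ℤ) (h1 : Epi (j.f i)) (h2 : Mono (j.f (i + 1))) :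
    Epi (HomologicalComplex.homologyMap j i) := by
  rw [epi_homologyMap_iff _ (i - 1) i (i + 1) (by omega) rfl]
  intro y hy
  obtain ⟨x, hx⟩ := (epi_iff (j.f i)).1 h1 y
  refine ⟨x, ?_, 0, ?_⟩
  · apply (mono_iff (j.f (i + 1))).1 h2
    rw [map_zero, ← PC1.f_d_apply, hx, hy]
  · rw [hx, sub_self, map_zero]

theorem mono_homologyMap_of_f (i : ℤ) (h1 : Epi (j.f (i - 1))) (h2 : Mono (j.f i)) :
    Mono (HomologicalComplex.homologyMap j i) := by
  rw [mono_homologyMap_iff _ (i - 1) i (i + 1) (by omega) rfl]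
  rintro x hx ⟨w, hw⟩
  obtain ⟨w', hw'⟩ := (epi_iff (j.f (i - 1))).1 h1 w
  refine ⟨w', ?_⟩
  apply (mono_iff (j.f i)).1 h2
  rw [← PC1.f_d_apply, hw', hw]

/-- the cone of a map which is an isomorphism in degrees `≥ k` is acyclic in degrees `≥ k` -/
theorem isZero_homology_cone_of_isIso_f (k : ℤ) (hiso : ∀ i, k ≤ i → IsIso (j.f i)) (i : ℤ)
    (hi : k ≤ i) : IsZero ((CochainComplex.mappingCone j).homology i) := by
  haveI := hiso i hi
  haveI := hiso (i + 1) (by omega)
  apply PC4.isZero_homology_cone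
  · apply mono_homologyMap_of_f
    · rw [show i + 1 - 1 = i by ring]; infer_instance
    · infer_instance
  · apply epi_homologyMap_of_f <;> infer_instance

end Homology

section InvT

variable {A : Type u} [Category.{v} A] [Abelian A] [HasDerivedCategory.{w} A]

/-- abstract version of `PC13.Inv`: the stupid truncation `σ_{≥k} H`, up to isomorphism, has
property `𝒯` -/
def InvT (𝒯 : DerivedCategory A → Prop) (H : CochainComplex A ℤ) (k : ℤ) : Prop :=
  ∃ (S : CochainComplex A ℤ) (j : S ⟶ H), (∀ i, i < k → IsZero (S.X i)) ∧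
    (∀ i, k ≤ i → IsIso (j.f i)) ∧ 𝒯 (DerivedCategory.Q.obj S)

variable (𝒯 𝒯₁ : DerivedCategory A → Prop)

open ZeroObject in
theorem invT_base (h0 : ∀ X : DerivedCategory A, IsZero X → 𝒯 X)
    (H : CochainComplex A ℤ) (b : ℤ) (hb : ∀ i : ℤ, b < i → IsZero (H.X i)) :
    InvT 𝒯 H (b + 1) := by
  have hz : ∀ i, IsZero ((0 : CochainComplex A ℤ).X i) := fun i =>
    (HomologicalComplex.eval A (ComplexShape.up ℤ) i).map_isZero (isZero_zero _)
  refine ⟨0, 0, fun i _ => hz i, fun i hi => ?_, h0 _ (DerivedCategory.Q.map_isZero (isZero_zero _))⟩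
  exact ⟨⟨0, (hz i).eq_of_src _ _, (hb i (by omega)).eq_of_src _ _⟩⟩

theorem invT_step
    (htri : ∀ T ∈ distTriang (DerivedCategory A), 𝒯₁ T.obj₁ → 𝒯 T.obj₂ → 𝒯 T.obj₃)
    (H : CochainComplex A ℤ) (k : ℤ)
    (hk : 𝒯₁ (DerivedCategory.Q.obj (PC3.sh (PC13.TT H k))))
    (h : InvT 𝒯 H (k + 1)) : InvT 𝒯 H k := by
  obtain ⟨S, j, hlow, hiso, hS⟩ := h
  haveI := hiso (k + 1) le_rfl
  have hj2 : Mono (j.f (k + 1 + 1)) := by
    haveI := hiso (k + 1 + 1) (by omega)
    infer_instance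
  refine ⟨PC3.E' j (PC13.ιι j k hj2), PC3.u' j (PC13.ιι j k hj2),
    PC13.isZero_E'_X j k hj2 hlow, ?_, ?_⟩
  · intro i hi
    rcases hi.lt_or_eq with h | h
    · exact PC13.isIso_u'_gt j k hj2 i h (hiso i (by omega))
    · rw [← h]
      exact PC13.isIso_u'_k j k hj2 hlow
  · have hTr : DerivedCategory.Q.mapTriangle.obj
        (CochainComplex.mappingCone.triangle (PC3.ψ j (PC13.ιι j k hj2))) ∈
          distTriang (DerivedCategory A) := by
      rw [DerivedCategory.mem_distTriang_iff]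
      exact ⟨_, _, PC3.ψ j (PC13.ιι j k hj2), ⟨Iso.refl _⟩⟩
    exact htri _ hTr hk hS

theorem invT_all (h0 : ∀ X : DerivedCategory A, IsZero X → 𝒯 X)
    (htri : ∀ T ∈ distTriang (DerivedCategory A), 𝒯₁ T.obj₁ → 𝒯 T.obj₂ → 𝒯 T.obj₃)
    (H : CochainComplex A ℤ) (n b : ℤ) (hb : ∀ i : ℤ, b < i → IsZero (H.X i))
    (hk : ∀ k : ℤ, n ≤ k → k ≤ b → 𝒯₁ (DerivedCategory.Q.obj (PC3.sh (PC13.TT H k)))) :
    ∀ t : ℕ, n ≤ b + 1 - t → InvT 𝒯 H (b + 1 - t) := by
  intro t
  induction t with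
  | zero =>
    intro _
    simpa using invT_base 𝒯 h0 H b hb
  | succ t ih =>
    intro ht
    have h1 := ih (by push_cast at ht; omega)
    have h2 : b + 1 - (t : ℤ) = (b + 1 - ((t + 1 : ℕ) : ℤ)) + 1 := by push_cast; ring
    rw [h2] at h1
    exact invT_step 𝒯 𝒯₁ htri H _ (hk _ ht (by push_cast; omega)) h1

end InvT

section Functor

variable {A : Type u} [Category.{v} A] [Abelian A] [HasDerivedCategory.{w} A]
universe w' v' u'
variable {A' : Type u'} [Category.{v'} A'] [Abelian A'] [HasDerivedCategory.{w'} A']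
variable (u : DerivedCategory A ⥤ DerivedCategory A') [u.CommShift ℤ]

theorem isLE_map (b : ℤ)
    (hii : ∀ X : DerivedCategory A,
      (∀ i : ℤ, 0 < i → IsZero ((DerivedCategory.homologyFunctor A i).obj X)) →
      ∀ i : ℤ, b < i → IsZero ((DerivedCategory.homologyFunctor A' i).obj (u.obj X)))
    (s : ℤ) (X : DerivedCategory A) [X.IsLE s] : (u.obj X).IsLE (s + b) := by
  haveI h1 : (X⟦s⟧).IsLE 0 := DerivedCategory.TStructure.t.isLE_shift X s s 0 (by omega)
  have h2 := hii (X⟦s⟧) ((DerivedCategory.isLE_iff _ 0).1 h1)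
  haveI h3 : (u.obj (X⟦s⟧)).IsLE b := (DerivedCategory.isLE_iff _ b).2 h2
  haveI h4 : ((u.obj X)⟦s⟧).IsLE b := by
    haveI : DerivedCategory.TStructure.t.IsLE ((shiftFunctor (DerivedCategory A) s ⋙ u).obj X) b := h3
    exact DerivedCategory.TStructure.t.isLE_of_iso ((u.commShiftIso s).app X) b
  haveI h5 : (((u.obj X)⟦s⟧)⟦-s⟧).IsLE (s + b) :=
    DerivedCategory.TStructure.t.isLE_shift _ b (-s) (s + b) (by omega)
  haveI : DerivedCategory.TStructure.t.IsLE (((shiftEquiv (DerivedCategory A') s).functor ⋙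
      (shiftEquiv (DerivedCategory A') s).inverse).obj (u.obj X)) (s + b) := h5
  exact DerivedCategory.TStructure.t.isLE_of_iso
    ((shiftEquiv (DerivedCategory A') s).unitIso.symm.app (u.obj X)) (s + b)

end Functor


section Main

variable {A : Type u} [Category.{v} A] [Abelian A] [HasDerivedCategory.{w} A]
universe w' v' u'
variable {A' : Type u'} [Category.{v'} A'] [Abelian A'] [HasDerivedCategory.{w'} A']
variable (P : ObjectProperty A) [P.IsClosedUnderIsomorphisms] [P.ContainsZero]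
variable (P' : ObjectProperty A') [P'.IsClosedUnderIsomorphisms] [P'.ContainsZero]
variable (u : DerivedCategory A ⥤ DerivedCategory A') [u.CommShift ℤ]

theorem isNPC_map_sh_single (a k : ℤ) (X : A)
    (h : PC9.IsNPC P' a (u.obj ((DerivedCategory.singleFunctor A 0).obj X))) :
    PC9.IsNPC P' (a + k + 1) (u.obj (DerivedCategory.Q.obj
      (PC3.sh ((HomologicalComplex.single A (ComplexShape.up ℤ) k).obj X)))) := by
  let T := (HomologicalComplex.single A (ComplexShape.up ℤ) k).obj X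
  let Y := (DerivedCategory.singleFunctor A 0).obj X
  have e0 : DerivedCategory.Q.obj (PC3.sh T) ≅ (DerivedCategory.Q.obj T)⟦(-1 : ℤ)⟧ :=
    (DerivedCategory.Q.commShiftIso (-1 : ℤ)).app T
  have e1 : DerivedCategory.Q.obj T ≅ (DerivedCategory.singleFunctor A k).obj X :=
    ((DerivedCategory.singleFunctorIsoCompQ A k).app X).symm
  have e2 : (DerivedCategory.singleFunctor A k).obj X ≅ Y⟦-k⟧ :=
    (((DerivedCategory.singleFunctors A).shiftIso (-k) k 0 (by omega)).app X).symm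
  have e3 : DerivedCategory.Q.obj (PC3.sh T) ≅ (Y⟦-k⟧)⟦(-1 : ℤ)⟧ :=
    e0 ≪≫ (shiftFunctor (DerivedCategory A) (-1 : ℤ)).mapIso (e1 ≪≫ e2)
  have e4 : u.obj ((Y⟦-k⟧)⟦(-1 : ℤ)⟧) ≅ ((u.obj Y)⟦-k⟧)⟦(-1 : ℤ)⟧ :=
    (u.commShiftIso (-1 : ℤ)).app (Y⟦-k⟧) ≪≫
      (shiftFunctor (DerivedCategory A') (-1 : ℤ)).mapIso ((u.commShiftIso (-k)).app Y)
  have h1 := (h.shift (-k) (a + k) (by omega)).shift (-1) (a + k + 1) (by omega)
  exact h1.of_iso (u.mapIso e3 ≪≫ e4).symm

variable [u.IsTriangulated]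

theorem s5620 (hsum : ∀ X Y : A, P X → P Y → P (X ⨯ Y))
    (hqs : PCoh.IsQuasiStableUnderKernels P) (hql : PCoh.IsQuasiLiftable P)
    (hsum' : ∀ X Y : A', P' X → P' Y → P' (X ⨯ Y))
    (hqs' : PCoh.IsQuasiStableUnderKernels P') (hql' : PCoh.IsQuasiLiftable P')
    (a b : ℤ)
    (hi : ∀ E : A, P E → PC9.IsNPC P' a (u.obj ((DerivedCategory.singleFunctor A 0).obj E)))
    (hii : ∀ X : DerivedCategory A,
      (∀ i : ℤ, 0 < i → IsZero ((DerivedCategory.homologyFunctor A i).obj X)) →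
      ∀ i : ℤ, b < i → IsZero ((DerivedCategory.homologyFunctor A' i).obj (u.obj X)))
    (m n : ℤ) (X : DerivedCategory A) (hX : PC9.IsNPC P m X)
    (hac : ∀ i : ℤ, n < i → IsZero ((DerivedCategory.homologyFunctor A i).obj X)) :
    PC9.IsNPC P' (max (m + b) (n + a)) (u.obj X) ∧
      ∀ i : ℤ, n + b < i → IsZero ((DerivedCategory.homologyFunctor A' i).obj (u.obj X)) := by
  haveI hXle : X.IsLE n := (DerivedCategory.isLE_iff _ n).2 hac
  haveI huX : (u.obj X).IsLE (n + b) := isLE_map u b hii n X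
  refine ⟨?_, fun i hi' => DerivedCategory.isZero_of_isLE _ (n + b) i hi'⟩
  set N := max (m + b) (n + a) with hN
  have hN1 : m + b ≤ N := le_max_left _ _
  have hN2 : n + a ≤ N := le_max_right _ _
  by_cases hmn : m ≤ n
  · obtain ⟨E, hE, hzero, ⟨e⟩⟩ := PC12.s5617 P hsum hqs hql m (n + 1) (by omega) X hX
      (fun i hi' => hac i (by omega))
    have hInv := invT_all (fun Y => PC9.IsNPC P' N (u.obj Y)) (fun Y => PC9.IsNPC P' (N + 1) (u.obj Y))
      (fun Y hY => PC15.isNPC_zero P' N _ (u.map_isZero hY))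
      (fun T hT h1 h2 => PC9.isNPC_obj₃ hsum' hqs' hql' N _ (u.map_distinguished T hT) h1 h2)
      E m n (fun i hi' => hzero i (by omega))
      (fun k hk1 hk2 => (isNPC_map_sh_single P' u a k (E.X k) (hi _ (hE.2 k hk1))).mono (by omega))
      (n + 1 - m).toNat (by rw [Int.toNat_of_nonneg (by omega)]; omega)
    rw [Int.toNat_of_nonneg (by omega), show n + 1 - (n + 1 - m) = m by ring] at hInv
    obtain ⟨S, j, hlow, hiso, hS⟩ := hInv
    have hTr : DerivedCategory.Q.mapTriangle.obj (CochainComplex.mappingCone.triangle j) ∈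
        distTriang (DerivedCategory A) := by
      rw [DerivedCategory.mem_distTriang_iff]
      exact ⟨_, _, j, ⟨Iso.refl _⟩⟩
    haveI hcone : (DerivedCategory.Q.obj (CochainComplex.mappingCone j)).IsLE (m - 1) := by
      rw [DerivedCategory.isLE_iff]
      intro i hi'
      rw [PC8.isZero_homology_Q_iff]
      exact isZero_homology_cone_of_isIso_f j m hiso i (by omega)
    haveI h3le : (u.obj (DerivedCategory.Q.obj (CochainComplex.mappingCone j))).IsLE (m - 1 + b) :=
      isLE_map u b hii (m - 1) _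
    haveI h3le' : (u.obj (DerivedCategory.Q.obj (CochainComplex.mappingCone j))).IsLE (N - 1) :=
      DerivedCategory.TStructure.t.isLE_of_le _ (m - 1 + b) (N - 1) (by omega)
    have h3 := PC16.isNPC_of_isLE P' N (u.obj (DerivedCategory.Q.obj (CochainComplex.mappingCone j)))
    have := (PC9.s5599 hsum' hqs' hql' N _ (u.map_distinguished _ hTr)).2.1 hS h3
    exact this.of_iso (u.mapIso e)
  · haveI : (u.obj X).IsLE (N - 1) :=
      DerivedCategory.TStructure.t.isLE_of_le _ (n + b) (N - 1) (by omega)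
    exact PC16.isNPC_of_isLE P' N (u.obj X)

end Main

end Groth.Agent.Helper2.PC17
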