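import Groth.Agent.Helper2.PC17
import Groth.Agent.Helper6.PCohCok
import Mathlib

set_option autoImplicit false

namespace Groth.Agent.Helper2.PC18

open CategoryTheory CategoryTheory.Limits CategoryTheory.Pretriangulated

universe w v u

section Coh

variable {A : Type u} [Category.{v} A] [Abelian A]
variable (P : ObjectProperty A)

/-- precoherent objects -/
def PreCoh (X : A) : Prop := ∀ (E : A) (u : E ⟶ X), P E → PCoh.IsOfFiniteType P (kernel u)

/-- coherent objects -/
def Coh (X : A) : Prop := PCoh.IsOfFiniteType P X ∧ PreCoh P X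

variable {P}

theorem PreCoh.of_mono [P.IsClosedUnderIsomorphisms] {X Y : A} (f : X ⟶ Y) [Mono f]
    (h : PreCoh P Y) : PreCoh P X := by
  intro E u hE
  exact PC7.isOfFiniteType_of_iso P (kernelCompMono u f) (h E (u ≫ f) hE)

theorem ft_of_P {X : A} (h : P X) : PCoh.IsOfFiniteType P X := ⟨X, 𝟙 X, h, inferInstance⟩

theorem coh_of_P (hcoh : ∀ (X E : A) (u : E ⟶ X), P X → P E → PCoh.IsOfFiniteType P (kernel u))
    {X : A} (h : P X) : Coh P X := ⟨ft_of_P h, fun E u hE => hcoh X E u h hE⟩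

/-- kernel of a morphism from a finite type object to a precoherent object is of finite type -/
theorem ft_kernel {X Y : A} (f : X ⟶ Y) (hX : PCoh.IsOfFiniteType P X) (hY : PreCoh P Y) :
    PCoh.IsOfFiniteType P (kernel f) :=
  Groth.Agent.Helper9.PCohA.S5623 P (ShortComplex.mk (kernel.ι f) f (kernel.condition f))
    (ShortComplex.exact_of_f_is_kernel _ (kernelIsKernel f)) (by dsimp; infer_instance) hX hY

theorem coh_kernel [P.IsClosedUnderIsomorphisms] {X Y : A} (f : X ⟶ Y) (hX : Coh P X)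
    (hY : PreCoh P Y) : Coh P (kernel f) :=
  ⟨ft_kernel f hX.1 hY, hX.2.of_mono (kernel.ι f)⟩

/-- source of a kernel-like mono -/
theorem coh_of_isKernel [P.IsClosedUnderIsomorphisms] {K X Y : A} (i : K ⟶ X) (f : X ⟶ Y)
    (w : i ≫ f = 0) (hl : IsLimit (KernelFork.ofι i w)) (hX : Coh P X) (hY : PreCoh P Y) :
    Coh P K := by
  haveI : Mono i := mono_of_isLimit_fork hl
  refine ⟨?_, hX.2.of_mono i⟩
  exact Groth.Agent.Helper9.PCohA.S5623 P (ShortComplex.mk i f w)
    (ShortComplex.exact_of_f_is_kernel _ hl) (by dsimp; infer_instance) hX.1 hY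

theorem Coh.of_iso [P.IsClosedUnderIsomorphisms] {X Y : A} (e : X ≅ Y) (h : Coh P X) : Coh P Y :=
  ⟨PC7.isOfFiniteType_of_iso P e h.1, h.2.of_mono e.inv⟩

end Coh

section QS

variable {A : Type u} [Category.{v} A] [Abelian A]
variable (P : ObjectProperty A) [P.IsClosedUnderIsomorphisms] [P.ContainsZero]

/-- coherence of the objects of `P` implies quasi-stability under kernels -/
theorem qs_of_coh (hcoh : ∀ (X E : A) (u : E ⟶ X), P X → P E → PCoh.IsOfFiniteType P (kernel u)) :
    PCoh.IsQuasiStableUnderKernels P := by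
  intro K hex _ hK
  have h1 : PCoh.IsOfFiniteType P (kernel (K.d 1 2)) :=
    ft_kernel _ (ft_of_P (hK 1 le_rfl)) ((coh_of_P hcoh (hK 2 (by omega))).2)
  let p : K.X 0 ⟶ kernel (K.d 1 2) := kernel.lift _ (K.d 0 1) (K.d_comp_d _ _ _)
  have hp : p ≫ kernel.ι _ = K.d 0 1 := kernel.lift_ι _ _ _
  haveI : Epi p := by
    have h := hex 1
    rw [HomologicalComplex.exactAt_iff' _ 0 1 2 (by simp) (by simp)] at h
    exact (ShortComplex.exact_iff_epi_kernel_lift _).1 h
  haveI : Mono p := by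
    have h := hex 0
    rw [HomologicalComplex.exactAt_iff' _ 0 0 1 (by simp) (by simp)] at h
    haveI : Mono (K.d 0 1) := (ShortComplex.exact_iff_mono _ (K.shape _ _ (by simp))).1 h
    haveI : Mono (p ≫ kernel.ι (K.d 1 2)) := by rw [hp]; infer_instance
    exact mono_of_mono _ (kernel.ι (K.d 1 2))
  haveI : IsIso p := isIso_of_mono_of_epi _
  obtain ⟨E, π, hE, hπ⟩ := h1
  exact ⟨E, π ≫ inv p, hE, epi_comp _ _⟩

end QS


section Fwd

variable {A : Type u} [Category.{v} A] [Abelian A]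
variable (P : ObjectProperty A) [P.IsClosedUnderIsomorphisms] [P.ContainsZero]

theorem coh_cycles
    (hcoh : ∀ (X E : A) (u : E ⟶ X), P X → P E → PCoh.IsOfFiniteType P (kernel u))
    (E : CochainComplex A ℤ) (i : ℤ) (h1 : P (E.X i)) (h2 : P (E.X (i + 1))) :
    Coh P (E.cycles i) :=
  coh_of_isKernel (E.iCycles i) (E.d i (i + 1)) (E.iCycles_d i (i + 1))
    (E.cyclesIsKernel i (i + 1) (by simp)) (coh_of_P hcoh h1) (coh_of_P hcoh h2).2

theorem ft_homology
    (hcoh : ∀ (X E : A) (u : E ⟶ X), P X → P E → PCoh.IsOfFiniteType P (kernel u))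
    (E : CochainComplex A ℤ) (i : ℤ) (h1 : P (E.X i)) (h2 : P (E.X (i + 1))) :
    PCoh.IsOfFiniteType P (E.homology i) :=
  Groth.Agent.Helper9.PCohA.isOfFiniteType_of_epi P (E.homologyπ i) (coh_cycles P hcoh E i h1 h2).1

theorem precoh_homology (hsum : ∀ X Y : A, P X → P Y → P (X ⨯ Y)) (hql : PCoh.IsQuasiLiftable P)
    (hcoh : ∀ (X E : A) (u : E ⟶ X), P X → P E → PCoh.IsOfFiniteType P (kernel u))
    (E : CochainComplex A ℤ) (i : ℤ) (h0 : P (E.X (i - 1))) (h1 : P (E.X i))
    (h2 : P (E.X (i + 1))) : PreCoh P (E.homology i) :=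
  Groth.Agent.Helper6.PCohCok.main P hsum hql
    (ShortComplex.mk (E.toCycles (i - 1) i) (E.homologyπ i) (E.toCycles_comp_homologyπ _ _))
    (ShortComplex.exact_of_g_is_cokernel _ (E.homologyIsCokernel (i - 1) i (by simp)))
    (by dsimp; infer_instance) (ft_of_P h0) (coh_cycles P hcoh E i h1 h2).2

variable [HasDerivedCategory.{w} A]

theorem fwd (hsum : ∀ X Y : A, P X → P Y → P (X ⨯ Y)) (hql : PCoh.IsQuasiLiftable P)
    (hcoh : ∀ (X E : A) (u : E ⟶ X), P X → P E → PCoh.IsOfFiniteType P (kernel u))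
    (n : ℤ) (X : DerivedCategory A) (h : PC9.IsNPC P n X) :
    PCoh.IsOfFiniteType P ((DerivedCategory.homologyFunctor A n).obj X) ∧
      ∀ i : ℤ, n < i → Coh P ((DerivedCategory.homologyFunctor A i).obj X) := by
  obtain ⟨E, ⟨_, hE⟩, ⟨e⟩⟩ := h
  have eH : ∀ i : ℤ, E.homology i ≅ (DerivedCategory.homologyFunctor A i).obj X := fun i =>
    ((DerivedCategory.homologyFunctorFactors A i).app E).symm ≪≫
      (DerivedCategory.homologyFunctor A i).mapIso e
  refine ⟨PC7.isOfFiniteType_of_iso P (eH n)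
    (ft_homology P hcoh E n (hE n le_rfl) (hE (n + 1) (by omega))), fun i hi => ?_⟩
  exact Coh.of_iso (eH i) ⟨ft_homology P hcoh E i (hE i (by omega)) (hE (i + 1) (by omega)),
    precoh_homology P hsum hql hcoh E i (hE (i - 1) (by omega)) (hE i (by omega))
      (hE (i + 1) (by omega))⟩

theorem isNPC_single_of_P (X : A) (hX : P X) (r : ℤ) :
    PC9.IsNPC P r ((DerivedCategory.singleFunctor A 0).obj X) := by
  refine ⟨(HomologicalComplex.single A (ComplexShape.up ℤ) 0).obj X, ⟨⟨0, fun i hi => ?_⟩,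
    fun i _ => ?_⟩, ⟨((DerivedCategory.singleFunctorIsoCompQ A 0).app X).symm⟩⟩
  · exact HomologicalComplex.isZero_single_obj_X _ _ _ _ (by omega)
  · by_cases hi : i = 0
    · subst hi
      exact P.prop_of_iso (HomologicalComplex.singleObjXSelf (ComplexShape.up ℤ) 0 X).symm hX
    · exact P.prop_of_isZero (HomologicalComplex.isZero_single_obj_X _ _ _ _ hi)

theorem isNPC_zero_of_ft (hql : PCoh.IsQuasiLiftable P) (X : A) (hX : PCoh.IsOfFiniteType P X) :
    PC9.IsNPC P 0 ((DerivedCategory.singleFunctor A 0).obj X) := by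
  let K := (HomologicalComplex.single A (ComplexShape.up ℤ) 0).obj X
  have h := PC10.isNPC_of_ft P hql 0 K
    (fun i hi => PC7.isZero_homology_of_isZero_X K i
      (HomologicalComplex.isZero_single_obj_X _ _ _ _ (by omega)))
    (PC7.isOfFiniteType_of_iso P
      (HomologicalComplex.singleObjHomologySelfIso (ComplexShape.up ℤ) 0 X).symm hX)
  exact h.of_iso ((DerivedCategory.singleFunctorIsoCompQ A 0).app X).symm

theorem pc_of_coh (hsum : ∀ X Y : A, P X → P Y → P (X ⨯ Y)) (hql : PCoh.IsQuasiLiftable P)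
    (hcoh : ∀ (X E : A) (u : E ⟶ X), P X → P E → PCoh.IsOfFiniteType P (kernel u))
    (r : ℕ) : ∀ X : A, Coh P X →
      PC9.IsNPC P (-(r : ℤ)) ((DerivedCategory.singleFunctor A 0).obj X) := by
  have hqs := qs_of_coh P hcoh
  induction r with
  | zero =>
    intro X hX
    simpa using isNPC_zero_of_ft P hql X hX.1
  | succ r ih =>
    intro X hX
    obtain ⟨E₀, π, hE₀, hπ⟩ := hX.1
    have hS : (ShortComplex.mk (kernel.ι π) π (kernel.condition π)).ShortExact :=
      { exact := ShortComplex.exact_of_f_is_kernel _ (kernelIsKernel π)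
        mono_f := by dsimp; infer_instance
        epi_g := hπ }
    have hT := hS.singleTriangle_distinguished
    have h1 := ih (kernel π) (coh_kernel π (coh_of_P hcoh hE₀) hX.2)
    have h2 := isNPC_single_of_P P E₀ hE₀ (-((r + 1 : ℕ) : ℤ))
    have h1' : PC9.IsNPC P (-((r + 1 : ℕ) : ℤ) + 1) hS.singleTriangle.obj₁ := by
      have e : (-((r + 1 : ℕ) : ℤ) + 1) = -(r : ℤ) := by push_cast; ring
      rw [e]; exact h1
    exact (PC9.s5599 hsum hqs hql (-((r + 1 : ℕ) : ℤ)) _ hT).1 h1' h2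

theorem s5608 (hsum : ∀ X Y : A, P X → P Y → P (X ⨯ Y)) (hql : PCoh.IsQuasiLiftable P)
    (hcoh : ∀ (X E : A) (u : E ⟶ X), P X → P E → PCoh.IsOfFiniteType P (kernel u))
    (n : ℤ) (X : DerivedCategory A) (b : ℤ)
    (hb : ∀ i : ℤ, b < i → IsZero ((DerivedCategory.homologyFunctor A i).obj X)) :
    PC9.IsNPC P n X ↔
      (PCoh.IsOfFiniteType P ((DerivedCategory.homologyFunctor A n).obj X) ∧
        ∀ i : ℤ, n < i → (PCoh.IsOfFiniteType P ((DerivedCategory.homologyFunctor A i).obj X) ∧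
          ∀ (E : A) (u : E ⟶ (DerivedCategory.homologyFunctor A i).obj X), P E →
            PCoh.IsOfFiniteType P (kernel u))) := by
  constructor
  · intro h
    exact fwd P hsum hql hcoh n X h
  · rintro ⟨h1, h2⟩
    apply PC16.s5604 P hsum (qs_of_coh P hcoh) hql n X b hb
    intro i hi
    rcases hi.lt_or_eq with hlt | rfl
    · have := pc_of_coh P hsum hql hcoh (i - n).toNat _ (h2 i hlt)
      rw [Int.toNat_of_nonneg (by omega)] at this
      convert this using 1
      ring
    · rw [sub_self]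
      exact isNPC_zero_of_ft P hql _ h1

end Fwd

end Groth.Agent.Helper2.PC18
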