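import Groth.Agent.Helper2.PC18
import Groth.Agent.Helper9.PerfCyc
import Mathlib

set_option autoImplicit false

namespace Groth.Agent.Helper2.PC19

open CategoryTheory CategoryTheory.Limits CategoryTheory.Pretriangulated

universe w v u

variable {A : Type u} [Category.{v} A] [Abelian A] [HasDerivedCategory.{w} A]
variable (P : ObjectProperty A) [P.IsClosedUnderIsomorphisms] [P.ContainsZero]

/-- liftable implies quasi-liftable -/
theorem ql_of_lift (hlift : ∀ (E F : A) (u : E ⟶ F), Epi u → P F → IsSplitEpi u) :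
    PCoh.IsQuasiLiftable P := by
  intro E X u hu hX
  obtain ⟨⟨s, hs⟩⟩ := hlift E X u hu hX
  exact ⟨X, s, hX, by rw [hs]; infer_instance⟩

/-- stable under kernels of epimorphisms implies quasi-stable -/
theorem qs_of_st (hst : ∀ (E F : A) (u : E ⟶ F), Epi u → P E → P F → P (kernel u)) :
    PCoh.IsQuasiStableUnderKernels P := by
  intro K hex ⟨N, hN⟩ hK
  have key : ∀ m : ℕ, ∀ i : ℕ, 1 ≤ i → N + 1 ≤ i + m → P (PC15.Z K i) := by
    intro m
    induction m with
    | zero =>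
      intro i _ hi
      exact P.prop_of_isZero (IsZero.of_mono (PC15.ι K i) (hN i (by omega)))
    | succ m ih =>
      intro i hi1 hi
      have h3 := ih (i + 1) (by omega) (by omega)
      have hS := PC15.shortExact_S K hex i
      have e := IsLimit.conePointUniqueUpToIso hS.fIsKernel (kernelIsKernel (PC15.p K i))
      exact P.prop_of_iso e.symm (hst _ _ (PC15.p K i) (PC15.epi_p K hex i) (hK i hi1) h3)
  have h1 := key N 1 le_rfl (by omega)
  haveI := PC15.isIso_p_zero K hex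
  exact ⟨PC15.Z K (0 + 1), inv (PC15.p K 0), h1, inferInstance⟩

/-- `Q` of a biproduct of complexes is the biproduct -/
noncomputable def biprodQIso {F' F'' : DerivedCategory A} {b : BinaryBicone F' F''}
    (hb : b.IsBilimit) (E' E'' : CochainComplex A ℤ) (e' : DerivedCategory.Q.obj E' ≅ F')
    (e'' : DerivedCategory.Q.obj E'' ≅ F'') : DerivedCategory.Q.obj (E' ⊞ E'') ≅ b.pt := by
  let c : BinaryBicone F' F'' :=
    { pt := DerivedCategory.Q.obj (E' ⊞ E'')
      fst := DerivedCategory.Q.map biprod.fst ≫ e'.hom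
      snd := DerivedCategory.Q.map biprod.snd ≫ e''.hom
      inl := e'.inv ≫ DerivedCategory.Q.map biprod.inl
      inr := e''.inv ≫ DerivedCategory.Q.map biprod.inr
      inl_fst := by
        rw [Category.assoc, ← Category.assoc (DerivedCategory.Q.map _), ← Functor.map_comp,
          biprod.inl_fst, CategoryTheory.Functor.map_id, Category.id_comp, Iso.inv_hom_id]
      inl_snd := by
        rw [Category.assoc, ← Category.assoc (DerivedCategory.Q.map _), ← Functor.map_comp,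
          biprod.inl_snd, Functor.map_zero, zero_comp, comp_zero]
      inr_fst := by
        rw [Category.assoc, ← Category.assoc (DerivedCategory.Q.map _), ← Functor.map_comp,
          biprod.inr_fst, Functor.map_zero, zero_comp, comp_zero]
      inr_snd := by
        rw [Category.assoc, ← Category.assoc (DerivedCategory.Q.map _), ← Functor.map_comp,
          biprod.inr_snd, CategoryTheory.Functor.map_id, Category.id_comp, Iso.inv_hom_id] }
  have hc : c.IsBilimit := isBinaryBilimitOfTotal c (by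
    show (DerivedCategory.Q.map biprod.fst ≫ e'.hom) ≫ e'.inv ≫ DerivedCategory.Q.map biprod.inl +
      (DerivedCategory.Q.map biprod.snd ≫ e''.hom) ≫ e''.inv ≫ DerivedCategory.Q.map biprod.inr =
        𝟙 _
    simp only [Category.assoc, Iso.hom_inv_id_assoc]
    rw [← Functor.map_comp, ← Functor.map_comp, ← Functor.map_add, biprod.total,
      CategoryTheory.Functor.map_id])
  exact PC12.ptIso hc hb

noncomputable def biprodXIso (E' E'' : CochainComplex A ℤ) (i : ℤ) :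
    (E' ⊞ E'').X i ≅ E'.X i ⊞ E''.X i :=
  (HomologicalComplex.eval A (ComplexShape.up ℤ) i).mapBiprod E' E''

theorem isZero_biprod {X Y : A} (hX : IsZero X) (hY : IsZero Y) : IsZero (X ⊞ Y) := by
  rw [IsZero.iff_id_eq_zero]
  apply biprod.hom_ext
  · exact hX.eq_of_tgt _ _
  · exact hY.eq_of_tgt _ _

/-- perfect amplitude in `[a, b]` -/
def PerfAmp (a b : ℤ) (X : DerivedCategory A) : Prop :=
  ∃ E : CochainComplex A ℤ, (∀ i : ℤ, P (E.X i)) ∧ (∀ i : ℤ, i < a ∨ b < i → IsZero (E.X i)) ∧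
    Nonempty (DerivedCategory.Q.obj E ≅ X)

theorem perfAmp_pt (hsum : ∀ X Y : A, P X → P Y → P (X ⨯ Y)) (a b : ℤ)
    {F' F'' : DerivedCategory A} {bc : BinaryBicone F' F''} (hb : bc.IsBilimit)
    (h' : PerfAmp P a b F') (h'' : PerfAmp P a b F'') : PerfAmp P a b bc.pt := by
  obtain ⟨E', hP', hz', ⟨e'⟩⟩ := h'
  obtain ⟨E'', hP'', hz'', ⟨e''⟩⟩ := h''
  refine ⟨E' ⊞ E'', fun i => ?_, fun i hi => ?_, ⟨biprodQIso hb E' E'' e' e''⟩⟩
  · exact P.prop_of_iso (biprodXIso E' E'' i).symm (PC7.prop_biprod P hsum _ _ (hP' i) (hP'' i))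
  · exact (isZero_biprod (hz' i hi) (hz'' i hi)).of_iso (biprodXIso E' E'' i)

theorem perfAmp_summands (hsum : ∀ X Y : A, P X → P Y → P (X ⨯ Y))
    (hlift : ∀ (E F : A) (u : E ⟶ F), Epi u → P F → IsSplitEpi u)
    (hst : ∀ (E F : A) (u : E ⟶ F), Epi u → P E → P F → P (kernel u))
    (hfac : ∀ (E' E'' : A) [HasBinaryBiproduct E' E''], P (E' ⊞ E'') → P E' ∧ P E'')
    (a b : ℤ) (hab : a ≤ b)
    {F' F'' : DerivedCategory A} {bc : BinaryBicone F' F''} (hb : bc.IsBilimit)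
    (h : PerfAmp P a b bc.pt) : PerfAmp P a b F' ∧ PerfAmp P a b F'' := by
  have hql := ql_of_lift P hlift
  have hqs := qs_of_st P hst
  obtain ⟨E, hPE, hzE, ⟨e⟩⟩ := id h
  have hS : ∀ i : ℤ, i < a ∨ b < i → IsZero ((DerivedCategory.homologyFunctor A i).obj bc.pt) := by
    intro i hi
    have h1 : IsZero (E.homology i) := PC7.isZero_homology_of_isZero_X E i (hzE i hi)
    rw [← PC8.isZero_homology_Q_iff] at h1
    exact h1.of_iso ((DerivedCategory.homologyFunctor A i).mapIso e).symm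
  have hF' : ∀ i : ℤ, i < a ∨ b < i → IsZero ((DerivedCategory.homologyFunctor A i).obj F') :=
    fun i hi => PC12.isZero_homology_of_retract bc.inl bc.fst bc.inl_fst i (hS i hi)
  have hF'' : ∀ i : ℤ, i < a ∨ b < i → IsZero ((DerivedCategory.homologyFunctor A i).obj F'') :=
    fun i hi => PC12.isZero_homology_of_retract bc.inr bc.snd bc.inr_snd i (hS i hi)
  have hpc : PC9.IsNPC P a bc.pt := ⟨E, ⟨⟨b, fun i hi => hzE i (Or.inr hi)⟩, fun i _ => hPE i⟩, ⟨e⟩⟩
  obtain ⟨hpc', hpc''⟩ := PC12.isNPC_summands P hsum hqs hql a hb hpc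
  obtain ⟨E₁, hE₁, hz₁, ⟨e₁⟩⟩ := PC12.s5617 P hsum hqs hql a (b + 1) (by omega) F' hpc'
    (fun i hi => hF' i (Or.inr (by omega)))
  obtain ⟨E₂, hE₂, hz₂, ⟨e₂⟩⟩ := PC12.s5617 P hsum hqs hql a (b + 1) (by omega) F'' hpc''
    (fun i hi => hF'' i (Or.inr (by omega)))
  -- acyclicity below `a`
  haveI hGE₁ : E₁.IsGE a := by
    rw [CochainComplex.isGE_iff]
    intro i hi
    rw [HomologicalComplex.exactAt_iff_isZero_homology, ← PC8.isZero_homology_Q_iff]
    exact (hF' i (Or.inl hi)).of_iso ((DerivedCategory.homologyFunctor A i).mapIso e₁)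
  haveI hGE₂ : E₂.IsGE a := by
    rw [CochainComplex.isGE_iff]
    intro i hi
    rw [HomologicalComplex.exactAt_iff_isZero_homology, ← PC8.isZero_homology_Q_iff]
    exact (hF'' i (Or.inl hi)).of_iso ((DerivedCategory.homologyFunctor A i).mapIso e₂)
  let G₁ := E₁.truncGE a
  let G₂ := E₂.truncGE a
  have g₁ : DerivedCategory.Q.obj G₁ ≅ F' :=
    (asIso (DerivedCategory.Q.map (E₁.πTruncGE a))).symm ≪≫ e₁
  have g₂ : DerivedCategory.Q.obj G₂ ≅ F'' :=
    (asIso (DerivedCategory.Q.map (E₂.πTruncGE a))).symm ≪≫ e₂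
  have hzG₁ : ∀ i : ℤ, i < a ∨ b < i → IsZero (G₁.X i) := by
    rintro i (hi | hi)
    · exact G₁.isZero_of_isStrictlyGE a i hi
    · exact (hz₁ i (by omega)).of_iso (E₁.truncGEXIso a i (by omega))
  have hzG₂ : ∀ i : ℤ, i < a ∨ b < i → IsZero (G₂.X i) := by
    rintro i (hi | hi)
    · exact G₂.isZero_of_isStrictlyGE a i hi
    · exact (hz₂ i (by omega)).of_iso (E₂.truncGEXIso a i (by omega))
  have hPG₁ : ∀ i : ℤ, a < i → P (G₁.X i) := fun i hi =>
    P.prop_of_iso (E₁.truncGEXIso a i hi).symm (hE₁.2 i (by omega))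
  have hPG₂ : ∀ i : ℤ, a < i → P (G₂.X i) := fun i hi =>
    P.prop_of_iso (E₂.truncGEXIso a i hi).symm (hE₂.2 i (by omega))
  have hGa : P ((G₁ ⊞ G₂).X a) := by
    apply Groth.Agent.Helper9.PerfCone.s5621 P hsum hlift hst a b (G₁ ⊞ G₂)
    · intro i hi
      exact (isZero_biprod (hzG₁ i hi) (hzG₂ i hi)).of_iso (biprodXIso G₁ G₂ i)
    · intro i hi
      exact P.prop_of_iso (biprodXIso G₁ G₂ i).symm
        (PC7.prop_biprod P hsum _ _ (hPG₁ i hi) (hPG₂ i hi))
    · exact ⟨E, hPE, hzE, ⟨e ≪≫ (biprodQIso hb G₁ G₂ g₁ g₂).symm⟩⟩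
  obtain ⟨hGa₁, hGa₂⟩ := hfac _ _ (P.prop_of_iso (biprodXIso G₁ G₂ a) hGa)
  have hall₁ : ∀ i : ℤ, P (G₁.X i) := by
    intro i
    rcases lt_trichotomy i a with hi | rfl | hi
    · exact P.prop_of_isZero (hzG₁ i (Or.inl hi))
    · exact hGa₁
    · exact hPG₁ i hi
  have hall₂ : ∀ i : ℤ, P (G₂.X i) := by
    intro i
    rcases lt_trichotomy i a with hi | rfl | hi
    · exact P.prop_of_isZero (hzG₂ i (Or.inl hi))
    · exact hGa₂
    · exact hPG₂ i hi
  exact ⟨⟨G₁, hall₁, hzG₁, ⟨g₁⟩⟩, ⟨G₂, hall₂, hzG₂, ⟨g₂⟩⟩⟩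

theorem s5622 (hsum : ∀ X Y : A, P X → P Y → P (X ⨯ Y))
    (hlift : ∀ (E F : A) (u : E ⟶ F), Epi u → P F → IsSplitEpi u)
    (hst : ∀ (E F : A) (u : E ⟶ F), Epi u → P E → P F → P (kernel u))
    (a b : ℤ) (hab : a ≤ b) (F' F'' : DerivedCategory A) [HasBinaryBiproduct F' F''] :
    ((PerfAmp P a b F' ∧ PerfAmp P a b F'') → PerfAmp P a b (F' ⊞ F'')) ∧
      ((∀ (E' E'' : A) [HasBinaryBiproduct E' E''], P (E' ⊞ E'') → P E' ∧ P E'') →
        PerfAmp P a b (F' ⊞ F'') → PerfAmp P a b F' ∧ PerfAmp P a b F'') :=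
  ⟨fun h => perfAmp_pt P hsum a b (BinaryBiproduct.isBilimit F' F'') h.1 h.2,
    fun hfac h => perfAmp_summands P hsum hlift hst hfac a b hab
      (BinaryBiproduct.isBilimit F' F'') h⟩

end Groth.Agent.Helper2.PC19
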