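import Groth.Agent.Helper2.PC1
import Mathlib

/-!
# Elements of mapping cones
-/

set_option autoImplicit false

namespace Groth.Agent.Helper2.PC2

open CategoryTheory CategoryTheory.Limits CochainComplex CochainComplex.HomComplex
open Groth.Agent.Helper9.FM

universe v u

variable {A : Type u} [Category.{v} A] [Abelian A]
variable {K L : CochainComplex A ℤ} (φ : K ⟶ L)

/-- first component of an element of the cone -/
noncomputable abbrev cfst (i j : ℤ) (hij : i + 1 = j) :
    (F A).obj ((mappingCone φ).X i) →ₗ[R A] (F A).obj (K.X j) :=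
  m ((mappingCone.fst φ).1.v i j hij)

/-- second component of an element of the cone -/
noncomputable abbrev csnd (i : ℤ) :
    (F A).obj ((mappingCone φ).X i) →ₗ[R A] (F A).obj (L.X i) :=
  m ((mappingCone.snd φ).v i i (add_zero i))

/-- the element of the cone with given components -/
noncomputable def cmk (i j : ℤ) (hij : i + 1 = j) (x : (F A).obj (K.X j)) (y : (F A).obj (L.X i)) :
    (F A).obj ((mappingCone φ).X i) :=
  m ((mappingCone.inl φ).v j i (by omega)) x + m ((mappingCone.inr φ).f i) y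

@[simp] theorem cfst_cmk (i j : ℤ) (hij : i + 1 = j) (x : (F A).obj (K.X j))
    (y : (F A).obj (L.X i)) : cfst φ i j hij (cmk φ i j hij x y) = x := by
  unfold cmk cfst
  rw [map_add, ← m_comp_apply, ← m_comp_apply, mappingCone.inl_v_fst_v,
    mappingCone.inr_f_fst_v]
  simp

@[simp] theorem csnd_cmk (i j : ℤ) (hij : i + 1 = j) (x : (F A).obj (K.X j))
    (y : (F A).obj (L.X i)) : csnd φ i (cmk φ i j hij x y) = y := by
  unfold cmk csnd
  rw [map_add, ← m_comp_apply, ← m_comp_apply, mappingCone.inl_v_snd_v,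
    mappingCone.inr_f_snd_v]
  simp

theorem cmk_eta (i j : ℤ) (hij : i + 1 = j) (c : (F A).obj ((mappingCone φ).X i)) :
    cmk φ i j hij (cfst φ i j hij c) (csnd φ i c) = c := by
  unfold cmk cfst csnd
  rw [← m_comp_apply, ← m_comp_apply, ← LinearMap.add_apply, ← m_add, mappingCone.id_X]
  simp

theorem cone_ext (i j : ℤ) (hij : i + 1 = j) {c c' : (F A).obj ((mappingCone φ).X i)}
    (h1 : cfst φ i j hij c = cfst φ i j hij c') (h2 : csnd φ i c = csnd φ i c') : c = c' := by
  rw [← cmk_eta φ i j hij c, ← cmk_eta φ i j hij c', h1, h2]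

theorem cfst_d (i j k : ℤ) (hij : i + 1 = j) (hjk : j + 1 = k)
    (c : (F A).obj ((mappingCone φ).X i)) :
    cfst φ j k hjk (m ((mappingCone φ).d i j) c) = - m (K.d j k) (cfst φ i j hij c) := by
  unfold cfst
  rw [← m_comp_apply, mappingCone.d_fst_v φ i j k hij hjk, m_neg, LinearMap.neg_apply,
    m_comp_apply]

theorem csnd_d (i j : ℤ) (hij : i + 1 = j) (c : (F A).obj ((mappingCone φ).X i)) :
    csnd φ j (m ((mappingCone φ).d i j) c) =
      m (φ.f j) (cfst φ i j hij c) + m (L.d i j) (csnd φ i c) := by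
  unfold cfst csnd
  rw [← m_comp_apply, mappingCone.d_snd_v φ i j hij, m_add, LinearMap.add_apply,
    m_comp_apply, m_comp_apply]

theorem cfst_inr (i j : ℤ) (hij : i + 1 = j) (y : (F A).obj (L.X i)) :
    cfst φ i j hij (m ((mappingCone.inr φ).f i) y) = 0 := by
  unfold cfst
  rw [← m_comp_apply, mappingCone.inr_f_fst_v]
  simp

theorem csnd_inr (i : ℤ) (y : (F A).obj (L.X i)) :
    csnd φ i (m ((mappingCone.inr φ).f i) y) = y := by
  unfold csnd
  rw [← m_comp_apply, mappingCone.inr_f_snd_v]
  simp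

theorem inr_eq_cmk (i j : ℤ) (hij : i + 1 = j) (y : (F A).obj (L.X i)) :
    m ((mappingCone.inr φ).f i) y = cmk φ i j hij 0 y := by
  apply cone_ext φ i j hij
  · rw [cfst_inr, cfst_cmk]
  · rw [csnd_inr, csnd_cmk]

theorem desc_apply {M : CochainComplex A ℤ} (α : Cochain K M (-1)) (β : L ⟶ M)
    (eq : δ (-1) 0 α = Cochain.ofHom (φ ≫ β)) (i j : ℤ) (hij : i + 1 = j)
    (c : (F A).obj ((mappingCone φ).X i)) :
    m ((mappingCone.desc φ α β eq).f i) c =
      m (α.v j i (by omega)) (cfst φ i j hij c) + m (β.f i) (csnd φ i c) := by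
  unfold cfst csnd
  rw [mappingCone.desc_f φ α β eq i j hij, m_add, LinearMap.add_apply, m_comp_apply,
    m_comp_apply]

/-- the cocycle condition in the cone, in components -/
theorem d_eq_zero_iff (i j k : ℤ) (hij : i + 1 = j) (hjk : j + 1 = k)
    (c : (F A).obj ((mappingCone φ).X i)) :
    m ((mappingCone φ).d i j) c = 0 ↔
      m (K.d j k) (cfst φ i j hij c) = 0 ∧
        m (φ.f j) (cfst φ i j hij c) + m (L.d i j) (csnd φ i c) = 0 := by
  constructor
  · intro h
    constructor
    · have := cfst_d φ i j k hij hjk c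
      rw [h, map_zero] at this
      exact neg_eq_zero.1 this.symm
    · rw [← csnd_d φ i j hij c, h, map_zero]
  · rintro ⟨h1, h2⟩
    apply cone_ext φ j k hjk
    · rw [cfst_d φ i j k hij hjk, h1, neg_zero, map_zero]
    · rw [csnd_d φ i j hij, h2, map_zero]

end Groth.Agent.Helper2.PC2
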