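import Groth.Agent.Helper2.PC19
import Mathlib

set_option autoImplicit false

namespace Groth.Agent.Helper2.PC20

open CategoryTheory CategoryTheory.Limits CategoryTheory.Pretriangulated

universe w v u

section General

variable {C : Type*} [Category C] {X : ℕ → C} (f : ∀ n, X n ⟶ X (n + 1))

theorem ofSequence_map_prop (W : MorphismProperty C) [W.IsMultiplicative] (a : ℕ)
    (hW : ∀ k, a ≤ k → W (f k)) (b c : ℕ) (hab : a ≤ b) (h : b ≤ c) :
    W ((Functor.ofSequence f).map (homOfLE h)) := by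
  obtain ⟨t, rfl⟩ := Nat.exists_eq_add_of_le h
  induction t with
  | zero =>
    have : homOfLE h = 𝟙 b := Subsingleton.elim _ _
    rw [this, CategoryTheory.Functor.map_id]
    exact W.id_mem _
  | succ t ih =>
    have h1 : b ≤ b + t := by omega
    have h2 : b + t ≤ b + t + 1 := by omega
    have : homOfLE h = homOfLE h1 ≫ homOfLE h2 := Subsingleton.elim _ _
    rw [this, Functor.map_comp]
    refine W.comp_mem _ _ (ih h1) ?_
    have h3 : (Functor.ofSequence f).map (homOfLE h2) = f (b + t) :=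
      Functor.ofSequence_map_homOfLE_succ f (b + t)
    rw [h3]
    exact hW _ (by omega)

end General

variable {A : Type u} [Category.{v} A] [Abelian A] [HasDerivedCategory.{w} A]
variable (P : ObjectProperty A) [P.IsClosedUnderIsomorphisms] [P.ContainsZero]

/-- one step of the infinite construction -/
theorem stepAll (hsum : ∀ X Y : A, P X → P Y → P (X ⨯ Y))
    (hqs : PCoh.IsQuasiStableUnderKernels P) (hql : PCoh.IsQuasiLiftable P)
    (m bb : ℤ) (hm : m ≤ bb) {X H : CochainComplex A ℤ} (u : X ⟶ H)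
    (hP : ∀ j, P (X.X j)) (hz : ∀ j, bb < j → IsZero (X.X j))
    (hH : PCoh.IsPC P (DerivedCategory.Q.obj H))
    (hiso : ∀ j, m + 1 < j → IsIso (HomologicalComplex.homologyMap u j))
    (hepi : Epi (HomologicalComplex.homologyMap u (m + 1))) :
    ∃ (X' : CochainComplex A ℤ) (w : X ⟶ X') (u' : X' ⟶ H), w ≫ u' = u ∧
      (∀ j, Mono (w.f j)) ∧ (∀ j, j ≠ m → IsIso (w.f j)) ∧ (∀ j, P (X'.X j)) ∧
      (∀ j, bb < j → IsZero (X'.X j)) ∧
      (∀ j, m < j → IsIso (HomologicalComplex.homologyMap u' j)) ∧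
      Epi (HomologicalComplex.homologyMap u' m) := by
  have hac : ∀ j : ℤ, m < j → IsZero ((CochainComplex.mappingCone u).homology j) := fun j hj =>
    PC4.isZero_homology_cone_of_nQuasiIso u (m + 1) hiso hepi j (by omega)
  have hft := PC11.ft_cone' P hsum hqs hql m m le_rfl u
    (⟨X, ⟨⟨bb, hz⟩, fun j _ => hP j⟩, ⟨Iso.refl _⟩⟩ : PC9.IsNPC P (m + 1) _) (hH m) hac
  obtain ⟨X', w, u', hwu, hmono, hisow, -, hiso', hepi', hX, Q₀, hQ₀, ⟨eXm⟩⟩ :=
    PC5.step P hql m X H u hiso hepi hft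
  refine ⟨X', w, u', hwu, hmono, hisow, fun j => ?_, fun j hj => ?_, hiso', hepi'⟩
  · by_cases hjm : j = m
    · subst hjm
      exact P.prop_of_iso eXm.symm (PC7.prop_biprod P hsum _ _ hQ₀ (hP j))
    · obtain ⟨e⟩ := hX j hjm
      exact P.prop_of_iso e.symm (hP j)
  · obtain ⟨e⟩ := hX j (by omega)
    exact (hz j hj).of_iso e

section Rec

variable (H : CochainComplex A ℤ) (n bb : ℤ)

/-- the hypotheses -/
structure Hyp : Prop where
  hsum : ∀ X Y : A, P X → P Y → P (X ⨯ Y)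
  hqs : PCoh.IsQuasiStableUnderKernels P
  hql : PCoh.IsQuasiLiftable P
  hnbb : n ≤ bb
  hH : PCoh.IsPC P (DerivedCategory.Q.obj H)

/-- the states -/
structure St where
  k : ℕ
  X : CochainComplex A ℤ
  u : X ⟶ H
  hP : ∀ j, P (X.X j)
  hz : ∀ j, bb < j → IsZero (X.X j)
  hiso : ∀ j, n - (k : ℤ) < j → IsIso (HomologicalComplex.homologyMap u j)
  hepi : Epi (HomologicalComplex.homologyMap u (n - (k : ℤ)))

variable {P H n bb}

theorem exists_next (hyp : Hyp P H n bb) (s : St P H n bb) :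
    ∃ (s' : St P H n bb) (w : s.X ⟶ s'.X), s'.k = s.k + 1 ∧ w ≫ s'.u = s.u ∧
      (∀ j, Mono (w.f j)) ∧ (∀ j, j ≠ n - (s.k : ℤ) - 1 → IsIso (w.f j)) := by
  have e1 : n - (s.k : ℤ) - 1 + 1 = n - (s.k : ℤ) := by ring
  obtain ⟨X', w, u', hwu, hmono, hisow, hP', hz', hiso', hepi'⟩ :=
    stepAll P hyp.hsum hyp.hqs hyp.hql (n - (s.k : ℤ) - 1) bb (by have := hyp.hnbb; omega) s.u
      s.hP s.hz hyp.hH (by rw [e1]; exact s.hiso) (by rw [e1]; exact s.hepi)
  have e2 : n - ((s.k + 1 : ℕ) : ℤ) = n - (s.k : ℤ) - 1 := by push_cast; ring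
  exact ⟨⟨s.k + 1, X', u', hP', hz', by rw [e2]; exact hiso', by rw [e2]; exact hepi'⟩, w, rfl,
    hwu, hmono, hisow⟩

noncomputable def next (hyp : Hyp P H n bb) (s : St P H n bb) : St P H n bb :=
  (exists_next hyp s).choose

noncomputable def ww (hyp : Hyp P H n bb) (s : St P H n bb) : s.X ⟶ (next hyp s).X :=
  (exists_next hyp s).choose_spec.choose

theorem next_k (hyp : Hyp P H n bb) (s : St P H n bb) : (next hyp s).k = s.k + 1 :=
  (exists_next hyp s).choose_spec.choose_spec.1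

theorem ww_u (hyp : Hyp P H n bb) (s : St P H n bb) : ww hyp s ≫ (next hyp s).u = s.u :=
  (exists_next hyp s).choose_spec.choose_spec.2.1

theorem mono_ww (hyp : Hyp P H n bb) (s : St P H n bb) (j : ℤ) : Mono ((ww hyp s).f j) :=
  (exists_next hyp s).choose_spec.choose_spec.2.2.1 j

theorem isIso_ww (hyp : Hyp P H n bb) (s : St P H n bb) (j : ℤ) (hj : j ≠ n - (s.k : ℤ) - 1) :
    IsIso ((ww hyp s).f j) :=
  (exists_next hyp s).choose_spec.choose_spec.2.2.2 j hj

noncomputable def seq (hyp : Hyp P H n bb) (s₀ : St P H n bb) : ℕ → St P H n bb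
  | 0 => s₀
  | k + 1 => next hyp (seq hyp s₀ k)

theorem seq_k (hyp : Hyp P H n bb) (s₀ : St P H n bb) (hs₀ : s₀.k = 0) (k : ℕ) :
    (seq hyp s₀ k).k = k := by
  induction k with
  | zero => exact hs₀
  | succ k ih =>
    show (next hyp (seq hyp s₀ k)).k = k + 1
    rw [next_k, ih]

/-- the inductive system -/
noncomputable def G (hyp : Hyp P H n bb) (s₀ : St P H n bb) : ℕ ⥤ CochainComplex A ℤ :=
  Functor.ofSequence (X := fun k => (seq hyp s₀ k).X) (fun k => ww hyp (seq hyp s₀ k))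

theorem G_obj (hyp : Hyp P H n bb) (s₀ : St P H n bb) (k : ℕ) :
    (G hyp s₀).obj k = (seq hyp s₀ k).X := rfl

theorem mono_G_map (hyp : Hyp P H n bb) (s₀ : St P H n bb) (j : ℤ) (b c : ℕ) (h : b ≤ c) :
    Mono (((G hyp s₀).map (homOfLE h)).f j) := by
  have := ofSequence_map_prop (X := fun k => (seq hyp s₀ k).X) (fun k => ww hyp (seq hyp s₀ k))
    ((MorphismProperty.monomorphisms A).inverseImage
      (HomologicalComplex.eval A (ComplexShape.up ℤ) j)) 0
    (fun k _ => mono_ww hyp (seq hyp s₀ k) j) b c (Nat.zero_le b) h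
  exact this

theorem isIso_G_map (hyp : Hyp P H n bb) (s₀ : St P H n bb) (hs₀ : s₀.k = 0) (j : ℤ) (b c : ℕ)
    (h : b ≤ c) (hj : n - (b : ℤ) ≤ j) : IsIso (((G hyp s₀).map (homOfLE h)).f j) := by
  have := ofSequence_map_prop (X := fun k => (seq hyp s₀ k).X) (fun k => ww hyp (seq hyp s₀ k))
    ((MorphismProperty.isomorphisms A).inverseImage
      (HomologicalComplex.eval A (ComplexShape.up ℤ) j)) b
    (fun k hk => isIso_ww hyp (seq hyp s₀ k) j (by
      rw [seq_k hyp s₀ hs₀ k]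
      have : (b : ℤ) ≤ k := by exact_mod_cast hk
      omega)) b c le_rfl h
  exact this

theorem isEventuallyConstantFrom (hyp : Hyp P H n bb) (s₀ : St P H n bb) (hs₀ : s₀.k = 0) (j : ℤ)
    (b : ℕ) (hj : n - (b : ℤ) ≤ j) :
    (G hyp s₀ ⋙ HomologicalComplex.eval A (ComplexShape.up ℤ) j).IsEventuallyConstantFrom b := by
  intro c φ
  have : φ = homOfLE (leOfHom φ) := Subsingleton.elim _ _
  rw [this]
  exact isIso_G_map hyp s₀ hs₀ j b c _ hj

end Rec


section Colim

variable {P} {H : CochainComplex A ℤ} {n bb : ℤ}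
variable (hyp : Hyp P H n bb) (s₀ : St P H n bb) (hs₀ : s₀.k = 0)

include hs₀ in
theorem hasColimit_eval (j : ℤ) :
    HasColimit (G hyp s₀ ⋙ HomologicalComplex.eval A (ComplexShape.up ℤ) j) :=
  (isEventuallyConstantFrom hyp s₀ hs₀ j (n - j).toNat (by
    have := Int.self_le_toNat (n - j)
    omega)).hasColimit

include hs₀ in
theorem isIso_ι_f (c : Cocone (G hyp s₀)) (hc : IsColimit c) (j : ℤ) (k : ℕ)
    (hk : n - (k : ℤ) ≤ j) : IsIso ((c.ι.app k).f j) := by
  haveI := fun j => hasColimit_eval hyp s₀ hs₀ j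
  exact (isEventuallyConstantFrom hyp s₀ hs₀ j k hk).isIso_ι_of_isColimit
    (isColimitOfPreserves (HomologicalComplex.eval A (ComplexShape.up ℤ) j) hc)

include hs₀ in
theorem quasiIsoAt_ι (c : Cocone (G hyp s₀)) (hc : IsColimit c) (j : ℤ) (k : ℕ)
    (hk : n - (k : ℤ) ≤ j - 1) : QuasiIsoAt (c.ι.app k) j := by
  rw [quasiIsoAt_iff' _ (j - 1) j (j + 1) (by simp) (by simp)]
  let φ := (HomologicalComplex.shortComplexFunctor' A (ComplexShape.up ℤ) (j - 1) j (j + 1)).map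
    (c.ι.app k)
  have : IsIso φ.τ₁ := isIso_ι_f hyp s₀ hs₀ c hc (j - 1) k hk
  have : IsIso φ.τ₂ := isIso_ι_f hyp s₀ hs₀ c hc j k (by omega)
  have : IsIso φ.τ₃ := isIso_ι_f hyp s₀ hs₀ c hc (j + 1) k (by omega)
  apply ShortComplex.quasiIso_of_epi_of_isIso_of_mono

include hyp hs₀ in
theorem main : ∃ (E' : CochainComplex A ℤ) (v : s₀.X ⟶ E') (u' : E' ⟶ H), v ≫ u' = s₀.u ∧
    (∀ j, P (E'.X j)) ∧ (∀ j, bb < j → IsZero (E'.X j)) ∧ QuasiIso u' ∧
    (∀ j, Mono (v.f j)) ∧ (∀ j, n ≤ j → IsIso (v.f j)) := by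
  haveI := fun j => hasColimit_eval hyp s₀ hs₀ j
  let c := colimit.cocone (G hyp s₀)
  have hc : IsColimit c := colimit.isColimit _
  -- the cocone with point `H`
  let cH : Cocone (G hyp s₀) :=
    { pt := H
      ι := NatTrans.ofSequence (F := G hyp s₀) (G := (Functor.const ℕ).obj H)
        (fun k => (seq hyp s₀ k).u) (by
          intro k
          have h3 : (G hyp s₀).map (homOfLE (Nat.le_add_right k 1)) = ww hyp (seq hyp s₀ k) :=
            Functor.ofSequence_map_homOfLE_succ _ k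
          rw [h3]
          show ww hyp (seq hyp s₀ k) ≫ (next hyp (seq hyp s₀ k)).u = (seq hyp s₀ k).u ≫ 𝟙 H
          rw [ww_u, Category.comp_id]) }
  let u' : c.pt ⟶ H := hc.desc cH
  have hu' : ∀ k : ℕ, c.ι.app k ≫ u' = (seq hyp s₀ k).u := fun k => hc.fac cH k
  refine ⟨c.pt, c.ι.app 0, u', hu' 0, fun j => ?_, fun j hj => ?_, ?_, fun j => ?_, fun j hj => ?_⟩
  · -- terms in `P`
    haveI := isIso_ι_f hyp s₀ hs₀ c hc j (n - j).toNat (by
      have := Int.self_le_toNat (n - j)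
      omega)
    exact P.prop_of_iso (asIso ((c.ι.app (n - j).toNat).f j)) ((seq hyp s₀ (n - j).toNat).hP j)
  · haveI := isIso_ι_f hyp s₀ hs₀ c hc j (n - j).toNat (by
      have := Int.self_le_toNat (n - j)
      omega)
    exact ((seq hyp s₀ (n - j).toNat).hz j hj).of_iso (asIso ((c.ι.app (n - j).toNat).f j)).symm
  · rw [quasiIso_iff]
    intro j
    set k := (n - j + 1).toNat with hk
    have hk' : n - j + 1 ≤ (k : ℤ) := Int.self_le_toNat _
    haveI := quasiIsoAt_ι hyp s₀ hs₀ c hc j k (by omega)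
    haveI : QuasiIsoAt (c.ι.app k ≫ u') j := by
      rw [hu' k, quasiIsoAt_iff_isIso_homologyMap]
      apply (seq hyp s₀ k).hiso j
      rw [seq_k hyp s₀ hs₀ k]
      omega
    exact quasiIsoAt_of_comp_left (c.ι.app k) u' j
  · set k := (n - j).toNat with hk
    have hk' : n - j ≤ (k : ℤ) := Int.self_le_toNat _
    have hw : c.ι.app 0 = (G hyp s₀).map (homOfLE (Nat.zero_le k)) ≫ c.ι.app k :=
      (c.w (homOfLE (Nat.zero_le k))).symm
    rw [hw, HomologicalComplex.comp_f]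
    have h1 := mono_G_map hyp s₀ j 0 k (Nat.zero_le k)
    haveI := isIso_ι_f hyp s₀ hs₀ c hc j k (by omega)
    exact @mono_comp _ _ _ _ _ _ h1 _ inferInstance
  · exact isIso_ι_f hyp s₀ hs₀ c hc j 0 (by simpa using hj)

end Colim

/-- **S12101** -/
theorem s12101 (hsum : ∀ X Y : A, P X → P Y → P (X ⨯ Y))
    (hqs : PCoh.IsQuasiStableUnderKernels P) (hql : PCoh.IsQuasiLiftable P)
    (n : ℤ) (E H : CochainComplex A ℤ) (hE : PCoh.IsStrictPCAll P E)
    (hH : PCoh.IsPC P (DerivedCategory.Q.obj H))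
    (u : E ⟶ H) (hiso : ∀ j : ℤ, n < j → IsIso (HomologicalComplex.homologyMap u j))
    (hepi : Epi (HomologicalComplex.homologyMap u n)) (b : ℤ)
    (hb : ∀ i : ℤ, b < i → IsZero (E.X i)) :
    ∃ (E' : CochainComplex A ℤ) (v : E ⟶ E') (u' : E' ⟶ H), v ≫ u' = u ∧
      (∀ j, P (E'.X j)) ∧ (∀ j, max b n < j → IsZero (E'.X j)) ∧ QuasiIso u' ∧
      (∀ j : ℤ, Mono (v.f j)) ∧ (∀ j : ℤ, n ≤ j → IsIso (v.f j)) := by
  have hyp : Hyp P H n (max b n) := ⟨hsum, hqs, hql, le_max_right _ _, hH⟩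
  let s₀ : St P H n (max b n) :=
    { k := 0
      X := E
      u := u
      hP := hE.2
      hz := fun j hj => hb j (lt_of_le_of_lt (le_max_left _ _) hj)
      hiso := by rw [show n - ((0 : ℕ) : ℤ) = n by simp]; exact hiso
      hepi := by rw [show n - ((0 : ℕ) : ℤ) = n by simp]; exact hepi }
  exact main hyp s₀ rfl

end Groth.Agent.Helper2.PC20
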