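import Groth.Agent.Helper2.PC20
import Mathlib

set_option autoImplicit false

namespace Groth.Agent.Helper2.PC21

open CategoryTheory CategoryTheory.Limits CategoryTheory.Pretriangulated

universe w v u

variable {A : Type u} [Category.{v} A] [Abelian A] [HasDerivedCategory.{w} A]
variable (P : ObjectProperty A) [P.IsClosedUnderIsomorphisms] [P.ContainsZero]

open ZeroObject in
/-- strictly pseudo-coherent resolutions of pseudo-coherent complexes -/
theorem resolve (hsum : ∀ X Y : A, P X → P Y → P (X ⨯ Y))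
    (hqs : PCoh.IsQuasiStableUnderKernels P) (hql : PCoh.IsQuasiLiftable P)
    (m : ℤ) (X : CochainComplex A ℤ) (hX : PCoh.IsPC P (DerivedCategory.Q.obj X))
    (hac : ∀ j : ℤ, m ≤ j → IsZero (X.homology j)) :
    ∃ (E' : CochainComplex A ℤ) (u' : E' ⟶ X), (∀ j, P (E'.X j)) ∧
      (∀ j, m ≤ j → IsZero (E'.X j)) ∧ QuasiIso u' := by
  have hz : ∀ i, IsZero ((0 : CochainComplex A ℤ).X i) := fun i =>
    (HomologicalComplex.eval A (ComplexShape.up ℤ) i).map_isZero (isZero_zero _)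
  have hzh : ∀ i, IsZero ((0 : CochainComplex A ℤ).homology i) := fun i =>
    PC7.isZero_homology_of_isZero_X _ i (hz i)
  obtain ⟨E', v, u', -, hP, -, hq, -, hiso⟩ := PC20.s12101 P hsum hqs hql m 0 X
    ⟨⟨0, fun i _ => hz i⟩, fun i => P.prop_of_isZero (hz i)⟩ hX 0
    (fun j hj => ⟨⟨0, (hzh j).eq_of_src _ _, (hac j (by omega)).eq_of_src _ _⟩⟩)
    ⟨fun f g _ => (hac m le_rfl).eq_of_src _ _⟩ 0 (fun i _ => hz i)
  refine ⟨E', u', hP, fun j hj => ?_, hq⟩
  haveI := hiso j hj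
  exact (hz j).of_iso (asIso (v.f j)).symm

theorem isPC_of_strictPCAll (E : CochainComplex A ℤ) (hE : PCoh.IsStrictPCAll P E) :
    PCoh.IsPC P (DerivedCategory.Q.obj E) :=
  fun _ => ⟨E, ⟨hE.1, fun i _ => hE.2 i⟩, ⟨Iso.refl _⟩⟩

theorem isPC_of_iso {X Y : DerivedCategory A} (e : X ≅ Y) (h : PCoh.IsPC P X) : PCoh.IsPC P Y :=
  fun n => (PC9.IsNPC.of_iso (h n) e)

/-- **S5618** -/
theorem s5618 (hsum : ∀ X Y : A, P X → P Y → P (X ⨯ Y))
    (hqs : PCoh.IsQuasiStableUnderKernels P) (hql : PCoh.IsQuasiLiftable P)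
    (m : ℤ) (X : DerivedCategory A) (hX : PCoh.IsPC P X)
    (hac : ∀ i : ℤ, m ≤ i → IsZero ((DerivedCategory.homologyFunctor A i).obj X)) :
    ∃ E : CochainComplex A ℤ, (∀ i : ℤ, P (E.X i)) ∧ (∀ i : ℤ, m ≤ i → IsZero (E.X i)) ∧
      Nonempty (DerivedCategory.Q.obj E ≅ X) := by
  let X₁ := DerivedCategory.Q.objPreimage X
  let e : DerivedCategory.Q.obj X₁ ≅ X := DerivedCategory.Q.objObjPreimageIso X
  obtain ⟨E', u', hP, hz, hq⟩ := resolve P hsum hqs hql m X₁ (isPC_of_iso P e.symm hX) (by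
    intro j hj
    rw [← PC8.isZero_homology_Q_iff]
    exact (hac j hj).of_iso ((DerivedCategory.homologyFunctor A j).mapIso e))
  haveI : IsIso (DerivedCategory.Q.map u') := by
    rw [DerivedCategory.isIso_Q_map_iff_quasiIso]; exact hq
  exact ⟨E', hP, hz, ⟨asIso (DerivedCategory.Q.map u') ≪≫ e⟩⟩

/-- **S4295** -/
theorem s4295 (hsum : ∀ X Y : A, P X → P Y → P (X ⨯ Y))
    (hqs : PCoh.IsQuasiStableUnderKernels P) (hql : PCoh.IsQuasiLiftable P)
    (X : DerivedCategory A) (hX : PCoh.IsPC P X) :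
    ∃ E : CochainComplex A ℤ, PCoh.IsStrictPCAll P E ∧ Nonempty (DerivedCategory.Q.obj E ≅ X) := by
  obtain ⟨E₀, ⟨⟨b, hb⟩, -⟩, ⟨e₀⟩⟩ := hX 0
  obtain ⟨E, hP, hz, he⟩ := s5618 P hsum hqs hql (b + 1) X hX (by
    intro i hi
    have h1 : IsZero (E₀.homology i) := PC7.isZero_homology_of_isZero_X E₀ i (hb i (by omega))
    rw [← PC8.isZero_homology_Q_iff] at h1
    exact h1.of_iso ((DerivedCategory.homologyFunctor A i).mapIso e₀).symm)
  exact ⟨E, ⟨⟨b, fun i hi => hz i (by omega)⟩, hP⟩, he⟩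

/-- resolution of a complex quasi-isomorphic to a strictly pseudo-coherent one -/
theorem resolve_of_quasiIso (hsum : ∀ X Y : A, P X → P Y → P (X ⨯ Y))
    (hqs : PCoh.IsQuasiStableUnderKernels P) (hql : PCoh.IsQuasiLiftable P)
    (E X : CochainComplex A ℤ) (hE : PCoh.IsStrictPCAll P E) (s : X ⟶ E)
    (hs : IsIso (DerivedCategory.Q.map s)) :
    ∃ (E'' : CochainComplex A ℤ) (t : E'' ⟶ X), PCoh.IsStrictPCAll P E'' ∧ QuasiIso t := by
  obtain ⟨b, hb⟩ := hE.1
  have hXpc : PCoh.IsPC P (DerivedCategory.Q.obj X) :=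
    isPC_of_iso P (asIso (DerivedCategory.Q.map s)).symm (isPC_of_strictPCAll P E hE)
  obtain ⟨E'', t, hP, hz, hq⟩ := resolve P hsum hqs hql (b + 1) X hXpc (by
    intro j hj
    have h1 : IsZero (E.homology j) := PC7.isZero_homology_of_isZero_X E j (hb j (by omega))
    rw [← PC8.isZero_homology_Q_iff] at h1 ⊢
    exact h1.of_iso ((DerivedCategory.homologyFunctor A j).mapIso
      (asIso (DerivedCategory.Q.map s))))
  exact ⟨E'', t, ⟨⟨b, fun i hi => hz i (by omega)⟩, hP⟩, hq⟩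

/-- **S4296** -/
theorem s4296 (hsum : ∀ X Y : A, P X → P Y → P (X ⨯ Y))
    (hqs : PCoh.IsQuasiStableUnderKernels P) (hql : PCoh.IsQuasiLiftable P)
    (E E' : CochainComplex A ℤ) (hE : PCoh.IsStrictPCAll P E)
    (α : DerivedCategory.Q.obj E ⟶ DerivedCategory.Q.obj E') :
    ∃ (E'' : CochainComplex A ℤ) (s : E'' ⟶ E) (f : E'' ⟶ E'), PCoh.IsStrictPCAll P E'' ∧
      QuasiIso s ∧ DerivedCategory.Q.map s ≫ α = DerivedCategory.Q.map f := by
  obtain ⟨X, s, hs, g, hfac⟩ := DerivedCategory.right_fac α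
  obtain ⟨E'', t, hE'', hq⟩ := resolve_of_quasiIso P hsum hqs hql E X hE s hs
  have hsq : QuasiIso s := (DerivedCategory.isIso_Q_map_iff_quasiIso (φ := s)).1 hs
  refine ⟨E'', t ≫ s, t ≫ g, hE'', inferInstance, ?_⟩
  rw [hfac, Functor.map_comp, Functor.map_comp, Category.assoc, IsIso.hom_inv_id_assoc]

/-- **S4297** -/
theorem s4297 (hsum : ∀ X Y : A, P X → P Y → P (X ⨯ Y))
    (hqs : PCoh.IsQuasiStableUnderKernels P) (hql : PCoh.IsQuasiLiftable P)
    (E E' : CochainComplex A ℤ) (hE : PCoh.IsStrictPCAll P E)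
    (f g : E ⟶ E') (hfg : DerivedCategory.Q.map f = DerivedCategory.Q.map g) :
    ∃ (E'' : CochainComplex A ℤ) (s : E'' ⟶ E), PCoh.IsStrictPCAll P E'' ∧ QuasiIso s ∧
      Nonempty (Homotopy (s ≫ f) (s ≫ g)) := by
  have h1 : DerivedCategory.Qh.map ((HomotopyCategory.quotient A (ComplexShape.up ℤ)).map f) =
      DerivedCategory.Qh.map ((HomotopyCategory.quotient A (ComplexShape.up ℤ)).map g) := by
    have hf := (DerivedCategory.quotientCompQhIso A).hom.naturality f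
    have hg := (DerivedCategory.quotientCompQhIso A).hom.naturality g
    dsimp at hf hg
    rw [← cancel_mono ((DerivedCategory.quotientCompQhIso A).hom.app E'), hf, hg, hfg]
  obtain ⟨X, s, hs, hsfg⟩ := (MorphismProperty.map_eq_iff_precomp DerivedCategory.Qh
    (HomotopyCategory.quasiIso A (ComplexShape.up ℤ)) _ _).1 h1
  obtain ⟨X, rfl⟩ := HomotopyCategory.quotient_obj_surjective X
  obtain ⟨s, rfl⟩ := (HomotopyCategory.quotient _ _).map_surjective s
  rw [HomotopyCategory.quotient_map_mem_quasiIso_iff, HomologicalComplex.mem_quasiIso_iff] at hs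
  have hh : Homotopy (s ≫ f) (s ≫ g) := HomotopyCategory.homotopyOfEq _ _ (by
    rw [Functor.map_comp, Functor.map_comp]; exact hsfg)
  have hsQ : IsIso (DerivedCategory.Q.map s) := by
    rw [DerivedCategory.isIso_Q_map_iff_quasiIso]; exact hs
  obtain ⟨E'', t, hE'', hq⟩ := resolve_of_quasiIso P hsum hqs hql E X hE s hsQ
  refine ⟨E'', t ≫ s, hE'', inferInstance, ?_⟩
  rw [Category.assoc, Category.assoc]
  exact ⟨hh.compLeft t⟩

end Groth.Agent.Helper2.PC21
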