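import Groth.Agent.Helper2.PC2
import Mathlib

set_option autoImplicit false

namespace Groth.Agent.Helper2.PC3

open CategoryTheory CategoryTheory.Limits CochainComplex CochainComplex.HomComplex
open Groth.Agent.Helper9.FM Groth.Agent.Helper2.PC1 Groth.Agent.Helper2.PC2

universe v u

variable {A : Type u} [Category.{v} A] [Abelian A]
variable {E G : CochainComplex A ℤ} (u : E ⟶ G) {T : CochainComplex A ℤ}
  (ι : T ⟶ mappingCone u)

/-- the shifted complex `T[-1]` -/
noncomputable abbrev sh (T : CochainComplex A ℤ) : CochainComplex A ℤ :=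
  (CochainComplex.shiftFunctor A (-1)).obj T

theorem sh_d (T : CochainComplex A ℤ) (i j : ℤ) :
    (sh T).d i j = -T.d (i + -1) (j + -1) := by
  show (-1 : ℤ).negOnePow • T.d (i + -1) (j + -1) = _
  simp

/-- the attaching map `T[-1] ⟶ E` -/
noncomputable def ψ : sh T ⟶ E where
  f j := (ι.f (j + -1) ≫ (mappingCone.fst u).1.v (j + -1) j (by omega) : T.X (j + -1) ⟶ E.X j)
  comm' i j hij := by
    have hij' : i + 1 = j := hij
    subst hij'
    have key : ∀ (k : ℤ) (hk : k = i),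
        (ι.f (i + -1) ≫ (mappingCone.fst u).1.v (i + -1) i (by omega)) ≫ E.d i (i + 1) =
        (-T.d (i + -1) k) ≫
          (ι.f k ≫ (mappingCone.fst u).1.v k (i + 1) (by omega)) := by
      rintro k rfl
      rw [Preadditive.neg_comp, ← ι.comm_assoc,
        mappingCone.d_fst_v u (k + -1) k (k + 1) (by omega) (by omega)]
      simp
    rw [sh_d]
    exact key _ (by omega)

theorem ψ_f (j k : ℤ) (hk : k + 1 = j) :
    (ψ u ι).f j = (T.XIsoOfEq (show j + -1 = k by omega)).hom ≫ ι.f k ≫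
      (mappingCone.fst u).1.v k j hk := by
  obtain rfl : k = j + -1 := by omega
  simp [ψ]

end Groth.Agent.Helper2.PC3

namespace Groth.Agent.Helper2.PC3

open CategoryTheory CategoryTheory.Limits CochainComplex CochainComplex.HomComplex
open Groth.Agent.Helper9.FM Groth.Agent.Helper2.PC1 Groth.Agent.Helper2.PC2

universe v u

variable {A : Type u} [Category.{v} A] [Abelian A]
variable {E G : CochainComplex A ℤ} (u : E ⟶ G) {T : CochainComplex A ℤ}
  (ι : T ⟶ mappingCone u)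

/-- the null-homotopy of `T[-1] ⟶ E ⟶ F` -/
noncomputable def hh : Cochain (sh T) G (-1) :=
  Cochain.mk (fun p q _ =>
    (-(ι.f (p + -1) ≫ (mappingCone.snd u).v (p + -1) q (by omega)) : T.X (p + -1) ⟶ G.X q))

theorem hh_v (p q : ℤ) (hpq : p + -1 = q) :
    (hh u ι).v p q hpq = (T.XIsoOfEq (show p + -1 = q by omega)).hom ≫
      (-(ι.f q ≫ (mappingCone.snd u).v q q (add_zero q))) := by
  subst hpq
  simp [hh]

theorem hh_eq : δ (-1) 0 (hh u ι) = Cochain.ofHom (ψ u ι ≫ u) := by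
  ext q
  rw [δ_v (-1) 0 (neg_add_cancel 1) (hh u ι) q q (add_zero q) (q + -1) (q + 1) (by omega) rfl]
  rw [Cochain.ofHom_v, HomologicalComplex.comp_f]
  have key : ∀ (k : ℤ) (hk : k = q),
      (-(ι.f (q + -1) ≫ (mappingCone.snd u).v (q + -1) (q + -1) (add_zero _))) ≫ G.d (q + -1) q +
        (-T.d (q + -1) k) ≫ (-(ι.f k ≫ (mappingCone.snd u).v k q (by omega))) =
      (ι.f (q + -1) ≫ (mappingCone.fst u).1.v (q + -1) q (by omega)) ≫ u.f q := by
    rintro k rfl
    rw [Preadditive.neg_comp, Preadditive.neg_comp, Preadditive.comp_neg, neg_neg,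
      ← ι.comm_assoc, mappingCone.d_snd_v u (k + -1) k (by omega)]
    simp
  simp only [Int.negOnePow_zero, one_smul, sh_d]
  exact key _ (by omega)

end Groth.Agent.Helper2.PC3

namespace Groth.Agent.Helper2.PC3

open CategoryTheory CategoryTheory.Limits CochainComplex CochainComplex.HomComplex
open Groth.Agent.Helper9.FM Groth.Agent.Helper2.PC1 Groth.Agent.Helper2.PC2

universe v u

variable {A : Type u} [Category.{v} A] [Abelian A]
variable {E G : CochainComplex A ℤ} (u : E ⟶ G) {T : CochainComplex A ℤ}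
  (ι : T ⟶ mappingCone u)

/-- the modified complex -/
noncomputable abbrev E' : CochainComplex A ℤ := mappingCone (ψ u ι)

/-- the inclusion `E ⟶ E'` -/
noncomputable abbrev vv : E ⟶ E' u ι := mappingCone.inr (ψ u ι)

/-- the extended map `E' ⟶ F` -/
noncomputable abbrev u' : E' u ι ⟶ G := mappingCone.desc (ψ u ι) (hh u ι) u (hh_eq u ι)

theorem vv_u' : vv u ι ≫ u' u ι = u := mappingCone.inr_desc _ _ _ _

/-- the shift identification on elements -/
noncomputable abbrev τ (i j : ℤ) (hij : i + 1 = j) :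
    (F A).obj ((sh T).X j) →ₗ[R A] (F A).obj (T.X i) :=
  m ((T.XIsoOfEq (show j + -1 = i by omega)).hom : T.X (j + -1) ⟶ T.X i)

noncomputable abbrev τinv (i j : ℤ) (hij : i + 1 = j) :
    (F A).obj (T.X i) →ₗ[R A] (F A).obj ((sh T).X j) :=
  m ((T.XIsoOfEq (show j + -1 = i by omega)).inv : T.X i ⟶ T.X (j + -1))

theorem τ_τinv (i j : ℤ) (hij : i + 1 = j) (t : (F A).obj (T.X i)) :
    τ (T := T) i j hij (τinv i j hij t) = t := by
  unfold τ τinv
  rw [← m_comp_apply, Iso.inv_hom_id]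
  simp

theorem τinv_τ (i j : ℤ) (hij : i + 1 = j) (a : (F A).obj ((sh T).X j)) :
    τinv (T := T) i j hij (τ i j hij a) = a := by
  unfold τ τinv
  rw [← m_comp_apply]
  erw [Iso.hom_inv_id]
  simp

theorem ψ_apply (i j : ℤ) (hij : i + 1 = j) (a : (F A).obj ((sh T).X j)) :
    m ((ψ u ι).f j) a = cfst u i j hij (m (ι.f i) (τ i j hij a)) := by
  obtain rfl : i = j + -1 := by omega
  have h1 : τ (T := T) (j + -1) j hij a = a := by
    unfold τ
    rw [HomologicalComplex.XIsoOfEq_rfl]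
    show m (𝟙 (T.X (j + -1))) a = a
    rw [m_id]
    rfl
  rw [h1]
  show m (ι.f (j + -1) ≫ (mappingCone.fst u).1.v (j + -1) j _) a = _
  rw [m_comp_apply]

theorem hh_apply (i j : ℤ) (hij : i + 1 = j) (a : (F A).obj ((sh T).X j)) :
    m ((hh u ι).v j i (by omega)) a = - csnd u i (m (ι.f i) (τ i j hij a)) := by
  obtain rfl : i = j + -1 := by omega
  have h1 : τ (T := T) (j + -1) j hij a = a := by
    unfold τ
    rw [HomologicalComplex.XIsoOfEq_rfl]
    show m (𝟙 (T.X (j + -1))) a = a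
    rw [m_id]
    rfl
  rw [h1]
  show m (-(ι.f (j + -1) ≫ (mappingCone.snd u).v (j + -1) (j + -1) _)) a = _
  rw [m_neg, LinearMap.neg_apply, m_comp_apply]

theorem shd_apply (i j k : ℤ) (hij : i + 1 = j) (hjk : j + 1 = k) (a : (F A).obj ((sh T).X j)) :
    τ j k hjk (m ((sh T).d j k) a) = - m (T.d i j) (τ i j hij a) := by
  obtain rfl : i = j + -1 := by omega
  obtain rfl : k = j + 1 := by omega
  have h1 : τ (T := T) (j + -1) j hij a = a := by
    unfold τ
    rw [HomologicalComplex.XIsoOfEq_rfl]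
    show m (𝟙 (T.X (j + -1))) a = a
    rw [m_id]
    rfl
  rw [h1, sh_d]
  unfold τ
  show m ((T.XIsoOfEq _).hom) (m (-T.d (j + -1) (j + 1 + -1)) a) = _
  rw [m_neg, LinearMap.neg_apply, map_neg, ← m_comp_apply,
    HomologicalComplex.d_comp_XIsoOfEq_hom]

/-- the `T`-component of an element of `E'` -/
noncomputable def tfst (i : ℤ) : (F A).obj ((E' u ι).X i) →ₗ[R A] (F A).obj (T.X i) :=
  (τ i (i + 1) rfl).comp (cfst (ψ u ι) i (i + 1) rfl)

/-- the `E`-component of an element of `E'` -/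
noncomputable abbrev tsnd (i : ℤ) : (F A).obj ((E' u ι).X i) →ₗ[R A] (F A).obj (E.X i) :=
  csnd (ψ u ι) i

noncomputable def tmk (i : ℤ) (t : (F A).obj (T.X i)) (e : (F A).obj (E.X i)) :
    (F A).obj ((E' u ι).X i) :=
  cmk (ψ u ι) i (i + 1) rfl (τinv i (i + 1) rfl t) e

@[simp] theorem tfst_tmk (i : ℤ) (t : (F A).obj (T.X i)) (e : (F A).obj (E.X i)) :
    tfst u ι i (tmk u ι i t e) = t := by
  unfold tfst tmk
  rw [LinearMap.comp_apply, cfst_cmk, τ_τinv]

@[simp] theorem tsnd_tmk (i : ℤ) (t : (F A).obj (T.X i)) (e : (F A).obj (E.X i)) :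
    tsnd u ι i (tmk u ι i t e) = e := by
  unfold tsnd tmk
  rw [csnd_cmk]

theorem t_ext (i : ℤ) {w w' : (F A).obj ((E' u ι).X i)}
    (h1 : tfst u ι i w = tfst u ι i w') (h2 : tsnd u ι i w = tsnd u ι i w') : w = w' := by
  apply cone_ext (ψ u ι) i (i + 1) rfl _ h2
  unfold tfst at h1
  rw [LinearMap.comp_apply, LinearMap.comp_apply] at h1
  have := congrArg (τinv (T := T) i (i + 1) rfl) h1
  rwa [τinv_τ, τinv_τ] at this

theorem tfst_eq (i j : ℤ) (hij : i + 1 = j) (w : (F A).obj ((E' u ι).X i)) :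
    tfst u ι i w = τ i j hij (cfst (ψ u ι) i j hij w) := by
  subst hij
  rfl

theorem tfst_d (i j : ℤ) (hij : i + 1 = j) (w : (F A).obj ((E' u ι).X i)) :
    tfst u ι j (m ((E' u ι).d i j) w) = m (T.d i j) (tfst u ι i w) := by
  rw [tfst_eq u ι j (j + 1) rfl, cfst_d (ψ u ι) i j (j + 1) hij rfl, map_neg,
    shd_apply i j (j + 1) hij rfl, neg_neg, tfst_eq u ι i j hij]

theorem tsnd_d (i j : ℤ) (hij : i + 1 = j) (w : (F A).obj ((E' u ι).X i)) :
    tsnd u ι j (m ((E' u ι).d i j) w) =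
      cfst u i j hij (m (ι.f i) (tfst u ι i w)) + m (E.d i j) (tsnd u ι i w) := by
  unfold tsnd
  rw [csnd_d (ψ u ι) i j hij, tfst_eq u ι i j hij, ψ_apply u ι i j hij]

theorem u'_apply (i : ℤ) (w : (F A).obj ((E' u ι).X i)) :
    m ((u' u ι).f i) w =
      - csnd u i (m (ι.f i) (tfst u ι i w)) + m (u.f i) (tsnd u ι i w) := by
  unfold u'
  rw [desc_apply (ψ u ι) (hh u ι) u (hh_eq u ι) i (i + 1) rfl, hh_apply u ι i (i + 1) rfl]
  rfl

theorem vv_apply (i : ℤ) (e : (F A).obj (E.X i)) :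
    m ((vv u ι).f i) e = tmk u ι i 0 e := by
  unfold vv tmk
  rw [inr_eq_cmk (ψ u ι) i (i + 1) rfl, map_zero]

end Groth.Agent.Helper2.PC3

namespace Groth.Agent.Helper2.PC3

open CategoryTheory CategoryTheory.Limits CochainComplex CochainComplex.HomComplex
open Groth.Agent.Helper9.FM Groth.Agent.Helper2.PC1 Groth.Agent.Helper2.PC2

universe v u

variable {A : Type u} [Category.{v} A] [Abelian A]
variable {E G : CochainComplex A ℤ} (u : E ⟶ G) {T : CochainComplex A ℤ}
  (ι : T ⟶ mappingCone u)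

theorem tmk_eta (i : ℤ) (w : (F A).obj ((E' u ι).X i)) :
    tmk u ι i (tfst u ι i w) (tsnd u ι i w) = w := by
  apply t_ext u ι i
  · rw [tfst_tmk]
  · rw [tsnd_tmk]

/-- `H^i(ι)` epi implies `H^i(u')` epi -/
theorem epi_u' (i : ℤ) (h : Epi (HomologicalComplex.homologyMap ι i)) :
    Epi (HomologicalComplex.homologyMap (u' u ι) i) := by
  rw [epi_homologyMap_iff _ (i - 1) i (i + 1) (by omega) rfl] at h ⊢
  intro f hf
  -- the cocycle (0, f) of the cone of u
  obtain ⟨t, ht, c₁, hc₁⟩ := h (cmk u i (i + 1) rfl 0 f) (by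
    rw [d_eq_zero_iff u i (i + 1) (i + 1 + 1) rfl rfl, cfst_cmk, csnd_cmk, map_zero, map_zero,
      zero_add]
    exact ⟨rfl, hf⟩)
  have h1 := congrArg (cfst u i (i + 1) rfl) hc₁
  have h2 := congrArg (csnd u i) hc₁
  rw [cfst_d u (i - 1) i (i + 1) (by omega) rfl, map_sub, cfst_cmk, sub_zero] at h1
  rw [csnd_d u (i - 1) i (by omega), map_sub, csnd_cmk] at h2
  refine ⟨tmk u ι i (-t) (-cfst u (i - 1) i (by omega) c₁), ?_, csnd u (i - 1) c₁, ?_⟩
  · apply t_ext u ι (i + 1)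
    · rw [tfst_d u ι i (i + 1) rfl, tfst_tmk, map_neg, ht, neg_zero, map_zero]
    · rw [tsnd_d u ι i (i + 1) rfl, tfst_tmk, tsnd_tmk, map_neg, map_neg, map_neg, ← h1, neg_neg,
        add_neg_cancel, map_zero]
  · rw [u'_apply, tfst_tmk, tsnd_tmk, map_neg, map_neg, map_neg, neg_neg]
    have : csnd u i (m (ι.f i) t) =
        m (u.f i) (cfst u (i - 1) i (by omega) c₁) + m (G.d (i - 1) i) (csnd u (i - 1) c₁) + f := by
      rw [h2]; abel
    rw [this]
    abel

/-- `H^i(ι)` mono and `H^{i-1}(ι)` epi imply `H^i(u')` mono -/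
theorem mono_u' (i : ℤ) (h : Mono (HomologicalComplex.homologyMap ι i))
    (h' : Epi (HomologicalComplex.homologyMap ι (i - 1))) :
    Mono (HomologicalComplex.homologyMap (u' u ι) i) := by
  rw [mono_homologyMap_iff _ (i - 1) i (i + 1) (by omega) rfl] at h ⊢
  rw [epi_homologyMap_iff _ (i - 1 - 1) (i - 1) i (by omega) (by omega)] at h'
  intro w hw ⟨f₁, hf₁⟩
  have hw1 := congrArg (tfst u ι (i + 1)) hw
  have hw2 := congrArg (tsnd u ι (i + 1)) hw
  rw [tfst_d u ι i (i + 1) rfl, map_zero] at hw1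
  rw [tsnd_d u ι i (i + 1) rfl, map_zero] at hw2
  rw [u'_apply] at hf₁
  set t := tfst u ι i w with ht
  set e := tsnd u ι i w with he
  -- the cochain c₀ = (e, -f₁) of the cone of u has boundary ι t
  have hc₀ : m ((mappingCone u).d (i - 1) i) (cmk u (i - 1) i (by omega) e (-f₁)) = m (ι.f i) t := by
    apply cone_ext u i (i + 1) rfl
    · rw [cfst_d u (i - 1) i (i + 1) (by omega) rfl, cfst_cmk]
      have : cfst u i (i + 1) rfl (m (ι.f i) t) = - m (E.d i (i + 1)) e :=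
        eq_neg_of_add_eq_zero_left hw2
      rw [this]
    · rw [csnd_d u (i - 1) i (by omega), cfst_cmk, csnd_cmk, map_neg, hf₁]
      abel
  obtain ⟨t₁, ht₁⟩ := h t hw1 ⟨_, hc₀⟩
  -- the cocycle c₀ - ι t₁
  obtain ⟨t₂, ht₂, c₂, hc₂⟩ := h' (cmk u (i - 1) i (by omega) e (-f₁) - m (ι.f (i - 1)) t₁) (by
    rw [map_sub, hc₀, PC1.f_d_apply, ht₁, sub_self])
  have h3 := congrArg (cfst u (i - 1) i (by omega)) hc₂
  rw [cfst_d u (i - 1 - 1) (i - 1) i (by omega) (by omega), map_sub, map_sub, cfst_cmk] at h3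
  refine ⟨tmk u ι (i - 1) (t₁ + t₂) (cfst u (i - 1 - 1) (i - 1) (by omega) c₂), ?_⟩
  apply t_ext u ι i
  · rw [tfst_d u ι (i - 1) i (by omega), tfst_tmk, map_add, ht₁, ht₂, add_zero]
  · rw [tsnd_d u ι (i - 1) i (by omega), tfst_tmk, tsnd_tmk, map_add, map_add]
    rw [← he]
    have h4 : e = cfst u (i - 1) i (by omega) (m (ι.f (i - 1)) t₁) +
        cfst u (i - 1) i (by omega) (m (ι.f (i - 1)) t₂) +
        m (E.d (i - 1) i) (cfst u (i - 1 - 1) (i - 1) (by omega) c₂) := by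
      have h5 := congrArg (fun z => z + (e - cfst u (i - 1) i (by omega) (m (ι.f (i - 1)) t₁)) +
        m (E.d (i - 1) i) (cfst u (i - 1 - 1) (i - 1) (by omega) c₂)) h3
      simp only at h5
      rw [← sub_eq_zero] at h5 ⊢
      rw [← h5]
      abel
    exact h4.symm

end Groth.Agent.Helper2.PC3

namespace Groth.Agent.Helper2.PC3

open CategoryTheory CategoryTheory.Limits CochainComplex CochainComplex.HomComplex
open Groth.Agent.Helper9.FM Groth.Agent.Helper2.PC1 Groth.Agent.Helper2.PC2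

universe v u

variable {A : Type u} [Category.{v} A] [Abelian A]
variable {E G : CochainComplex A ℤ} (u : E ⟶ G) {T : CochainComplex A ℤ}
  (ι : T ⟶ mappingCone u)

instance mono_vv_f (i : ℤ) : Mono ((vv u ι).f i) :=
  mono_of_mono_fac (mappingCone.inr_f_snd_v (ψ u ι) i)

theorem isIso_vv_f (i : ℤ) (h : IsZero (T.X i)) : IsIso ((vv u ι).f i) := by
  rw [isIso_iff]
  refine ⟨(mono_iff _).1 inferInstance, fun w => ⟨tsnd u ι i w, ?_⟩⟩
  rw [vv_apply, ← eq_zero_of_isZero h (tfst u ι i w), tmk_eta]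

/-- the projection `E'^i ⟶ T^i` -/
noncomputable def qq (i : ℤ) : (E' u ι).X i ⟶ T.X i :=
  ((mappingCone.fst (ψ u ι)).1.v i (i + 1) rfl : (E' u ι).X i ⟶ T.X (i + 1 + -1)) ≫
    (T.XIsoOfEq (show i + 1 + -1 = i by omega)).hom

theorem qq_apply (i : ℤ) (w : (F A).obj ((E' u ι).X i)) : m (qq u ι i) w = tfst u ι i w := by
  unfold qq tfst τ cfst
  rw [m_comp_apply]
  rfl

theorem vv_qq (i : ℤ) : (vv u ι).f i ≫ qq u ι i = 0 := by
  rw [eq_zero_iff]
  intro e
  rw [m_comp_apply, qq_apply, vv_apply, tfst_tmk]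

theorem nonempty_cokernel_iso (i : ℤ) : Nonempty (cokernel ((vv u ι).f i) ≅ T.X i) := by
  let d := cokernel.desc ((vv u ι).f i) (qq u ι i) (vv_qq u ι i)
  have hd : ∀ w, m d (m (cokernel.π ((vv u ι).f i)) w) = tfst u ι i w := by
    intro w
    rw [← m_comp_apply, cokernel.π_desc, qq_apply]
  have : IsIso d := by
    rw [isIso_iff]
    constructor
    · rw [injective_iff_map_eq_zero]
      intro x hx
      obtain ⟨w, rfl⟩ := cokernel_π_surjective _ x
      rw [hd] at hx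
      rw [cokernel_π_eq_zero_iff]
      refine ⟨tsnd u ι i w, ?_⟩
      rw [vv_apply, ← hx, tmk_eta]
    · intro t
      refine ⟨m (cokernel.π ((vv u ι).f i)) (tmk u ι i t 0), ?_⟩
      rw [hd, tfst_tmk]
  exact ⟨asIso d⟩

theorem nonempty_X_iso (i : ℤ) : Nonempty ((E' u ι).X i ≅ T.X i ⊞ E.X i) := by
  have e1 : (E' u ι).X i ≅ (sh T).X (i + 1) ⊞ E.X i :=
    HomologicalComplex.homotopyCofiber.XIsoBiprod (ψ u ι) i (i + 1) rfl
  have e2 : (sh T).X (i + 1) ≅ T.X i := T.XIsoOfEq (show i + 1 + -1 = i by omega)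
  exact ⟨e1 ≪≫ biprod.mapIso e2 (Iso.refl _)⟩

/-- **The modification lemma.** Given `u : E ⟶ G` and a morphism `ι : T ⟶ cone(u)`, one can enlarge
`E` by `T` (degreewise `E'^i ≅ T^i ⊞ E^i`) so that the homology of the new map `u' : E' ⟶ G` is
controlled by that of `ι`. -/
theorem fact {E G : CochainComplex A ℤ} (u : E ⟶ G) {T : CochainComplex A ℤ}
    (ι : T ⟶ mappingCone u) :
    ∃ (E' : CochainComplex A ℤ) (v : E ⟶ E') (u' : E' ⟶ G), v ≫ u' = u ∧
      (∀ i, Mono (v.f i)) ∧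
      (∀ i, IsZero (T.X i) → IsIso (v.f i)) ∧
      (∀ i, Nonempty (cokernel (v.f i) ≅ T.X i)) ∧
      (∀ i, Nonempty (E'.X i ≅ T.X i ⊞ E.X i)) ∧
      (∀ i, Epi (HomologicalComplex.homologyMap ι i) →
        Epi (HomologicalComplex.homologyMap u' i)) ∧
      (∀ i, Mono (HomologicalComplex.homologyMap ι i) →
        Epi (HomologicalComplex.homologyMap ι (i - 1)) →
        Mono (HomologicalComplex.homologyMap u' i)) :=
  ⟨E' u ι, vv u ι, u' u ι, vv_u' u ι, fun i => inferInstance, isIso_vv_f u ι,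
    nonempty_cokernel_iso u ι, nonempty_X_iso u ι, epi_u' u ι, mono_u' u ι⟩

end Groth.Agent.Helper2.PC3
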