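import Groth.Agent.Helper2.PC3
import Mathlib

set_option autoImplicit false

namespace Groth.Agent.Helper2.PC4

open CategoryTheory CategoryTheory.Limits CochainComplex CochainComplex.HomComplex
open Groth.Agent.Helper9.FM Groth.Agent.Helper2.PC1 Groth.Agent.Helper2.PC2

universe v u

variable {A : Type u} [Category.{v} A] [Abelian A]
variable {E G : CochainComplex A ℤ} (u : E ⟶ G)

/-- the cone of `u` is acyclic in degree `i` as soon as `H^{i+1}(u)` is mono and `H^i(u)` epi -/
theorem isZero_homology_cone (i : ℤ) (hmono : Mono (HomologicalComplex.homologyMap u (i + 1)))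
    (hepi : Epi (HomologicalComplex.homologyMap u i)) :
    IsZero ((mappingCone u).homology i) := by
  rw [isZero_homology_iff _ (i - 1) i (i + 1) (by omega) rfl]
  rw [mono_homologyMap_iff _ i (i + 1) (i + 1 + 1) rfl rfl] at hmono
  rw [epi_homologyMap_iff _ (i - 1) i (i + 1) (by omega) rfl] at hepi
  intro c hc
  rw [d_eq_zero_iff u i (i + 1) (i + 1 + 1) rfl rfl] at hc
  obtain ⟨hx, hxy⟩ := hc
  set x := cfst u i (i + 1) rfl c with hxdef
  set y := csnd u i c with hydef
  obtain ⟨x₁, hx₁⟩ := hmono x hx ⟨-y, by rw [map_neg]; exact (eq_neg_of_add_eq_zero_left hxy).symm⟩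
  obtain ⟨x₂, hx₂, y₂, hy₂⟩ := hepi (m (u.f i) x₁ + y) (by
    rw [map_add, PC1.f_d_apply, hx₁, hxy])
  refine ⟨cmk u (i - 1) i (by omega) (x₂ - x₁) (-y₂), ?_⟩
  apply cone_ext u i (i + 1) rfl
  · rw [cfst_d u (i - 1) i (i + 1) (by omega) rfl, cfst_cmk, map_sub, hx₂, hx₁, ← hxdef]
    abel
  · rw [csnd_d u (i - 1) i (by omega), cfst_cmk, csnd_cmk, map_sub, map_neg, hy₂, ← hydef]
    abel

/-- an `n`-quasi-isomorphism has a cone which is acyclic in degrees `≥ n` -/
theorem isZero_homology_cone_of_nQuasiIso (n : ℤ)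
    (hiso : ∀ i : ℤ, n < i → IsIso (HomologicalComplex.homologyMap u i))
    (hepi : Epi (HomologicalComplex.homologyMap u n)) (i : ℤ) (hi : n ≤ i) :
    IsZero ((mappingCone u).homology i) := by
  apply isZero_homology_cone
  · haveI := hiso (i + 1) (by omega)
    infer_instance
  · rcases hi.lt_or_eq with h | h
    · haveI := hiso i h
      infer_instance
    · rw [← h]
      exact hepi

/-- **S5600**: factorisation of an `n`-quasi-isomorphism. -/
theorem s5600 (n : ℤ) (E F : CochainComplex A ℤ) (u : E ⟶ F)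
    (hiso : ∀ i : ℤ, n < i → IsIso (HomologicalComplex.homologyMap u i))
    (hepi : Epi (HomologicalComplex.homologyMap u n)) :
    ∃ (E' : CochainComplex A ℤ) (v : E ⟶ E') (u' : E' ⟶ F), v ≫ u' = u ∧ QuasiIso u' ∧
      (∀ i : ℤ, Mono (v.f i)) ∧ (∀ i : ℤ, n ≤ i → IsIso (v.f i)) ∧
      (∀ i : ℤ, Nonempty (E'.X i ≅ ((mappingCone u).truncLE (n - 1)).X i ⊞ E.X i)) := by
  have hLE : (mappingCone u).IsLE (n - 1) := by
    rw [isLE_iff]
    intro i hi
    rw [HomologicalComplex.exactAt_iff_isZero_homology]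
    exact isZero_homology_cone_of_nQuasiIso u n hiso hepi i (by omega)
  have hq : QuasiIso ((mappingCone u).ιTruncLE (n - 1)) := inferInstance
  obtain ⟨E', v, u', hvu, hmono, hiso', -, hX, hE, hM⟩ :=
    PC3.fact u ((mappingCone u).ιTruncLE (n - 1))
  refine ⟨E', v, u', hvu, ?_, hmono, ?_, hX⟩
  · rw [quasiIso_iff]
    intro i
    rw [quasiIsoAt_iff_isIso_homologyMap]
    have h1 : ∀ j, IsIso (HomologicalComplex.homologyMap ((mappingCone u).ιTruncLE (n - 1)) j) := by
      intro j
      rw [← quasiIsoAt_iff_isIso_homologyMap]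
      infer_instance
    haveI := hE i (by haveI := h1 i; infer_instance)
    haveI := hM i (by haveI := h1 i; infer_instance) (by haveI := h1 (i - 1); infer_instance)
    exact isIso_of_mono_of_epi _
  · intro i hi
    apply hiso'
    exact isZero_of_isStrictlyLE _ (n - 1) i (by omega)

end Groth.Agent.Helper2.PC4
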