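import Groth.Agent.Helper2.PC4
import Groth.Agent.Helper9.PCohB
import Mathlib

set_option autoImplicit false

namespace Groth.Agent.Helper2.PC5

open CategoryTheory CategoryTheory.Limits CochainComplex CochainComplex.HomComplex
open Groth.Agent.Helper9.FM Groth.Agent.Helper9.FMH Groth.Agent.Helper2.PC1 Groth.Agent.Helper2.PC2

universe v u

variable {A : Type u} [Category.{v} A] [Abelian A]

/-- If `H^n(K)` is of `P`-finite type and `P` is quasi-liftable, there is an object `Q` of `P` and a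
map `γ : Q ⟶ K^n` landing in the cocycles and surjecting onto `H^n(K)`. -/
theorem exists_lift_to_cocycles (P : ObjectProperty A) (hql : PCoh.IsQuasiLiftable P)
    (K : CochainComplex A ℤ) (n : ℤ) (hft : PCoh.IsOfFiniteType P (K.homology n)) :
    ∃ (Q : A) (γ : Q ⟶ K.X n), P Q ∧ γ ≫ K.d n (n + 1) = 0 ∧
      ∀ c : (F A).obj (K.X n), m (K.d n (n + 1)) c = 0 →
        ∃ (q : (F A).obj Q) (w : (F A).obj (K.X (n - 1))), m (K.d (n - 1) n) w = m γ q - c := by
  obtain ⟨P₀, π₀, hP₀, hπ₀⟩ := hft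
  haveI := hπ₀
  have hsnd : Epi (pullback.snd (K.homologyπ n) π₀) := inferInstance
  obtain ⟨Q, v, hQ, hv⟩ := hql _ _ (pullback.snd (K.homologyπ n) π₀) hsnd hP₀
  refine ⟨Q, v ≫ pullback.fst (K.homologyπ n) π₀ ≫ K.iCycles n, hQ, ?_, ?_⟩
  · rw [Category.assoc, Category.assoc, K.iCycles_d, comp_zero, comp_zero]
  · intro c hc
    have hepi : Epi ((v ≫ pullback.fst (K.homologyπ n) π₀) ≫ K.homologyπ n) := by
      rw [Category.assoc, pullback.condition, ← Category.assoc]
      exact epi_comp _ _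
    obtain ⟨z, hz⟩ := exists_cycle K n c hc
    obtain ⟨q, hq⟩ := (epi_iff _).1 hepi (m (K.homologyπ n) z)
    rw [m_comp_apply] at hq
    have h0 : m (K.homologyπ n) (m (v ≫ pullback.fst (K.homologyπ n) π₀) q - z) = 0 := by
      rw [map_sub, hq, sub_self]
    obtain ⟨w, hw⟩ := (homologyπ_eq_zero_iff K n _).1 h0
    refine ⟨q, w, ?_⟩
    rw [hw, map_sub, hz, ← m_comp_apply, Category.assoc]

end Groth.Agent.Helper2.PC5

namespace Groth.Agent.Helper2.PC5

open CategoryTheory CategoryTheory.Limits CochainComplex CochainComplex.HomComplex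
open Groth.Agent.Helper9.FM Groth.Agent.Helper9.FMH Groth.Agent.Helper2.PC1 Groth.Agent.Helper2.PC2

universe v u

variable {A : Type u} [Category.{v} A] [Abelian A]

/-- attaching an object `Q` in degree `n` along `γ : Q ⟶ cone(u)^n` -/
theorem attach {E G : CochainComplex A ℤ} (u : E ⟶ G) (n : ℤ) (Q : A)
    (γ : Q ⟶ (mappingCone u).X n) (hγ : γ ≫ (mappingCone u).d n (n + 1) = 0)
    (hsurj : ∀ c : (F A).obj ((mappingCone u).X n), m ((mappingCone u).d n (n + 1)) c = 0 →
        ∃ (q : (F A).obj Q) (w : (F A).obj ((mappingCone u).X (n - 1))),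
          m ((mappingCone u).d (n - 1) n) w = m γ q - c) :
    ∃ (E' : CochainComplex A ℤ) (v : E ⟶ E') (u' : E' ⟶ G), v ≫ u' = u ∧
      (∀ i : ℤ, Mono (v.f i)) ∧ (∀ i : ℤ, i ≠ n → IsIso (v.f i)) ∧
      Nonempty (cokernel (v.f n) ≅ Q) ∧
      (∀ i : ℤ, i ≠ n → Nonempty (E'.X i ≅ E.X i)) ∧ Nonempty (E'.X n ≅ Q ⊞ E.X n) ∧
      Epi (HomologicalComplex.homologyMap u' n) ∧
      (∀ i : ℤ, n < i → IsZero ((mappingCone u).homology i) →
        Epi (HomologicalComplex.homologyMap u' i)) ∧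
      (∀ i : ℤ, n + 1 < i → IsZero ((mappingCone u).homology (i - 1)) →
        Mono (HomologicalComplex.homologyMap u' i)) ∧
      (Mono (HomologicalComplex.homologyMap u' (n + 1))) := by
  let T : CochainComplex A ℤ := (HomologicalComplex.single A (ComplexShape.up ℤ) n).obj Q
  let ι : T ⟶ mappingCone u := HomologicalComplex.mkHomFromSingle γ (by
    intro k hk
    obtain rfl : k = n + 1 := by
      have : n + 1 = k := hk
      omega
    exact hγ)
  have hT0 : ∀ i : ℤ, i ≠ n → IsZero (T.X i) := fun i hi =>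
    HomologicalComplex.isZero_single_obj_X _ _ _ _ hi
  let eT : T.X n ≅ Q := HomologicalComplex.singleObjXSelf (ComplexShape.up ℤ) n Q
  have hιn : ∀ x : (F A).obj (T.X n), m (ι.f n) x = m γ (m eT.hom x) := by
    intro x
    have : ι.f n = eT.hom ≫ γ := HomologicalComplex.mkHomFromSingle_f γ _
    rw [this, m_comp_apply]
  have hTH : ∀ i : ℤ, i ≠ n → IsZero (T.homology i) := by
    intro i hi
    rw [isZero_homology_iff T (i - 1) i (i + 1) (by omega) rfl]
    intro x _
    exact ⟨0, by rw [map_zero]; exact (eq_zero_of_isZero (hT0 i hi) x).symm⟩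
  have hepin : Epi (HomologicalComplex.homologyMap ι n) := by
    rw [epi_homologyMap_iff _ (n - 1) n (n + 1) (by omega) rfl]
    intro c hc
    obtain ⟨q, w, hw⟩ := hsurj c hc
    refine ⟨m eT.inv q, eq_zero_of_isZero (hT0 (n + 1) (by omega)) _, w, ?_⟩
    have h1 : m eT.hom (m eT.inv q) = q := by
      rw [← m_comp_apply, eT.inv_hom_id, m_id]
      rfl
    rw [hw, hιn, h1]
  obtain ⟨E', v, u', hvu, hmono, hiso', hcok, hX, hE, hM⟩ := PC3.fact u ι
  refine ⟨E', v, u', hvu, hmono, fun i hi => hiso' i (hT0 i hi), ?_, ?_, ?_, hE n hepin, ?_, ?_, ?_⟩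
  · obtain ⟨e⟩ := hcok n
    exact ⟨e ≪≫ eT⟩
  · intro i hi
    obtain ⟨e⟩ := hX i
    have hz := hT0 i hi
    refine ⟨e ≪≫ ?_⟩
    exact
      { hom := biprod.snd
        inv := biprod.inr
        hom_inv_id := by
          apply biprod.hom_ext
          · exact hz.eq_of_tgt _ _
          · simp
        inv_hom_id := by simp }
  · obtain ⟨e⟩ := hX n
    exact ⟨e ≪≫ biprod.mapIso eT (Iso.refl _)⟩
  · intro i hi hz
    apply hE
    exact ⟨fun f g _ => hz.eq_of_src _ _⟩
  · intro i hi hz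
    apply hM
    · exact ⟨fun f g _ => (hTH i (by omega)).eq_of_tgt _ _⟩
    · exact ⟨fun f g _ => hz.eq_of_src _ _⟩
  · apply hM
    · exact ⟨fun f g _ => (hTH (n + 1) (by omega)).eq_of_tgt _ _⟩
    · have : n + 1 - 1 = n := by omega
      rw [this]
      exact hepin

end Groth.Agent.Helper2.PC5

namespace Groth.Agent.Helper2.PC5

open CategoryTheory CategoryTheory.Limits CochainComplex CochainComplex.HomComplex
open Groth.Agent.Helper9.FM Groth.Agent.Helper9.FMH Groth.Agent.Helper2.PC1 Groth.Agent.Helper2.PC2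

universe v u

variable {A : Type u} [Category.{v} A] [Abelian A]

/-- **S5628**, with the extra information on the terms of `E'`. -/
theorem step (P : ObjectProperty A) [P.IsClosedUnderIsomorphisms]
    (hql : PCoh.IsQuasiLiftable P)
    (n : ℤ) (E G : CochainComplex A ℤ) (u : E ⟶ G)
    (hiso : ∀ i : ℤ, n + 1 < i → IsIso (HomologicalComplex.homologyMap u i))
    (hepi : Epi (HomologicalComplex.homologyMap u (n + 1)))
    (hcone : PCoh.IsOfFiniteType P ((CochainComplex.mappingCone u).homology n)) :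
    ∃ (E' : CochainComplex A ℤ) (v : E ⟶ E') (u' : E' ⟶ G), v ≫ u' = u ∧ (∀ i : ℤ, Mono (v.f i)) ∧
      (∀ i : ℤ, i ≠ n → IsIso (v.f i)) ∧ P (cokernel (v.f n)) ∧
      (∀ i : ℤ, n < i → IsIso (HomologicalComplex.homologyMap u' i)) ∧
      Epi (HomologicalComplex.homologyMap u' n) ∧
      (∀ i : ℤ, i ≠ n → Nonempty (E'.X i ≅ E.X i)) ∧
      ∃ Q : A, P Q ∧ Nonempty (E'.X n ≅ Q ⊞ E.X n) := by
  have hz : ∀ i : ℤ, n + 1 ≤ i → IsZero ((mappingCone u).homology i) :=
    PC4.isZero_homology_cone_of_nQuasiIso u (n + 1) hiso hepi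
  obtain ⟨Q, γ, hQ, hγ, hsurj⟩ := exists_lift_to_cocycles P hql (mappingCone u) n hcone
  obtain ⟨E', v, u', hvu, hmono, hiso', ⟨ecok⟩, hX, hXn, hEn, hE, hM, hM1⟩ :=
    attach u n Q γ hγ hsurj
  refine ⟨E', v, u', hvu, hmono, hiso', P.prop_of_iso ecok.symm hQ, ?_, hEn, hX, Q, hQ, hXn⟩
  intro i hi
  haveI : Epi (HomologicalComplex.homologyMap u' i) := hE i hi (hz i (by omega))
  haveI : Mono (HomologicalComplex.homologyMap u' i) := by
    rcases (show n + 1 ≤ i by omega).lt_or_eq with h | h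
    · exact hM i h (hz (i - 1) (by omega))
    · rw [← h]
      exact hM1
  exact isIso_of_mono_of_epi _

end Groth.Agent.Helper2.PC5
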