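import Groth.Agent.Helper2.PC5
import Groth.Agent.Helper9.PCohB
import Mathlib

set_option autoImplicit false

namespace Groth.Agent.Helper2.PC6

open CategoryTheory CategoryTheory.Limits CochainComplex CochainComplex.HomComplex
open Groth.Agent.Helper9.FM Groth.Agent.Helper9.FMH Groth.Agent.Helper2.PC1 Groth.Agent.Helper2.PC2

universe v u

variable {A : Type u} [Category.{v} A] [Abelian A]

section Map

variable {K₁ L₁ K₂ L₂ : CochainComplex A ℤ} (φ₁ : K₁ ⟶ L₁) (φ₂ : K₂ ⟶ L₂)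
  (a : K₁ ⟶ K₂) (b : L₁ ⟶ L₂) (comm : φ₁ ≫ b = a ≫ φ₂)

theorem map_apply (i j : ℤ) (hij : i + 1 = j) (c : (F A).obj ((mappingCone φ₁).X i)) :
    m ((mappingCone.map φ₁ φ₂ a b comm).f i) c =
      cmk φ₂ i j hij (m (a.f j) (cfst φ₁ i j hij c)) (m (b.f i) (csnd φ₁ i c)) := by
  unfold mappingCone.map
  rw [desc_apply φ₁ _ _ _ i j hij]
  unfold cmk
  congr 1
  · rw [Cochain.zero_cochain_comp_v, Cochain.ofHom_v, m_comp_apply]
  · rw [HomologicalComplex.comp_f, m_comp_apply]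

end Map

variable {G E H : CochainComplex A ℤ} (w : G ⟶ E) (u : E ⟶ H)

/-- the comparison of cones `cone(w) ⟶ cone(w ≫ u)` -/
noncomputable abbrev κ : mappingCone w ⟶ mappingCone (w ≫ u) :=
  mappingCone.map w (w ≫ u) (𝟙 G) u (by simp)

theorem κ_apply (i j : ℤ) (hij : i + 1 = j) (c : (F A).obj ((mappingCone w).X i)) :
    m ((κ w u).f i) c = cmk (w ≫ u) i j hij (cfst w i j hij c) (m (u.f i) (csnd w i c)) := by
  unfold κ
  rw [map_apply w (w ≫ u) (𝟙 G) u _ i j hij, HomologicalComplex.id_f, m_id]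
  rfl

theorem epi_κ (i : ℤ) (h1 : Mono (HomologicalComplex.homologyMap u (i + 1)))
    (h0 : Epi (HomologicalComplex.homologyMap u i)) :
    Epi (HomologicalComplex.homologyMap (κ w u) i) := by
  rw [mono_homologyMap_iff _ i (i + 1) (i + 1 + 1) rfl rfl] at h1
  rw [epi_homologyMap_iff _ (i - 1) i (i + 1) (by omega) rfl] at h0 ⊢
  intro c hc
  rw [d_eq_zero_iff (w ≫ u) i (i + 1) (i + 1 + 1) rfl rfl] at hc
  obtain ⟨hx, hxz⟩ := hc
  set x := cfst (w ≫ u) i (i + 1) rfl c with hxdef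
  set z := csnd (w ≫ u) i c with hzdef
  rw [comp_f_apply] at hxz
  -- w x is a cocycle whose image under u is a coboundary
  obtain ⟨y₀, hy₀⟩ := h1 (m (w.f (i + 1)) x) (by rw [PC1.f_d_apply, hx, map_zero])
    ⟨-z, by rw [map_neg]; exact (eq_neg_of_add_eq_zero_left hxz).symm⟩
  -- -(u y₀ + z) is a cocycle of H
  obtain ⟨y₁, hy₁, z₁, hz₁⟩ := h0 (-(m (u.f i) y₀ + z)) (by
    rw [map_neg, map_add, PC1.f_d_apply, hy₀, hxz, neg_zero])
  refine ⟨cmk w i (i + 1) rfl x (-y₀ - y₁), ?_, cmk (w ≫ u) (i - 1) i (by omega) 0 (-z₁), ?_⟩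
  · rw [d_eq_zero_iff w i (i + 1) (i + 1 + 1) rfl rfl, cfst_cmk, csnd_cmk]
    refine ⟨hx, ?_⟩
    rw [map_sub, map_neg, hy₀, hy₁]
    abel
  · rw [κ_apply w u i (i + 1) rfl, cfst_cmk, csnd_cmk]
    apply cone_ext (w ≫ u) i (i + 1) rfl
    · rw [cfst_d (w ≫ u) (i - 1) i (i + 1) (by omega) rfl, cfst_cmk, map_sub, cfst_cmk, ← hxdef,
        map_zero, neg_zero, sub_self]
    · rw [csnd_d (w ≫ u) (i - 1) i (by omega), cfst_cmk, csnd_cmk, map_sub, csnd_cmk, map_zero,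
        zero_add, map_neg, hz₁, ← hzdef, map_sub, map_neg]
      abel

theorem mono_κ (i : ℤ) (h0 : Mono (HomologicalComplex.homologyMap u i)) :
    Mono (HomologicalComplex.homologyMap (κ w u) i) := by
  rw [mono_homologyMap_iff _ (i - 1) i (i + 1) (by omega) rfl] at h0 ⊢
  intro c hc ⟨c₁, hc₁⟩
  rw [d_eq_zero_iff w i (i + 1) (i + 1 + 1) rfl rfl] at hc
  obtain ⟨hx, hxy⟩ := hc
  set x := cfst w i (i + 1) rfl c with hxdef
  set y := csnd w i c with hydef
  rw [κ_apply w u i (i + 1) rfl] at hc₁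
  have e1 := congrArg (cfst (w ≫ u) i (i + 1) rfl) hc₁
  have e2 := congrArg (csnd (w ≫ u) i) hc₁
  rw [cfst_d (w ≫ u) (i - 1) i (i + 1) (by omega) rfl, cfst_cmk] at e1
  rw [csnd_d (w ≫ u) (i - 1) i (by omega), csnd_cmk, comp_f_apply] at e2
  set x₁ := cfst (w ≫ u) (i - 1) i (by omega) c₁ with hx₁def
  set z₁ := csnd (w ≫ u) (i - 1) c₁ with hz₁def
  -- y - w x₁ is a cocycle of E whose image is a coboundary
  obtain ⟨y₂, hy₂⟩ := h0 (y - m (w.f i) x₁) (by
      rw [map_sub, PC1.f_d_apply, ← hxdef] at *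
      have : m (G.d i (i + 1)) x₁ = -x := by rw [← e1, neg_neg]
      rw [this, map_neg]
      rw [← hxy]
      abel)
    ⟨z₁, by rw [map_sub, ← e2]; abel⟩
  refine ⟨cmk w (i - 1) i (by omega) x₁ y₂, ?_⟩
  apply cone_ext w i (i + 1) rfl
  · rw [cfst_d w (i - 1) i (i + 1) (by omega) rfl, cfst_cmk, e1]
  · rw [csnd_d w (i - 1) i (by omega), cfst_cmk, csnd_cmk, hy₂, ← hydef]
    abel

theorem isIso_κ (i : ℤ) (h1 : Mono (HomologicalComplex.homologyMap u (i + 1)))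
    (h0 : IsIso (HomologicalComplex.homologyMap u i)) :
    IsIso (HomologicalComplex.homologyMap (κ w u) i) := by
  haveI := epi_κ w u i h1 inferInstance
  haveI := mono_κ w u i inferInstance
  exact isIso_of_mono_of_epi _

end Groth.Agent.Helper2.PC6
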