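import Groth.Agent.Helper2.PC6
import Groth.Agent.Helper9.PerfCone
import Mathlib

set_option autoImplicit false

namespace Groth.Agent.Helper2.PC7

open CategoryTheory CategoryTheory.Limits CochainComplex CochainComplex.HomComplex
open Groth.Agent.Helper9.FM Groth.Agent.Helper9.FMH Groth.Agent.Helper2.PC1 Groth.Agent.Helper2.PC2

universe v u

variable {A : Type u} [Category.{v} A] [Abelian A]
variable (P : ObjectProperty A) [P.IsClosedUnderIsomorphisms]

theorem isOfFiniteType_of_iso {X Y : A} (e : X ≅ Y) (h : PCoh.IsOfFiniteType P X) :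
    PCoh.IsOfFiniteType P Y :=
  Groth.Agent.Helper9.PCohA.isOfFiniteType_of_epi P e.hom h

include P in
theorem prop_biprod (hsum : ∀ X Y : A, P X → P Y → P (X ⨯ Y)) (X Y : A) (hX : P X) (hY : P Y) :
    P (X ⊞ Y) :=
  P.prop_of_iso (biprod.isoProd X Y).symm (hsum X Y hX hY)

theorem prop_cone_X (hsum : ∀ X Y : A, P X → P Y → P (X ⨯ Y)) {K L : CochainComplex A ℤ}
    (φ : K ⟶ L) (i j : ℤ) (hij : i + 1 = j) (h1 : P (K.X j)) (h2 : P (L.X i)) :
    P ((mappingCone φ).X i) :=
  P.prop_of_iso (HomologicalComplex.homotopyCofiber.XIsoBiprod φ i j hij).symm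
    (prop_biprod P hsum _ _ h1 h2)

theorem isZero_cone_X {K L : CochainComplex A ℤ}
    (φ : K ⟶ L) (i j : ℤ) (hij : i + 1 = j) (h1 : IsZero (K.X j)) (h2 : IsZero (L.X i)) :
    IsZero ((mappingCone φ).X i) := by
  rw [isZero_iff]
  refine ⟨fun a b => ?_⟩
  apply cone_ext φ i j hij
  · rw [eq_zero_of_isZero h1 (cfst φ i j hij a), eq_zero_of_isZero h1 (cfst φ i j hij b)]
  · rw [eq_zero_of_isZero h2 (csnd φ i a), eq_zero_of_isZero h2 (csnd φ i b)]

theorem isIso_homologyMap_comp {K L M : CochainComplex A ℤ} (f : K ⟶ L) (g : L ⟶ M) (i : ℤ)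
    [IsIso (HomologicalComplex.homologyMap f i)] [IsIso (HomologicalComplex.homologyMap g i)] :
    IsIso (HomologicalComplex.homologyMap (f ≫ g) i) := by
  rw [HomologicalComplex.homologyMap_comp]
  infer_instance

theorem epi_homologyMap_comp {K L M : CochainComplex A ℤ} (f : K ⟶ L) (g : L ⟶ M) (i : ℤ)
    [Epi (HomologicalComplex.homologyMap f i)] [Epi (HomologicalComplex.homologyMap g i)] :
    Epi (HomologicalComplex.homologyMap (f ≫ g) i) := by
  rw [HomologicalComplex.homologyMap_comp]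
  infer_instance

theorem isIso_homologyMap_of_quasiIso {K L : CochainComplex A ℤ} (f : K ⟶ L) [QuasiIso f] (i : ℤ) :
    IsIso (HomologicalComplex.homologyMap f i) := by
  rw [← quasiIsoAt_iff_isIso_homologyMap]
  infer_instance

/-- finiteness of `H^m` of the cone of an `(m+1)`-quasi-isomorphism `w : G ⟶ E` from a complex with
terms in `P`, when `E` is quasi-isomorphic to a strictly `m`-pseudo-coherent complex -/
theorem ft_cone (hsum : ∀ X Y : A, P X → P Y → P (X ⨯ Y))
    (hqs : PCoh.IsQuasiStableUnderKernels P) {G E H : CochainComplex A ℤ} (w : G ⟶ E) (u : E ⟶ H)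
    [QuasiIso u] (m : ℤ) (hH : PCoh.IsStrictPC P m H) (hG : PCoh.IsStrictPC P (m + 1) G)
    (hiso : ∀ i : ℤ, m + 1 < i → IsIso (HomologicalComplex.homologyMap w i))
    (hepi : Epi (HomologicalComplex.homologyMap w (m + 1))) :
    PCoh.IsOfFiniteType P ((mappingCone w).homology m) := by
  obtain ⟨⟨b₁, hb₁⟩, hP₁⟩ := hH
  obtain ⟨⟨b₂, hb₂⟩, hP₂⟩ := hG
  have hu : ∀ i, IsIso (HomologicalComplex.homologyMap u i) := isIso_homologyMap_of_quasiIso u
  have hiso' : ∀ i : ℤ, m + 1 < i → IsIso (HomologicalComplex.homologyMap (w ≫ u) i) := by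
    intro i hi
    haveI := hiso i hi
    haveI := hu i
    exact isIso_homologyMap_comp w u i
  have hepi' : Epi (HomologicalComplex.homologyMap (w ≫ u) (m + 1)) := by
    haveI := hu (m + 1)
    exact epi_homologyMap_comp w u (m + 1)
  have hz : ∀ i : ℤ, m < i → IsZero ((mappingCone (w ≫ u)).homology i) := fun i hi =>
    PC4.isZero_homology_cone_of_nQuasiIso (w ≫ u) (m + 1) hiso' hepi' i (by omega)
  have hPC : PCoh.IsStrictPC P m (mappingCone (w ≫ u)) := by
    refine ⟨⟨max b₁ b₂, fun i hi => ?_⟩, fun i hi => ?_⟩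
    · apply isZero_cone_X (w ≫ u) i (i + 1) rfl
      · apply hb₂
        have := le_max_right b₁ b₂
        omega
      · apply hb₁
        have := le_max_left b₁ b₂
        omega
    · exact prop_cone_X P hsum (w ≫ u) i (i + 1) rfl (hP₂ _ (by omega)) (hP₁ _ hi)
  have hft := Groth.Agent.Helper9.PCohB.S5602 P hqs m _ hPC hz
  haveI := hu m
  haveI := PC6.isIso_κ w u m (by haveI := hu (m + 1); infer_instance) inferInstance
  exact isOfFiniteType_of_iso P (asIso (HomologicalComplex.homologyMap (PC6.κ w u) m)).symm hft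

end Groth.Agent.Helper2.PC7

namespace Groth.Agent.Helper2.PC7

open CategoryTheory CategoryTheory.Limits CochainComplex CochainComplex.HomComplex
open Groth.Agent.Helper9.FM Groth.Agent.Helper9.FMH Groth.Agent.Helper2.PC1 Groth.Agent.Helper2.PC2

universe v u

variable {A : Type u} [Category.{v} A] [Abelian A]
variable (P : ObjectProperty A) [P.IsClosedUnderIsomorphisms] [P.ContainsZero]

theorem isZero_homology_of_isZero_X (K : CochainComplex A ℤ) (i : ℤ) (h : IsZero (K.X i)) :
    IsZero (K.homology i) := by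
  rw [isZero_homology_iff K (i - 1) i (i + 1) (by omega) rfl]
  intro x _
  exact ⟨0, by rw [map_zero]; exact (eq_zero_of_isZero h x).symm⟩

/-- approximation of `E` by a bounded complex with terms in `P`, up to degree `m` -/
def Approx (E : CochainComplex A ℤ) (b m : ℤ) : Prop :=
  ∃ (G : CochainComplex A ℤ) (w : G ⟶ E), (∀ i, P (G.X i)) ∧ (∀ i, b < i → IsZero (G.X i)) ∧
    (∀ i, i < m → IsZero (G.X i)) ∧
    (∀ i, m < i → IsIso (HomologicalComplex.homologyMap w i)) ∧
    Epi (HomologicalComplex.homologyMap w m)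

open ZeroObject in
theorem approx_base (E : CochainComplex A ℤ) (b : ℤ)
    (hE : ∀ i, b < i → IsZero (E.homology i)) : Approx P E b (b + 1) := by
  refine ⟨0, 0, fun i => P.prop_of_isZero ?_, fun i _ => ?_, fun i _ => ?_, fun i hi => ?_, ?_⟩
  · exact (HomologicalComplex.eval A (ComplexShape.up ℤ) i).map_isZero (isZero_zero _)
  · exact (HomologicalComplex.eval A (ComplexShape.up ℤ) i).map_isZero (isZero_zero _)
  · exact (HomologicalComplex.eval A (ComplexShape.up ℤ) i).map_isZero (isZero_zero _)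
  · have h1 : IsZero ((0 : CochainComplex A ℤ).homology i) :=
      isZero_homology_of_isZero_X _ i
        ((HomologicalComplex.eval A (ComplexShape.up ℤ) i).map_isZero (isZero_zero _))
    exact ⟨⟨0, h1.eq_of_src _ _, (hE i (by omega)).eq_of_src _ _⟩⟩
  · exact ⟨fun f g _ => (hE (b + 1) (by omega)).eq_of_src _ _⟩

theorem approx_step (hsum : ∀ X Y : A, P X → P Y → P (X ⨯ Y))
    (hqs : PCoh.IsQuasiStableUnderKernels P) (hql : PCoh.IsQuasiLiftable P)
    {E H : CochainComplex A ℤ} (u : E ⟶ H) [QuasiIso u] (b m : ℤ) (hmb : m ≤ b)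
    (hH : PCoh.IsStrictPC P m H) (h : Approx P E b (m + 1)) : Approx P E b m := by
  obtain ⟨G, w, hP, hb, hlow, hiso, hepi⟩ := h
  have hG : PCoh.IsStrictPC P (m + 1) G := ⟨⟨b, hb⟩, fun i _ => hP i⟩
  have hft := ft_cone P hsum hqs w u m hH hG hiso hepi
  obtain ⟨G', v, w', hvw, hmono, hisov, hcok, hiso', hepi', hX, Q, hQ, ⟨eXm⟩⟩ :=
    PC5.step P hql m G E w hiso hepi hft
  refine ⟨G', w', fun i => ?_, fun i hi => ?_, fun i hi => ?_, hiso', hepi'⟩
  · by_cases him : i = m
    · subst him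
      exact P.prop_of_iso eXm.symm (prop_biprod P hsum _ _ hQ (hP i))
    · obtain ⟨e⟩ := hX i him
      exact P.prop_of_iso e.symm (hP i)
  · obtain ⟨e⟩ := hX i (by omega)
    exact (hb i hi).of_iso e
  · obtain ⟨e⟩ := hX i (by omega)
    exact (hlow i (by omega)).of_iso e

theorem approx_all (hsum : ∀ X Y : A, P X → P Y → P (X ⨯ Y))
    (hqs : PCoh.IsQuasiStableUnderKernels P) (hql : PCoh.IsQuasiLiftable P)
    {E H : CochainComplex A ℤ} (u : E ⟶ H) [QuasiIso u] (n b : ℤ)
    (hH : PCoh.IsStrictPC P n H) (hE : ∀ i, b < i → IsZero (E.homology i)) :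
    ∀ k : ℕ, n ≤ b + 1 - k → Approx P E b (b + 1 - k) := by
  intro k
  induction k with
  | zero =>
    intro _
    simpa using approx_base P E b hE
  | succ k ih =>
    intro hk
    have h1 := ih (by push_cast at hk; omega)
    have h2 : b + 1 - (k : ℤ) = (b + 1 - ((k + 1 : ℕ) : ℤ)) + 1 := by push_cast; ring
    rw [h2] at h1
    refine approx_step P hsum hqs hql u b _ (by push_cast; omega) ?_ h1
    exact ⟨hH.1, fun i hi => hH.2 i (by omega)⟩

theorem approx_n (hsum : ∀ X Y : A, P X → P Y → P (X ⨯ Y))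
    (hqs : PCoh.IsQuasiStableUnderKernels P) (hql : PCoh.IsQuasiLiftable P)
    {E H : CochainComplex A ℤ} (u : E ⟶ H) [QuasiIso u] (n b : ℤ) (hnb : n ≤ b + 1)
    (hH : PCoh.IsStrictPC P n H) (hE : ∀ i, b < i → IsZero (E.homology i)) :
    Approx P E b n := by
  have := approx_all P hsum hqs hql u n b hH hE (b + 1 - n).toNat (by
    rw [Int.toNat_of_nonneg (by omega)]; omega)
  rwa [Int.toNat_of_nonneg (by omega), show b + 1 - (b + 1 - n) = n by ring] at this

/-- **S5597** -/
theorem s5597 (hsum : ∀ X Y : A, P X → P Y → P (X ⨯ Y))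
    (hqs : PCoh.IsQuasiStableUnderKernels P) (hql : PCoh.IsQuasiLiftable P)
    (n : ℤ) (E H : CochainComplex A ℤ) (hH : PCoh.IsStrictPC P n H) (u : E ⟶ H) (hu : QuasiIso u) :
    ∃ (F' : CochainComplex A ℤ) (v : F' ⟶ E), PCoh.IsStrictPC P n F' ∧ QuasiIso v := by
  obtain ⟨⟨b₀, hb₀⟩, hP⟩ := hH
  set b := max b₀ n with hbdef
  have hbH : ∀ i, b < i → IsZero (H.X i) := fun i hi =>
    hb₀ i (lt_of_le_of_lt (le_max_left b₀ n) hi)
  have hE : ∀ i, b < i → IsZero (E.homology i) := by
    intro i hi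
    have h1 := isZero_homology_of_isZero_X H i (hbH i hi)
    haveI := isIso_homologyMap_of_quasiIso u i
    exact h1.of_iso (asIso (HomologicalComplex.homologyMap u i))
  obtain ⟨G, w, hPG, hbG, -, hiso, hepi⟩ :=
    approx_n P hsum hqs hql u n b (by have := le_max_right b₀ n; omega) ⟨⟨b₀, hb₀⟩, hP⟩ hE
  obtain ⟨G', v, w', hvw, hq, -, hisov, -⟩ := PC4.s5600 n G E w hiso hepi
  refine ⟨G', w', ⟨⟨b, fun i hi => ?_⟩, fun i hi => ?_⟩, hq⟩
  · haveI := hisov i (by have := le_max_right b₀ n; omega)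
    exact (hbG i hi).of_iso (asIso (v.f i)).symm
  · haveI := hisov i hi
    exact P.prop_of_iso (asIso (v.f i)) (hPG i)

end Groth.Agent.Helper2.PC7
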