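import Groth.Agent.Helper2.PC7
import Mathlib

set_option autoImplicit false

namespace Groth.Agent.Helper2.PC8

open CategoryTheory CategoryTheory.Limits CochainComplex

universe w v u

variable {A : Type u} [Category.{v} A] [Abelian A] [HasDerivedCategory.{w} A]

section Transfer

theorem isIso_map_iff_of_natIso {C D : Type*} [Category C] [Category D] {F G : C ⥤ D} (e : F ≅ G)
    {X Y : C} (f : X ⟶ Y) : IsIso (F.map f) ↔ IsIso (G.map f) := NatIso.isIso_map_iff e f

theorem epi_map_iff_of_natIso {C D : Type*} [Category C] [Category D] {F G : C ⥤ D} (e : F ≅ G)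
    {X Y : C} (f : X ⟶ Y) : Epi (F.map f) ↔ Epi (G.map f) := by
  have h1 : F.map f = e.hom.app X ≫ G.map f ≫ e.inv.app Y := by simp
  have h2 : G.map f = e.inv.app X ≫ F.map f ≫ e.hom.app Y := by simp
  constructor
  · intro h
    rw [h2]
    infer_instance
  · intro h
    rw [h1]
    infer_instance

theorem mono_map_iff_of_natIso {C D : Type*} [Category C] [Category D] {F G : C ⥤ D} (e : F ≅ G)
    {X Y : C} (f : X ⟶ Y) : Mono (F.map f) ↔ Mono (G.map f) := by
  have h1 : F.map f = e.hom.app X ≫ G.map f ≫ e.inv.app Y := by simp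
  have h2 : G.map f = e.inv.app X ≫ F.map f ≫ e.hom.app Y := by simp
  constructor
  · intro h
    rw [h2]
    infer_instance
  · intro h
    rw [h1]
    infer_instance

variable {K L : CochainComplex A ℤ} (f : K ⟶ L) (i : ℤ)

theorem isIso_map_Q_iff :
    IsIso ((DerivedCategory.homologyFunctor A i).map (DerivedCategory.Q.map f)) ↔
      IsIso (HomologicalComplex.homologyMap f i) :=
  isIso_map_iff_of_natIso (DerivedCategory.homologyFunctorFactors A i) f

theorem epi_map_Q_iff :
    Epi ((DerivedCategory.homologyFunctor A i).map (DerivedCategory.Q.map f)) ↔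
      Epi (HomologicalComplex.homologyMap f i) :=
  epi_map_iff_of_natIso (DerivedCategory.homologyFunctorFactors A i) f

theorem mono_map_Q_iff :
    Mono ((DerivedCategory.homologyFunctor A i).map (DerivedCategory.Q.map f)) ↔
      Mono (HomologicalComplex.homologyMap f i) :=
  mono_map_iff_of_natIso (DerivedCategory.homologyFunctorFactors A i) f

theorem isZero_homology_Q_iff (K : CochainComplex A ℤ) :
    IsZero ((DerivedCategory.homologyFunctor A i).obj (DerivedCategory.Q.obj K)) ↔
      IsZero (K.homology i) :=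
  ((DerivedCategory.homologyFunctorFactors A i).app K).isZero_iff

end Transfer

variable (P : ObjectProperty A) [P.IsClosedUnderIsomorphisms] [P.ContainsZero]

/-- an `n`-quasi-isomorphism from a bounded above complex with terms in `P` from degree `n` on
exhibits the target as quasi-isomorphic to a strictly `n`-pseudo-coherent complex -/
theorem strictPC_of_nQuasiIso (n : ℤ) {E H : CochainComplex A ℤ} (hE : PCoh.IsStrictPC P n E)
    (g : E ⟶ H) (hiso : ∀ i : ℤ, n < i → IsIso (HomologicalComplex.homologyMap g i))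
    (hepi : Epi (HomologicalComplex.homologyMap g n)) :
    ∃ (E' : CochainComplex A ℤ) (v : E ⟶ E') (g' : E' ⟶ H), v ≫ g' = g ∧ PCoh.IsStrictPC P n E' ∧
      QuasiIso g' ∧ (∀ j : ℤ, Mono (v.f j)) ∧ (∀ j : ℤ, n ≤ j → IsIso (v.f j)) := by
  obtain ⟨⟨b, hb⟩, hP⟩ := hE
  obtain ⟨E', v, g', hvg, hq, hmono, hisov, -⟩ := PC4.s5600 n E H g hiso hepi
  refine ⟨E', v, g', hvg, ⟨⟨max b n, fun i hi => ?_⟩, fun i hi => ?_⟩, hq, hmono, hisov⟩
  · haveI := hisov i (by have := le_max_right b n; omega)
    exact (hb i (by have := le_max_left b n; omega)).of_iso (asIso (v.f i)).symm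
  · haveI := hisov i hi
    exact P.prop_of_iso (asIso (v.f i)) (hP i hi)

/-- **S5598** -/
theorem s5598 (hsum : ∀ X Y : A, P X → P Y → P (X ⨯ Y))
    (hqs : PCoh.IsQuasiStableUnderKernels P) (hql : PCoh.IsQuasiLiftable P)
    (n : ℤ) (F : DerivedCategory A) :
    (∃ E : CochainComplex A ℤ, PCoh.IsStrictPC P n E ∧ Nonempty (DerivedCategory.Q.obj E ≅ F)) ↔
      ∃ (E : CochainComplex A ℤ) (a b : ℤ) (α : DerivedCategory.Q.obj E ⟶ F),
        (∀ i : ℤ, i < a ∨ b < i → IsZero (E.X i)) ∧ (∀ i : ℤ, P (E.X i)) ∧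
        (∀ i : ℤ, n < i → IsIso ((DerivedCategory.homologyFunctor A i).map α)) ∧
        Epi ((DerivedCategory.homologyFunctor A n).map α) := by
  constructor
  · rintro ⟨E₀, hE₀, ⟨e⟩⟩
    obtain ⟨⟨b₀, hb₀⟩, hP₀⟩ := hE₀
    set b := max b₀ n with hbdef
    have hbE : ∀ i, b < i → IsZero (E₀.homology i) := fun i hi =>
      PC7.isZero_homology_of_isZero_X E₀ i (hb₀ i (lt_of_le_of_lt (le_max_left b₀ n) hi))
    haveI : QuasiIso (𝟙 E₀) := inferInstance
    obtain ⟨G, w, hPG, hbG, hlow, hiso, hepi⟩ :=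
      PC7.approx_n P hsum hqs hql (𝟙 E₀) n b (by have := le_max_right b₀ n; omega)
        ⟨⟨b₀, hb₀⟩, hP₀⟩ hbE
    refine ⟨G, n, b, DerivedCategory.Q.map w ≫ e.hom, ?_, hPG, ?_, ?_⟩
    · rintro i (hi | hi)
      · exact hlow i hi
      · exact hbG i hi
    · intro i hi
      rw [Functor.map_comp]
      haveI := (isIso_map_Q_iff w i).2 (hiso i hi)
      infer_instance
    · rw [Functor.map_comp]
      haveI := (epi_map_Q_iff w n).2 hepi
      infer_instance
  · rintro ⟨E, a, b, α, hz, hP, hiso, hepi⟩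
    let F₁ := DerivedCategory.Q.objPreimage F
    let e : DerivedCategory.Q.obj F₁ ≅ F := DerivedCategory.Q.objObjPreimageIso F
    obtain ⟨F₂, g, s, hs, hfac⟩ := DerivedCategory.left_fac (α ≫ e.inv)
    have hg : DerivedCategory.Q.map g = α ≫ e.inv ≫ DerivedCategory.Q.map s := by
      rw [← Category.assoc, hfac]
      simp
    have hiso' : ∀ i : ℤ, n < i → IsIso (HomologicalComplex.homologyMap g i) := by
      intro i hi
      rw [← isIso_map_Q_iff, hg, Functor.map_comp, Functor.map_comp]
      haveI := hiso i hi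
      infer_instance
    have hepi' : Epi (HomologicalComplex.homologyMap g n) := by
      rw [← epi_map_Q_iff, hg, Functor.map_comp, Functor.map_comp]
      infer_instance
    obtain ⟨E', v, g', -, hE', hq, -, -⟩ := strictPC_of_nQuasiIso P n
      (⟨⟨b, fun i hi => hz i (Or.inr hi)⟩, fun i _ => hP i⟩ : PCoh.IsStrictPC P n E) g hiso' hepi'
    refine ⟨E', hE', ⟨?_⟩⟩
    haveI : IsIso (DerivedCategory.Q.map g') := by
      rw [DerivedCategory.isIso_Q_map_iff_quasiIso]
      exact hq
    exact asIso (DerivedCategory.Q.map g') ≪≫ (asIso (DerivedCategory.Q.map s)).symm ≪≫ e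

end Groth.Agent.Helper2.PC8
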