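import Groth.Agent.Helper2.PC8
import Mathlib

set_option autoImplicit false

namespace Groth.Agent.Helper2.PC9

open CategoryTheory CategoryTheory.Limits CategoryTheory.Pretriangulated

universe w v u

variable {A : Type u} [Category.{v} A] [Abelian A] [HasDerivedCategory.{w} A]
variable (P : ObjectProperty A)

/-- `F` is `n`-pseudo-coherent: isomorphic in `D(A)` to a strictly `n`-pseudo-coherent complex -/
def IsNPC (n : ℤ) (F : DerivedCategory A) : Prop :=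
  ∃ E : CochainComplex A ℤ, PCoh.IsStrictPC P n E ∧ Nonempty (DerivedCategory.Q.obj E ≅ F)

variable {P}

theorem IsNPC.of_iso {n : ℤ} {F F' : DerivedCategory A} (h : IsNPC P n F) (e : F ≅ F') :
    IsNPC P n F' := by
  obtain ⟨E, hE, ⟨e'⟩⟩ := h
  exact ⟨E, hE, ⟨e' ≪≫ e⟩⟩

theorem IsNPC.mono {n n' : ℤ} (hnn' : n ≤ n') {F : DerivedCategory A} (h : IsNPC P n F) :
    IsNPC P n' F := by
  obtain ⟨E, ⟨hb, hP⟩, he⟩ := h
  exact ⟨E, ⟨hb, fun i hi => hP i (by omega)⟩, he⟩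

theorem IsNPC.shift {n : ℤ} {F : DerivedCategory A} (h : IsNPC P n F) (m n' : ℤ)
    (hn' : n' + m = n) : IsNPC P n' ((shiftFunctor (DerivedCategory A) m).obj F) := by
  obtain ⟨E, ⟨⟨b, hb⟩, hP⟩, ⟨e⟩⟩ := h
  refine ⟨(shiftFunctor (CochainComplex A ℤ) m).obj E, ⟨⟨b - m, ?_⟩, ?_⟩, ⟨?_⟩⟩
  · intro i hi
    exact hb (i + m) (by omega)
  · intro i hi
    exact hP (i + m) (by omega)
  · exact (DerivedCategory.Q.commShiftIso m).app E ≪≫ (shiftFunctor (DerivedCategory A) m).mapIso e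

/-- the third vertex of a distinguished triangle whose first map is represented by a chain map -/
theorem exists_iso_cone_of_map (T : Triangle (DerivedCategory A)) (hT : T ∈ distTriang _)
    {E₁ E₂ : CochainComplex A ℤ} (ψ : E₁ ⟶ E₂)
    (e₁ : DerivedCategory.Q.obj E₁ ≅ T.obj₁) (e₂ : DerivedCategory.Q.obj E₂ ≅ T.obj₂)
    (comm : DerivedCategory.Q.map ψ ≫ e₂.hom = e₁.hom ≫ T.mor₁) :
    Nonempty (DerivedCategory.Q.obj (CochainComplex.mappingCone ψ) ≅ T.obj₃) := by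
  have hT' : DerivedCategory.Q.mapTriangle.obj (CochainComplex.mappingCone.triangle ψ) ∈
      distTriang (DerivedCategory A) := by
    rw [DerivedCategory.mem_distTriang_iff]
    exact ⟨_, _, ψ, ⟨Iso.refl _⟩⟩
  have iso := isoTriangleOfIso₁₂ _ T hT' hT e₁ e₂ comm
  exact ⟨Triangle.π₃.mapIso iso⟩

variable [P.IsClosedUnderIsomorphisms] [P.ContainsZero]

/-- (a) of **S5599** -/
theorem isNPC_obj₃ (hsum : ∀ X Y : A, P X → P Y → P (X ⨯ Y))
    (hqs : PCoh.IsQuasiStableUnderKernels P) (hql : PCoh.IsQuasiLiftable P)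
    (n : ℤ) (T : Triangle (DerivedCategory A)) (hT : T ∈ distTriang _)
    (h₁ : IsNPC P (n + 1) T.obj₁) (h₂ : IsNPC P n T.obj₂) : IsNPC P n T.obj₃ := by
  obtain ⟨E₁, hE₁, ⟨e₁⟩⟩ := h₁
  obtain ⟨E₂, ⟨⟨b₂, hb₂⟩, hP₂⟩, ⟨e₂⟩⟩ := h₂
  obtain ⟨E₁', s, hs, g, hfac⟩ := DerivedCategory.right_fac (e₁.hom ≫ T.mor₁ ≫ e₂.inv)
  have hsq : QuasiIso s := (DerivedCategory.isIso_Q_map_iff_quasiIso (φ := s)).1 hs
  obtain ⟨E₁'', v, ⟨⟨b₁, hb₁⟩, hP₁⟩, hv⟩ := PC7.s5597 P hsum hqs hql (n + 1) E₁' E₁ hE₁ s hsq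
  haveI : IsIso (DerivedCategory.Q.map v) := (DerivedCategory.isIso_Q_map_iff_quasiIso (φ := v)).2 hv
  have hg : DerivedCategory.Q.map g = DerivedCategory.Q.map s ≫ e₁.hom ≫ T.mor₁ ≫ e₂.inv := by
    rw [hfac, IsIso.hom_inv_id_assoc]
  let e₁' : DerivedCategory.Q.obj E₁'' ≅ T.obj₁ :=
    asIso (DerivedCategory.Q.map v) ≪≫ asIso (DerivedCategory.Q.map s) ≪≫ e₁
  obtain ⟨e₃⟩ := exists_iso_cone_of_map T hT (v ≫ g) e₁' e₂ (by
    simp only [e₁', Functor.map_comp, hg, Category.assoc, Iso.trans_hom, asIso_hom,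
      Iso.inv_hom_id, Category.comp_id])
  refine ⟨CochainComplex.mappingCone (v ≫ g), ⟨⟨max b₁ b₂, fun i hi => ?_⟩, fun i hi => ?_⟩, ⟨e₃⟩⟩
  · apply PC7.isZero_cone_X (v ≫ g) i (i + 1) rfl
    · apply hb₁
      have := le_max_left b₁ b₂
      omega
    · apply hb₂
      have := le_max_right b₁ b₂
      omega
  · exact PC7.prop_cone_X P hsum (v ≫ g) i (i + 1) rfl (hP₁ _ (by omega)) (hP₂ _ hi)

/-- **S5599** -/
theorem s5599 (hsum : ∀ X Y : A, P X → P Y → P (X ⨯ Y))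
    (hqs : PCoh.IsQuasiStableUnderKernels P) (hql : PCoh.IsQuasiLiftable P)
    (n : ℤ) (T : Triangle (DerivedCategory A)) (hT : T ∈ distTriang _) :
    (IsNPC P (n + 1) T.obj₁ → IsNPC P n T.obj₂ → IsNPC P n T.obj₃) ∧
      (IsNPC P n T.obj₁ → IsNPC P n T.obj₃ → IsNPC P n T.obj₂) ∧
      (IsNPC P (n + 1) T.obj₂ → IsNPC P n T.obj₃ → IsNPC P (n + 1) T.obj₁) := by
  refine ⟨isNPC_obj₃ hsum hqs hql n T hT, ?_, ?_⟩
  · intro h₁ h₃
    have hT' := inv_rot_of_distTriang T hT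
    exact isNPC_obj₃ hsum hqs hql n T.invRotate hT' (h₃.shift (-1) (n + 1) (by omega)) h₁
  · intro h₂ h₃
    have hT' := rot_of_distTriang T hT
    have h := isNPC_obj₃ hsum hqs hql n T.rotate hT' h₂ h₃
    have h' := h.shift (-1) (n + 1) (by omega)
    exact h'.of_iso (shiftShiftNeg (X := T.obj₁) (1 : ℤ))

end Groth.Agent.Helper2.PC9
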