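import Mathlib
import Groth.Prelude.Def_Found
import Groth.Agent.Helper2.PSN2
import Groth.Agent.Helper7.ZMTN2

set_option autoImplicit false
set_option linter.style.haveILetI false

namespace Groth.Agent.Helper2.PSN2b

universe u

open PowerSeries

theorem finite_powerSeries (R R' : Type u) [CommRing R] [CommRing R'] [Algebra R R']
    [Module.Finite R R'] : Module.Finite R⟦X⟧ R'⟦X⟧ := by
  classical
  obtain ⟨s, hs⟩ := (Module.finite_def.mp ‹Module.Finite R R'›)
  have hc : ∀ b : R', ∃ f : R' → R, ∑ e ∈ s, f e • e = b := by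
    intro b
    have hb : b ∈ Submodule.span R (s : Set R') := hs ▸ Submodule.mem_top
    obtain ⟨f, -, hf⟩ := Submodule.mem_span_finset.mp hb
    exact ⟨f, hf⟩
  choose c hc using hc
  refine Module.finite_def.mpr ⟨s.image (C : R' → R'⟦X⟧), ?_⟩
  rw [eq_top_iff]
  intro g _
  have hg : g = ∑ e ∈ s, (PowerSeries.mk fun n => c (coeff n g) e) • (C e : R'⟦X⟧) := by
    ext n
    rw [map_sum]
    conv_lhs => rw [← hc (coeff n g)]
    refine Finset.sum_congr rfl fun e _ => ?_
    rw [Algebra.smul_def, Algebra.smul_def, algebraMap_apply'', coeff_mul_C, coeff_map, coeff_mk]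
  rw [hg]
  exact Submodule.sum_mem _ fun e he => Submodule.smul_mem _ _
    (Submodule.subset_span (Finset.mem_coe.mpr (Finset.mem_image_of_mem _ he)))

/-- Descent of N-2 along a finite extension with the same fraction field. -/
theorem isN2_of_finite_of_isFractionRing (A B : Type u) [CommRing A] [IsDomain A] [CommRing B]
    [IsDomain B] [Algebra A B] [Module.Finite A B] [IsNoetherianRing A]
    (F : Type u) [Field F] [Algebra A F] [Algebra B F] [IsScalarTower A B F]
    [IsFractionRing A F] [IsFractionRing B F] (hB : CAlg.IsN2 B) : CAlg.IsN2 A := by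
  apply Groth.Agent.Helper4.Japanese.isN2_of (K := F)
  intro L _ _ _ _ hfd
  letI : Algebra B L := ((algebraMap F L).comp (algebraMap B F)).toAlgebra
  haveI : IsScalarTower B F L := IsScalarTower.of_algebraMap_eq (fun _ => rfl)
  haveI : IsScalarTower A B L := IsScalarTower.of_algebraMap_eq (fun a => by
    change algebraMap A L a = algebraMap F L (algebraMap B F (algebraMap A B a))
    rw [← IsScalarTower.algebraMap_apply A B F, ← IsScalarTower.algebraMap_apply A F L])
  haveI h1 : Module.Finite B (integralClosure B L) :=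
    Groth.Agent.Helper4.Japanese.IsN2.finite hB F L
  haveI h2 : Module.Finite A (integralClosure B L) := Module.Finite.trans B _
  haveI : IsNoetherian A (integralClosure B L) := isNoetherian_of_isNoetherianRing_of_finite _ _
  let φ : integralClosure A L →ₗ[A] integralClosure B L :=
    { toFun := fun t => ⟨t.1, t.2.tower_top⟩
      map_add' := fun _ _ => rfl
      map_smul' := fun _ _ => rfl }
  exact Module.Finite.of_injective φ (fun a b hab => Subtype.ext
    (congrArg (fun z : integralClosure B L => (z : L)) hab))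

theorem isFractionRing_powerSeries (R R' : Type u) [CommRing R] [IsDomain R] [CommRing R']
    [IsDomain R'] [Algebra R R'] (hinj : Function.Injective (algebraMap R R'))
    (hden : ∃ d : R, d ≠ 0 ∧ ∀ t : R', ∃ r : R, algebraMap R R' r = d • t) :
    IsFractionRing R⟦X⟧ (FractionRing R'⟦X⟧) := by
  have hinj' : Function.Injective (algebraMap R⟦X⟧ R'⟦X⟧) := PowerSeries.map_injective _ hinj
  haveI : FaithfulSMul R⟦X⟧ (FractionRing R'⟦X⟧) :=
    (faithfulSMul_iff_algebraMap_injective _ _).mpr (by
      rw [IsScalarTower.algebraMap_eq R⟦X⟧ R'⟦X⟧ (FractionRing R'⟦X⟧)]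
      exact (IsFractionRing.injective R'⟦X⟧ (FractionRing R'⟦X⟧)).comp hinj')
  apply IsFractionRing.of_field
  intro z
  obtain ⟨d, hd0, hd⟩ := hden
  obtain ⟨a, b, hb, rfl⟩ := IsFractionRing.div_surjective (A := R'⟦X⟧) z
  have key : ∀ g : R'⟦X⟧, ∃ g' : R⟦X⟧,
      algebraMap R⟦X⟧ R'⟦X⟧ g' = C (algebraMap R R' d) * g := by
    intro g
    choose r hr using fun n => hd (coeff n g)
    refine ⟨PowerSeries.mk r, ?_⟩
    ext n
    rw [algebraMap_apply'', coeff_map, coeff_mk, hr, coeff_C_mul, Algebra.smul_def]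
  obtain ⟨a', ha'⟩ := key a
  obtain ⟨b', hb'⟩ := key b
  refine ⟨a', b', ?_⟩
  rw [IsScalarTower.algebraMap_apply R⟦X⟧ R'⟦X⟧ (FractionRing R'⟦X⟧),
    IsScalarTower.algebraMap_apply R⟦X⟧ R'⟦X⟧ (FractionRing R'⟦X⟧), ha', hb', map_mul, map_mul]
  have hC : algebraMap R'⟦X⟧ (FractionRing R'⟦X⟧) (C (algebraMap R R' d)) ≠ 0 := by
    intro h
    have h1 := IsFractionRing.injective R'⟦X⟧ (FractionRing R'⟦X⟧) (h.trans (map_zero _).symm)
    have h2 : algebraMap R R' d = 0 := by
      have := congrArg constantCoeff h1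
      simpa using this
    exact hd0 (hinj (h2.trans (map_zero _).symm))
  have hb0 : algebraMap R'⟦X⟧ (FractionRing R'⟦X⟧) b ≠ 0 := by
    intro h
    have h1 := IsFractionRing.injective R'⟦X⟧ (FractionRing R'⟦X⟧) (h.trans (map_zero _).symm)
    exact nonZeroDivisors.ne_zero hb h1
  field_simp

/-- S9396: power series over a Noetherian N-2 domain are N-2. -/
theorem isN2_powerSeries (R : Type u) [CommRing R] [IsDomain R] [IsNoetherianRing R]
    (h : CAlg.IsN2 R) : CAlg.IsN2 R⟦X⟧ := by
  classical
  let K := FractionRing R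
  let R' := integralClosure R K
  haveI hfin : Module.Finite R R' := h K inferInstance
  haveI : IsNoetherianRing R' := IsNoetherianRing.of_finite R R'
  haveI : IsIntegrallyClosed R' := integralClosure.isIntegrallyClosedOfFiniteExtension K
  have hinj : Function.Injective (algebraMap R R') := by
    intro a b hab
    exact IsFractionRing.injective R K (congrArg (fun t : R' => (t : K)) hab)
  have hR' : CAlg.IsN2 R' := Groth.Agent.Helper7.ZMTN2.main hinj h
  have h1 : CAlg.IsN2 R'⟦X⟧ :=
    Groth.Agent.Helper2.PSN2.isN2_powerSeries_of_isIntegrallyClosed R' hR'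
  have hden : ∃ d : R, d ≠ 0 ∧ ∀ t : R', ∃ r : R, algebraMap R R' r = d • t := by
    obtain ⟨s, hs⟩ := (Module.finite_def.mp hfin)
    obtain ⟨b, hb⟩ := IsLocalization.exist_integer_multiples_of_finset (nonZeroDivisors R)
      (s.image (fun t : R' => (t : K)))
    refine ⟨b, nonZeroDivisors.coe_ne_zero b, fun t => ?_⟩
    have ht : t ∈ Submodule.span R (s : Set R') := hs ▸ Submodule.mem_top
    have : ∃ r : R, algebraMap R K r = (b : R) • (t : K) := by
      induction ht using Submodule.span_induction with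
      | mem x hx =>
        exact hb _ (Finset.mem_image_of_mem _ (Finset.mem_coe.mp hx))
      | zero => exact ⟨0, by simp⟩
      | add x y _ _ hx hy =>
        obtain ⟨r1, h1⟩ := hx
        obtain ⟨r2, h2⟩ := hy
        exact ⟨r1 + r2, by rw [map_add, h1, h2, Subalgebra.coe_add, smul_add]⟩
      | smul c x _ hx =>
        obtain ⟨r1, h1⟩ := hx
        exact ⟨c * r1, by rw [map_mul, h1, Subalgebra.coe_smul, smul_comm, Algebra.smul_def c]⟩
    obtain ⟨r, hr⟩ := this
    exact ⟨r, Subtype.ext hr⟩
  haveI := finite_powerSeries R R'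
  haveI := isFractionRing_powerSeries R R' hinj hden
  exact isN2_of_finite_of_isFractionRing R⟦X⟧ R'⟦X⟧ (FractionRing R'⟦X⟧) h1

end Groth.Agent.Helper2.PSN2b
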