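import Mathlib
import Groth.Prelude
import Groth.Agent.Helper2.PairHensCRT0
set_option autoImplicit false

universe u

noncomputable section

namespace Groth.Agent.Helper2.PairHens

open TensorProduct Polynomial

section CRT

variable {A : Type u} [CommRing A] {ι : Type} [Fintype ι] [DecidableEq ι] (I : ι → Ideal A)

/-- CRT elements -/
structure IsCRT (e : ι → A) : Prop where
  sub_one : ∀ i, e i - 1 ∈ I i
  mem : ∀ i j, j ≠ i → e i ∈ I j

theorem exists_isCRT (hI : Pairwise fun i j => I i ⊔ I j = ⊤) : ∃ e : ι → A, IsCRT I e := by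
  have hI' : Pairwise (Function.onFun IsCoprime I) := fun i j hij => (Ideal.isCoprime_iff_sup_eq).mpr (hI hij)
  have h : ∀ i, ∃ r : A, ∀ j, r - (if j = i then (1 : A) else 0) ∈ I j :=
    fun i => Ideal.exists_forall_sub_mem_ideal hI' _
  choose e he using h
  refine ⟨e, fun i => ?_, fun i j hji => ?_⟩
  · simpa using he i i
  · simpa [hji] using he i j

variable {I} {e : ι → A} (he : IsCRT I e)
include he

theorem IsCRT.mul_sub_one (i : ι) : e i * (e i - 1) ∈ ⨅ i, I i := by
  rw [Ideal.mem_iInf]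
  intro j
  by_cases hj : j = i
  · subst hj
    exact Ideal.mul_mem_left _ _ (he.sub_one j)
  · exact Ideal.mul_mem_right _ _ (he.mem i j hj)

theorem IsCRT.mul_of_ne {i j : ι} (hij : i ≠ j) : e i * e j ∈ ⨅ i, I i := by
  rw [Ideal.mem_iInf]
  intro l
  by_cases hl : l = i
  · subst hl
    exact Ideal.mul_mem_left _ _ (he.mem j l hij)
  · exact Ideal.mul_mem_right _ _ (he.mem i l hl)

theorem IsCRT.sum_sub_one : ∑ i, e i - 1 ∈ ⨅ i, I i := by
  rw [Ideal.mem_iInf]
  intro l
  have : ∑ i, e i - 1 = (e l - 1) + ∑ i ∈ Finset.univ.erase l, e i := by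
    rw [← Finset.add_sum_erase _ _ (Finset.mem_univ l)]
    ring
  rw [this]
  refine Ideal.add_mem _ (he.sub_one l) (Ideal.sum_mem _ fun i hi => ?_)
  exact he.mem i l (Finset.ne_of_mem_erase hi).symm

theorem IsCRT.mul_mem {i : ι} {a : A} (ha : a ∈ I i) : a * e i ∈ ⨅ i, I i := by
  rw [Ideal.mem_iInf]
  intro l
  by_cases hl : l = i
  · subst hl
    exact Ideal.mul_mem_right _ _ ha
  · exact Ideal.mul_mem_left _ _ (he.mem i l hl)

end CRT

end Groth.Agent.Helper2.PairHens
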