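import Mathlib
import Groth.Prelude
import Groth.Agent.Helper2.PairHensCRT1
set_option autoImplicit false

universe u

noncomputable section

namespace Groth.Agent.Helper2.PairHens

open TensorProduct Polynomial

section CRT

variable {A : Type u} [CommRing A] {ι : Type} [Fintype ι] [DecidableEq ι] {I : ι → Ideal A}
  {e : ι → A} (he : IsCRT I e)
  {B : Type u} [CommRing B] [Algebra A B] (hB : Hens2.IsPairHenselization A (⨅ i, I i) B)

include he hB

theorem exists_idem_family :
    ∃ ε : ι → B, CompleteOrthogonalIdempotents ε ∧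
      ∀ i, ε i - algebraMap A B (e i) ∈ (⨅ i, I i).map (algebraMap A B) := by
  haveI := hB.1
  set K : Ideal B := (⨅ i, I i).map (algebraMap A B) with hK
  have hjac : K ≤ Ideal.jacobson ⊥ := HenselianRing.jac
  have h : ∀ i, ∃ ε : B, IsIdempotentElem ε ∧ ε - algebraMap A B (e i) ∈ K := by
    intro i
    apply exists_idem_lift K
    have : algebraMap A B (e i) ^ 2 - algebraMap A B (e i) = algebraMap A B (e i * (e i - 1)) := by
      rw [map_mul, map_sub, map_one]
      ring
    rw [this]
    exact Ideal.mem_map_of_mem _ (he.mul_sub_one i)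
  choose ε hε1 hε2 using h
  have horth : OrthogonalIdempotents ε := by
    refine ⟨hε1, fun i j hij => ?_⟩
    apply idem_eq_zero_of_mem_jacobson ((hε1 i).mul (hε1 j))
    apply hjac
    have : ε i * ε j = (ε i - algebraMap A B (e i)) * ε j +
        algebraMap A B (e i) * (ε j - algebraMap A B (e j)) + algebraMap A B (e i * e j) := by
      rw [map_mul]
      ring
    rw [this]
    exact Ideal.add_mem _ (Ideal.add_mem _ (Ideal.mul_mem_right _ _ (hε2 i))
      (Ideal.mul_mem_left _ _ (hε2 j))) (Ideal.mem_map_of_mem _ (he.mul_of_ne hij))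
  refine ⟨ε, ⟨horth, ?_⟩, hε2⟩
  have hid : IsIdempotentElem (1 - ∑ i, ε i) :=
    (horth.isIdempotentElem_sum (s := Finset.univ)).one_sub
  have hmem : 1 - ∑ i, ε i ∈ K := by
    have : 1 - ∑ i, ε i = - algebraMap A B (∑ i, e i - 1) -
        ∑ i, (ε i - algebraMap A B (e i)) := by
      rw [Finset.sum_sub_distrib, map_sub, map_sum, map_one]
      ring
    rw [this]
    exact Ideal.sub_mem _ (Ideal.neg_mem_iff _ |>.mpr (Ideal.mem_map_of_mem _ he.sum_sub_one))
      (Ideal.sum_mem _ fun i _ => hε2 i)
  have := idem_eq_zero_of_mem_jacobson hid (hjac hmem)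
  exact (sub_eq_zero.mp this).symm

variable {ε : ι → B} (hε : ∀ i, IsIdempotentElem (ε i))
  (hεe : ∀ i, ε i - algebraMap A B (e i) ∈ (⨅ i, I i).map (algebraMap A B))
include hε hεe

/-- the `i`-th factor of the henselization along `⨅ I` is a henselization along `I i` -/
theorem isPairHenselization_factor (i : ι) :
    Hens2.IsPairHenselization A (I i) (B ⧸ Ideal.span {1 - ε i}) := by
  haveI := hB.1
  set K : Ideal B := (⨅ i, I i).map (algebraMap A B) with hK
  set Q : Ideal B := Ideal.span {1 - ε i} with hQ
  have hmkalg : ∀ a, algebraMap A (B ⧸ Q) a = Ideal.Quotient.mk Q (algebraMap A B a) := fun _ => rfl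
  have hmkε : Ideal.Quotient.mk Q (1 - ε i) = 0 :=
    Ideal.Quotient.eq_zero_iff_mem.mpr (Ideal.subset_span rfl)
  refine ⟨?_, ?_⟩
  · have h1 : HenselianRing (B ⧸ Q) (K.map (Ideal.Quotient.mk Q)) :=
      Groth.Agent.Helper3.HensGabber.henselian_map_of_surjective K (Ideal.Quotient.mk Q)
        Ideal.Quotient.mk_surjective
    have h2 : K.map (Ideal.Quotient.mk Q) = (I i).map (algebraMap A (B ⧸ Q)) := by
      apply le_antisymm
      · rw [hK, Ideal.map_map]
        exact Ideal.map_mono (iInf_le I i)
      · rw [Ideal.map_le_iff_le_comap]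
        intro a ha
        rw [Ideal.mem_comap, hmkalg]
        have hc : Ideal.Quotient.mk Q (1 - algebraMap A B (e i)) ∈ K.map (Ideal.Quotient.mk Q) := by
          have : Ideal.Quotient.mk Q (1 - algebraMap A B (e i)) =
              Ideal.Quotient.mk Q (ε i - algebraMap A B (e i)) := by
            have h3 : (1 : B) - algebraMap A B (e i) = (1 - ε i) + (ε i - algebraMap A B (e i)) := by
              ring
            rw [h3, map_add, hmkε, zero_add]
          rw [this]
          exact Ideal.mem_map_of_mem _ (hεe i)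
        have hsplit : algebraMap A B a = algebraMap A B (a * e i) +
            algebraMap A B a * (1 - algebraMap A B (e i)) := by
          rw [map_mul]
          ring
        rw [hsplit, map_add, map_mul (Ideal.Quotient.mk Q)]
        exact Ideal.add_mem _ (Ideal.mem_map_of_mem _ (Ideal.mem_map_of_mem _ (he.mul_mem ha)))
          (Ideal.mul_mem_left _ _ hc)
    rw [← h2]
    exact h1
  · intro C _ Kc f hC hfK
    have hfK' : (⨅ i, I i).map f ≤ Kc := (Ideal.map_mono (iInf_le I i)).trans hfK
    obtain ⟨g, hg, hgu⟩ := hB.2 C Kc f hC hfK'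
    have hg' : ∀ a, g (algebraMap A B a) = f a := fun a => congr($hg a)
    have hgK : K.map g ≤ Kc := by
      rw [hK, Ideal.map_map, hg]
      exact hfK'
    have hη : g (ε i) = 1 := by
      have hid : IsIdempotentElem (1 - g (ε i)) := ((hε i).map g).one_sub
      have hmem : 1 - g (ε i) ∈ Kc := by
        have : 1 - g (ε i) = - f (e i - 1) - g (ε i - algebraMap A B (e i)) := by
          rw [map_sub, map_sub, hg', map_one]
          ring
        rw [this]
        refine Ideal.sub_mem _ (Ideal.neg_mem_iff _ |>.mpr ?_) (hgK (Ideal.mem_map_of_mem _ (hεe i)))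
        exact hfK (Ideal.mem_map_of_mem _ (he.sub_one i))
      have := idem_eq_zero_of_mem_jacobson hid (hC.jac hmem)
      exact (sub_eq_zero.mp this).symm
    have hkill : ∀ x ∈ Q, g x = 0 := by
      intro x hx
      rw [hQ, Ideal.mem_span_singleton] at hx
      obtain ⟨y, rfl⟩ := hx
      rw [map_mul, map_sub, map_one, hη, sub_self, zero_mul]
    refine ⟨Ideal.Quotient.lift Q g hkill, ?_, ?_⟩
    · refine RingHom.ext fun a => ?_
      rw [RingHom.comp_apply, hmkalg, Ideal.Quotient.lift_mk, hg']
    · intro g₂ hg₂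
      have h1 : g₂.comp (Ideal.Quotient.mk Q) = g := by
        apply hgu
        refine RingHom.ext fun a => ?_
        have := congr($hg₂ a)
        rw [RingHom.comp_apply, hmkalg] at this
        exact this
      refine RingHom.ext fun x => ?_
      obtain ⟨b, rfl⟩ := Ideal.Quotient.mk_surjective x
      rw [Ideal.Quotient.lift_mk, ← h1]
      rfl

end CRT

end Groth.Agent.Helper2.PairHens
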