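import Mathlib
import Groth.Prelude
import Groth.Agent.Helper2.PairHensCRT2
set_option autoImplicit false

universe u

noncomputable section

namespace Groth.Agent.Helper2.PairHens

open TensorProduct Polynomial

theorem s1995 (A : Type u) [CommRing A] {n : ℕ} (I : Fin n → Ideal A)
    (hI : Pairwise fun i j => I i ⊔ I j = ⊤) (B : Type u) [CommRing B] [Algebra A B]
    (hB : Hens2.IsPairHenselization A (⨅ i, I i) B) (Bi : Fin n → Type u) [∀ i, CommRing (Bi i)]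
    [∀ i, Algebra A (Bi i)]
    (hBi : ∀ i, Hens2.IsPairHenselization A (I i) (Bi i)) :
    Nonempty (B ≃ₐ[A] ∀ i, Bi i) := by
  obtain ⟨e, he⟩ := exists_isCRT I hI
  obtain ⟨ε, hε, hεe⟩ := exists_idem_family he hB
  have hfac := fun i => isPairHenselization_factor he hB hε.idem hεe i
  let φ : B →ₐ[A] ∀ i, B ⧸ Ideal.span {1 - ε i} :=
    Pi.algHom A _ (fun i => Ideal.Quotient.mkₐ A (Ideal.span {1 - ε i}))
  have hφ : Function.Bijective φ := hε.bijective_pi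
  let E₁ : B ≃ₐ[A] ∀ i, B ⧸ Ideal.span {1 - ε i} := AlgEquiv.ofBijective φ hφ
  have h2 : ∀ i, Nonempty ((B ⧸ Ideal.span {1 - ε i}) ≃ₐ[A] Bi i) := by
    intro i
    obtain ⟨e₁⟩ := exists_algEquiv (hfac i)
    obtain ⟨e₂⟩ := exists_algEquiv (hBi i)
    exact ⟨e₁.symm.trans e₂⟩
  let E₂ : (∀ i, B ⧸ Ideal.span {1 - ε i}) ≃ₐ[A] ∀ i, Bi i :=
    AlgEquiv.piCongrRight (fun i => (h2 i).some)
  exact ⟨E₁.trans E₂⟩

end Groth.Agent.Helper2.PairHens
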