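import Mathlib
import Groth.Prelude
import Groth.Agent.Helper2.PairHensPush
set_option autoImplicit false

universe u

noncomputable section

namespace Groth.Agent.Helper2.PairHens

open TensorProduct Polynomial

attribute [local instance] MvPolynomial.algebraMvPolynomial

set_option maxHeartbeats 400000 in
theorem hensPoly (A : Type u) [CommRing A] (I : Ideal A)
    (R : Type u) [CommRing R] [Algebra A R]
    (B : Type u) [CommRing B] [Algebra R B] [Algebra A B] [IsScalarTower A R B]
    (hB : Hens2.IsPairHenselization R (I.map (algebraMap A R)) B) (n : ℕ) :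
    ∃ (P : Type u) (_ : CommRing P) (_ : Algebra (MvPolynomial (Fin n) B) P)
      (_ : Algebra (MvPolynomial (Fin n) R) P)
      (_ : IsScalarTower (MvPolynomial (Fin n) R) (MvPolynomial (Fin n) B) P),
      Hens2.IsPairHenselization (MvPolynomial (Fin n) B)
        (I.map (algebraMap A (MvPolynomial (Fin n) B))) P ∧
      Hens2.IsPairHenselization (MvPolynomial (Fin n) R)
        (I.map (algebraMap A (MvPolynomial (Fin n) R))) P := by
  let IR : Ideal R := I.map (algebraMap A R)
  let J : Ideal (MvPolynomial (Fin n) B) :=
    (IR.map (algebraMap R (MvPolynomial (Fin n) R))).map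
      (algebraMap (MvPolynomial (Fin n) R) (MvPolynomial (Fin n) B))
  letI algRXP : Algebra (MvPolynomial (Fin n) R) (Hens J) :=
    ((algebraMap (MvPolynomial (Fin n) B) (Hens J)).comp
      (algebraMap (MvPolynomial (Fin n) R) (MvPolynomial (Fin n) B))).toAlgebra
  haveI towerRX : IsScalarTower (MvPolynomial (Fin n) R) (MvPolynomial (Fin n) B) (Hens J) :=
    IsScalarTower.of_algebraMap_eq (fun _ => rfl)
  have hP := Hens.isPairHenselization (MvPolynomial (Fin n) B) J
  have hP' : Hens2.IsPairHenselization (MvPolynomial (Fin n) R)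
      (IR.map (algebraMap R (MvPolynomial (Fin n) R))) (Hens J) :=
    isPairHenselization_of_isPushout IR hB (T := MvPolynomial (Fin n) R)
      (S' := MvPolynomial (Fin n) B) hP
  have hIRX : IR.map (algebraMap R (MvPolynomial (Fin n) R)) =
      I.map (algebraMap A (MvPolynomial (Fin n) R)) := by
    show (I.map (algebraMap A R)).map _ = _
    rw [Ideal.map_map, ← IsScalarTower.algebraMap_eq]
  have hJ : J = I.map (algebraMap A (MvPolynomial (Fin n) B)) := by
    show (IR.map (algebraMap R (MvPolynomial (Fin n) R))).map _ = _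
    rw [hIRX, Ideal.map_map]
    congr 1
    ext a
    rw [RingHom.comp_apply, MvPolynomial.algebraMap_apply, MvPolynomial.algebraMap_def,
      MvPolynomial.map_C, MvPolynomial.algebraMap_apply, ← IsScalarTower.algebraMap_apply A R B]
  rw [hIRX] at hP'
  exact ⟨Hens J, inferInstance, inferInstance, algRXP, towerRX, hJ ▸ hP, hP'⟩

set_option maxHeartbeats 400000 in
theorem hcompA_aux (A : Type u) [CommRing A]
    (R : Type u) [CommRing R] [Algebra A R]
    (B : Type u) [CommRing B] [Algebra R B] [Algebra A B] [IsScalarTower A R B]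
    (S : Type u) [CommRing S] [Algebra B S] [Algebra A S] [IsScalarTower A B S]
    (n : ℕ) (f : MvPolynomial (Fin n) B →ₐ[B] S) (a : A) :
    f (algebraMap (MvPolynomial (Fin n) R) (MvPolynomial (Fin n) B)
      (algebraMap A (MvPolynomial (Fin n) R) a)) = algebraMap A S a := by
  rw [MvPolynomial.algebraMap_apply, MvPolynomial.algebraMap_def, MvPolynomial.map_C]
  have h1 : f (MvPolynomial.C (algebraMap R B (algebraMap A R a))) =
      algebraMap B S (algebraMap R B (algebraMap A R a)) := f.commutes _
  rw [h1, ← IsScalarTower.algebraMap_apply A R B, ← IsScalarTower.algebraMap_apply A B S]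

set_option maxHeartbeats 400000 in
theorem comp_aux2 (A : Type u) [CommRing A] (I : Ideal A)
    (R : Type u) [CommRing R] [Algebra A R] [Algebra.FinitePresentation A R]
    (B : Type u) [CommRing B] [Algebra R B] [Algebra A B] [IsScalarTower A R B]
    (S : Type u) [CommRing S] [Algebra B S] [Algebra A S] [IsScalarTower A B S]
    (C : Type u) [CommRing C] [Algebra S C] [Algebra B C] [Algebra A C] [IsScalarTower B S C]
    [IsScalarTower A B C]
    (hC : Hens2.IsPairHenselization S (I.map (algebraMap A S)) C)
    (n : ℕ) (f : MvPolynomial (Fin n) B →ₐ[B] S) (hfsurj : Function.Surjective f)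
    (hfker : (RingHom.ker f).FG)
    (P : Type u) [CommRing P] [Algebra (MvPolynomial (Fin n) B) P]
    [Algebra (MvPolynomial (Fin n) R) P]
    [IsScalarTower (MvPolynomial (Fin n) R) (MvPolynomial (Fin n) B) P]
    (hP : Hens2.IsPairHenselization (MvPolynomial (Fin n) B)
        (I.map (algebraMap A (MvPolynomial (Fin n) B))) P)
    (hP' : Hens2.IsPairHenselization (MvPolynomial (Fin n) R)
        (I.map (algebraMap A (MvPolynomial (Fin n) R))) P) :
    ∃ (T : Type u) (_ : CommRing T) (_ : Algebra A T) (_ : Algebra T C) (_ : IsScalarTower A T C),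
      Algebra.FinitePresentation A T ∧ Hens2.IsPairHenselization T (I.map (algebraMap A T)) C := by
  let J : Ideal (MvPolynomial (Fin n) B) := I.map (algebraMap A (MvPolynomial (Fin n) B))
  have hcompB : ∀ a : A, f (algebraMap A (MvPolynomial (Fin n) B) a) = algebraMap A S a := by
    intro a
    rw [MvPolynomial.algebraMap_apply]
    have h1 : f (MvPolynomial.C (algebraMap A B a)) = algebraMap B S (algebraMap A B a) :=
      f.commutes _
    rw [h1, ← IsScalarTower.algebraMap_apply A B S]
  have hJf : J.map (f : MvPolynomial (Fin n) B →+* S) = I.map (algebraMap A S) := by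
    show (I.map _).map _ = _
    rw [Ideal.map_map]
    congr 1
    ext a
    exact hcompB a
  have hC' : Hens2.IsPairHenselization S (J.map (f : MvPolynomial (Fin n) B →+* S)) C := hJf ▸ hC
  have hle : J.map ((algebraMap S C).comp (f : MvPolynomial (Fin n) B →+* S)) ≤
      (J.map (f : MvPolynomial (Fin n) B →+* S)).map (algebraMap S C) :=
    (Ideal.map_map (f : MvPolynomial (Fin n) B →+* S) (algebraMap S C)).ge
  obtain ⟨φ₀, hφ₀, -⟩ := hP.2 C _ ((algebraMap S C).comp (f : MvPolynomial (Fin n) B →+* S))
    hC'.1 hle
  obtain ⟨hsurj, hker⟩ := surjective_and_ker_of_surjective (f : MvPolynomial (Fin n) B →+* S)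
    hfsurj J hP hC' φ₀ hφ₀
  letI algAP : Algebra A P :=
    ((algebraMap (MvPolynomial (Fin n) R) P).comp
      (algebraMap A (MvPolynomial (Fin n) R))).toAlgebra
  haveI towerA : IsScalarTower A (MvPolynomial (Fin n) R) P :=
    IsScalarTower.of_algebraMap_eq (fun _ => rfl)
  let φ : P →ₐ[A] C :=
    { φ₀ with
      commutes' := fun a => by
        show φ₀ (algebraMap (MvPolynomial (Fin n) R) P
            (algebraMap A (MvPolynomial (Fin n) R) a)) = _
        rw [IsScalarTower.algebraMap_apply (MvPolynomial (Fin n) R) (MvPolynomial (Fin n) B) P]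
        have := congr($hφ₀ (algebraMap (MvPolynomial (Fin n) R) (MvPolynomial (Fin n) B)
            (algebraMap A (MvPolynomial (Fin n) R) a)))
        rw [RingHom.comp_apply] at this
        rw [this, RingHom.comp_apply]
        show algebraMap S C (f _) = _
        rw [hcompA_aux, IsScalarTower.algebraMap_apply A B C, IsScalarTower.algebraMap_apply B S C,
          ← IsScalarTower.algebraMap_apply A B S] }
  haveI : Algebra.FinitePresentation A (MvPolynomial (Fin n) R) :=
    Algebra.FinitePresentation.trans A R (MvPolynomial (Fin n) R)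
  have hkerFG : (RingHom.ker φ).FG := by
    show (RingHom.ker φ₀).FG
    rw [hker]
    exact Ideal.FG.map hfker _
  exact fp_of_hfp_aux A I C (MvPolynomial (Fin n) R) P hP' φ hsurj hkerFG

theorem s17608 (A : Type u) [CommRing A] (I : Ideal A)
    (R : Type u) [CommRing R] [Algebra A R] [Algebra.FinitePresentation A R]
    (B : Type u) [CommRing B] [Algebra R B] [Algebra A B] [IsScalarTower A R B]
    (hB : Hens2.IsPairHenselization R (I.map (algebraMap A R)) B)
    (S : Type u) [CommRing S] [Algebra B S] [Algebra A S] [IsScalarTower A B S]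
    [Algebra.FinitePresentation B S]
    (C : Type u) [CommRing C] [Algebra S C] [Algebra B C] [Algebra A C] [IsScalarTower B S C]
    [IsScalarTower A B C]
    (hC : Hens2.IsPairHenselization S (I.map (algebraMap A S)) C) :
    ∃ (T : Type u) (_ : CommRing T) (_ : Algebra A T) (_ : Algebra T C) (_ : IsScalarTower A T C),
      Algebra.FinitePresentation A T ∧ Hens2.IsPairHenselization T (I.map (algebraMap A T)) C := by
  obtain ⟨n, f, hfsurj, hfker⟩ := Algebra.FinitePresentation.out (R := B) (A := S)
  obtain ⟨P, _, _, _, _, hP, hP'⟩ := hensPoly A I R B hB n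
  exact comp_aux2 A I R B S C hC n f hfsurj hfker P hP hP'

end Groth.Agent.Helper2.PairHens
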