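import Mathlib
import Groth.Prelude
import Groth.Agent.Helper2.PairHensLocal
set_option autoImplicit false

universe u

noncomputable section

namespace Groth.Agent.Helper2.PairHens

open IsLocalRing

theorem s17620
    (R : Type u) [CommRing R] [IsLocalRing R] (J : Ideal R) (hJ : J ≤ IsLocalRing.maximalIdeal R)
    (H : Type u) [CommRing H] [IsLocalRing H] [Algebra R H] [IsLocalHom (algebraMap R H)]
    (hH : Hens2.IsPairHenselization R J H)
    (S : Type u) [CommRing S] [IsLocalRing S] [Algebra H S] [IsLocalHom (algebraMap H S)]
    [hS : Hensel.IsStrictHenselization H S]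
    [Algebra R S] [IsScalarTower R H S] [IsLocalHom (algebraMap R S)] :
    Hensel.IsStrictHenselization R S := by
  haveI := hH.1
  have hJH : J.map (algebraMap R H) ≤ maximalIdeal H := by
    have h1 : J.map (algebraMap R H) ≤ Ideal.jacobson ⊥ := HenselianRing.jac
    rwa [IsLocalRing.jacobson_eq_maximalIdeal ⊥ bot_ne_top] at h1
  -- the residue field map `κ(R) → κ(H)` is surjective
  have hsurj : Function.Surjective (ResidueField.map (algebraMap R H)) := by
    intro y
    obtain ⟨h, rfl⟩ := IsLocalRing.residue_surjective y
    obtain ⟨r, hr⟩ := exists_sub_mem_of_isPairHenselization hH h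
    refine ⟨residue R r, ?_⟩
    rw [ResidueField.map_residue]
    symm
    rw [← sub_eq_zero, ← map_sub]
    exact (IsLocalRing.residue_eq_zero_iff _).mpr (hJH hr)
  have hmapcomp : (ResidueField.map (algebraMap H S)).comp (ResidueField.map (algebraMap R H)) =
      ResidueField.map (algebraMap R S) := by
    refine RingHom.ext fun x => ?_
    obtain ⟨r, rfl⟩ := IsLocalRing.residue_surjective x
    rw [RingHom.comp_apply, ResidueField.map_residue, ResidueField.map_residue,
      ResidueField.map_residue, ← IsScalarTower.algebraMap_apply]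
  haveI tower : IsScalarTower (ResidueField R) (ResidueField H) (ResidueField S) :=
    IsScalarTower.of_algebraMap_eq (fun x => congr($hmapcomp x).symm)
  refine ⟨hS.henselian, ?_, ?_⟩
  · haveI := hS.isSepClosure
    haveI h1 : Algebra.IsSeparable (ResidueField R) (ResidueField H) := by
      refine ⟨fun y => ?_⟩
      obtain ⟨x, rfl⟩ := hsurj y
      exact isSeparable_algebraMap x
    haveI h2 : Algebra.IsSeparable (ResidueField H) (ResidueField S) := IsSepClosure.separable
    haveI : Algebra.IsSeparable (ResidueField R) (ResidueField S) :=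
      Algebra.IsSeparable.trans (ResidueField R) (ResidueField H) (ResidueField S)
    exact ⟨IsSepClosure.sep_closed (ResidueField H), inferInstance⟩
  · intro T _ _ f hf τ hτ
    have hfJ : J.map f ≤ maximalIdeal T := by
      have h1 : (maximalIdeal R).map f ≤ maximalIdeal T :=
        ((local_hom_TFAE f).out 0 2 rfl rfl).mp hf
      exact (Ideal.map_mono hJ).trans h1
    obtain ⟨fH, hfH, hfHu⟩ := hH.2 T (maximalIdeal T) f inferInstance hfJ
    have hfH' : ∀ r, fH (algebraMap R H r) = f r := fun r => congr($hfH r)
    have hfHJ : (J.map (algebraMap R H)).map fH ≤ maximalIdeal T := by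
      rw [Ideal.map_map, hfH]
      exact hfJ
    haveI hloc : IsLocalHom fH := by
      refine ⟨fun h hh => ?_⟩
      obtain ⟨r, hr⟩ := exists_sub_mem_of_isPairHenselization hH h
      have h1 : fH (h - algebraMap R H r) ∈ maximalIdeal T := hfHJ (Ideal.mem_map_of_mem _ hr)
      have h2 : IsUnit (f r) := by
        by_contra hcon
        have h3 : f r ∈ maximalIdeal T := (IsLocalRing.mem_maximalIdeal _).mpr hcon
        have h4 : fH h ∈ maximalIdeal T := by
          have : fH h = fH (h - algebraMap R H r) + f r := by
            rw [map_sub, hfH']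
            ring
          rw [this]
          exact Ideal.add_mem _ h1 h3
        exact (IsLocalRing.mem_maximalIdeal _).mp h4 hh
      have h5 : IsUnit r := hf.map_nonunit r h2
      have h6 : IsUnit (algebraMap R H r) := h5.map _
      by_contra hcon
      have h7 : h ∈ maximalIdeal H := (IsLocalRing.mem_maximalIdeal _).mpr hcon
      have h8 : algebraMap R H r ∈ maximalIdeal H := by
        have : algebraMap R H r = h - (h - algebraMap R H r) := by ring
        rw [this]
        exact Ideal.sub_mem _ h7 (hJH hr)
      exact (IsLocalRing.mem_maximalIdeal _).mp h8 h6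
    have hτH : τ.comp (ResidueField.map (algebraMap H S)) = ResidueField.map fH := by
      refine RingHom.ext fun y => ?_
      obtain ⟨x, rfl⟩ := hsurj y
      have h1 := congr($hτ x)
      rw [RingHom.comp_apply] at h1 ⊢
      rw [← RingHom.comp_apply (ResidueField.map (algebraMap H S)), hmapcomp, h1]
      obtain ⟨r, rfl⟩ := IsLocalRing.residue_surjective x
      rw [ResidueField.map_residue, ResidueField.map_residue, ResidueField.map_residue, hfH']
    obtain ⟨g, ⟨hg1, hg2⟩, hgu⟩ := hS.universal T fH τ hτH
    refine ⟨g, ⟨?_, hg2⟩, ?_⟩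
    · rw [IsScalarTower.algebraMap_eq R H S, ← RingHom.comp_assoc, hg1, hfH]
    · rintro g' ⟨hg'1, hg'2⟩
      apply hgu
      refine ⟨?_, hg'2⟩
      apply hfHu
      rw [RingHom.comp_assoc, ← IsScalarTower.algebraMap_eq R H S, hg'1]

end Groth.Agent.Helper2.PairHens
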