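import Mathlib
import Groth.Agent.Helper1.SupportDim
import Groth.Agent.Helper2.SuppDim

set_option autoImplicit false
universe u
open Module

namespace Groth.Agent.Helper2.ParamExt

open RingTheory Sequence Pointwise Submodule in
/-- lower bound for the dimension of a quotient by elements of the radical -/
theorem supportDim_le_quot_add_length {A : Type*} [CommRing A] [IsNoetherianRing A] :
    ∀ (rs : List A) (M : Type u) [AddCommGroup M] [Module A M] [Module.Finite A M],
      (∀ r ∈ rs, r ∈ Ring.jacobson A) →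
      supportDim A M ≤ supportDim A (M ⧸ (Ideal.ofList rs • (⊤ : Submodule A M))) + rs.length := by
  intro rs
  induction rs with
  | nil =>
    intro M _ _ _ _
    have hbot : (Ideal.ofList ([] : List A) • (⊤ : Submodule A M)) = ⊥ := by
      rw [Ideal.ofList_nil, Submodule.bot_smul]
    have e : (M ⧸ (Ideal.ofList ([] : List A) • (⊤ : Submodule A M))) ≃ₗ[A] M :=
      Submodule.quotEquivOfEqBot _ hbot
    rw [supportDim_eq_of_equiv e]
    simp
  | cons r rs ih =>
    intro M _ _ _ hrs
    have e := Submodule.quotOfListConsSMulTopEquivQuotSMulTopInner M r rs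
    have h1 := ih (QuotSMulTop r M) (fun x hx => hrs x (List.mem_cons_of_mem _ hx))
    have h2 := Module.supportDim_le_supportDim_quotSMulTop_succ_of_mem_jacobson (M := M)
      (x := r) ((annihilator A M).ringJacobson_le_jacobson (hrs r List.mem_cons_self))
    rw [supportDim_eq_of_equiv e]
    refine h2.trans ?_
    rw [List.length_cons, Nat.cast_add, Nat.cast_one, ← add_assoc]
    exact add_le_add_left h1 1

/-- iterated quotient -/
noncomputable def quotQuotEquiv {A : Type*} [CommRing A] (M : Type*) [AddCommGroup M] [Module A M]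
    (I J : Ideal A) :
    ((M ⧸ (I • (⊤ : Submodule A M))) ⧸ (J • (⊤ : Submodule A (M ⧸ (I • (⊤ : Submodule A M)))))) ≃ₗ[A]
      M ⧸ ((I ⊔ J) • (⊤ : Submodule A M)) := by
  have hle : I • (⊤ : Submodule A M) ≤ (I ⊔ J) • (⊤ : Submodule A M) :=
    Submodule.smul_mono_left le_sup_left
  have hmap : ((I ⊔ J) • (⊤ : Submodule A M)).map (I • (⊤ : Submodule A M)).mkQ =
      J • (⊤ : Submodule A (M ⧸ (I • (⊤ : Submodule A M)))) := by
    rw [Submodule.map_smul'', Submodule.map_top, Submodule.range_mkQ, Submodule.sup_smul]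
    have h0 : I • (⊤ : Submodule A (M ⧸ (I • (⊤ : Submodule A M)))) = ⊥ := by
      rw [← Submodule.range_mkQ (I • (⊤ : Submodule A M)), ← Submodule.map_top,
        ← Submodule.map_smul'', Submodule.mkQ_map_self]
    rw [h0, bot_sup_eq]
  exact (Submodule.quotEquivOfEq _ _ hmap.symm).trans
    (Submodule.quotientQuotientEquivQuotient _ _ hle)


/-- S5768 -/
theorem main (A : Type u) [CommRing A]
    [IsNoetherianRing A] [Finite (MaximalSpectrum A)] (M : Type u) [AddCommGroup M] [Module A M]
    [Module.Finite A M] [Nontrivial M] (xs : List A) (hxs : ∀ x ∈ xs, x ∈ Ring.jacobson A) :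
    Module.supportDim A (M ⧸ (Ideal.ofList xs • (⊤ : Submodule A M))) + xs.length =
        Module.supportDim A M ↔
      ∃ ys : List A, (∀ y ∈ ys, y ∈ Ring.jacobson A) ∧
        ((xs ++ ys).length : WithBot ℕ∞) = Module.supportDim A M ∧
        IsFiniteLength A (M ⧸ (Ideal.ofList (xs ++ ys) • (⊤ : Submodule A M))) := by
  have hequiv : ∀ ys : List A,
      ((M ⧸ (Ideal.ofList xs • (⊤ : Submodule A M))) ⧸ (Ideal.ofList ys •
        (⊤ : Submodule A (M ⧸ (Ideal.ofList xs • (⊤ : Submodule A M)))))) ≃ₗ[A]
      M ⧸ (Ideal.ofList (xs ++ ys) • (⊤ : Submodule A M)) := fun ys =>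
    (quotQuotEquiv M (Ideal.ofList xs) (Ideal.ofList ys)).trans
      (Submodule.quotEquivOfEq _ _ (by rw [Ideal.ofList_append]))
  constructor
  · intro h
    have hMbot : supportDim A M ≠ ⊥ := supportDim_ne_bot_of_nontrivial A M
    have hNbot : supportDim A (M ⧸ (Ideal.ofList xs • (⊤ : Submodule A M))) ≠ ⊥ := by
      intro h0
      rw [h0, WithBot.bot_add] at h
      exact hMbot h.symm
    have hNtop : supportDim A (M ⧸ (Ideal.ofList xs • (⊤ : Submodule A M))) < ⊤ :=
      lt_of_le_of_lt (supportDim_le_ringKrullDim A _)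
        (Groth.Agent.Helper2.SuppDim.semilocal_dim_lt_top A)
    obtain ⟨e', he'⟩ := WithBot.ne_bot_iff_exists.mp hNbot
    have he'top : e' ≠ ⊤ := by
      intro h0
      rw [h0] at he'
      rw [← he'] at hNtop
      exact lt_irrefl _ hNtop
    obtain ⟨e, he⟩ := ENat.ne_top_iff_exists.mp he'top
    have hNe : supportDim A (M ⧸ (Ideal.ofList xs • (⊤ : Submodule A M))) = (e : ℕ) := by
      rw [← he', ← he]
      rfl
    obtain ⟨ys, hlen, hys, hfl⟩ :=
      Groth.Agent.Helper1.SupportDim.exists_list_of_supportDim_le e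
        (M ⧸ (Ideal.ofList xs • (⊤ : Submodule A M))) (le_of_eq hNe)
    refine ⟨ys, hys, ?_, (hequiv ys).isFiniteLength hfl⟩
    rw [← h, hNe, List.length_append, hlen, Nat.cast_add, add_comm]
  · rintro ⟨ys, hys, hlen, hfl⟩
    have h1 : supportDim A (M ⧸ (Ideal.ofList xs • (⊤ : Submodule A M))) ≤ ys.length :=
      Groth.Agent.Helper1.SupportDim.supportDim_le_length_of_isFiniteLength ys _ hys
        ((hequiv ys).symm.isFiniteLength hfl)
    have h2 := supportDim_le_quot_add_length xs M hxs
    apply le_antisymm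
    · rw [← hlen, List.length_append, Nat.cast_add, add_comm]
      exact add_le_add_right h1 _
    · exact h2

end Groth.Agent.Helper2.ParamExt
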