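import Mathlib
import Groth.Prelude
import Groth.Agent.Helper1.TorProjDim2
import Groth.Agent.Helper2.KerFP
import Groth.Agent.Helper2.FibreProj

set_option autoImplicit false

namespace Groth.Agent.Helper2.PdFibre

open CategoryTheory CategoryTheory.Limits TensorProduct Function
open Groth.Agent.Helper1.TorLib Groth.Agent.Helper1.FlatCx

universe u

section BC

variable (A : Type u) {B : Type u} [CommRing A] [CommRing B] [Algebra A B]
variable (κ : Type u) [CommRing κ] [Algebra A κ]

/-- The base change of a short exact sequence of `B`-modules with `A`-flat cokernel along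
`B → B ⊗[A] κ` is short exact. -/
theorem bc_shortExact {K F M : Type u} [AddCommGroup K] [Module A K] [Module B K]
    [IsScalarTower A B K] [AddCommGroup F] [Module A F] [Module B F] [IsScalarTower A B F]
    [AddCommGroup M] [Module A M] [Module B M] [IsScalarTower A B M] [Module.Flat A M]
    (g : K →ₗ[B] F) (f : F →ₗ[B] M) (hg : Injective g) (hf : Surjective f)
    (hex : Function.Exact g f) :
    ∃ hex' : Function.Exact (g.baseChange (B ⊗[A] κ)) (f.baseChange (B ⊗[A] κ)),
      (scOfLinear (g.baseChange (B ⊗[A] κ)) (f.baseChange (B ⊗[A] κ)) hex').ShortExact := by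
  have hex' : Function.Exact (g.baseChange (B ⊗[A] κ)) (f.baseChange (B ⊗[A] κ)) :=
    lTensor_exact (B ⊗[A] κ) hex hf
  refine ⟨hex', scOfLinear_shortExact _ _ ?_ ?_ hex'⟩
  · letI := Algebra.TensorProduct.rightAlgebra (R := A) (A := B) (B := κ)
    exact Groth.Agent.Helper2.KerFP.baseChange_injective_of_flat (R₀ := A) (A := κ) (D₀ := B)
      (B := B ⊗[A] κ) g f hg hf hex
  · exact LinearMap.lTensor_surjective (B ⊗[A] κ) hf

end BC

section Order

lemma iSup_lt_nat_iff {ι : Sort*} (y : ι → WithBot ℕ∞) (n : ℕ) :
    (⨆ i, y i) < n ↔ ∀ i, y i < n := by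
  obtain _ | m := n
  · simp only [Nat.cast_zero, WithBot.lt_zero_iff_eq_bot, iSup_eq_bot]
  · simp only [Nat.cast_add, Nat.cast_one, ENat.WithBot.lt_add_one_iff, iSup_le_iff]

lemma eq_of_forall_lt_nat_iff (x y : WithBot ℕ∞) (h : ∀ n : ℕ, x < n ↔ y < n) : x = y := by
  have key : ∀ a b : WithBot ℕ∞, (∀ n : ℕ, a < n → b < n) → b ≤ a := by
    intro a b hab
    induction a with
    | bot =>
      have := hab 0 (by simp [WithBot.lt_zero_iff_eq_bot])
      rw [Nat.cast_zero, WithBot.lt_zero_iff_eq_bot] at this
      rw [this]
    | coe a =>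
      induction a with
      | top => exact le_top
      | coe k =>
        have h1 : ((k : ℕ∞) : WithBot ℕ∞) < ((k + 1 : ℕ) : WithBot ℕ∞) := by
          rw [Nat.cast_add, Nat.cast_one, ENat.WithBot.lt_add_one_iff]
          rfl
        have h2 := hab (k + 1) h1
        rw [Nat.cast_add, Nat.cast_one, ENat.WithBot.lt_add_one_iff] at h2
        exact h2
  exact le_antisymm (key y x (fun n hn => (h n).mpr hn)) (key x y (fun n hn => (h n).mp hn))

end Order

section Main

variable (A : Type u) {B : Type u} [CommRing A] [CommRing B] [Algebra A B]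
  [Algebra.FinitePresentation A B] [Module.Flat A B]

/-- The base change of a `B`-module to the fibre over `p`, as an object of the module category. -/
noncomputable abbrev bc (B : Type u) [CommRing B] [Algebra A B] (p : PrimeSpectrum A)
    (M : Type u) [AddCommGroup M] [Module B M] :
    ModuleCat.{u} (B ⊗[A] p.asIdeal.ResidueField) :=
  ModuleCat.of (B ⊗[A] p.asIdeal.ResidueField) ((B ⊗[A] p.asIdeal.ResidueField) ⊗[B] M)

/-- Key induction: `pd_B M ≤ n` iff all fibres have `pd ≤ n`. -/
theorem hasProjectiveDimensionLT_succ_iff (n : ℕ) :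
    ∀ (M : Type u) [AddCommGroup M] [Module B M] [Module A M] [IsScalarTower A B M]
      [Module.FinitePresentation B M] [Module.Flat A M],
    HasProjectiveDimensionLT (ModuleCat.of B M) (n + 1) ↔
      ∀ p : PrimeSpectrum A, HasProjectiveDimensionLT (bc A B p M) (n + 1) := by
  induction n with
  | zero =>
    intro M _ _ _ _ _ _
    constructor
    · intro h p
      haveI : Projective (ModuleCat.of B M) := projective_iff_hasProjectiveDimensionLT_one.mpr h
      haveI : Module.Projective B M :=
        (IsProjective.iff_projective (R := B) (P := M)).mpr inferInstance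
      haveI : Module.Projective (B ⊗[A] p.asIdeal.ResidueField)
        ((B ⊗[A] p.asIdeal.ResidueField) ⊗[B] M) := inferInstance
      haveI : Projective (bc A B p M) :=
        (IsProjective.iff_projective (R := B ⊗[A] p.asIdeal.ResidueField)
          (P := (B ⊗[A] p.asIdeal.ResidueField) ⊗[B] M)).mp inferInstance
      exact projective_iff_hasProjectiveDimensionLT_one.mp inferInstance
    · intro h
      haveI : Module.Flat B M := by
        refine Groth.Agent.Helper2.FibreProj.flat_of_fibrewise A B M ?_
        intro p hp
        have h1 := h ⟨p, hp⟩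
        haveI : Projective (bc A B ⟨p, hp⟩ M) := projective_iff_hasProjectiveDimensionLT_one.mpr h1
        exact (IsProjective.iff_projective (R := B ⊗[A] p.ResidueField)
          (P := (B ⊗[A] p.ResidueField) ⊗[B] M)).mpr inferInstance
      haveI : Module.Projective B M := Module.Flat.projective_of_finitePresentation
      haveI := projective_of_free (A := B) M
      exact projective_iff_hasProjectiveDimensionLT_one.mp inferInstance
  | succ n ih =>
    intro M _ _ _ _ _ _
    obtain ⟨m, π, hπ⟩ := Module.Finite.exists_fin' B M
    have hex : Function.Exact (LinearMap.ker π).subtype π := LinearMap.exact_subtype_ker_map π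
    have hS : (scOfLinear (N₁ := LinearMap.ker π) (N₂ := (Fin m → B)) (N₃ := M)
        (LinearMap.ker π).subtype π hex).ShortExact :=
      scOfLinear_shortExact _ _ (Submodule.injective_subtype _) hπ hex
    haveI : Module.FinitePresentation B (LinearMap.ker π) :=
      Groth.Agent.Helper2.KerFP.fp_ker_of_flat (A := A) M π hπ
    haveI : Module.Flat A (Fin m → B) :=
      Module.Flat.of_linearEquiv
        (DFinsupp.linearEquivFunOnFintype (R := A) (M := fun _ : Fin m => B)).symm
    haveI : Module.Flat A (LinearMap.ker π) :=
      flat_of_exact_of_flat (A := A) ((LinearMap.ker π).subtype.restrictScalars A)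
        (π.restrictScalars A) (Submodule.injective_subtype _) hπ
        (fun x => hex x)
    have hproj : Projective (ModuleCat.of B (Fin m → B)) := projective_of_free (A := B) (Fin m → B)
    refine (hS.hasProjectiveDimensionLT_X₃_iff n hproj).trans ?_
    refine (ih (LinearMap.ker π)).trans ?_
    refine forall_congr' (fun p => ?_)
    obtain ⟨hex', hS'⟩ := bc_shortExact A p.asIdeal.ResidueField (LinearMap.ker π).subtype π
      (Submodule.injective_subtype _) hπ hex
    haveI : Module.Projective (B ⊗[A] p.asIdeal.ResidueField)
      ((B ⊗[A] p.asIdeal.ResidueField) ⊗[B] (Fin m → B)) := inferInstance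
    have hproj' : Projective (bc A B p (Fin m → B)) :=
      (IsProjective.iff_projective (R := B ⊗[A] p.asIdeal.ResidueField)
        (P := (B ⊗[A] p.asIdeal.ResidueField) ⊗[B] (Fin m → B))).mp inferInstance
    exact (hS'.hasProjectiveDimensionLT_X₃_iff n hproj').symm

omit [Algebra.FinitePresentation A B] [Module.Flat A B] in
/-- A finite `B`-module all of whose fibres over `Spec A` vanish is zero. -/
theorem subsingleton_of_fibres (M : Type u) [AddCommGroup M] [Module B M] [Module.Finite B M]
    (h : ∀ p : PrimeSpectrum A, Subsingleton ((B ⊗[A] p.asIdeal.ResidueField) ⊗[B] M)) :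
    Subsingleton M := by
  rw [← Module.support_eq_empty_iff (R := B)]
  by_contra hne
  obtain ⟨q, hq⟩ := Set.nonempty_iff_ne_empty.mpr hne
  rw [Module.mem_support_iff_nontrivial_residueField_tensorProduct] at hq
  let p : PrimeSpectrum A := PrimeSpectrum.comap (algebraMap A B) q
  let g : p.asIdeal.ResidueField →ₐ[A] q.asIdeal.ResidueField :=
    Ideal.ResidueField.mapₐ p.asIdeal q.asIdeal (Algebra.ofId A B) rfl
  let L : (B ⊗[A] p.asIdeal.ResidueField) →ₐ[B] q.asIdeal.ResidueField :=
    Algebra.TensorProduct.lift (Algebra.ofId B q.asIdeal.ResidueField) g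
      (fun _ _ => Commute.all _ _)
  letI : Algebra (B ⊗[A] p.asIdeal.ResidueField) q.asIdeal.ResidueField := L.toRingHom.toAlgebra
  haveI : IsScalarTower B (B ⊗[A] p.asIdeal.ResidueField) q.asIdeal.ResidueField :=
    IsScalarTower.of_algebraMap_eq' L.comp_algebraMap.symm
  have e := AlgebraTensorModule.cancelBaseChange B (B ⊗[A] p.asIdeal.ResidueField)
    q.asIdeal.ResidueField q.asIdeal.ResidueField M
  haveI := h p
  haveI : Subsingleton (q.asIdeal.ResidueField ⊗[B ⊗[A] p.asIdeal.ResidueField]
      ((B ⊗[A] p.asIdeal.ResidueField) ⊗[B] M)) := inferInstance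
  exact not_subsingleton _ e.symm.subsingleton

omit [Algebra.FinitePresentation A B] [Module.Flat A B] in
theorem isZero_iff (M : Type u) [AddCommGroup M] [Module B M] [Module.Finite B M] :
    IsZero (ModuleCat.of B M) ↔ ∀ p : PrimeSpectrum A, IsZero (bc A B p M) := by
  simp only [ModuleCat.isZero_iff_subsingleton]
  constructor
  · intro h p
    infer_instance
  · intro h
    exact subsingleton_of_fibres A M h

/-- `pd_B M < n` iff all fibres have `pd < n`. -/
theorem hasProjectiveDimensionLT_iff (M : Type u) [AddCommGroup M] [Module B M] [Module A M]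
    [IsScalarTower A B M] [Module.FinitePresentation B M] [Module.Flat A M] (n : ℕ) :
    HasProjectiveDimensionLT (ModuleCat.of B M) n ↔
      ∀ p : PrimeSpectrum A, HasProjectiveDimensionLT (bc A B p M) n := by
  obtain _ | n := n
  · simp only [hasProjectiveDimensionLT_zero_iff_isZero]
    exact isZero_iff A M
  · exact hasProjectiveDimensionLT_succ_iff A n M

/-- The projective dimension is the supremum of the projective dimensions of the fibres. -/
theorem projectiveDimension_eq_iSup (M : Type u) [AddCommGroup M] [Module B M] [Module A M]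
    [IsScalarTower A B M] [Module.FinitePresentation B M] [Module.Flat A M] :
    projectiveDimension (ModuleCat.of B M) =
      ⨆ p : PrimeSpectrum A, projectiveDimension
        (ModuleCat.of (B ⊗[A] p.asIdeal.ResidueField) ((B ⊗[A] p.asIdeal.ResidueField) ⊗[B] M)) := by
  refine eq_of_forall_lt_nat_iff _ _ (fun n => ?_)
  rw [iSup_lt_nat_iff, projectiveDimension_lt_iff, hasProjectiveDimensionLT_iff A M n]
  exact forall_congr' (fun p => projectiveDimension_lt_iff.symm)

end Main

end Groth.Agent.Helper2.PdFibre
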