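import Mathlib
import Groth.Agent.Helper2.SerreC

namespace Groth.Agent.Helper2.PdLower
open IsLocalRing CategoryTheory TensorProduct Pointwise

universe u

/-- sharp bound for the projective dimension of the maximal ideal -/
theorem pdLT_maximalIdeal' (R : Type u) [CommRing R] [IsLocalRing R] (n : ℕ)
    (hn : HasProjectiveDimensionLT (ModuleCat.of R (ResidueField R)) (n + 2)) :
    HasProjectiveDimensionLT (ModuleCat.of R (maximalIdeal R)) (n + 1) := by
  let ι : maximalIdeal R →ₗ[R] R := (maximalIdeal R).subtype
  let π : R →ₗ[R] ResidueField R := Algebra.linearMap R (ResidueField R)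
  have hex : Function.Exact ι π := by
    intro y
    constructor
    · intro hy
      exact ⟨⟨y, (residue_eq_zero_iff y).1 hy⟩, rfl⟩
    · rintro ⟨z, rfl⟩
      exact (residue_eq_zero_iff _).2 z.2
  let S : ShortComplex (ModuleCat.{u} R) :=
    ShortComplex.mk (ModuleCat.ofHom ι) (ModuleCat.ofHom π) (by
      ext y
      exact hex.apply_apply_eq_zero y)
  have hS : S.ShortExact :=
    { exact := (ShortComplex.ShortExact.moduleCat_exact_iff_function_exact _).mpr hex
      mono_f := (ModuleCat.mono_iff_injective _).mpr (maximalIdeal R).injective_subtype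
      epi_g := (ModuleCat.epi_iff_surjective _).mpr residue_surjective }
  haveI : Projective S.X₂ := (IsProjective.iff_projective R).1 inferInstance
  have h2 : HasProjectiveDimensionLT S.X₂ (n + 1) :=
    hasProjectiveDimensionLT_of_ge _ 1 (n + 1) (by omega)
  have h3 : HasProjectiveDimensionLT S.X₃ (n + 1 + 1) := hn
  exact hS.hasProjectiveDimensionLT_X₁ (n + 1) h2 h3

theorem step' (R : Type u) [CommRing R] [IsLocalRing R] [IsNoetherianRing R] (n : ℕ)
    (hn : HasProjectiveDimensionLT (ModuleCat.of R (ResidueField R)) (n + 2))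
    (hm : maximalIdeal R ≠ ⊥) :
    ∃ x ∈ maximalIdeal R, IsSMulRegular R x ∧ ∃ (_ : IsLocalRing (R ⧸ Ideal.span {x})),
      HasProjectiveDimensionLT (ModuleCat.of (R ⧸ Ideal.span {x})
        (ResidueField (R ⧸ Ideal.span {x}))) (n + 1) := by
  have hsoc : ∀ a : R, (∀ x ∈ maximalIdeal R, a * x = 0) → a = 0 := by
    intro a ha
    by_contra h0
    exact hm (Groth.Agent.Helper2.SerreA.maximalIdeal_eq_bot_of_socle a h0 ha (n + 2) hn)
  obtain ⟨x, hxm, hx2, hxreg⟩ := Groth.Agent.Helper2.SerreA.exists_regular hm hsoc
  haveI hloc : IsLocalRing (R ⧸ Ideal.span {x}) :=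
    Groth.Agent.Helper2.FibDimEq.isLocalRing_quot x hxm
  refine ⟨x, hxm, hxreg, hloc, ?_⟩
  have h1 := pdLT_maximalIdeal' R n hn
  have hxM : IsSMulRegular (maximalIdeal R) x := hxreg.submodule _ _
  have h2 := Groth.Agent.Helper2.SerreB.pdLT_quotSMulTop x hxreg n (maximalIdeal R) hxM h1
  obtain ⟨i, r, hir⟩ := Groth.Agent.Helper2.SerreC.exists_retract x hxm hx2
  let ret : Retract (ModuleCat.of (R ⧸ Ideal.span {x}) (ResidueField (R ⧸ Ideal.span {x})))
      (ModuleCat.of (R ⧸ Ideal.span {x}) (QuotSMulTop x (maximalIdeal R))) :=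
    { i := ModuleCat.ofHom i
      r := ModuleCat.ofHom r
      retract := by
        ext y
        exact LinearMap.congr_fun hir y }
  exact ret.hasProjectiveDimensionLT (n + 1)

/-- if the residue field is projective, the ring is a field -/
theorem maximalIdeal_eq_bot_of_projective (R : Type u) [CommRing R] [IsLocalRing R]
    (h : HasProjectiveDimensionLT (ModuleCat.of R (ResidueField R)) 1) : maximalIdeal R = ⊥ := by
  haveI : Projective (ModuleCat.of R (ResidueField R)) :=
    projective_iff_hasProjectiveDimensionLT_one.mpr h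
  haveI : Module.Projective R (ResidueField R) :=
    (IsProjective.iff_projective (ResidueField R)).2 inferInstance
  haveI : Module.Free R (ResidueField R) := Module.free_of_flat_of_isLocalRing
  rw [eq_bot_iff]
  intro a ha
  have h0 : ∀ y : ResidueField R, a • y = (0 : R) • y := by
    intro y
    obtain ⟨b, rfl⟩ := residue_surjective y
    have h1 : algebraMap R (ResidueField R) a = 0 := (residue_eq_zero_iff a).2 ha
    rw [zero_smul, Algebra.smul_def, h1, zero_mul]
  exact FaithfulSMul.eq_of_smul_eq_smul h0

/-- the Krull dimension is at most the projective dimension of the residue field -/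
theorem dim_lt : ∀ (N : ℕ) (R : Type u) [CommRing R] [IsLocalRing R] [IsNoetherianRing R],
    HasProjectiveDimensionLT (ModuleCat.of R (ResidueField R)) N →
    ringKrullDim R + 1 ≤ N := by
  intro N
  induction N with
  | zero =>
    intro R _ _ _ h
    exfalso
    have hz : Limits.IsZero (ModuleCat.of R (ResidueField R)) :=
      (hasProjectiveDimensionLT_zero_iff_isZero _).1 h
    have hsub : Subsingleton (ResidueField R) := ModuleCat.subsingleton_of_isZero hz
    exact not_subsingleton (ResidueField R) hsub
  | succ N ih =>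
    intro R _ _ _ h
    by_cases hm : maximalIdeal R = ⊥
    · have hf : IsField R := IsLocalRing.isField_iff_maximalIdeal_eq.2 hm
      rw [ringKrullDim_eq_zero_of_isField hf, zero_add]
      exact_mod_cast (Nat.le_add_left 1 N)
    · cases N with
      | zero => exact absurd (maximalIdeal_eq_bot_of_projective R h) hm
      | succ N =>
        obtain ⟨x, hxm, hxreg, hloc, hpd⟩ := step' R N h hm
        have h1 := ih (R ⧸ Ideal.span {x}) hpd
        have h2 := Groth.Agent.Helper2.FibDimEq.dim_le_quot_succ x hxm
        calc ringKrullDim R + 1 ≤ ringKrullDim (R ⧸ Ideal.span {x}) + 1 + 1 := by gcongr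
          _ ≤ ((N + 1 : ℕ) : WithBot ℕ∞) + 1 := by gcongr
          _ = ((N + 1 + 1 : ℕ) : WithBot ℕ∞) := by push_cast; rfl

/-- the embedding dimension is at most the projective dimension of the residue field -/
theorem finrank_cotangentSpace_lt (R : Type u) [CommRing R] [IsLocalRing R] [IsNoetherianRing R]
    (d : ℕ) (hd : HasProjectiveDimensionLT (ModuleCat.of R (ResidueField R)) d) :
    Module.finrank (ResidueField R) (CotangentSpace R) < d := by
  haveI := Groth.Agent.Helper2.SerreC.isRegularLocalRing_of_pdLT R d hd
  have h1 := dim_lt d R hd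
  rw [← IsRegularLocalRing.spanFinrank_maximalIdeal,
    IsLocalRing.spanFinrank_maximalIdeal_eq_finrank_cotangentSpace] at h1
  have h2 : Module.finrank (ResidueField R) (CotangentSpace R) + 1 ≤ d := by exact_mod_cast h1
  omega

end Groth.Agent.Helper2.PdLower
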