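import Mathlib

set_option autoImplicit false
open CategoryTheory Abelian TensorProduct
universe u

namespace Groth.Agent.Helper2.PdQuot
variable {A : Type u} [CommRing A] (a : A)

lemma map_subtype_injective {F E : Type*} [AddCommGroup F] [Module A F] [AddCommGroup E]
    [Module A E] (f : F →ₗ[A] E) (hE : IsSMulRegular E a) :
    Function.Injective (QuotSMulTop.map a (LinearMap.ker f).subtype) := by
  rw [← LinearMap.ker_eq_bot, eq_bot_iff]
  intro x hx
  obtain ⟨x, rfl⟩ := Submodule.Quotient.mk_surjective _ x
  rw [LinearMap.mem_ker, QuotSMulTop.map_apply_mk, Submodule.Quotient.mk_eq_zero,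
    Submodule.mem_smul_pointwise_iff_exists] at hx
  obtain ⟨y, -, hy⟩ := hx
  have hy0 : f y = 0 := by
    apply hE
    have : f (a • y) = 0 := by rw [hy]; exact x.2
    simpa using this
  rw [Submodule.mem_bot, Submodule.Quotient.mk_eq_zero, Submodule.mem_smul_pointwise_iff_exists]
  refine ⟨⟨y, hy0⟩, trivial, ?_⟩
  ext
  simpa using hy

lemma lTensor_subtype_injective {F E : Type*} [AddCommGroup F] [Module A F] [AddCommGroup E]
    [Module A E] (f : F →ₗ[A] E) (hE : IsSMulRegular E a) :
    Function.Injective ((LinearMap.ker f).subtype.lTensor (A ⧸ Ideal.span {a})) := by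
  have h := QuotSMulTop.equivQuotTensor_naturality a (LinearMap.ker f).subtype
  have h2 : (LinearMap.ker f).subtype.lTensor (A ⧸ Ideal.span {a}) =
      (QuotSMulTop.equivQuotTensor a F).toLinearMap ∘ₗ
        QuotSMulTop.map a (LinearMap.ker f).subtype ∘ₗ
        (QuotSMulTop.equivQuotTensor a (LinearMap.ker f)).symm.toLinearMap := by
    rw [← LinearMap.comp_assoc, h]
    ext x
    simp
  rw [h2]
  simp only [LinearMap.coe_comp, LinearEquiv.coe_coe]
  exact (QuotSMulTop.equivQuotTensor a F).injective.comp
    ((map_subtype_injective a f hE).comp (QuotSMulTop.equivQuotTensor a _).symm.injective)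

variable [IsNoetherianRing A]

lemma key (hA : IsSMulRegular A a) : ∀ (n : ℕ) (E : Type u) [AddCommGroup E] [Module A E]
    [Module.Finite A E], IsSMulRegular E a →
    HasProjectiveDimensionLT (ModuleCat.of A E) (n + 1) →
    HasProjectiveDimensionLT (ModuleCat.of (A ⧸ Ideal.span {a}) ((A ⧸ Ideal.span {a}) ⊗[A] E))
      (n + 1) := by
  intro n
  induction n with
  | zero =>
    intro E _ _ _ _ h
    rw [zero_add, ← projective_iff_hasProjectiveDimensionLT_one] at h ⊢
    have hp : Module.Projective A E := (IsProjective.iff_projective _).2 h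
    exact (IsProjective.iff_projective _).1 inferInstance
  | succ n ih =>
    intro E _ _ _ hE h
    obtain ⟨k, f, hf⟩ := Module.Finite.exists_fin' A E
    have hSA := LinearMap.shortExact_shortComplexKer hf
    have hex : Function.Exact ((LinearMap.ker f).subtype.baseChange (A ⧸ Ideal.span {a}))
        (f.baseChange (A ⧸ Ideal.span {a})) := by
      have := lTensor_exact (A ⧸ Ideal.span {a}) (LinearMap.exact_subtype_ker_map f) hf
      intro x
      simpa [LinearMap.baseChange_eq_ltensor] using this x
    have hinj : Function.Injective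
        ((LinearMap.ker f).subtype.baseChange (A ⧸ Ideal.span {a})) := by
      have := lTensor_subtype_injective a f hE
      simpa [LinearMap.baseChange_eq_ltensor] using this
    have hsurj : Function.Surjective (f.baseChange (A ⧸ Ideal.span {a})) := by
      have := LinearMap.lTensor_surjective (A ⧸ Ideal.span {a}) hf
      simpa [LinearMap.baseChange_eq_ltensor] using this
    let SB := ModuleCat.shortComplexOfCompEqZero
      ((LinearMap.ker f).subtype.baseChange (A ⧸ Ideal.span {a}))
      (f.baseChange (A ⧸ Ideal.span {a})) hex.linearMap_comp_eq_zero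
    have hSB : SB.ShortExact := ModuleCat.shortComplex_shortExact SB hex hinj hsurj
    have hP2 : Projective SB.X₂ := by
      change Projective (ModuleCat.of (A ⧸ Ideal.span {a})
        ((A ⧸ Ideal.span {a}) ⊗[A] (Fin k → A)))
      exact (IsProjective.iff_projective _).1 inferInstance
    have hP2' : Projective (f.shortComplexKer).X₂ := by
      change Projective (ModuleCat.of A (Fin k → A))
      exact (IsProjective.iff_projective _).1 inferInstance
    have h1 : HasProjectiveDimensionLT (ModuleCat.of A (LinearMap.ker f)) (n + 1) :=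
      (hSA.hasProjectiveDimensionLT_X₃_iff n hP2').1 h
    have hF : IsSMulRegular (Fin k → A) a := fun x y h => funext fun i => hA (congrFun h i)
    have h2 := ih (LinearMap.ker f) (hF.submodule _ a) h1
    exact (hSB.hasProjectiveDimensionLT_X₃_iff n hP2).2 h2

lemma key0 (E : Type u) [AddCommGroup E] [Module A E]
    (h : HasProjectiveDimensionLT (ModuleCat.of A E) 0) :
    HasProjectiveDimensionLT (ModuleCat.of (A ⧸ Ideal.span {a}) ((A ⧸ Ideal.span {a}) ⊗[A] E))
      0 := by
  rw [hasProjectiveDimensionLT_zero_iff_isZero] at h ⊢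
  have : Subsingleton E := ModuleCat.subsingleton_of_isZero h
  exact ModuleCat.isZero_of_subsingleton _

lemma le_of_forall_nat {x y : WithBot ℕ∞} (hy : y ≠ ⊤) (h : ∀ i : ℕ, y < i → x < i) : x ≤ y := by
  induction y with
  | bot =>
    have := h 0 (by exact WithBot.bot_lt_coe _)
    have h0 : x < (0 : WithBot ℕ∞) := by simpa using this
    rw [WithBot.lt_zero_iff_eq_bot] at h0
    rw [h0]
  | coe y =>
    induction y with
    | top => exact absurd rfl hy
    | coe y =>
      have := h (y + 1) (by
        have : ((y : ℕ∞) : WithBot ℕ∞) < (((y + 1 : ℕ) : ℕ∞) : WithBot ℕ∞) := by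
          exact_mod_cast Nat.lt_succ_self y
        exact_mod_cast this)
      have h2 : x < (((y : ℕ) : WithBot ℕ∞) + 1) := by exact_mod_cast this
      exact (ENat.WithBot.lt_add_one_iff).1 h2

end Groth.Agent.Helper2.PdQuot
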