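import Mathlib
import Groth.Prelude
import Groth.Agent.Helper1.TorProjDim2
import Groth.Agent.Helper2.KerFP

set_option autoImplicit false

namespace Groth.Agent.Helper2.PdTor

open CategoryTheory CategoryTheory.Limits MonoidalCategory TensorProduct
open Groth.Agent.Helper1.TorLib Groth.Agent.Helper1.FlatCx

universe u

variable {B : Type u} [CommRing B]

/-- `Tor_0(M, N) = 0` if `M = 0`. -/
lemma isZero_torZero_of_isZero (M N : ModuleCat.{u} B) (hM : IsZero M) :
    IsZero (((Tor (ModuleCat.{u} B) 0).obj M).obj N) := by
  refine IsZero.of_iso ?_ ((torZeroNatIso N).app M)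
  show IsZero (M ⊗ N)
  have : 𝟙 (M ⊗ N) = 0 := by
    rw [← MonoidalCategory.id_whiskerRight, hM.eq_of_src (𝟙 _) 0,
      MonoidalPreadditive.zero_whiskerRight]
  exact (IsZero.iff_id_eq_zero _).mpr this

/-- `Tor_j(M, N) = 0` for `j ≥ i` if `pd M < i`. -/
theorem isZero_tor_of_hasProjectiveDimensionLT (M N : ModuleCat.{u} B) (i : ℕ)
    [HasProjectiveDimensionLT M i] (j : ℕ) (hj : i ≤ j) :
    IsZero (((Tor (ModuleCat.{u} B) j).obj M).obj N) := by
  obtain _ | q := j
  · obtain rfl : i = 0 := by omega
    exact isZero_torZero_of_isZero M N (isZero_of_hasProjectiveDimensionLT_zero M)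
  · haveI : HasProjectiveDimensionLE M q := hasProjectiveDimensionLT_of_ge M i (q + 1) hj
    exact (isZero_tor_symm_iff _ _ _).mp
      (isZero_tor_of_hasProjectiveDimensionLE N M q (q + 1) (by omega))

/-- `M = 0` if `Tor_0(M, B) = 0`. -/
lemma isZero_of_isZero_torZero (M : ModuleCat.{u} B)
    (h : IsZero (((Tor (ModuleCat.{u} B) 0).obj M).obj (𝟙_ (ModuleCat.{u} B)))) : IsZero M :=
  IsZero.of_iso h ((ρ_ M).symm ≪≫ ((torZeroNatIso (𝟙_ (ModuleCat.{u} B))).app M).symm)

section Main

variable (A : Type u) [CommRing A] [Algebra A B] [Algebra.FinitePresentation A B] [Module.Flat A B]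

include A in
/-- Key induction: for `B` a finitely presented flat `A`-algebra and `M` a finitely presented
`B`-module flat over `A`, vanishing of `Tor_{n+1}(M, -)` implies `pd M ≤ n`. -/
theorem hasProjectiveDimensionLT_of_isZero_tor (n : ℕ) :
    ∀ (M : Type u) [AddCommGroup M] [Module B M] [Module A M] [IsScalarTower A B M]
      [Module.FinitePresentation B M] [Module.Flat A M],
    (∀ N : ModuleCat.{u} B,
      IsZero (((Tor (ModuleCat.{u} B) (n + 1)).obj (ModuleCat.of B M)).obj N)) →
    HasProjectiveDimensionLT (ModuleCat.of B M) (n + 1) := by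
  induction n with
  | zero =>
    intro M _ _ _ _ _ _ h
    haveI : Module.Flat B M := by
      rw [flat_iff_isZero_torOne_quotient_fg]
      intro I _
      exact h _
    haveI : Module.Projective B M := Module.Flat.projective_of_finitePresentation
    haveI := projective_of_free (A := B) M
    exact projective_iff_hasProjectiveDimensionLT_one.mp inferInstance
  | succ n ih =>
    intro M _ _ _ _ _ _ h
    obtain ⟨m, π, hπ⟩ := Module.Finite.exists_fin' B M
    have hex : Function.Exact (LinearMap.ker π).subtype π := LinearMap.exact_subtype_ker_map π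
    have hS : (scOfLinear (N₁ := LinearMap.ker π) (N₂ := (Fin m → B)) (N₃ := M)
        (LinearMap.ker π).subtype π hex).ShortExact :=
      scOfLinear_shortExact _ _ (Submodule.injective_subtype _) hπ hex
    haveI : Module.Flat B (scOfLinear (N₁ := LinearMap.ker π) (N₂ := (Fin m → B)) (N₃ := M)
      (LinearMap.ker π).subtype π hex).X₂ := inferInstanceAs (Module.Flat B (Fin m → B))
    -- the syzygy is finitely presented
    haveI : Module.FinitePresentation B (LinearMap.ker π) :=
      Groth.Agent.Helper2.KerFP.fp_ker_of_flat (A := A) M π hπ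
    -- and flat over `A`
    haveI : Module.Flat A (Fin m → B) :=
      Module.Flat.of_linearEquiv
        (DFinsupp.linearEquivFunOnFintype (R := A) (M := fun _ : Fin m => B)).symm
    haveI : Module.Flat A (LinearMap.ker π) :=
      flat_of_exact_of_flat (A := A) ((LinearMap.ker π).subtype.restrictScalars A)
        (π.restrictScalars A) (Submodule.injective_subtype _) hπ
        (fun x => hex x)
    have h2 : ∀ N : ModuleCat.{u} B, IsZero (((Tor (ModuleCat.{u} B) (n + 1)).obj
        (ModuleCat.of B (LinearMap.ker π))).obj N) := by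
      intro N
      have hiso := isIso_torδ_succ N hS n
      exact (h N).of_iso (@asIso _ _ _ _ (torδ N hS (n + 1)) hiso).symm
    have h3 := ih (LinearMap.ker π) h2
    haveI := projective_of_free (A := B) (Fin m → B)
    have h4 : HasProjectiveDimensionLT (ModuleCat.of B (Fin m → B)) (n + 1 + 1) :=
      hasProjectiveDimensionLT_of_ge _ 1 _ (by omega)
    exact hS.hasProjectiveDimensionLT_X₃ (n + 1) h3 h4

/-- The characterization of `HasProjectiveDimensionLT` via `Tor`. -/
theorem hasProjectiveDimensionLT_iff_isZero_tor (M : Type u) [AddCommGroup M] [Module B M]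
    [Module A M] [IsScalarTower A B M] [Module.FinitePresentation B M] [Module.Flat A M] (i : ℕ) :
    HasProjectiveDimensionLT (ModuleCat.of B M) i ↔
      ∀ j : ℕ, i ≤ j → ∀ N : ModuleCat.{u} B,
        IsZero (((Tor (ModuleCat.{u} B) j).obj (ModuleCat.of B M)).obj N) := by
  constructor
  · intro h j hj N
    exact isZero_tor_of_hasProjectiveDimensionLT _ N i j hj
  · intro h
    obtain _ | n := i
    · exact (isZero_of_isZero_torZero _ (h 0 le_rfl _)).hasProjectiveDimensionLT_zero
    · exact hasProjectiveDimensionLT_of_isZero_tor A n M (h (n + 1) le_rfl)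

/-- Projective dimension equals Tor-dimension. -/
theorem projectiveDimension_eq (M : Type u) [AddCommGroup M] [Module B M]
    [Module A M] [IsScalarTower A B M] [Module.FinitePresentation B M] [Module.Flat A M] :
    projectiveDimension (ModuleCat.of B M) =
      sInf {n : WithBot ℕ∞ | ∀ i : ℕ, n < i → ∀ N : ModuleCat.{u} B,
        Limits.IsZero (((Tor (ModuleCat.{u} B) i).obj (ModuleCat.of B M)).obj N)} := by
  unfold projectiveDimension
  congr 1
  ext n
  simp only [Set.mem_ofPred_eq]
  constructor
  · intro h i hi N
    haveI := h i hi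
    exact isZero_tor_of_hasProjectiveDimensionLT _ N i i le_rfl
  · intro h i hi
    rw [hasProjectiveDimensionLT_iff_isZero_tor A M i]
    intro j hj N
    exact h j (lt_of_lt_of_le hi (by exact_mod_cast hj)) N

end Main

end Groth.Agent.Helper2.PdTor
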