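import Mathlib
import Groth.Agent.Helper2.Pi0Hopf2

set_option autoImplicit false
open TensorProduct Polynomial

namespace Groth.Agent.Helper2.Pi0Hopf

section sep
variable {k : Type*} [Field k] {R : Type*} [CommRing R] [Algebra k R]

lemma isSeparable_of_idem {e : R} (he : IsIdempotentElem e) : IsSeparable k e := by
  have h0 : aeval e ((X - C (0 : k)) * (X - C (1 : k))) = 0 := by
    simp only [map_mul, map_sub, aeval_X, aeval_C, map_zero, map_one, sub_zero]
    rw [mul_sub, mul_one, he.eq, sub_self]
  have hsep : ((X - C (0 : k)) * (X - C (1 : k))).Separable := by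
    apply Separable.mul separable_X_sub_C separable_X_sub_C
    apply isCoprime_X_sub_C_of_isUnit_sub
    simp
  exact hsep.of_dvd (minpoly.dvd k e h0)

/-- an element killed by a product of distinct linear factors is a combination of idempotents -/
lemma mem_W_of_aeval_prod (s : Finset k) :
    ∀ x : R, aeval x (∏ a ∈ s, (X - C a)) = 0 → x ∈ W k R := by
  classical
  induction s using Finset.induction_on with
  | empty =>
    intro x hx
    rw [Finset.prod_empty, map_one] at hx
    have : x = 0 := by rw [← mul_one x, hx, mul_zero]
    rw [this]
    exact Subalgebra.zero_mem _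
  | insert a s ha ih =>
    intro x hx
    rw [Finset.prod_insert ha, map_mul] at hx
    rcases s.eq_empty_or_nonempty with hs | ⟨b, hb⟩
    · subst hs
      simp only [Finset.prod_empty, map_one, mul_one, map_sub, aeval_X, aeval_C] at hx
      rw [sub_eq_zero.mp hx]
      exact Subalgebra.algebraMap_mem _ _
    set P : k[X] := ∏ b ∈ s, (X - C b) with hP
    set px : R := aeval x P with hpx
    have hx' : (x - algebraMap k R a) * px = 0 := by simpa using hx
    have hc : P.eval a ≠ 0 := by
      rw [hP, eval_prod, Finset.prod_ne_zero_iff]
      intro b' hb'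
      simp only [eval_sub, eval_X, eval_C]
      exact sub_ne_zero.mpr (fun h => ha (h ▸ hb'))
    set c := P.eval a with hcdef
    -- Fact A
    have factA : ∀ Q : k[X], aeval x Q * px = (Q.eval a) • px := by
      intro Q
      obtain ⟨Q', hQ'⟩ := X_sub_C_dvd_sub_C_eval (a := a) (p := Q)
      have : aeval x Q = algebraMap k R (Q.eval a) + (x - algebraMap k R a) * aeval x Q' := by
        have := congrArg (aeval x) hQ'
        simp only [map_sub, map_mul, aeval_X, aeval_C] at this
        rw [← this]; ring
      rw [this, add_mul, mul_right_comm, hx', zero_mul, add_zero, Algebra.smul_def]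
    set e : R := c⁻¹ • px with he
    have hee : IsIdempotentElem e := by
      show e * e = e
      rw [he, smul_mul_smul_comm, factA P, smul_smul, ← hcdef, mul_assoc, inv_mul_cancel₀ hc,
        mul_one]
    have hxe : x * e = a • e := by
      rw [he, mul_smul_comm, smul_comm a]
      congr 1
      have := factA X
      simpa using this
    have hb0 : P.eval b = 0 := by
      rw [hP, eval_prod]
      exact Finset.prod_eq_zero hb (by simp)
    set y : R := x + (b - a) • e with hy
    -- Fact B
    have hye : (y - algebraMap k R b) * e = 0 := by
      rw [hy, sub_mul, add_mul, hxe, smul_mul_assoc, hee.eq, Algebra.smul_def (b - a),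
        Algebra.smul_def a, map_sub]
      ring
    have factB : aeval y P = 0 := by
      have d1 : (y - x) ∣ aeval y P - aeval x P := by
        have := sub_dvd_eval_sub y x (P.map (algebraMap k R))
        simpa [eval_map_algebraMap] using this
      have d2 : (y - algebraMap k R b) ∣ aeval y P - aeval (algebraMap k R b) P := by
        have := sub_dvd_eval_sub y (algebraMap k R b) (P.map (algebraMap k R))
        simpa [eval_map_algebraMap] using this
      obtain ⟨g1, hg1⟩ := d1
      obtain ⟨g2, hg2⟩ := d2
      have hyx : y - x = (b - a) • e := by rw [hy]; ring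
      have e1 : (aeval y P - px) * (1 - e) = 0 := by
        rw [hg1, hyx, smul_mul_assoc, smul_mul_assoc, mul_right_comm, mul_one_sub, hee.eq,
          sub_self, zero_mul, smul_zero]
      have e2 : aeval y P * e = 0 := by
        rw [aeval_algebraMap_apply, coe_aeval_eq_eval, hb0, map_zero, sub_zero] at hg2
        rw [hg2, mul_right_comm, hye, zero_mul]
      have e3 : px * (1 - e) = 0 := by
        rw [mul_one_sub, he, mul_smul_comm, factA P, smul_smul, ← hcdef, inv_mul_cancel₀ hc,
          one_smul, sub_self]
      calc aeval y P = (aeval y P - px) * (1 - e) + px * (1 - e) + aeval y P * e := by ring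
        _ = 0 := by rw [e1, e2, e3]; simp
    have hyW : y ∈ W k R := ih y factB
    have : x = y - (b - a) • e := by rw [hy]; ring
    rw [this]
    exact Subalgebra.sub_mem _ hyW (Subalgebra.smul_mem _ (idem_mem_W hee) _)

lemma mem_W_of_isSeparable [IsAlgClosed k] {x : R} (hx : IsSeparable k x) : x ∈ W k R := by
  classical
  have hsplit : (minpoly k x).Splits := IsAlgClosed.splits _
  have hint : IsIntegral k x := by
    by_contra h
    have : minpoly k x = 0 := minpoly.eq_zero h
    have h2 : (minpoly k x).Separable := hx
    rw [this] at h2
    exact not_separable_zero h2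
  have hmonic := minpoly.monic hint
  have hnd : (minpoly k x).roots.Nodup := nodup_roots hx
  have heq := hsplit.eq_prod_roots_of_monic hmonic
  apply mem_W_of_aeval_prod (minpoly k x).roots.toFinset
  have : ∏ a ∈ (minpoly k x).roots.toFinset, (X - C a) = minpoly k x := by
    conv_rhs => rw [heq]
    rw [Finset.prod, Multiset.toFinset_val, hnd.dedup]
  rw [this]
  exact minpoly.aeval k x

end sep

end Groth.Agent.Helper2.Pi0Hopf
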