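import Mathlib
import Groth.Prelude.Def_SGA3
import Groth.Agent.Helper2.Pi0Hopf3
import Groth.Agent.Helper2.HopfFGv

set_option autoImplicit false
universe u
open TensorProduct

namespace Groth.Agent.Helper2.Pi0Hopf

section slices2
variable {k : Type*} [Field k] {A : Type*} [AddCommGroup A] [Module k A]

lemma slice_mem_of_mem_range_rTensor (U : Submodule k A) (t : A ⊗[k] A)
    (ht : t ∈ LinearMap.range (U.subtype.rTensor A)) (θ : A →ₗ[k] k) :
    (TensorProduct.rid k A) (θ.lTensor A t) ∈ U := by
  obtain ⟨y, rfl⟩ := ht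
  induction y using TensorProduct.induction_on with
  | zero => simp
  | tmul u a =>
    simp only [LinearMap.rTensor_tmul, LinearMap.lTensor_tmul, TensorProduct.rid_tmul,
      Submodule.subtype_apply]
    exact U.smul_mem _ u.2
  | add x y hx hy =>
    simp only [map_add]
    exact U.add_mem hx hy

lemma slice_mem_of_mem_range_lTensor (U : Submodule k A) (t : A ⊗[k] A)
    (ht : t ∈ LinearMap.range (U.subtype.lTensor A)) (θ : A →ₗ[k] k) :
    (TensorProduct.lid k A) (θ.rTensor A t) ∈ U := by
  obtain ⟨y, rfl⟩ := ht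
  induction y using TensorProduct.induction_on with
  | zero => simp
  | tmul a u =>
    simp only [LinearMap.rTensor_tmul, LinearMap.lTensor_tmul, TensorProduct.lid_tmul,
      Submodule.subtype_apply]
    exact U.smul_mem _ u.2
  | add x y hx hy =>
    simp only [map_add]
    exact U.add_mem hx hy

lemma mem_range_rTensor_of_mem_range_map (U : Submodule k A) (t : A ⊗[k] A)
    (ht : t ∈ LinearMap.range (TensorProduct.map U.subtype U.subtype)) :
    t ∈ LinearMap.range (U.subtype.rTensor A) := by
  obtain ⟨y, rfl⟩ := ht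
  refine ⟨U.subtype.lTensor U y, ?_⟩
  rw [← LinearMap.comp_apply, LinearMap.rTensor_comp_lTensor]

lemma mem_range_lTensor_of_mem_range_map (U : Submodule k A) (t : A ⊗[k] A)
    (ht : t ∈ LinearMap.range (TensorProduct.map U.subtype U.subtype)) :
    t ∈ LinearMap.range (U.subtype.lTensor A) := by
  obtain ⟨y, rfl⟩ := ht
  refine ⟨U.subtype.rTensor U y, ?_⟩
  rw [← LinearMap.comp_apply, LinearMap.lTensor_comp_rTensor]

/-- intersection of two "tensor squares" of subspaces -/
lemma mem_range_map_inf (U₁ U₂ : Submodule k A) (t : A ⊗[k] A)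
    (h1r : t ∈ LinearMap.range (U₁.subtype.rTensor A))
    (h1l : t ∈ LinearMap.range (U₁.subtype.lTensor A))
    (h2r : t ∈ LinearMap.range (U₂.subtype.rTensor A))
    (h2l : t ∈ LinearMap.range (U₂.subtype.lTensor A)) :
    t ∈ LinearMap.range (TensorProduct.map (U₁ ⊓ U₂).subtype (U₁ ⊓ U₂).subtype) := by
  apply HopfFGv.mem_range_map_of_mem_both
  · apply HopfFGv.mem_range_rTensor_of_slices
    intro θ
    exact ⟨slice_mem_of_mem_range_rTensor U₁ t h1r θ, slice_mem_of_mem_range_rTensor U₂ t h2r θ⟩
  · apply HopfFGv.mem_range_lTensor_of_slices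
    intro θ
    exact ⟨slice_mem_of_mem_range_lTensor U₁ t h1l θ, slice_mem_of_mem_range_lTensor U₂ t h2l θ⟩

end slices2

theorem s18329 (k A : Type u) [Field k] [IsAlgClosed k] [CommRing A] [HopfAlgebra k A]
    (B₀ : Subalgebra k A) (hB₀ : ∀ a : A, a ∈ B₀ ↔ IsSeparable k a)
    (C : Subalgebra k A) (hC : SGA3.IsHopfSubalgebra k A C)
    (hCc : ∀ c ∈ C, TensorProduct.comm k A A (Coalgebra.comul c) = Coalgebra.comul c)
    (hCmax : ∀ D : Subalgebra k A, SGA3.IsHopfSubalgebra k A D →
      (∀ d ∈ D, TensorProduct.comm k A A (Coalgebra.comul d) = Coalgebra.comul d) → D ≤ C) :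
    IsGreatest {D : Subalgebra k A | SGA3.IsHopfSubalgebra k A D ∧
      (∀ d ∈ D, TensorProduct.comm k A A (Coalgebra.comul d) = Coalgebra.comul d) ∧ D ≤ B₀}
      (B₀ ⊓ C) := by
  have hBW : B₀ = W k A := by
    apply le_antisymm
    · intro a ha
      exact mem_W_of_isSeparable ((hB₀ a).mp ha)
    · exact Algebra.adjoin_le fun e he => (hB₀ e).mpr (isSeparable_of_idem he)
  constructor
  · refine ⟨⟨?_, ?_⟩, fun d hd => hCc d hd.2, inf_le_left⟩
    · intro x hx
      have hxW : x ∈ W k A := hBW ▸ hx.1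
      have hΔW : Coalgebra.comul (R := k) x ∈ W k (A ⊗[k] A) :=
        map_mem_W (Bialgebra.comulAlgHom k A) hxW
      have h1r : Coalgebra.comul (R := k) x ∈
          LinearMap.range ((Subalgebra.toSubmodule B₀).subtype.rTensor A) := by
        have := (mem_calW_iff _).mp (W_le_calW hΔW)
        rw [hBW]; exact this
      have h1l : Coalgebra.comul (R := k) x ∈
          LinearMap.range ((Subalgebra.toSubmodule B₀).subtype.lTensor A) := by
        have := (mem_calW'_iff _).mp (W_le_calW' hΔW)
        rw [hBW]; exact this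
      have hCx : Coalgebra.comul (R := k) x ∈ LinearMap.range
          (TensorProduct.map (Subalgebra.toSubmodule C).subtype (Subalgebra.toSubmodule C).subtype) :=
        hC.1 x hx.2
      have := mem_range_map_inf (Subalgebra.toSubmodule B₀) (Subalgebra.toSubmodule C) _ h1r h1l
        (mem_range_rTensor_of_mem_range_map _ _ hCx) (mem_range_lTensor_of_mem_range_map _ _ hCx)
      exact this
    · intro x hx
      refine ⟨?_, hC.2 x hx.2⟩
      have hxW : x ∈ W k A := hBW ▸ hx.1
      rw [hBW]
      exact map_mem_W (HopfAlgebra.antipodeAlgHom k A) hxW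
  · rintro D ⟨hD1, hD2, hD3⟩
    exact le_inf hD3 (hCmax D hD1 hD2)

end Groth.Agent.Helper2.Pi0Hopf
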