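import Mathlib
import Groth.Prelude

set_option autoImplicit false
set_option linter.style.haveILetI false
set_option linter.unusedSectionVars false
set_option linter.dupNamespace false

namespace Groth.Agent.Helper2.PiVal

open TensorProduct

section Pi

variable {ι : Type*} {R : ι → Type*} [∀ i, CommRing (R i)] [∀ i, IsDomain (R i)]
  [∀ i, ValuationRing (R i)]

open Classical in
/-- the idempotent supported where `b` does not vanish -/
noncomputable def suppIdem (b : ∀ i, R i) : ∀ i, R i := fun i => if b i = 0 then 0 else 1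

theorem suppIdem_mul (b : ∀ i, R i) : suppIdem b * b = b := by
  funext i
  simp only [Pi.mul_apply, suppIdem]
  split_ifs with h
  · rw [h, mul_zero]
  · rw [one_mul]

theorem span_pair_isPrincipal (x y : ∀ i, R i) : (Ideal.span {x, y}).IsPrincipal := by
  classical
  let e : ∀ i, R i := fun i => if x i ∣ y i then 1 else 0
  let c : ∀ i, R i := e * x + (1 - e) * y
  have hc : ∀ i, c i = if x i ∣ y i then x i else y i := by
    intro i
    simp only [c, e, Pi.add_apply, Pi.mul_apply, Pi.sub_apply, Pi.one_apply]
    split_ifs <;> simp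
  have hcx : ∀ i, c i ∣ x i := by
    intro i
    rw [hc]
    split_ifs with h
    · exact dvd_rfl
    · exact (ValuationRing.dvd_total (x i) (y i)).resolve_left h
  have hcy : ∀ i, c i ∣ y i := by
    intro i
    rw [hc]
    split_ifs with h
    · exact h
    · exact dvd_rfl
  choose p hp using hcx
  choose q hq using hcy
  refine ⟨c, le_antisymm ?_ ?_⟩
  · rw [Ideal.span_le]
    rintro z (rfl | rfl)
    · exact Ideal.mem_span_singleton'.2 ⟨p, by funext i; simp [hp i, mul_comm]⟩
    · exact Ideal.mem_span_singleton'.2 ⟨q, by funext i; simp [hq i, mul_comm]⟩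
  · show Ideal.span {c} ≤ _
    rw [Ideal.span_le, Set.singleton_subset_iff]
    exact add_mem (Ideal.mul_mem_left _ _ (Ideal.subset_span (by simp)))
      (Ideal.mul_mem_left _ _ (Ideal.subset_span (by simp)))

instance isBezout_pi : IsBezout (∀ i, R i) :=
  IsBezout.iff_span_pair_isPrincipal.2 span_pair_isPrincipal

/-- a module over a product of valuation domains on which `b • m = 0` forces the support
idempotent of `b` to kill `m` is flat -/
theorem flat_of_suppIdem_smul (M : Type*) [AddCommGroup M] [Module (∀ i, R i) M]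
    (h : ∀ (b : ∀ i, R i) (m : M), b • m = 0 → suppIdem b • m = 0) : Module.Flat (∀ i, R i) M := by
  rw [Module.Flat.iff_lift_lsmul_comp_subtype_injective]
  intro J hJ
  obtain ⟨b, rfl⟩ := (IsBezout.isPrincipal_of_FG J hJ).principal
  set J : Ideal (∀ i, R i) := Ideal.span {b} with hJdef
  have hbJ : b ∈ J := Ideal.subset_span rfl
  rw [injective_iff_map_eq_zero]
  intro z hz
  -- every tensor is of the form `b ⊗ m`
  have hform : ∀ z : J ⊗[∀ i, R i] M, ∃ m : M, z = (⟨b, hbJ⟩ : J) ⊗ₜ m := by
    intro z
    induction z using TensorProduct.induction_on with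
    | zero => exact ⟨0, (tmul_zero _ _).symm⟩
    | tmul j m =>
      obtain ⟨r, hr⟩ := Ideal.mem_span_singleton'.1 j.2
      refine ⟨r • m, ?_⟩
      rw [← smul_tmul]
      congr 1
      exact Subtype.ext hr.symm
    | add z₁ z₂ h₁ h₂ =>
      obtain ⟨m₁, rfl⟩ := h₁
      obtain ⟨m₂, rfl⟩ := h₂
      exact ⟨m₁ + m₂, (tmul_add _ _ _).symm⟩
  obtain ⟨m, rfl⟩ := hform z
  have hbm : b • m = 0 := by simpa using hz
  have h1 := h b m hbm
  have h2 : (⟨b, hbJ⟩ : J) = suppIdem b • (⟨b, hbJ⟩ : J) := Subtype.ext (suppIdem_mul b).symm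
  rw [h2, smul_tmul, h1, tmul_zero]

end Pi

end Groth.Agent.Helper2.PiVal
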