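import Mathlib
import Groth.Prelude
import Groth.Agent.Helper2.PiValA
import Groth.Agent.Helper8.PiVal1
import Groth.Agent.Helper2.WEIntA

set_option autoImplicit false
set_option linter.style.haveILetI false
set_option linter.unusedSectionVars false
set_option linter.dupNamespace false

namespace Groth.Agent.Helper2.PiVal

universe u

open TensorProduct CategoryTheory

theorem s7143 (A K : Type u) [CommRing A] [IsDomain A] [Field K] [Algebra A K]
    [IsFractionRing A K] [IsIntegrallyClosed A] :
    ∃ (V L : Type u) (_ : CommRing V) (_ : CommRing L) (f : A →+* V) (g : V →+* L) (h : K →+* L),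
      g.comp f = h.comp (algebraMap A K) ∧
      (∀ I : Ideal V, Module.Flat V I) ∧ g.Flat ∧ Function.Injective g ∧ Epi (CommRingCat.ofHom g) ∧
      ∀ (v : V) (k : K), g v = h k → ∃! a : A, f a = v ∧ algebraMap A K a = k := by
  classical
  let ι := {v : ValuationSubring K // (algebraMap A K).range ≤ v.toSubring}
  let R : ι → Type u := fun i => ↥i.1
  let V := ∀ i, R i
  let L := ι → K
  let f : A →+* V := Pi.ringHom fun i =>
    (algebraMap A K).codRestrict i.1.toSubring (fun a => i.2 ⟨a, rfl⟩)
  let g : V →+* L := algebraMap V L
  let h : K →+* L := Pi.ringHom fun _ => RingHom.id K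
  have hg : ∀ (v : V) (i : ι), g v i = (v i : K) := fun v i => rfl
  haveI hloc : IsLocalization (nonZeroDivisors V) L :=
    Groth.Agent.Helper8.PiVal.isLocalization_pi R (fun _ => K)
  refine ⟨V, L, inferInstance, inferInstance, f, g, h, ?_, ?_, ?_, ?_, ?_, ?_⟩
  · ext a i
    rfl
  · intro I
    refine flat_of_suppIdem_smul (R := R) I ?_
    intro b m hbm
    apply Subtype.ext
    have hbm' : b * (m : V) = 0 := congrArg Subtype.val hbm
    show suppIdem b * (m : V) = 0
    funext i
    have hi : b i * (m : V) i = 0 := congrFun hbm' i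
    change suppIdem b i * (m : V) i = 0
    unfold suppIdem
    split_ifs with hb
    · rw [zero_mul]
    · rw [one_mul]
      exact (mul_eq_zero.1 hi).resolve_left hb
  · show RingHom.Flat (algebraMap V L)
    rw [RingHom.flat_algebraMap_iff]
    exact IsLocalization.flat L (nonZeroDivisors V)
  · exact IsLocalization.injective L le_rfl
  · exact IsLocalization.epi (nonZeroDivisors V) L
  · intro v k hvk
    have hk : ∀ i : ι, (v i : K) = k := fun i => by
      have := congrFun hvk i
      rw [hg] at this
      exact this
    have hmem : k ∈ (algebraMap A K).range := by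
      by_contra hcon
      haveI : IsIntegrallyClosedIn A K := (isIntegrallyClosed_iff_isIntegrallyClosedIn K).1 inferInstance
      haveI : IsIntegrallyClosedIn (algebraMap A K).range K :=
        Groth.Agent.Helper2.WEInt.isIntegrallyClosedIn_range A K
      obtain ⟨V₀, hV₀, hkV₀⟩ := Subring.exists_le_valuationSubring_of_isIntegrallyClosedIn hcon
      apply hkV₀
      have := hk ⟨V₀, hV₀⟩
      rw [← this]
      exact (v ⟨V₀, hV₀⟩).2
    obtain ⟨a, ha⟩ := hmem
    refine ⟨a, ⟨?_, ha⟩, ?_⟩
    · funext i
      apply Subtype.ext
      show algebraMap A K a = (v i : K)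
      rw [ha, hk]
    · rintro a' ⟨-, ha'⟩
      exact IsFractionRing.injective A K (ha'.trans ha.symm)

end Groth.Agent.Helper2.PiVal
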