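import Mathlib
import Groth.Prelude.Def_W4sga6xxiiiPolyMap

namespace Groth.Agent.Helper2.PolyMapQ

open Polynomial

/-- the binomial polynomial `C(T, j)` over `ℚ`. -/
noncomputable def binomPoly (j : ℕ) : ℚ[X] :=
  C ((j.factorial : ℚ)⁻¹) * (descPochhammer ℤ j).map (Int.castRingHom ℚ)

lemma eval_binomPoly (j : ℕ) (n : ℤ) :
    (binomPoly j).eval (n : ℚ) = ((Ring.choose n j : ℤ) : ℚ) := by
  unfold binomPoly
  rw [eval_mul, eval_C]
  have h1 : ((descPochhammer ℤ j).map (Int.castRingHom ℚ)).eval (n : ℚ) =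
      (((descPochhammer ℤ j).eval n : ℤ) : ℚ) := by
    simp
  have h2 : (descPochhammer ℤ j).eval n = j.factorial • Ring.choose n j := by
    rw [← Ring.descPochhammer_eq_factorial_smul_choose, Polynomial.eval_eq_smeval]
  rw [h1, h2]
  have hj : (j.factorial : ℚ) ≠ 0 := by exact_mod_cast Nat.factorial_ne_zero j
  rw [nsmul_eq_mul]
  push_cast
  field_simp

variable {G : Type*} [AddCommGroup G]

/-- along every line, a polynomial map to `ℚ` is given by a polynomial. -/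
lemma exists_polynomial (f : G → ℚ) (hf : W4sga6xxiii.IsPolyMap f) (z y : G) :
    ∃ P : ℚ[X], ∀ n : ℤ, P.eval (n : ℚ) = f (z + n • y) := by
  obtain ⟨m, y', -, hexp⟩ := hf 2 ![z, y]
  refine ⟨∑ k : Fin 2 → Fin (m + 1),
    C (y' k) * C ((Ring.choose (1 : ℤ) (k 0 : ℕ) : ℤ) : ℚ) * binomPoly (k 1), fun n => ?_⟩
  have := hexp ![1, n]
  simp only [Fin.sum_univ_two, Matrix.cons_val_zero, Matrix.cons_val_one, one_smul,
    Fin.prod_univ_two] at this
  rw [this, eval_finsetSum]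
  refine Finset.sum_congr rfl fun k _ => ?_
  rw [eval_mul, eval_mul, eval_C, eval_C, eval_binomPoly, zsmul_eq_mul]
  push_cast
  ring


/-- an integer valued polynomial of degree `d` has `d! * leadingCoeff` an integer. -/
lemma exists_int_factorial_mul_leadingCoeff (Q : ℚ[X])
    (hQ : ∀ n : ℤ, ∃ t : ℤ, Q.eval (n : ℚ) = t) :
    ∃ t : ℤ, Q.leadingCoeff * (Q.natDegree.factorial : ℚ) = t := by
  have h1 := congrFun (Polynomial.fwdDiff_iter_degree_eq_factorial Q) 0
  rw [fwdDiff_iter_eq_sum_shift] at h1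
  simp only [Pi.smul_apply, smul_eq_mul] at h1
  have h2 : ∀ k : ℕ, ∃ t : ℤ, Q.eval ((0 : ℚ) + k • (1 : ℚ)) = t := by
    intro k
    obtain ⟨t, ht⟩ := hQ k
    refine ⟨t, ?_⟩
    rw [← ht]
    congr 1
    simp
  choose t ht using h2
  refine ⟨∑ k ∈ Finset.range (Q.natDegree + 1),
    ((-1 : ℤ) ^ (Q.natDegree - k) * (Q.natDegree.choose k : ℤ)) * t k, ?_⟩
  have h3 : Q.leadingCoeff * (Q.natDegree.factorial : ℚ) =
      Q.leadingCoeff * (Q.natDegree.factorial : ℚ → ℚ) 0 := by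
    simp
  rw [h3, ← h1]
  push_cast
  refine Finset.sum_congr rfl fun k _ => ?_
  rw [ht k, zsmul_eq_mul]
  push_cast
  ring

end Groth.Agent.Helper2.PolyMapQ
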