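import Mathlib
import Groth.Agent.Helper2.PolyHeight

set_option autoImplicit false
universe u
open Polynomial Groth.Agent.Helper2.PolyHeight

namespace Groth.Agent.Helper2.PolyTrdeg

variable {A : Type u} [CommRing A]

/-- the canonical map `(A/p)[X] → A[X]/q` -/
noncomputable def φ (p : Ideal A) [p.IsPrime] (q : Ideal A[X]) [q.IsPrime] [q.LiesOver p] :
    (A ⧸ p)[X] →ₐ[A ⧸ p] (A[X] ⧸ q) :=
  Polynomial.aeval (Ideal.Quotient.mk q X)

theorem φ_map (p : Ideal A) [p.IsPrime] (q : Ideal A[X]) [q.IsPrime] [q.LiesOver p] (f : A[X]) :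
    φ p q (f.map (Ideal.Quotient.mk p)) = Ideal.Quotient.mk q f := by
  have : (φ p q).toRingHom.comp (Polynomial.mapRingHom (Ideal.Quotient.mk p)) =
      Ideal.Quotient.mk q := by
    apply Polynomial.ringHom_ext
    · intro a
      simp [φ]
    · simp [φ]
  exact RingHom.congr_fun this f

theorem φ_surjective (p : Ideal A) [p.IsPrime] (q : Ideal A[X]) [q.IsPrime] [q.LiesOver p] :
    Function.Surjective (φ p q) := by
  intro y
  obtain ⟨f, rfl⟩ := Ideal.Quotient.mk_surjective y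
  exact ⟨_, φ_map p q f⟩

theorem map_mk_eq_zero_iff (p : Ideal A) (f : A[X]) :
    f.map (Ideal.Quotient.mk p) = 0 ↔ f ∈ p.map (C : A →+* A[X]) := by
  rw [Ideal.mem_map_C_iff, Polynomial.ext_iff]
  simp [Ideal.Quotient.eq_zero_iff_mem]

theorem trdeg_eq_one [IsNoetherianRing A] (p : Ideal A) [p.IsPrime] :
    Algebra.trdeg (A ⧸ p) (A[X] ⧸ p.map (C : A →+* A[X])) = 1 := by
  have hinj : Function.Injective (φ p (p.map (C : A →+* A[X]))) := by
    rw [injective_iff_map_eq_zero]
    intro g hg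
    obtain ⟨f, rfl⟩ := Polynomial.map_surjective _ Ideal.Quotient.mk_surjective g
    rw [φ_map, Ideal.Quotient.eq_zero_iff_mem] at hg
    exact (map_mk_eq_zero_iff p f).mpr hg
  have h1 := _root_.trdeg_le_of_injective _ hinj
  have h2 := _root_.trdeg_le_of_surjective _ (φ_surjective p (p.map (C : A →+* A[X])))
  rw [Polynomial.trdeg_of_isDomain] at h1 h2
  exact le_antisymm h2 h1

theorem trdeg_eq_zero (p : Ideal A) [p.IsPrime] (q : Ideal A[X]) [q.IsPrime] [q.LiesOver p]
    (hne : q ≠ p.map (C : A →+* A[X])) : Algebra.trdeg (A ⧸ p) (A[X] ⧸ q) = 0 := by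
  have hle : p.map (C : A →+* A[X]) ≤ q := by
    rw [Ideal.map_le_iff_le_comap, Ideal.LiesOver.over (P := q) (p := p), Ideal.under_def,
      Polynomial.algebraMap_eq]
  obtain ⟨f, hfq, hfp⟩ : ∃ f ∈ q, f ∉ p.map (C : A →+* A[X]) := by
    by_contra h
    push Not at h
    exact hne (le_antisymm h hle)
  have hXalg : IsAlgebraic (A ⧸ p) (Ideal.Quotient.mk q X) := by
    refine ⟨f.map (Ideal.Quotient.mk p), fun h0 => hfp ((map_mk_eq_zero_iff p f).mp h0), ?_⟩
    have := φ_map p q f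
    rw [φ] at this
    rw [this, Ideal.Quotient.eq_zero_iff_mem]
    exact hfq
  haveI : Algebra.IsAlgebraic (A ⧸ p) (A[X] ⧸ q) := by
    constructor
    intro y
    obtain ⟨g, rfl⟩ := φ_surjective p q y
    have hmem : φ p q g ∈ Algebra.adjoin (A ⧸ p) {Ideal.Quotient.mk q X} := by
      unfold φ
      exact Polynomial.aeval_mem_adjoin_singleton _ _
    exact (Algebra.isAlgebraic_adjoin_singleton_iff (R := A ⧸ p) (S := A[X] ⧸ q)
      (s := Ideal.Quotient.mk q X)).mpr hXalg _ hmem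
  exact _root_.trdeg_eq_zero

end Groth.Agent.Helper2.PolyTrdeg
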