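import Mathlib
import Groth.Prelude
import Groth.Agent.Helper2.PrimDec2

set_option autoImplicit false
set_option linter.unusedVariables false
open CategoryTheory CategoryTheory.Limits AlgebraicGeometry TopologicalSpace Topology Opposite
universe u

namespace Groth.Agent.Helper2.PrimDec

open Groth.Agent.Helper4

section
variable {X : Scheme.{u}} [IsLocallyNoetherian X] (M : X.Modules) (hM : Coh.IsCoh M)
  (hne : AssSch.NoEmbedded M)
  (G : ↥(AssSch.Ass M) → X.Modules) (q : ∀ x, M ⟶ G x) (hG : ∀ x, (G x).IsQuasicoherent)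
  (hA : ∀ x, AssSch.Ass (G x) = {x.1})
  (hm : ∀ (T : X.Modules) (a b : T ⟶ M), (∀ x, a ≫ q x = b ≫ q x) → a = b)

include hM hne hG hA hm in
theorem kernel_ι_comp_eq_zero (G' : ↥(AssSch.Ass M) → X.Modules) (q' : ∀ x, M ⟶ G' x)
    (hG' : ∀ x, (G' x).IsQuasicoherent) (hA' : ∀ x, AssSch.Ass (G' x) = {x.1})
    (x : ↥(AssSch.Ass M)) : kernel.ι (q x) ≫ q' x = 0 := by
  apply Scheme.Modules.hom_ext
  intro V
  ext k
  show (q' x).app V ((kernel.ι (q x)).app V k) = 0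
  apply app_eq_zero_of_app_eq_zero M hM hne G q hG hA hm G' q' hG' hA' x V
  have : (kernel.ι (q x) ≫ q x).app V k = 0 := by
    rw [kernel.condition]; rfl
  exact this

end

theorem s4683 {X : Scheme.{u}} [IsLocallyNoetherian X] (M : X.Modules)
    (hM : Coh.IsCoh M) (hne : AssSch.NoEmbedded M)
    (G G' : ↥(AssSch.Ass M) → X.Modules) (q : ∀ x, M ⟶ G x) (q' : ∀ x, M ⟶ G' x)
    (hq : ∀ x, Epi (q x)) (hq' : ∀ x, Epi (q' x)) (hG : ∀ x, Coh.IsCoh (G x))
    (hG' : ∀ x, Coh.IsCoh (G' x))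
    (hA : ∀ x, AssSch.Ass (G x) = {x.1}) (hA' : ∀ x, AssSch.Ass (G' x) = {x.1})
    (hm : ∀ (T : X.Modules) (a b : T ⟶ M), (∀ x, a ≫ q x = b ≫ q x) → a = b)
    (hm' : ∀ (T : X.Modules) (a b : T ⟶ M), (∀ x, a ≫ q' x = b ≫ q' x) → a = b)
    (x : ↥(AssSch.Ass M)) :
    ∃ e : G x ≅ G' x, q x ≫ e.hom = q' x := by
  haveI := hq x
  haveI := hq' x
  have h1 := kernel_ι_comp_eq_zero M hM hne G q (fun y => (hG y).1) hA hm G' q'
    (fun y => (hG' y).1) hA' x
  have h2 := kernel_ι_comp_eq_zero M hM hne G' q' (fun y => (hG' y).1) hA' hm' G q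
    (fun y => (hG y).1) hA x
  refine ⟨⟨Abelian.epiDesc (q x) (q' x) h1, Abelian.epiDesc (q' x) (q x) h2, ?_, ?_⟩, ?_⟩
  · rw [← cancel_epi (q x), Abelian.comp_epiDesc_assoc, Abelian.comp_epiDesc, Category.comp_id]
  · rw [← cancel_epi (q' x), Abelian.comp_epiDesc_assoc, Abelian.comp_epiDesc, Category.comp_id]
  · exact Abelian.comp_epiDesc _ _ _

end Groth.Agent.Helper2.PrimDec
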