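import Mathlib
import Groth.Prelude
import Groth.Agent.Helper2.CplQuot2
import Groth.Agent.Helper2.CplDesc
import Groth.Agent.Helper2.HensInt
import Groth.Agent.S2811
import Groth.Agent.S0600

set_option autoImplicit false
set_option linter.style.haveILetI false
set_option linter.unusedSectionVars false

/-!
# S13200: prime elements of an excellent henselian local ring stay prime in the completion
-/

namespace Groth.Agent.Helper2.PrimeCpl

universe u

open TensorProduct IsLocalRing

section main

variable (R : Type u) [CommRing R] [HenselianLocalRing R]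

theorem hasGeomNormalFormalFibres_of_isExcellent (hR : EGA4.IsExcellent R) :
    EGA4.HasGeomNormalFormalFibres R := by
  obtain ⟨hN, -, hG, -⟩ := hR
  haveI := hN
  have hreg := Groth.Agent.S0600.result R hG (maximalIdeal R)
  exact (Groth.Agent.Helper2.CplDesc.isNormalHom_of_isRegularHom _ _ hreg).2

theorem isPrime_map_of_isPrime (hR : EGA4.IsExcellent R) (I : Ideal R) [I.IsPrime] :
    (I.map (algebraMap R (EGA4.Cpl R))).IsPrime := by
  haveI := hR.1
  have hGN := hasGeomNormalFormalFibres_of_isExcellent R hR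
  haveI : IsDomain (R ⧸ I) := Ideal.Quotient.isDomain I
  haveI : HenselianLocalRing (R ⧸ I) :=
    Groth.Agent.Helper2.HensInt.henselianLocalRing_of_isIntegral R (R ⧸ I)
  have h1 := Groth.Agent.Helper2.CplQuot2.hasGeomNormalFormalFibres_quotient R I hGN
  haveI hd : IsDomain (EGA4.Cpl (R ⧸ I)) := Groth.Agent.S2811.result (R ⧸ I) h1
  obtain ⟨e⟩ := Groth.Agent.Helper2.CplQuot.nonempty_algEquiv R I
  let e' : (EGA4.Cpl R ⧸ I.map (algebraMap R (EGA4.Cpl R))) ≃+* EGA4.Cpl (R ⧸ I) :=
    ((Algebra.TensorProduct.quotIdealMapEquivTensorQuot (EGA4.Cpl R) I).toRingEquiv.trans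
      (Algebra.TensorProduct.comm R (EGA4.Cpl R) (R ⧸ I)).toRingEquiv).trans e.toRingEquiv
  haveI : IsDomain (EGA4.Cpl R ⧸ I.map (algebraMap R (EGA4.Cpl R))) :=
    e'.toMulEquiv.isDomain _
  exact (Ideal.Quotient.isDomain_iff_prime _).mp inferInstance

theorem s13200 (hR : EGA4.IsExcellent R) (Δ : R) :
    Prime Δ ↔ Prime (algebraMap R (AdicCompletion (IsLocalRing.maximalIdeal R) R) Δ) := by
  haveI := hR.1
  haveI : Module.Flat R (EGA4.Cpl R) := AdicCompletion.flat_of_isNoetherian (maximalIdeal R)
  haveI : Module.FaithfullyFlat R (EGA4.Cpl R) := Module.FaithfullyFlat.of_flat_of_isLocalHom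
  have hinj : Function.Injective (algebraMap R (EGA4.Cpl R)) :=
    FaithfulSMul.algebraMap_injective R (EGA4.Cpl R)
  have hmap : (Ideal.span {Δ}).map (algebraMap R (EGA4.Cpl R)) =
      Ideal.span {algebraMap R (EGA4.Cpl R) Δ} := by
    rw [Ideal.map_span, Set.image_singleton]
  constructor
  · intro hΔ
    haveI : (Ideal.span {Δ}).IsPrime := (Ideal.span_singleton_prime hΔ.ne_zero).2 hΔ
    have h1 := isPrime_map_of_isPrime R hR (Ideal.span {Δ})
    rw [hmap] at h1
    have hne : algebraMap R (EGA4.Cpl R) Δ ≠ 0 := by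
      intro h0
      apply hΔ.ne_zero
      apply hinj
      rw [h0, map_zero]
    exact (Ideal.span_singleton_prime hne).1 h1
  · intro hΔ
    have hne : Δ ≠ 0 := by
      rintro rfl
      exact hΔ.ne_zero (map_zero _)
    have h1 : (Ideal.span {algebraMap R (EGA4.Cpl R) Δ}).IsPrime :=
      (Ideal.span_singleton_prime hΔ.ne_zero).2 hΔ
    rw [← hmap] at h1
    have h2 : ((Ideal.span {Δ}).map (algebraMap R (EGA4.Cpl R))).comap
        (algebraMap R (EGA4.Cpl R)) = Ideal.span {Δ} :=
      Ideal.comap_map_eq_self_of_faithfullyFlat _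
    have h3 : (Ideal.span {Δ}).IsPrime := by
      rw [← h2]
      exact Ideal.comap_isPrime _ _
    exact (Ideal.span_singleton_prime hne).1 h3

end main

end Groth.Agent.Helper2.PrimeCpl
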