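import Mathlib
import Groth.Prelude
import Groth.Agent.Helper2.IndEtLiftH
import Groth.Agent.Helper4.ProEtBC

set_option autoImplicit false
universe u
open CategoryTheory CategoryTheory.Limits AlgebraicGeometry Opposite

namespace Groth.Agent.Helper2.ProEtCov

open Groth.Agent.Helper3.WEtale Groth.Agent.Helper2.IndEtLift

variable {X : Scheme.{u}}

/-- a weakly étale ring map gives a weakly étale morphism of spectra -/
theorem weaklyEtale_specMap {R S : Type u} [CommRing R] [CommRing S] [Algebra R S]
    [Algebra.WeaklyEtale R S] : WeaklyEtale (Spec.map (CommRingCat.ofHom (algebraMap R S))) :=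
  (weaklyEtale_SpecMap_iff _).mpr (WE_algebraMap_iff.mpr inferInstance)

theorem surjective_specMap {R S : Type u} [CommRing R] [CommRing S] [Algebra R S]
    [Module.FaithfullyFlat R S] : Surjective (Spec.map (CommRingCat.ofHom (algebraMap R S))) := by
  have h : (CommRingCat.ofHom (algebraMap R S)).hom.FaithfullyFlat :=
    (RingHom.faithfullyFlat_algebraMap_iff).mpr inferInstance
  exact ((flat_and_surjective_SpecMap_iff _).mpr h).2

/-- w-contractibility is invariant under ring isomorphisms -/
theorem isWContractible_of_ringEquiv {A A' : Type u} [CommRing A] [CommRing A'] (e : A ≃+* A')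
    (h : EtPBC.IsWContractible A) : EtPBC.IsWContractible A' := by
  intro B _ _ hff hwe
  haveI := hff
  haveI := hwe
  letI algAA' : Algebra A A' := e.toRingHom.toAlgebra
  letI algAB : Algebra A B := ((algebraMap A' B).comp e.toRingHom).toAlgebra
  haveI tow : IsScalarTower A A' B := IsScalarTower.of_algebraMap_eq fun _ => rfl
  let eA : A ≃ₐ[A] A' := { e with commutes' := fun _ => rfl }
  haveI : Algebra.Etale A A' := Algebra.Etale.of_equiv eA
  haveI : Algebra.WeaklyEtale A A' := inferInstance
  haveI : Module.FaithfullyFlat A A' := Module.FaithfullyFlat.of_linearEquiv A A eA.toLinearEquiv.symm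
  haveI : Module.FaithfullyFlat A B := Module.FaithfullyFlat.trans A A' B
  haveI : Algebra.WeaklyEtale A B := Algebra.WeaklyEtale.trans A A' B
  obtain ⟨r⟩ := h B inferInstance inferInstance
  refine ⟨{ toRingHom := e.toRingHom.comp r.toRingHom, commutes' := fun a' => ?_ }⟩
  show e (r (algebraMap A' B a')) = a'
  have h1 : algebraMap A' B a' = algebraMap A B (e.symm a') := by
    show _ = algebraMap A' B (e (e.symm a'))
    rw [e.apply_symm_apply]
  rw [h1, r.commutes]
  exact e.apply_symm_apply a'

section Cover

variable (U : X.ProEt)

/-- the ring of the `i`-th chart -/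
abbrev chartRing (i : U.left.affineCover.I₀) : Type u := Γ(U.left.affineCover.X i, ⊤)

/-- the w-contractible cover of the chart -/
abbrev chartHull (i : U.left.affineCover.I₀) : Type u :=
  Hull (chartRing U i) (Π x, AC (chartRing U i) x)

/-- the map from the spectrum of the hull to the chart -/
noncomputable def hullToChart (i : U.left.affineCover.I₀) :
    Spec (CommRingCat.of (chartHull U i)) ⟶ U.left.affineCover.X i :=
  Spec.map (CommRingCat.ofHom (algebraMap (chartRing U i) (chartHull U i))) ≫
    (U.left.affineCover.X i).isoSpec.inv

instance (i : U.left.affineCover.I₀) : WeaklyEtale (hullToChart U i) := by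
  haveI : Algebra.WeaklyEtale (chartRing U i) (chartHull U i) :=
    Groth.Agent.Lead.IndEtale.weaklyEtale_of_isIndEtale (isIndEtale_hull _ _)
  haveI := weaklyEtale_specMap (R := chartRing U i) (S := chartHull U i)
  unfold hullToChart
  infer_instance

instance (i : U.left.affineCover.I₀) : Surjective (hullToChart U i) := by
  haveI : Module.FaithfullyFlat (chartRing U i) (chartHull U i) := faithfullyFlat_hull_AC _
  haveI := surjective_specMap (R := chartRing U i) (S := chartHull U i)
  unfold hullToChart
  infer_instance

instance (i : U.left.affineCover.I₀) : QuasiCompact (hullToChart U i) := by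
  unfold hullToChart
  infer_instance

/-- the chart as an object of the pro-étale site -/
noncomputable def chartObj (i : U.left.affineCover.I₀) : X.ProEt :=
  Scheme.ProEt.mk (U.left.affineCover.f i ≫ U.hom)

noncomputable def chartHom (i : U.left.affineCover.I₀) : chartObj U i ⟶ U :=
  MorphismProperty.Over.homMk (U.left.affineCover.f i) rfl

/-- the w-contractible piece as an object of the pro-étale site -/
noncomputable def hullObj' (i : U.left.affineCover.I₀) : X.ProEt :=
  Scheme.ProEt.mk (hullToChart U i ≫ U.left.affineCover.f i ≫ U.hom)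

noncomputable def hullToChartHom (i : U.left.affineCover.I₀) : hullObj' U i ⟶ chartObj U i :=
  MorphismProperty.Over.homMk (hullToChart U i) rfl

noncomputable def hullHom (i : U.left.affineCover.I₀) : hullObj' U i ⟶ U :=
  hullToChartHom U i ≫ chartHom U i

set_option backward.isDefEq.respectTransparency.types false in
theorem chart_mem :
    Sieve.generate (Presieve.ofArrows (chartObj U) (chartHom U)) ∈ Scheme.ProEt.topology X U := by
  apply Precoverage.generate_mem_toGrothendieck
  rw [Scheme.ProEt.precoverage, Precoverage.mem_comap_iff, Presieve.map_ofArrows]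
  exact Scheme.zariskiPrecoverage_le_propQCPrecoverage _ (U.left.affineCover.mem₀)

set_option backward.isDefEq.respectTransparency.types false in
theorem hullToChart_mem (i : U.left.affineCover.I₀) :
    Sieve.generate (Presieve.singleton (hullToChartHom U i)) ∈
      Scheme.ProEt.topology X (chartObj U i) := by
  apply Precoverage.generate_mem_toGrothendieck
  rw [Scheme.ProEt.precoverage, Precoverage.mem_comap_iff, Presieve.map_singleton]
  exact Scheme.Hom.singleton_mem_propQCPrecoverage (f := hullToChart U i) inferInstance

theorem hull_mem :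
    Sieve.generate (Presieve.ofArrows (hullObj' U) (hullHom U)) ∈ Scheme.ProEt.topology X U := by
  refine (Scheme.ProEt.topology X).transitive (chart_mem U) _ ?_
  rintro Y f ⟨Z, k, _, ⟨i⟩, rfl⟩
  rw [Sieve.pullback_comp]
  apply (Scheme.ProEt.topology X).pullback_stable
  refine (Scheme.ProEt.topology X).superset_covering ?_ (hullToChart_mem U i)
  rw [Sieve.generate_le_iff]
  rintro _ _ ⟨⟩
  exact ⟨_, 𝟙 _, hullHom U i, ⟨i⟩, Category.id_comp _⟩

theorem main : ∃ (ι : Type u) (V : ι → X.ProEt) (g : ∀ i, V i ⟶ U),
      Sieve.generate (Presieve.ofArrows V g) ∈ Scheme.ProEt.topology X U ∧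
        ∀ i, IsAffine (V i).left ∧ EtPBC.IsWContractible ↥(Γ((V i).left, ⊤)) := by
  refine ⟨U.left.affineCover.I₀, hullObj' U, hullHom U, hull_mem U, fun i => ⟨?_, ?_⟩⟩
  · show IsAffine (Spec (CommRingCat.of (chartHull U i)))
    infer_instance
  · have h : EtPBC.IsWContractible (chartHull U i) :=
      isWContractible_of_hasIndEtaleRetractions _ (hasIndEtaleRetractions_hull _ _)
    exact isWContractible_of_ringEquiv
      (Scheme.ΓSpecIso (CommRingCat.of (chartHull U i))).symm.commRingCatIsoToRingEquiv h

end Cover

end Groth.Agent.Helper2.ProEtCov
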