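import Mathlib
import Groth.Prelude
import Groth.Agent.Helper2.ProEtCovA

set_option autoImplicit false
universe u
open CategoryTheory CategoryTheory.Limits AlgebraicGeometry Opposite

namespace Groth.Agent.Helper2.ProEtCov

open Groth.Agent.Helper3.WEtale

variable {X : Scheme.{u}}

section SpecOver

variable (U : X.ProEt) [IsAffine U.left] (B : Type u) [CommRing B] [Algebra Γ(U.left, ⊤) B]

/-- the structure map of the spectrum of an algebra over the ring of an affine object -/
noncomputable def specTo : Spec (CommRingCat.of B) ⟶ U.left :=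
  Spec.map (CommRingCat.ofHom (algebraMap Γ(U.left, ⊤) B)) ≫ U.left.isoSpec.inv

instance [Algebra.WeaklyEtale Γ(U.left, ⊤) B] : WeaklyEtale (specTo U B) := by
  haveI := weaklyEtale_specMap (R := Γ(U.left, ⊤)) (S := B)
  unfold specTo
  infer_instance

instance [Module.FaithfullyFlat Γ(U.left, ⊤) B] : Surjective (specTo U B) := by
  haveI := surjective_specMap (R := Γ(U.left, ⊤)) (S := B)
  unfold specTo
  infer_instance

instance : QuasiCompact (specTo U B) := by
  unfold specTo
  infer_instance

variable [Algebra.WeaklyEtale Γ(U.left, ⊤) B]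

/-- the spectrum of a weakly étale algebra as an object of the pro-étale site -/
noncomputable def specOver : X.ProEt := Scheme.ProEt.mk (specTo U B ≫ U.hom)

noncomputable def specOverHom : specOver U B ⟶ U :=
  MorphismProperty.Over.homMk (specTo U B) rfl

set_option backward.isDefEq.respectTransparency.types false in
theorem specOver_mem [Module.FaithfullyFlat Γ(U.left, ⊤) B] :
    Sieve.generate (Presieve.singleton (specOverHom U B)) ∈ Scheme.ProEt.topology X U := by
  apply Precoverage.generate_mem_toGrothendieck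
  rw [Scheme.ProEt.precoverage, Precoverage.mem_comap_iff, Presieve.map_singleton]
  exact Scheme.Hom.singleton_mem_propQCPrecoverage (f := specTo U B) inferInstance

omit [Algebra.WeaklyEtale Γ(U.left, ⊤) B] in
/-- a section of the structure map gives a retraction of the algebra -/
theorem nonempty_retraction_of_section (s : U.left ⟶ Spec (CommRingCat.of B))
    (hs : s ≫ specTo U B = 𝟙 _) : Nonempty (B →ₐ[Γ(U.left, ⊤)] Γ(U.left, ⊤)) := by
  let r : CommRingCat.of B ⟶ Γ(U.left, ⊤) := (Scheme.ΓSpecIso (CommRingCat.of B)).inv ≫ s.appTop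
  have hr : CommRingCat.ofHom (algebraMap Γ(U.left, ⊤) B) ≫ r = 𝟙 _ := by
    have h1 : (s ≫ specTo U B).appTop = 𝟙 _ := by rw [hs]; rfl
    rw [Scheme.Hom.comp_appTop] at h1
    have e1 : U.left.isoSpec.hom.appTop = (Scheme.ΓSpecIso Γ(U.left, ⊤)).hom := by
      simp [Scheme.isoSpec, Scheme.toSpecΓ_appTop]
    have e2 : U.left.isoSpec.hom.appTop ≫ U.left.isoSpec.inv.appTop = 𝟙 _ := by
      rw [← Scheme.Hom.comp_appTop, Iso.inv_hom_id]; rfl
    have e3 : U.left.isoSpec.inv.appTop = (Scheme.ΓSpecIso Γ(U.left, ⊤)).inv := by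
      rw [e1] at e2
      exact (Iso.eq_inv_comp _).mpr e2 |>.trans (Category.comp_id _)
    have h2 : (specTo U B).appTop =
        (Scheme.ΓSpecIso Γ(U.left, ⊤)).inv ≫
          (Spec.map (CommRingCat.ofHom (algebraMap Γ(U.left, ⊤) B))).appTop := by
      unfold specTo
      rw [Scheme.Hom.comp_appTop, e3]
    have h3 : (Scheme.ΓSpecIso Γ(U.left, ⊤)).inv ≫
        (Spec.map (CommRingCat.ofHom (algebraMap Γ(U.left, ⊤) B))).appTop ≫ s.appTop = 𝟙 _ := by
      rw [← Category.assoc, ← h2]
      exact h1
    show _ ≫ (Scheme.ΓSpecIso (CommRingCat.of B)).inv ≫ s.appTop = _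
    rw [← Category.assoc, Scheme.ΓSpecIso_inv_naturality, Category.assoc]
    exact h3
  refine ⟨{ toRingHom := r.hom, commutes' := fun a => ?_ }⟩
  have := congrArg (fun f => f.hom a) hr
  exact this

end SpecOver

section Section

/-- a surjective weakly étale morphism of affine schemes onto a scheme with w-contractible ring
of functions has a section -/
theorem exists_section_of_isWContractible {S Z : Scheme.{u}} [IsAffine S] [IsAffine Z]
    (σ : Z ⟶ S) [WeaklyEtale σ] [Surjective σ] (hS : EtPBC.IsWContractible Γ(S, ⊤)) :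
    ∃ s : S ⟶ Z, s ≫ σ = 𝟙 S := by
  letI alg : Algebra Γ(S, ⊤) Γ(Z, ⊤) := σ.appTop.hom.toAlgebra
  have hff : Module.FaithfullyFlat Γ(S, ⊤) Γ(Z, ⊤) := by
    have h : σ.appTop.hom.FaithfullyFlat :=
      (Flat.flat_and_surjective_iff_faithfullyFlat_of_isAffine σ).mp ⟨inferInstance, inferInstance⟩
    exact h
  have hwe : Algebra.WeaklyEtale Γ(S, ⊤) Γ(Z, ⊤) := by
    have h : WE σ.appTop.hom := HasRingHomProperty.appTop (P := @WeaklyEtale) σ inferInstance
    exact (WE_iff _).mp h
  obtain ⟨r⟩ := hS Γ(Z, ⊤) hff hwe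
  have hr : σ.appTop ≫ CommRingCat.ofHom r.toRingHom = 𝟙 _ := by
    ext a
    exact r.commutes a
  refine ⟨S.isoSpec.hom ≫ Spec.map (CommRingCat.ofHom r.toRingHom) ≫ Z.isoSpec.inv, ?_⟩
  rw [Category.assoc, Category.assoc, ← Scheme.isoSpec_inv_naturality σ, ← Category.assoc (Spec.map _),
    ← Spec.map_comp, hr, Spec.map_id, Category.id_comp, Iso.hom_inv_id]

end Section

end Groth.Agent.Helper2.ProEtCov
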