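import Mathlib
import Groth.Prelude
import Groth.Agent.Helper2.ProEtCovB

set_option autoImplicit false
universe u
open CategoryTheory CategoryTheory.Limits AlgebraicGeometry Opposite

namespace Groth.Agent.Helper2.ProEtCov

open Groth.Agent.Helper3.WEtale

variable {X : Scheme.{u}}

set_option backward.isDefEq.respectTransparency.types false in
instance (S : Scheme.{u}) : (Scheme.ProEt.precoverage S).IsStableUnderComposition := by
  unfold Scheme.ProEt.precoverage
  infer_instance

set_option backward.isDefEq.respectTransparency.types false in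
instance (S : Scheme.{u}) : (Scheme.ProEt.precoverage S).HasIsos := by
  unfold Scheme.ProEt.precoverage
  infer_instance

set_option backward.isDefEq.respectTransparency.types false in
/-- every covering sieve of an affine object contains finitely many arrows whose affine open
pieces jointly cover -/
theorem exists_finite_affine_refinement (U : X.ProEt) [IsAffine U.left] (R : Sieve U)
    (hR : R ∈ Scheme.ProEt.topology X U) :
    ∃ (n : ℕ) (Y : Fin n → X.ProEt) (g : ∀ k, Y k ⟶ U) (V : ∀ k, (Y k).left.Opens),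
      (∀ k, R.arrows (g k)) ∧ (∀ k, IsAffineOpen (V k)) ∧
        (⋃ k, (g k).left '' (V k : Set (Y k).left)) = Set.univ := by
  obtain ⟨R₀, hR₀, hle⟩ := (Precoverage.mem_toGrothendieck_iff_of_isStableUnderComposition).mp hR
  rw [Precoverage.mem_iff_exists_zeroHypercover] at hR₀
  obtain ⟨E, rfl⟩ := hR₀
  have h1 : E.presieve₀.map (Scheme.ProEt.forget X ⋙ Over.forget X) ∈
      Scheme.proetalePrecoverage U.left := E.mem₀
  let 𝒱 : PreZeroHypercover U.left :=
    { I₀ := E.I₀, X := fun i => (E.X i).left, f := fun i => (E.f i).left }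
  have h2 : 𝒱.presieve₀ ∈ Scheme.qcPrecoverage U.left := by
    have h3 := h1.1
    rw [PreZeroHypercover.presieve₀, Presieve.map_ofArrows] at h3
    exact h3
  haveI : QuasiCompactCover 𝒱 := Scheme.presieve₀_mem_qcPrecoverage_iff.mp h2
  obtain ⟨n, f, V, hV, hcov⟩ := QuasiCompactCover.exists_isAffineOpen_of_isCompact 𝒱
    (U := ⊤) isCompact_univ
  refine ⟨n, fun k => E.X (f k), fun k => E.f (f k), V, fun k => hle _ _ (Presieve.ofArrows.mk (f k)), hV, ?_⟩
  exact hcov

/-- the underlying morphism of schemes of a morphism of the pro-étale site is weakly étale -/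
theorem weaklyEtale_left {U V : X.ProEt} (g : V ⟶ U) : WeaklyEtale g.left := by
  haveI : WeaklyEtale (g.left ≫ U.hom) := by
    rw [MorphismProperty.Over.w g]
    infer_instance
  exact WeaklyEtale.of_comp g.left U.hom

/-- over an affine object with w-contractible ring, every covering sieve contains a finite clopen
decomposition -/
theorem exists_clopen_decomposition (U : X.ProEt) [IsAffine U.left]
    (hU : EtPBC.IsWContractible ↥(Γ(U.left, ⊤))) (R : Sieve U)
    (hR : R ∈ Scheme.ProEt.topology X U) :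
    ∃ (n : ℕ) (W : Fin n → U.left.Opens),
      (∀ k, IsClopen ((W k : Set ↥U.left))) ∧
      Pairwise (fun k l => Disjoint (W k : Set ↥U.left) (W l)) ∧
      (⋃ k, (W k : Set ↥U.left)) = Set.univ ∧
      ∀ k, R.arrows (MorphismProperty.Over.homMk (W k).ι :
        Scheme.ProEt.mk ((W k).ι ≫ U.hom) ⟶ U) := by
  obtain ⟨n, Y, g, V, hgR, hV, hcov⟩ := exists_finite_affine_refinement U R hR
  let Zf : Fin n → Scheme.{u} := fun k => (V k : Scheme.{u})
  haveI : ∀ k, IsAffine (Zf k) := fun k => hV k
  let a : ∀ k, Zf k ⟶ U.left := fun k => (V k).ι ≫ (g k).left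
  haveI : ∀ k, WeaklyEtale (g k).left := fun k => weaklyEtale_left (g k)
  haveI : ∀ k, WeaklyEtale (a k) := fun k => inferInstance
  let σ : (∐ Zf) ⟶ U.left := Sigma.desc a
  haveI : WeaklyEtale σ := IsZariskiLocalAtSource.sigmaDesc (fun k => inferInstance)
  haveI : Surjective σ := by
    apply Surjective.sigmaDesc_of_union_range_eq_univ
    rw [← hcov]
    congr 1
    funext k
    show Set.range ((V k).ι ≫ (g k).left) = _
    rw [Scheme.Hom.comp_base, TopCat.coe_comp, Set.range_comp, Scheme.Opens.range_ι]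
  obtain ⟨s, hs⟩ := exists_section_of_isWContractible σ hU
  let W : Fin n → U.left.Opens := fun k => s ⁻¹ᵁ (Sigma.ι Zf k).opensRange
  have hdisj : Pairwise (fun k l => Disjoint (W k : Set ↥U.left) (W l)) := by
    intro k l hkl
    have h := disjoint_opensRange_sigmaι Zf k l hkl
    rw [Set.disjoint_left]
    intro x hxk hxl
    have : s x ∈ (Sigma.ι Zf k).opensRange ⊓ (Sigma.ι Zf l).opensRange := ⟨hxk, hxl⟩
    rw [h.eq_bot] at this
    exact this
  have hcover : (⋃ k, (W k : Set ↥U.left)) = Set.univ := by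
    rw [Set.eq_univ_iff_forall]
    intro x
    obtain ⟨k, y, hy⟩ := (sigmaOpenCover Zf).exists_eq (s x)
    exact Set.mem_iUnion.mpr ⟨k, ⟨y, hy⟩⟩
  refine ⟨n, W, fun k => ⟨?_, (W k).2⟩, hdisj, hcover, fun k => ?_⟩
  · rw [← isOpen_compl_iff]
    have : ((W k : Set ↥U.left))ᶜ = ⋃ l ∈ {l | l ≠ k}, (W l : Set ↥U.left) := by
      ext x
      simp only [Set.mem_compl_iff, Set.mem_iUnion, Set.mem_setOf_eq, exists_prop]
      constructor
      · intro hx
        have hx' : x ∈ ⋃ k, (W k : Set ↥U.left) := hcover ▸ Set.mem_univ x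
        obtain ⟨l, hl⟩ := Set.mem_iUnion.mp hx'
        exact ⟨l, fun h => hx (h ▸ hl), hl⟩
      · rintro ⟨l, hlk, hl⟩ hxk
        exact Set.disjoint_left.mp (hdisj hlk) hl hxk
    rw [this]
    exact isOpen_biUnion fun l _ => (W l).2
  · have hrange : Set.range ((W k).ι ≫ s) ⊆ Set.range (Sigma.ι Zf k) := by
      rintro _ ⟨x, rfl⟩
      exact x.2
    let t : (W k : Scheme.{u}) ⟶ (Y k).left :=
      IsOpenImmersion.lift (Sigma.ι Zf k) ((W k).ι ≫ s) hrange ≫ (V k).ι
    have ht : t ≫ (g k).left = (W k).ι := by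
      show (IsOpenImmersion.lift (Sigma.ι Zf k) ((W k).ι ≫ s) hrange ≫ (V k).ι) ≫ (g k).left = _
      have h1 : (V k).ι ≫ (g k).left = Sigma.ι Zf k ≫ σ := (Sigma.ι_desc a k).symm
      rw [Category.assoc, h1, ← Category.assoc, IsOpenImmersion.lift_fac, Category.assoc, hs,
        Category.comp_id]
    let T : Scheme.ProEt.mk ((W k).ι ≫ U.hom) ⟶ Y k :=
      MorphismProperty.Over.homMk t (by
        show t ≫ (Y k).hom = (W k).ι ≫ U.hom
        rw [← MorphismProperty.Over.w (g k), ← Category.assoc, ht])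
    have hT : (MorphismProperty.Over.homMk (W k).ι :
        Scheme.ProEt.mk ((W k).ι ≫ U.hom) ⟶ U) = T ≫ g k := by
      apply MorphismProperty.Over.Hom.ext
      exact ht.symm
    rw [hT]
    exact R.downward_closed (hgR k) T

end Groth.Agent.Helper2.ProEtCov
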