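import Mathlib
import Groth.Prelude
import Groth.Agent.Helper2.ProEtCovC

set_option autoImplicit false
universe u
open CategoryTheory CategoryTheory.Limits AlgebraicGeometry Opposite

namespace Groth.Agent.Helper2.ProEtCov

open Groth.Agent.Helper3.WEtale

variable {X : Scheme.{u}}

/-- gluing morphisms along a finite decomposition into pairwise disjoint opens -/
theorem exists_glue_of_disjoint {S T : Scheme.{u}} {n : ℕ} (W : Fin n → S.Opens)
    (hdisj : Pairwise (fun k l => Disjoint (W k : Set ↥S) (W l)))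
    (hcover : (⋃ k, (W k : Set ↥S)) = Set.univ)
    (t : ∀ k, (W k : Scheme.{u}) ⟶ T) :
    ∃ s : S ⟶ T, ∀ k, (W k).ι ≫ s = t k := by
  have hW : TopologicalSpace.IsOpenCover W := by
    apply TopologicalSpace.IsOpenCover.mk
    apply SetLike.coe_injective
    rw [TopologicalSpace.Opens.coe_iSup, hcover]
    rfl
  let 𝒲 := S.openCoverOfIsOpenCover W hW
  have compat : ∀ k l, pullback.fst (𝒲.f k) (𝒲.f l) ≫ t k = pullback.snd _ _ ≫ t l := by
    intro k l
    by_cases hkl : k = l
    · subst hkl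
      have : pullback.fst (𝒲.f k) (𝒲.f k) = pullback.snd (𝒲.f k) (𝒲.f k) := by
        rw [← cancel_mono (𝒲.f k)]
        exact pullback.condition
      exact congrArg (· ≫ t k) this
    · haveI : IsEmpty ↑(pullback (𝒲.f k) (𝒲.f l)) := by
        refine ⟨fun z => ?_⟩
        have h1 : (pullback.fst (𝒲.f k) (𝒲.f l) ≫ 𝒲.f k) z ∈ (W k : Set ↥S) :=
          ((pullback.fst (𝒲.f k) (𝒲.f l)) z).2
        have h2 : (pullback.fst (𝒲.f k) (𝒲.f l) ≫ 𝒲.f k) z ∈ (W l : Set ↥S) := by
          rw [pullback.condition]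
          exact ((pullback.snd (𝒲.f k) (𝒲.f l)) z).2
        exact Set.disjoint_left.mp (hdisj hkl) h1 h2
      exact (isInitialOfIsEmpty (X := pullback (𝒲.f k) (𝒲.f l))).hom_ext _ _
  exact ⟨𝒲.glueMorphisms t compat, fun k => 𝒲.ι_glueMorphisms t compat k⟩

/-- the converse: if every covering sieve contains a clopen decomposition, the ring is
w-contractible -/
theorem isWContractible_of_clopen_refinement (U : X.ProEt) [IsAffine U.left]
    (h : ∀ R ∈ Scheme.ProEt.topology X U, ∃ (n : ℕ) (W : Fin n → U.left.Opens),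
      (∀ k, IsClopen ((W k : Set ↥U.left))) ∧
      Pairwise (fun k l => Disjoint (W k : Set ↥U.left) (W l)) ∧
      (⋃ k, (W k : Set ↥U.left)) = Set.univ ∧
      ∀ k, R.arrows (MorphismProperty.Over.homMk (W k).ι :
        Scheme.ProEt.mk ((W k).ι ≫ U.hom) ⟶ U)) :
    EtPBC.IsWContractible ↥(Γ(U.left, ⊤)) := by
  intro B _ _ hff hwe
  haveI := hff
  haveI := hwe
  obtain ⟨n, W, -, hdisj, hcover, hR⟩ := h _ (specOver_mem U B)
  have hk : ∀ k, ∃ t : (W k : Scheme.{u}) ⟶ Spec (CommRingCat.of B),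
      t ≫ specTo U B = (W k).ι := by
    intro k
    obtain ⟨Y, h', g, hg, hcomp⟩ := hR k
    cases hg
    exact ⟨h'.left, congrArg (fun m => m.left) hcomp⟩
  choose t ht using hk
  obtain ⟨s, hs⟩ := exists_glue_of_disjoint W hdisj hcover t
  obtain ⟨s', hs'⟩ := exists_glue_of_disjoint W hdisj hcover (fun k => (W k).ι)
  have huniq : ∀ f₁ f₂ : U.left ⟶ U.left, (∀ k, (W k).ι ≫ f₁ = (W k).ι ≫ f₂) → f₁ = f₂ := by
    intro f₁ f₂ hf
    have hW : TopologicalSpace.IsOpenCover W := by
      apply TopologicalSpace.IsOpenCover.mk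
      apply SetLike.coe_injective
      rw [TopologicalSpace.Opens.coe_iSup, hcover]
      rfl
    exact (U.left.openCoverOfIsOpenCover W hW).hom_ext f₁ f₂ hf
  have hsec : s ≫ specTo U B = 𝟙 _ := by
    apply huniq
    intro k
    rw [← Category.assoc, hs, ht, Category.comp_id]
  exact nonempty_retraction_of_section U B s hsec

theorem s0757 (U : X.ProEt) [IsAffine U.left] :
    EtPBC.IsWContractible ↥(Γ(U.left, ⊤)) ↔
      ∀ R ∈ Scheme.ProEt.topology X U, ∃ (n : ℕ) (W : Fin n → U.left.Opens),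
        (∀ k, IsClopen ((W k : Set ↥U.left))) ∧
        Pairwise (fun k l => Disjoint (W k : Set ↥U.left) (W l)) ∧
        (⋃ k, (W k : Set ↥U.left)) = Set.univ ∧
        ∀ k, R.arrows (MorphismProperty.Over.homMk (W k).ι :
          Scheme.ProEt.mk ((W k).ι ≫ U.hom) ⟶ U) :=
  ⟨fun h R hR => exists_clopen_decomposition U h R hR, isWContractible_of_clopen_refinement U⟩

end Groth.Agent.Helper2.ProEtCov
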