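import Mathlib
import Groth.Prelude
import Groth.Agent.Helper2.ProEtCovD

set_option autoImplicit false
universe u
open CategoryTheory CategoryTheory.Limits AlgebraicGeometry Opposite

namespace Groth.Agent.Helper2.ProEtCov

open Groth.Agent.Helper3.WEtale

variable {X : Scheme.{u}}

theorem isWContractible_of_isWC (U : X.ProEt) [IsAffine U.left] (h : ProEtS.IsWC U) :
    EtPBC.IsWContractible ↥(Γ(U.left, ⊤)) := by
  intro B _ _ hff hwe
  haveI := hff
  haveI := hwe
  let F := (GrothendieckTopology.uliftYoneda.{u+1} (Scheme.ProEt.topology X)).obj (specOver U B)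
  let G := (GrothendieckTopology.uliftYoneda.{u+1} (Scheme.ProEt.topology X)).obj U
  let φ : F ⟶ G :=
    (GrothendieckTopology.uliftYoneda.{u+1} (Scheme.ProEt.topology X)).map (specOverHom U B)
  haveI : Sheaf.IsLocallySurjective φ := by
    constructor
    intro V s
    refine (Scheme.ProEt.topology X).superset_covering ?_
      ((Scheme.ProEt.topology X).pullback_stable s.down (specOver_mem U B))
    intro W g hg
    obtain ⟨Y, k, g', hg', hcomp⟩ := hg
    cases hg'
    exact ⟨⟨k⟩, congrArg ULift.up hcomp⟩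
  have hepi : Epi φ := inferInstance
  obtain ⟨⟨k⟩, hk⟩ := h F G φ hepi ⟨𝟙 U⟩
  have hk' : k ≫ specOverHom U B = 𝟙 U := congrArg ULift.down hk
  exact nonempty_retraction_of_section U B k.left (congrArg (fun m => m.left) hk')

section Glue

variable (U : X.ProEt) {n : ℕ} (W : Fin n → U.left.Opens)

/-- the open piece as an object of the pro-étale site -/
noncomputable def pieceObj (k : Fin n) : X.ProEt := Scheme.ProEt.mk ((W k).ι ≫ U.hom)

noncomputable def pieceHom (k : Fin n) : pieceObj U W k ⟶ U :=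
  MorphismProperty.Over.homMk (W k).ι rfl

set_option backward.isDefEq.respectTransparency.types false in
theorem piece_mem (hcover : (⋃ k, (W k : Set ↥U.left)) = Set.univ) :
    Sieve.generate (Presieve.ofArrows (pieceObj U W) (pieceHom U W)) ∈
      Scheme.ProEt.topology X U := by
  have hW : TopologicalSpace.IsOpenCover W := by
    apply TopologicalSpace.IsOpenCover.mk
    apply SetLike.coe_injective
    rw [TopologicalSpace.Opens.coe_iSup, hcover]
    rfl
  apply Precoverage.generate_mem_toGrothendieck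
  rw [Scheme.ProEt.precoverage, Precoverage.mem_comap_iff, Presieve.map_ofArrows]
  exact Scheme.zariskiPrecoverage_le_propQCPrecoverage _
    ((U.left.openCoverOfIsOpenCover W hW).mem₀)

/-- sections of a sheaf of types over an empty object form a subsingleton -/
theorem subsingleton_of_isEmpty (F : Sheaf (Scheme.ProEt.topology X) (Type (u + 1)))
    (Z : X.ProEt) [IsEmpty Z.left] : Subsingleton (F.obj.obj (op Z)) := by
  have hF : Presieve.IsSheaf (Scheme.ProEt.topology X) F.obj :=
    (isSheaf_iff_isSheaf_of_type _ _).1 F.property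
  have h := (hF.isSheafFor (⊥ : Presieve Z)
    (by rw [Sieve.generate_bot]; exact Scheme.ProEt.bot_mem_topology Z)).isSeparatedFor
  refine ⟨fun a b => ?_⟩
  exact h.ext (fun Y f hf => False.elim hf)

theorem pieceHom_mono {k : Fin n} {Z : X.ProEt} (g₁ g₂ : Z ⟶ pieceObj U W k)
    (h : g₁ ≫ pieceHom U W k = g₂ ≫ pieceHom U W k) : g₁ = g₂ := by
  apply MorphismProperty.Over.Hom.ext
  have h' : g₁.left ≫ (W k).ι = g₂.left ≫ (W k).ι := congrArg (fun m => m.left) h
  exact (cancel_mono (W k).ι).mp h'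

theorem isEmpty_of_ne (hdisj : Pairwise (fun k l => Disjoint (W k : Set ↥U.left) (W l)))
    {k l : Fin n} (hkl : k ≠ l) {Z : X.ProEt} (g₁ : Z ⟶ pieceObj U W k)
    (g₂ : Z ⟶ pieceObj U W l) (h : g₁ ≫ pieceHom U W k = g₂ ≫ pieceHom U W l) :
    IsEmpty Z.left := by
  refine ⟨fun z => ?_⟩
  have h' : g₁.left ≫ (W k).ι = g₂.left ≫ (W l).ι := congrArg (fun m => m.left) h
  have h1 : (g₁.left ≫ (W k).ι) z ∈ (W k : Set ↥U.left) := (g₁.left z).2
  have h2 : (g₁.left ≫ (W k).ι) z ∈ (W l : Set ↥U.left) := by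
    rw [h']
    exact (g₂.left z).2
  exact Set.disjoint_left.mp (hdisj hkl) h1 h2

end Glue

theorem isWC_of_isWContractible (U : X.ProEt) [IsAffine U.left]
    (hU : EtPBC.IsWContractible ↥(Γ(U.left, ⊤))) : ProEtS.IsWC U := by
  intro F G φ hφ s
  haveI : Sheaf.IsLocallySurjective φ := (Sheaf.isLocallySurjective_iff_epi φ).mpr hφ
  have hR : Presheaf.imageSieve φ.hom s ∈ Scheme.ProEt.topology X U :=
    Presheaf.imageSieve_mem _ φ.hom s
  obtain ⟨n, W, -, hdisj, hcover, harr⟩ := exists_clopen_decomposition U hU _ hR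
  have harr' : ∀ k, ∃ t : F.obj.obj (op (pieceObj U W k)),
      φ.hom.app (op (pieceObj U W k)) t = G.obj.map (pieceHom U W k).op s := harr
  choose t ht using harr'
  have hF : Presieve.IsSheaf (Scheme.ProEt.topology X) F.obj :=
    (isSheaf_iff_isSheaf_of_type _ _).1 F.property
  have hG : Presieve.IsSheaf (Scheme.ProEt.topology X) G.obj :=
    (isSheaf_iff_isSheaf_of_type _ _).1 G.property
  have hmem := piece_mem U W hcover
  have hFs : Presieve.IsSheafFor F.obj (Presieve.ofArrows (pieceObj U W) (pieceHom U W)) :=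
    hF.isSheafFor _ hmem
  rw [Presieve.isSheafFor_arrows_iff] at hFs
  have hcompat : Presieve.Arrows.Compatible F.obj (pieceHom U W) t := by
    intro k l Z g₁ g₂ hg
    by_cases hkl : k = l
    · subst hkl
      rw [pieceHom_mono U W g₁ g₂ hg]
    · haveI := isEmpty_of_ne U W hdisj hkl g₁ g₂ hg
      haveI := subsingleton_of_isEmpty F Z
      exact Subsingleton.elim _ _
  obtain ⟨t₀, ht₀, -⟩ := hFs t hcompat
  refine ⟨t₀, ?_⟩
  have hGs : Presieve.IsSeparatedFor G.obj (Presieve.ofArrows (pieceObj U W) (pieceHom U W)) :=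
    (hG.isSheafFor _ hmem).isSeparatedFor
  apply hGs.ext
  rintro _ _ ⟨k⟩
  have hnat := FunctorToTypes.naturality φ.hom (pieceHom U W k).op t₀
  show G.obj.map (pieceHom U W k).op (φ.hom.app (op U) t₀) = G.obj.map (pieceHom U W k).op s
  rw [← ht k, ← ht₀ k]
  exact hnat.symm

theorem s0715 (U : X.ProEt) [IsAffine U.left] :
    EtPBC.IsWContractible ↥(Γ(U.left, ⊤)) ↔ ProEtS.IsWC U :=
  ⟨isWC_of_isWContractible U, isWContractible_of_isWC U⟩

end Groth.Agent.Helper2.ProEtCov
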