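import Mathlib
import Groth.Prelude
import Groth.Agent.Helper2.ProEtCovE

set_option autoImplicit false
universe u
open CategoryTheory CategoryTheory.Limits AlgebraicGeometry Opposite

namespace Groth.Agent.Helper2.ProEtCov

open Groth.Agent.Helper3.WEtale Groth.Agent.Helper2.IndEtLift

variable {X : Scheme.{u}}

/-- lifting a section through a morphism of sheaves, locally on a disjoint cover -/
theorem exists_lift_of_disjoint_cover {V : X.ProEt} {ι : Type*} (Y : ι → X.ProEt)
    (π : ∀ i, Y i ⟶ V)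
    (hmem : Sieve.generate (Presieve.ofArrows Y π) ∈ Scheme.ProEt.topology X V)
    (hmono : ∀ i (Z : X.ProEt) (g₁ g₂ : Z ⟶ Y i), g₁ ≫ π i = g₂ ≫ π i → g₁ = g₂)
    (hdisj : ∀ i j, i ≠ j → ∀ (Z : X.ProEt) (g₁ : Z ⟶ Y i) (g₂ : Z ⟶ Y j),
      g₁ ≫ π i = g₂ ≫ π j → IsEmpty Z.left)
    {F G : Sheaf (Scheme.ProEt.topology X) (Type (u + 1))} (φ : F ⟶ G) (s : G.obj.obj (op V))
    (hloc : ∀ i, ∃ t : F.obj.obj (op (Y i)), φ.hom.app (op (Y i)) t = G.obj.map (π i).op s) :
    ∃ t₀ : F.obj.obj (op V), φ.hom.app (op V) t₀ = s := by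
  classical
  choose t ht using hloc
  have hF : Presieve.IsSheaf (Scheme.ProEt.topology X) F.obj :=
    (isSheaf_iff_isSheaf_of_type _ _).1 F.property
  have hG : Presieve.IsSheaf (Scheme.ProEt.topology X) G.obj :=
    (isSheaf_iff_isSheaf_of_type _ _).1 G.property
  have hFs : Presieve.IsSheafFor F.obj (Presieve.ofArrows Y π) := hF.isSheafFor _ hmem
  rw [Presieve.isSheafFor_arrows_iff] at hFs
  have hcompat : Presieve.Arrows.Compatible F.obj π t := by
    intro k l Z g₁ g₂ hg
    by_cases hkl : k = l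
    · subst hkl
      rw [hmono k Z g₁ g₂ hg]
    · haveI := hdisj k l hkl Z g₁ g₂ hg
      haveI := subsingleton_of_isEmpty F Z
      exact Subsingleton.elim _ _
  obtain ⟨t₀, ht₀, -⟩ := hFs t hcompat
  refine ⟨t₀, ?_⟩
  have hGs : Presieve.IsSeparatedFor G.obj (Presieve.ofArrows Y π) :=
    (hG.isSheafFor _ hmem).isSeparatedFor
  apply hGs.ext
  rintro _ _ ⟨k⟩
  have hnat := FunctorToTypes.naturality φ.hom (π k).op t₀
  show G.obj.map (π k).op (φ.hom.app (op V) t₀) = G.obj.map (π k).op s
  rw [← ht k, ← ht₀ k]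
  exact hnat.symm

section Sigma

variable {ι : Type u} (Y : ι → X.ProEt)

/-- the coproduct of a family of objects of the pro-étale site -/
noncomputable def sigmaObj : X.ProEt :=
  haveI : WeaklyEtale (Sigma.desc (fun i => (Y i).hom)) :=
    IsZariskiLocalAtSource.sigmaDesc (fun i => inferInstance)
  Scheme.ProEt.mk (Sigma.desc (fun i => (Y i).hom))

noncomputable def sigmaInc (i : ι) : Y i ⟶ sigmaObj Y :=
  MorphismProperty.Over.homMk (Sigma.ι (fun i => (Y i).left) i) (Sigma.ι_desc _ _)

noncomputable def sigmaDescHom {U : X.ProEt} (g : ∀ i, Y i ⟶ U) : sigmaObj Y ⟶ U :=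
  MorphismProperty.Over.homMk (Sigma.desc (fun i => (g i).left)) (by
    apply Sigma.hom_ext
    intro i
    have h1 : Sigma.ι (fun i => (Y i).left) i ≫ Sigma.desc (fun i => (g i).left) = (g i).left :=
      Sigma.ι_desc _ _
    have h2 : Sigma.ι (fun i => (Y i).left) i ≫ Sigma.desc (fun i => (Y i).hom) = (Y i).hom :=
      Sigma.ι_desc _ _
    calc Sigma.ι (fun i => (Y i).left) i ≫ Sigma.desc (fun i => (g i).left) ≫ U.hom
        = (Sigma.ι (fun i => (Y i).left) i ≫ Sigma.desc (fun i => (g i).left)) ≫ U.hom :=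
          (Category.assoc _ _ _).symm
      _ = (g i).left ≫ U.hom := by rw [h1]
      _ = (Y i).hom := MorphismProperty.Over.w (g i)
      _ = _ := h2.symm)

theorem sigmaInc_desc {U : X.ProEt} (g : ∀ i, Y i ⟶ U) (i : ι) :
    sigmaInc Y i ≫ sigmaDescHom Y g = g i := by
  apply MorphismProperty.Over.Hom.ext
  exact Sigma.ι_desc _ _

set_option backward.isDefEq.respectTransparency.types false in
theorem sigmaInc_mem :
    Sieve.generate (Presieve.ofArrows Y (sigmaInc Y)) ∈
      Scheme.ProEt.topology X (sigmaObj Y) := by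
  apply Precoverage.generate_mem_toGrothendieck
  rw [Scheme.ProEt.precoverage, Precoverage.mem_comap_iff, Presieve.map_ofArrows]
  exact Scheme.zariskiPrecoverage_le_propQCPrecoverage _
    ((sigmaOpenCover (fun i => (Y i).left)).mem₀)

theorem sigmaDescHom_mem {U : X.ProEt} (g : ∀ i, Y i ⟶ U)
    (hg : Sieve.generate (Presieve.ofArrows Y g) ∈ Scheme.ProEt.topology X U) :
    Sieve.generate (Presieve.singleton (sigmaDescHom Y g)) ∈ Scheme.ProEt.topology X U := by
  refine (Scheme.ProEt.topology X).superset_covering ?_ hg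
  rw [Sieve.generate_le_iff]
  intro Z f hf
  have key : ∀ i, (Sieve.generate (Presieve.singleton (sigmaDescHom Y g))).arrows (g i) :=
    fun i => ⟨sigmaObj Y, sigmaInc Y i, sigmaDescHom Y g, Presieve.singleton.mk,
      sigmaInc_desc Y g i⟩
  obtain ⟨i⟩ := hf
  exact key i

/-- a coproduct of weakly contractible objects is weakly contractible -/
theorem isWC_sigmaObj (h : ∀ i, ProEtS.IsWC (Y i)) : ProEtS.IsWC (sigmaObj Y) := by
  intro F G φ hφ s
  refine exists_lift_of_disjoint_cover Y (sigmaInc Y) (sigmaInc_mem Y) ?_ ?_ φ s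
    (fun i => h i F G φ hφ _)
  · intro i Z g₁ g₂ hg
    apply MorphismProperty.Over.Hom.ext
    have h' : g₁.left ≫ Sigma.ι (fun i => (Y i).left) i =
        g₂.left ≫ Sigma.ι (fun i => (Y i).left) i :=
      congrArg (fun m => m.left) hg
    exact (cancel_mono (Sigma.ι (fun i => (Y i).left) i)).mp h'
  · intro i j hij Z g₁ g₂ hg
    have h' : g₁.left ≫ Sigma.ι (fun i => (Y i).left) i =
        g₂.left ≫ Sigma.ι (fun i => (Y i).left) j :=
      congrArg (fun m => m.left) hg
    exact isEmpty_of_commSq_sigmaι_of_ne ⟨h'⟩ hij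

end Sigma

/-- every object of the pro-étale site is covered by a single weakly contractible object -/
theorem s0713 (U : X.ProEt) :
    ∃ (V : X.ProEt) (g : V ⟶ U),
      Sieve.generate (Presieve.singleton g) ∈ Scheme.ProEt.topology X U ∧ ProEtS.IsWC V := by
  refine ⟨sigmaObj (hullObj' U), sigmaDescHom _ (hullHom U),
    sigmaDescHom_mem _ _ (hull_mem U), isWC_sigmaObj _ (fun i => ?_)⟩
  haveI : IsAffine (hullObj' U i).left := by
    show IsAffine (Spec (CommRingCat.of (chartHull U i)))
    infer_instance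
  apply isWC_of_isWContractible
  have h : EtPBC.IsWContractible (chartHull U i) :=
    isWContractible_of_hasIndEtaleRetractions _ (hasIndEtaleRetractions_hull _ _)
  exact isWContractible_of_ringEquiv
    (Scheme.ΓSpecIso (CommRingCat.of (chartHull U i))).symm.commRingCatIsoToRingEquiv h

end Groth.Agent.Helper2.ProEtCov
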