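import Mathlib
import Groth.Prelude
import Groth.Agent.Helper2.ProEtCovF

set_option autoImplicit false
universe u
open CategoryTheory CategoryTheory.Limits AlgebraicGeometry Opposite

namespace Groth.Agent.Helper2.ProEtCov

open Groth.Agent.Helper3.WEtale Groth.Agent.Helper2.IndEtLift

variable {X : Scheme.{u}}

/-- composites of singleton coverings are coverings -/
theorem generate_singleton_comp_mem {V Z U : X.ProEt} (a : V ⟶ Z) (b : Z ⟶ U)
    (ha : Sieve.generate (Presieve.singleton a) ∈ Scheme.ProEt.topology X Z)
    (hb : Sieve.generate (Presieve.singleton b) ∈ Scheme.ProEt.topology X U) :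
    Sieve.generate (Presieve.singleton (a ≫ b)) ∈ Scheme.ProEt.topology X U := by
  refine (Scheme.ProEt.topology X).transitive hb _ ?_
  intro Y f hf
  obtain ⟨W, k, b', hb', rfl⟩ := hf
  cases hb'
  rw [Sieve.pullback_comp]
  apply (Scheme.ProEt.topology X).pullback_stable
  refine (Scheme.ProEt.topology X).superset_covering ?_ ha
  rw [Sieve.generate_le_iff]
  intro T h hh
  cases hh
  exact ⟨_, 𝟙 _, a ≫ b, Presieve.singleton.mk, Category.id_comp _⟩

section Compact

variable (U : X.ProEt) [CompactSpace ↥U.left]

/-- the finite affine cover of a quasi-compact object -/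
noncomputable abbrev fcov : U.left.OpenCover := U.left.affineCover.finiteSubcover

instance (i : (fcov U).I₀) : IsAffine ((fcov U).X i) := by
  show IsAffine (U.left.affineCover.X _)
  infer_instance

noncomputable def fchartObj (i : (fcov U).I₀) : X.ProEt :=
  Scheme.ProEt.mk ((fcov U).f i ≫ U.hom)

noncomputable def fchartHom (i : (fcov U).I₀) : fchartObj U i ⟶ U :=
  MorphismProperty.Over.homMk ((fcov U).f i) rfl

set_option backward.isDefEq.respectTransparency.types false in
theorem fchart_mem :
    Sieve.generate (Presieve.ofArrows (fchartObj U) (fchartHom U)) ∈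
      Scheme.ProEt.topology X U := by
  apply Precoverage.generate_mem_toGrothendieck
  rw [Scheme.ProEt.precoverage, Precoverage.mem_comap_iff, Presieve.map_ofArrows]
  exact Scheme.zariskiPrecoverage_le_propQCPrecoverage _ ((fcov U).mem₀)

/-- the affine object covering a quasi-compact object -/
noncomputable abbrev fsum : X.ProEt := sigmaObj (fchartObj U)

instance : IsAffine (fsum U).left := by
  show IsAffine (∐ fun i => (fchartObj U i).left)
  haveI : ∀ i, IsAffine (fchartObj U i).left := fun i => by
    show IsAffine ((fcov U).X i)
    infer_instance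
  infer_instance

/-- the w-contractible ring covering the affine object -/
abbrev fhull : Type u := Hull Γ((fsum U).left, ⊤) (Π x, AC Γ((fsum U).left, ⊤) x)

instance : Algebra.WeaklyEtale Γ((fsum U).left, ⊤) (fhull U) :=
  Groth.Agent.Lead.IndEtale.weaklyEtale_of_isIndEtale (isIndEtale_hull _ _)

instance : Module.FaithfullyFlat Γ((fsum U).left, ⊤) (fhull U) := faithfullyFlat_hull_AC _

theorem s0714 :
    ∃ (V : X.ProEt) (g : V ⟶ U),
      Sieve.generate (Presieve.singleton g) ∈ Scheme.ProEt.topology X U ∧ IsAffine V.left ∧
        ProEtS.IsWC V := by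
  refine ⟨specOver (fsum U) (fhull U),
    specOverHom (fsum U) (fhull U) ≫ sigmaDescHom _ (fchartHom U),
    generate_singleton_comp_mem _ _ (specOver_mem (fsum U) (fhull U))
      (sigmaDescHom_mem _ _ (fchart_mem U)), ?_, ?_⟩
  · show IsAffine (Spec (CommRingCat.of (fhull U)))
    infer_instance
  · haveI : IsAffine (specOver (fsum U) (fhull U)).left := by
      show IsAffine (Spec (CommRingCat.of (fhull U)))
      infer_instance
    apply isWC_of_isWContractible
    have h : EtPBC.IsWContractible (fhull U) :=
      isWContractible_of_hasIndEtaleRetractions _ (hasIndEtaleRetractions_hull _ _)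
    exact isWContractible_of_ringEquiv
      (Scheme.ΓSpecIso (CommRingCat.of (fhull U))).symm.commRingCatIsoToRingEquiv h

end Compact

end Groth.Agent.Helper2.ProEtCov
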