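import Mathlib
import Groth.Prelude
import Groth.Agent.Helper2.ProEtCovG

set_option autoImplicit false
universe u
open CategoryTheory CategoryTheory.Limits AlgebraicGeometry Opposite

namespace Groth.Agent.Helper2.ProEtCov

open Groth.Agent.Helper3.WEtale Groth.Agent.Helper2.IndEtLift

variable {X : Scheme.{u}}

section Coprod

variable (W : X.ProEt) {n : ℕ} (Wk : Fin n → W.left.Opens)
  (hdisj : Pairwise (fun k l => Disjoint (Wk k : Set ↥W.left) (Wk l)))
  (hcover : (⋃ k, (Wk k : Set ↥W.left)) = Set.univ)

include hcover in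
theorem piece_hom_ext {T : Scheme.{u}} (f₁ f₂ : W.left ⟶ T)
    (h : ∀ k, (Wk k).ι ≫ f₁ = (Wk k).ι ≫ f₂) : f₁ = f₂ := by
  have hW : TopologicalSpace.IsOpenCover Wk := by
    apply TopologicalSpace.IsOpenCover.mk
    apply SetLike.coe_injective
    rw [TopologicalSpace.Opens.coe_iSup, hcover]
    rfl
  exact (W.left.openCoverOfIsOpenCover Wk hW).hom_ext f₁ f₂ h

include hdisj hcover in
/-- a finite decomposition into disjoint opens is a coproduct in the pro-étale site -/
theorem nonempty_isColimit_piece :
    Nonempty (IsColimit (Cofan.mk W (pieceHom W Wk))) := by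
  have hex : ∀ t : Cofan (pieceObj W Wk), ∃ d : W ⟶ t.pt, ∀ k, pieceHom W Wk k ≫ d = t.inj k := by
    intro t
    obtain ⟨s, hs⟩ := exists_glue_of_disjoint Wk hdisj hcover (fun k => (t.inj k).left)
    have hw : s ≫ t.pt.hom = W.hom := by
      apply piece_hom_ext W Wk hcover
      intro k
      rw [← Category.assoc, hs]
      exact MorphismProperty.Over.w (t.inj k)
    refine ⟨MorphismProperty.Over.homMk s hw, fun k => ?_⟩
    apply MorphismProperty.Over.Hom.ext
    exact hs k
  choose d hd using hex
  refine ⟨Cofan.IsColimit.mk _ d (fun t k => hd t k) (fun t m hm => ?_)⟩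
  apply MorphismProperty.Over.Hom.ext
  apply piece_hom_ext W Wk hcover
  intro k
  have h1 : (pieceHom W Wk k ≫ m).left = (pieceHom W Wk k ≫ d t).left := by
    rw [hd t k]
    exact congrArg (fun f => f.left) (hm k)
  exact h1

include hdisj hcover in
/-- a presheaf preserving finite products turns a finite decomposition into a product -/
theorem bijective_of_preservesFiniteProducts (F : X.ProEtᵒᵖ ⥤ Type (u + 1))
    [PreservesFiniteProducts F] :
    Function.Bijective (fun (x : F.obj (op W)) (k : Fin n) => F.map (pieceHom W Wk k).op x) := by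
  obtain ⟨hc⟩ := nonempty_isColimit_piece W Wk hdisj hcover
  have hl := Cofan.IsColimit.op hc
  have hl' := isLimitOfPreserves F hl
  have key := (Types.isLimit_iff _).mp ⟨hl'⟩
  constructor
  · intro x y hxy
    let s : (Discrete.functor (fun k => op (pieceObj W Wk k)) ⋙ F).sections :=
      ⟨fun j => F.map (pieceHom W Wk j.as).op x, by
        rintro ⟨j⟩ ⟨j'⟩ f
        obtain rfl : j = j' := Discrete.eq_of_hom f
        have : f = 𝟙 _ := Subsingleton.elim _ _
        subst this
        simp⟩
    obtain ⟨z, -, hz⟩ := key s.1 s.2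
    have hx : x = z := hz x (fun j => rfl)
    have hy : y = z := hz y (fun j => (congrFun hxy j.as).symm)
    rw [hx, hy]
  · intro y
    let s : (Discrete.functor (fun k => op (pieceObj W Wk k)) ⋙ F).sections :=
      ⟨fun j => y j.as, by
        rintro ⟨j⟩ ⟨j'⟩ f
        obtain rfl : j = j' := Discrete.eq_of_hom f
        have : f = 𝟙 _ := Subsingleton.elim _ _
        subst this
        simp⟩
    obtain ⟨z, hz, -⟩ := key s.1 s.2
    exact ⟨z, funext fun k => hz ⟨k⟩⟩

end Coprod

theorem s0725 (F : X.ProEtᵒᵖ ⥤ Type (u + 1))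
    [PreservesFiniteProducts F] (W : X.ProEt) [IsAffine W.left] (hW : ProEtS.IsWC W) :
    Function.Bijective ((toSheafify (Scheme.ProEt.topology X) F).app (op W)) := by
  have hWc := isWContractible_of_isWC W hW
  haveI hinj : Presheaf.IsLocallyInjective (Scheme.ProEt.topology X)
      (toSheafify (Scheme.ProEt.topology X) F) := inferInstance
  haveI hsurj : Presheaf.IsLocallySurjective (Scheme.ProEt.topology X)
      (toSheafify (Scheme.ProEt.topology X) F) := inferInstance
  constructor
  · intro a b hab
    have hmem := Presheaf.equalizerSieve_mem (Scheme.ProEt.topology X)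
      (toSheafify (Scheme.ProEt.topology X) F) (X := op W) a b hab
    obtain ⟨n, Wk, -, hdisj, hcover, harr⟩ := exists_clopen_decomposition W hWc _ hmem
    apply (bijective_of_preservesFiniteProducts W Wk hdisj hcover F).1
    funext k
    exact harr k
  · intro x
    have hmem := Presheaf.imageSieve_mem (Scheme.ProEt.topology X)
      (toSheafify (Scheme.ProEt.topology X) F) (U := op W) x
    obtain ⟨n, Wk, -, hdisj, hcover, harr⟩ := exists_clopen_decomposition W hWc _ hmem
    have harr' : ∀ k, ∃ y : F.obj (op (pieceObj W Wk k)),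
        (toSheafify (Scheme.ProEt.topology X) F).app (op (pieceObj W Wk k)) y =
          (sheafify (Scheme.ProEt.topology X) F).map (pieceHom W Wk k).op x := harr
    choose y hy using harr'
    obtain ⟨y₀, hy₀⟩ := (bijective_of_preservesFiniteProducts W Wk hdisj hcover F).2 y
    refine ⟨y₀, ?_⟩
    have hS : Presieve.IsSheaf (Scheme.ProEt.topology X) (sheafify (Scheme.ProEt.topology X) F) :=
      (isSheaf_iff_isSheaf_of_type _ _).1
        ((presheafToSheaf (Scheme.ProEt.topology X) (Type (u + 1))).obj F).property
    have hsep : Presieve.IsSeparatedFor (sheafify (Scheme.ProEt.topology X) F)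
        (Presieve.ofArrows (pieceObj W Wk) (pieceHom W Wk)) :=
      (hS.isSheafFor _ (piece_mem W Wk hcover)).isSeparatedFor
    apply hsep.ext
    intro Z f hf
    obtain ⟨k⟩ := hf
    have hnat := NatTrans.naturality_apply (toSheafify (Scheme.ProEt.topology X) F)
      (pieceHom W Wk k).op y₀
    have hyk : F.map (pieceHom W Wk k).op y₀ = y k := congrFun hy₀ k
    rw [← hy k, ← hyk]
    exact hnat.symm

end Groth.Agent.Helper2.ProEtCov
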