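import Mathlib
import Groth.Prelude
import Groth.Agent.Helper2.ProEtCovC
import Groth.Agent.Helper2.MaxWE1

set_option autoImplicit false
universe u
open CategoryTheory CategoryTheory.Limits AlgebraicGeometry Opposite

namespace Groth.Agent.Helper2.ProEtCov

open Groth.Agent.Helper3.WEtale

/-- a nonzero weakly étale algebra over a separably closed field has a rational point -/
theorem exists_algHom_of_sepClosed (k B : Type u) [Field k] [IsSepClosed k] [CommRing B]
    [Algebra k B] [Algebra.WeaklyEtale k B] [Nontrivial B] : Nonempty (B →ₐ[k] k) := by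
  obtain ⟨m, hm⟩ := Ideal.exists_maximal B
  letI : Field (B ⧸ m) := Ideal.Quotient.field m
  haveI : Algebra.WeaklyEtale k (B ⧸ m) := Groth.Agent.Lead.WEField.weaklyEtale_quotient k B m
  haveI : Algebra.IsSeparable k (B ⧸ m) :=
    ⟨fun t => Groth.Agent.Helper2.MaxWE.separable_minpoly k t⟩
  have hs := IsSepClosed.algebraMap_surjective k (B ⧸ m)
  let e : k ≃ₐ[k] (B ⧸ m) :=
    AlgEquiv.ofBijective (Algebra.ofId k (B ⧸ m)) ⟨(algebraMap k (B ⧸ m)).injective, hs⟩
  exact ⟨(e.symm : (B ⧸ m) →ₐ[k] k).comp (Ideal.Quotient.mkₐ k m)⟩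

/-- geometric points with separably closed field lift along weakly étale morphisms, as soon as
the image point is hit -/
theorem exists_lift_geometric_point {V U : Scheme.{u}} (g : V ⟶ U) [WeaklyEtale g]
    {k : Type u} [Field k] [IsSepClosed k] (ξ : Spec (CommRingCat.of k) ⟶ U)
    (s : Spec (CommRingCat.of k)) (v : V) (hv : g v = ξ s) :
    ∃ ξ' : Spec (CommRingCat.of k) ⟶ V, ξ' ≫ g = ξ := by
  obtain ⟨w, hw1, hw2⟩ := Scheme.Pullback.exists_preimage_pullback (f := ξ) (g := g) s v hv.symm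
  let W := pullback ξ g
  let 𝒰 := W.affineCover
  obtain ⟨i, y, hy⟩ := 𝒰.exists_eq w
  let Y := 𝒰.X i
  haveI : IsAffine Y := by dsimp [Y, 𝒰]; infer_instance
  let h : Spec Γ(Y, ⊤) ⟶ Spec (CommRingCat.of k) := Y.isoSpec.inv ≫ 𝒰.f i ≫ pullback.fst ξ g
  haveI : WeaklyEtale h := by dsimp [h]; infer_instance
  let φ : CommRingCat.of k ⟶ Γ(Y, ⊤) := Spec.preimage h
  have hφ : Spec.map φ = h := Spec.map_preimage h
  have hWE : WE φ.hom := by
    rw [← weaklyEtale_SpecMap_iff]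
    show WeaklyEtale (Spec.map φ)
    rw [hφ]; infer_instance
  letI : Algebra k Γ(Y, ⊤) := φ.hom.toAlgebra
  haveI : Algebra.WeaklyEtale k Γ(Y, ⊤) := (WE_iff φ.hom).mp hWE
  haveI : Nonempty Y := ⟨y⟩
  haveI : Nonempty (⊤ : Y.Opens) := ⟨⟨y, trivial⟩⟩
  haveI : Nontrivial Γ(Y, ⊤) := Scheme.component_nontrivial Y ⊤
  obtain ⟨σ⟩ := exists_algHom_of_sepClosed k Γ(Y, ⊤)
  have hσ : φ ≫ CommRingCat.ofHom σ.toRingHom = 𝟙 _ := by
    ext x
    exact σ.commutes x
  refine ⟨Spec.map (CommRingCat.ofHom σ.toRingHom) ≫ Y.isoSpec.inv ≫ 𝒰.f i ≫ pullback.snd ξ g, ?_⟩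
  rw [Category.assoc, Category.assoc, Category.assoc, ← pullback.condition]
  have : Spec.map (CommRingCat.ofHom σ.toRingHom) ≫ Y.isoSpec.inv ≫ 𝒰.f i ≫ pullback.fst ξ g ≫ ξ
      = (Spec.map (CommRingCat.ofHom σ.toRingHom) ≫ h) ≫ ξ := by
    simp only [h, Category.assoc]
  have h2 : Spec.map (CommRingCat.ofHom σ.toRingHom) ≫ h = 𝟙 _ := by
    rw [← hφ, ← Spec.map_comp]
    exact (congrArg Spec.map hσ).trans (Spec.map_id _)
  rw [this, h2, Category.id_comp]

set_option backward.isDefEq.respectTransparency.types false in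
theorem s0739 {X : Scheme.{u}} (U : X.ProEt) (R : Sieve U)
    (hR : R ∈ Scheme.ProEt.topology X U) {k : Type u} [Field k] [IsSepClosed k]
    (ξ : Spec (CommRingCat.of k) ⟶ U.left) :
    ∃ (V : X.ProEt) (g : V ⟶ U) (ξ' : Spec (CommRingCat.of k) ⟶ V.left),
      R g ∧ ξ' ≫ g.left = ξ := by
  obtain ⟨R₀, hR₀, hle⟩ := (Precoverage.mem_toGrothendieck_iff_of_isStableUnderComposition).mp hR
  rw [Precoverage.mem_iff_exists_zeroHypercover] at hR₀
  obtain ⟨E, rfl⟩ := hR₀
  have h1 : E.presieve₀.map (Scheme.ProEt.forget X ⋙ Over.forget X) ∈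
      Scheme.proetalePrecoverage U.left := E.mem₀
  have h3 := h1.2
  rw [PreZeroHypercover.presieve₀, Presieve.map_ofArrows] at h3
  replace h3 := (Scheme.ofArrows_mem_precoverage_iff (P := @WeaklyEtale)).mp h3
  have s : Spec (CommRingCat.of k) := (inferInstance : Nonempty (Spec (CommRingCat.of k))).some
  obtain ⟨i, v, hv⟩ := h3.1 (ξ s)
  haveI : WeaklyEtale (E.f i).left := weaklyEtale_left (E.f i)
  obtain ⟨ξ', hξ'⟩ := exists_lift_geometric_point (E.f i).left ξ s v hv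
  exact ⟨E.X i, E.f i, ξ', hle _ _ (Presieve.ofArrows.mk i), hξ'⟩

end Groth.Agent.Helper2.ProEtCov
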