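import Mathlib
import Groth.Prelude
import Groth.Agent.Helper2.ProEtCovH

set_option autoImplicit false
universe u
open CategoryTheory CategoryTheory.Limits AlgebraicGeometry Opposite

namespace Groth.Agent.Helper2.ProEtCov

open Groth.Agent.Helper3.WEtale

variable {X : Scheme.{u}}

set_option backward.isDefEq.respectTransparency.types false in
/-- a finite jointly surjective family of affine objects over an affine object is a covering -/
theorem finite_affine_family_mem {V : X.ProEt} {ι : Type} [Finite ι]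
    (W : ι → X.ProEt) [∀ k, IsAffine (W k).left] [IsAffine V.left] (h : ∀ k, W k ⟶ V)
    (hsurj : ∀ v : V.left, ∃ k, v ∈ Set.range (h k).left) :
    Sieve.generate (Presieve.ofArrows W h) ∈ Scheme.ProEt.topology X V := by
  apply Precoverage.generate_mem_toGrothendieck
  rw [Scheme.ProEt.precoverage, Precoverage.mem_comap_iff, Presieve.map_ofArrows]
  haveI : ∀ k, WeaklyEtale (h k).left := fun k => weaklyEtale_left (h k)
  have hmem : Presieve.ofArrows (fun k => (W k).left) (fun k => (h k).left) ∈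
      Scheme.precoverage @WeaklyEtale V.left :=
    (Scheme.ofArrows_mem_precoverage_iff (P := @WeaklyEtale)).mpr
      ⟨hsurj, fun k => inferInstance⟩
  let 𝒰 : V.left.Cover (Scheme.precoverage @WeaklyEtale) :=
    { I₀ := ι, X := fun k => (W k).left, f := fun k => (h k).left, mem₀ := hmem }
  haveI : Finite 𝒰.I₀ := ‹Finite ι›
  haveI : ∀ k, QuasiCompact (𝒰.f k) := fun k => by
    show QuasiCompact (h k).left
    infer_instance
  haveI : QuasiCompactCover 𝒰.toPreZeroHypercover := QuasiCompactCover.of_finite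
  exact ⟨Scheme.presieve₀_mem_qcPrecoverage_iff.mpr ‹_›, hmem⟩

section ExtZero

variable {U : Scheme.{u}} (j : U ⟶ X) [WeaklyEtale j]

/-- no object meeting a set disjoint from the image of `j` maps to an object coming from `U` -/
theorem isEmpty_costructuredArrow (T : Set X) (hT : Disjoint (Set.range j.base) T)
    (W : X.ProEt) (w : W.left) (hw : W.hom.base w ∈ T) :
    IsEmpty (CostructuredArrow (ProEtS.compP j).op (op W)) := by
  refine ⟨fun a => ?_⟩
  let g : W ⟶ (ProEtS.compP j).obj a.left.unop := a.hom.unop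
  have hg : g.left ≫ ((ProEtS.compP j).obj a.left.unop).hom = W.hom := MorphismProperty.Over.w g
  have h1 : ((ProEtS.compP j).obj a.left.unop).hom = a.left.unop.hom ≫ j := rfl
  rw [h1] at hg
  have h2 : W.hom.base w = j.base (a.left.unop.hom.base (g.left.base w)) := by
    rw [← hg]
    rfl
  exact Set.disjoint_left.mp hT ⟨_, h2.symm⟩ hw

theorem isZero_lan_obj (F : ProEtS.AbP U) (T : Set X) (hT : Disjoint (Set.range j.base) T)
    (W : X.ProEt) (w : W.left) (hw : W.hom.base w ∈ T) :
    IsZero (((ProEtS.compP j).op.lan.obj F.obj).obj (op W)) := by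
  haveI := isEmpty_costructuredArrow j T hT W w hw
  have e := (ProEtS.compP j).op.leftKanExtensionObjIsoColimit F.obj (op W)
  have hI : IsInitial (colimit (CostructuredArrow.proj (ProEtS.compP j).op (op W) ⋙ F.obj)) :=
    (isColimitEquivIsInitialOfIsEmpty _ (colimit.cocone _)) (colimit.isColimit _)
  have hz : IsZero (colimit (CostructuredArrow.proj (ProEtS.compP j).op (op W) ⋙ F.obj)) :=
    IsZero.of_iso (isZero_zero _) (hI.uniqueUpToIso (isZero_zero _).isInitial)
  exact IsZero.of_iso hz e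

theorem subsingleton_sheafify_lan (F : ProEtS.AbP U) (T : Set X)
    (hT : Disjoint (Set.range j.base) T) (V : X.ProEt) [IsAffine V.left]
    (hV : ∀ v : ↥V.left, ∃ z : ↥V.left, V.hom.base z ∈ T ∧ v ⤳ z) :
    Subsingleton ((sheafify (Scheme.ProEt.topology X)
      ((ProEtS.compP j).op.lan.obj F.obj)).obj (op V)) := by
  set J := Scheme.ProEt.topology X with hJ
  set P := (ProEtS.compP j).op.lan.obj F.obj with hP
  suffices h0 : ∀ s : (sheafify J P).obj (op V), s = 0 from ⟨fun a b => by rw [h0 a, h0 b]⟩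
  intro s
  have hmem := Presheaf.imageSieve_mem J (toSheafify J P) (U := op V) s
  obtain ⟨n, Y, g, Vk, hg, hVk, hcov⟩ := exists_finite_affine_refinement V _ hmem
  let K₀ := {k : Fin n // ∃ y : (Y k).left, y ∈ Vk k ∧ V.hom.base ((g k).left.base y) ∈ T}
  let W : K₀ → X.ProEt := fun k => pieceObj (Y k.1) (fun _ : Fin 1 => Vk k.1) 0
  let h : ∀ k : K₀, W k ⟶ V := fun k => pieceHom (Y k.1) (fun _ : Fin 1 => Vk k.1) 0 ≫ g k.1
  haveI : ∀ k, IsAffine (W k).left := fun k => hVk k.1
  have hleft : ∀ k : K₀, (h k).left = (Vk k.1).ι ≫ (g k.1).left := fun k => rfl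
  have hsurj : ∀ v : V.left, ∃ k, v ∈ Set.range (h k).left := by
    intro v
    obtain ⟨z, hz, hvz⟩ := hV v
    have hz' : z ∈ ⋃ k, (g k).left '' (Vk k : Set (Y k).left) := by rw [hcov]; trivial
    obtain ⟨k, hk⟩ := Set.mem_iUnion.mp hz'
    obtain ⟨y, hy, hyz⟩ := hk
    have hk₀ : ∃ y : (Y k).left, y ∈ Vk k ∧ V.hom.base ((g k).left.base y) ∈ T :=
      ⟨y, hy, by rw [show (g k).left.base y = z from hyz]; exact hz⟩
    refine ⟨⟨k, hk₀⟩, ?_⟩
    haveI : WeaklyEtale (h ⟨k, hk₀⟩).left := weaklyEtale_left _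
    have hgen : GeneralizingMap (h ⟨k, hk₀⟩).left.base := Flat.generalizingMap _
    have hy' : (h ⟨k, hk₀⟩).left.base ⟨y, hy⟩ = z := by
      rw [hleft]
      exact hyz
    obtain ⟨w', -, hw'⟩ := hgen (hy' ▸ hvz)
    exact ⟨w', hw'⟩
  have hcovmem := finite_affine_family_mem W h hsurj
  have hsep : Presheaf.IsSeparated J (sheafify J P) :=
    Sheaf.isSeparated ((presheafToSheaf J AddCommGrpCat.{u + 1}).obj P)
  have key : ∀ k : K₀, (sheafify J P).map (h k).op s = 0 := by
    intro k
    -- the restriction of `s` along `h k` comes from `P (W k) = 0`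
    have hk : (Presheaf.imageSieve (toSheafify J P) s).arrows (h k) :=
      (Presheaf.imageSieve (toSheafify J P) s).downward_closed (hg k.1) _
    obtain ⟨t, ht⟩ := hk
    obtain ⟨y, hy, hyT⟩ := k.2
    have hyT' : (W k).hom.base ⟨y, hy⟩ ∈ T := by
      have h1 : (W k).hom = (Vk k.1).ι ≫ (Y k.1).hom := rfl
      have h2 : (g k.1).left ≫ V.hom = (Y k.1).hom := MorphismProperty.Over.w (g k.1)
      have h3 : (W k).hom.base ⟨y, hy⟩ = V.hom.base ((g k.1).left.base y) := by
        rw [h1, ← h2]
        rfl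
      rw [h3]
      exact hyT
    have hz : IsZero (P.obj (op (W k))) :=
      isZero_lan_obj j F T hT (W k) ⟨y, hy⟩ hyT'
    haveI := AddCommGrpCat.subsingleton_of_isZero hz
    have ht0 : t = 0 := Subsingleton.elim _ _
    rw [ht0, map_zero] at ht
    exact ht.symm
  apply hsep V _ hcovmem
  rintro Z f ⟨Z', f', h', ⟨k⟩, rfl⟩
  rw [op_comp, Functor.map_comp, ConcreteCategory.comp_apply, key k, map_zero, map_zero]

end ExtZero

theorem s0732 {U X Z : Scheme.{u}} (j : U ⟶ X) [WeaklyEtale j] (i : Z ⟶ X)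
    (hUZ : Disjoint (Set.range j.base) (Set.range i.base)) [ProEtS.JPCont j]
    (V : X.ProEt) [IsAffine V.left]
    (hV : ∀ v : ↥V.left, ∃ z : ↥V.left, V.hom.base z ∈ Set.range i.base ∧ v ⤳ z)
    (F : ProEtS.AbP U) :
    Subsingleton (ProEtS.sectP ((ProEtS.extZeroP j).obj F) V) := by
  have e : (ProEtS.extZeroP j).obj F ≅
      (presheafToSheaf (Scheme.ProEt.topology X) AddCommGrpCat.{u + 1}).obj
        ((ProEtS.compP j).op.lan.obj F.obj) :=
    (Functor.sheafPullbackConstruction.sheafPullbackIso _ _ _ _).app F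
  have e' : ((ProEtS.extZeroP j).obj F).obj.obj (op V) ≅
      (sheafify (Scheme.ProEt.topology X) ((ProEtS.compP j).op.lan.obj F.obj)).obj (op V) :=
    ((sheafToPresheaf _ _).mapIso e).app (op V)
  haveI := subsingleton_sheafify_lan j F _ hUZ V hV
  exact e'.addCommGroupIsoToAddEquiv.toEquiv.subsingleton

end Groth.Agent.Helper2.ProEtCov
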