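import Mathlib

set_option autoImplicit false
universe u
open CategoryTheory CategoryTheory.Limits AlgebraicGeometry

namespace Groth.Agent.Helper2.ProjEmpty

open DirectSum

variable {R A : Type u} [CommRing R] [CommRing A] [Algebra R A] (𝒜 : ℕ → Submodule R A)
  [GradedAlgebra 𝒜]

/-- homogeneous generators of bounded positive degree -/
theorem exists_homogeneous_generators (hfg : (HomogeneousIdeal.irrelevant 𝒜).toIdeal.FG) :
    ∃ (G : Finset A) (D : ℕ), Ideal.span (G : Set A) = (HomogeneousIdeal.irrelevant 𝒜).toIdeal ∧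
      ∀ g ∈ G, ∃ i, 1 ≤ i ∧ i ≤ D ∧ g ∈ 𝒜 i := by
  classical
  obtain ⟨T, hT⟩ := hfg
  refine ⟨T.biUnion fun t => (decompose 𝒜 t).support.image fun i => (decompose 𝒜 t i : A),
    T.sup fun t => (decompose 𝒜 t).support.sup id, ?_, ?_⟩
  · apply le_antisymm
    · rw [Ideal.span_le]
      intro g hg
      simp only [Finset.coe_biUnion, Finset.coe_image, Set.mem_iUnion, Set.mem_image,
        Finset.mem_coe] at hg
      obtain ⟨t, ht, i, -, rfl⟩ := hg
      have htI : t ∈ (HomogeneousIdeal.irrelevant 𝒜).toIdeal := by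
        rw [← hT]; exact Ideal.subset_span ht
      exact (HomogeneousIdeal.irrelevant 𝒜).isHomogeneous i htI
    · rw [← hT, Ideal.span_le]
      intro t ht
      rw [← DirectSum.sum_support_decompose 𝒜 t]
      refine Ideal.sum_mem _ fun i hi => Ideal.subset_span ?_
      simp only [Finset.coe_biUnion, Finset.coe_image, Set.mem_iUnion, Set.mem_image,
        Finset.mem_coe]
      exact ⟨t, ht, i, hi, rfl⟩
  · intro g hg
    simp only [Finset.mem_biUnion, Finset.mem_image] at hg
    obtain ⟨t, ht, i, hi, rfl⟩ := hg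
    have htI : t ∈ (HomogeneousIdeal.irrelevant 𝒜).toIdeal := by
      rw [← hT]; exact Ideal.subset_span ht
    refine ⟨i, ?_, ?_, SetLike.coe_mem _⟩
    · rw [DFinsupp.mem_support_iff] at hi
      by_contra h0
      have hi0 : i = 0 := by omega
      subst hi0
      apply hi
      have := (HomogeneousIdeal.mem_irrelevant_iff 𝒜 t).mp htI
      rw [GradedRing.proj_apply] at this
      exact Subtype.ext this
    · refine le_trans ?_ (Finset.le_sup (f := fun t => (decompose 𝒜 t).support.sup id) ht)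
      exact Finset.le_sup (f := id) hi

/-- high degree pieces lie in high powers of the irrelevant ideal -/
theorem mem_pow_of_degree_ge (G : Finset A) (D : ℕ)
    (hG : Ideal.span (G : Set A) = (HomogeneousIdeal.irrelevant 𝒜).toIdeal)
    (hdeg : ∀ g ∈ G, ∃ i, 1 ≤ i ∧ i ≤ D ∧ g ∈ 𝒜 i) (m : ℕ) :
    ∀ k, m * D + 1 ≤ k → ∀ x ∈ 𝒜 k, x ∈ (HomogeneousIdeal.irrelevant 𝒜).toIdeal ^ (m + 1) := by
  classical
  induction m with
  | zero =>
    intro k hk x hx
    rw [zero_add, pow_one]
    exact HomogeneousIdeal.mem_irrelevant_of_mem 𝒜 (by omega) hx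
  | succ m ih =>
    intro k hk x hx
    have hxI : x ∈ Ideal.span (G : Set A) := by
      rw [hG]
      exact HomogeneousIdeal.mem_irrelevant_of_mem 𝒜 (by nlinarith) hx
    obtain ⟨c, -, hc⟩ := Submodule.mem_span_finset.mp hxI
    have hx' : x = (decompose 𝒜 x k : A) := by
      rw [DirectSum.decompose_of_mem_same 𝒜 hx]
    rw [hx', ← hc, DirectSum.decompose_sum, DFinsupp.finset_sum_apply, AddSubmonoidClass.coe_finset_sum]
    refine Ideal.sum_mem _ fun g hg => ?_
    obtain ⟨i, hi1, hiD, hgi⟩ := hdeg g hg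
    have hik : i ≤ k := by nlinarith
    rw [smul_eq_mul, DirectSum.coe_decompose_mul_of_right_mem_of_le 𝒜 hgi hik, pow_succ]
    refine Ideal.mul_mem_mul ?_ ?_
    · apply ih (k - i) ?_ _ (SetLike.coe_mem _)
      have : (m + 1) * D + 1 ≤ k := hk
      have h2 : (m + 1) * D = m * D + D := by ring
      omega
    · exact HomogeneousIdeal.mem_irrelevant_of_mem 𝒜 (by omega) hgi

end Groth.Agent.Helper2.ProjEmpty
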