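import Mathlib
import Groth.Prelude
import Groth.Agent.Helper2.PairHensNbhd3
set_option autoImplicit false

universe u

noncomputable section

namespace Groth.Agent.Helper2.PairHens

/-- localizing at an element congruent to `1` modulo `J` does not change the quotient by `J`. -/
theorem bijective_quotientMap_away {R : Type u} [CommRing R] (J : Ideal R) (s : R)
    (hs : s - 1 ∈ J) :
    Function.Bijective (Ideal.quotientMap (J.map (algebraMap R (Localization.Away s)))
      (algebraMap R (Localization.Away s)) Ideal.le_comap_map) := by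
  rw [bijective_quotientMap_iff]
  have hpow : ∀ n : ℕ, s ^ n - 1 ∈ J := by
    intro n
    induction n with
    | zero => simp
    | succ n ih =>
      have : s ^ (n + 1) - 1 = s ^ n * (s - 1) + (s ^ n - 1) := by ring
      rw [this]
      exact Ideal.add_mem _ (Ideal.mul_mem_left _ _ hs) ih
  constructor
  · intro r hr
    rw [IsLocalization.mem_map_algebraMap_iff (Submonoid.powers s)] at hr
    obtain ⟨⟨⟨a, ha⟩, ⟨m, hm⟩⟩, h⟩ := hr
    obtain ⟨n, rfl⟩ := hm
    simp only at h
    rw [← map_mul] at h
    obtain ⟨⟨c, ⟨k, rfl⟩⟩, hc⟩ := (IsLocalization.eq_iff_exists (Submonoid.powers s) _).mp h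
    simp only at hc
    have h1 : s ^ (k + n) * r ∈ J := by
      have : s ^ (k + n) * r = s ^ k * a := by
        rw [← hc]
        ring
      rw [this]
      exact Ideal.mul_mem_left _ _ ha
    have h2 : r = s ^ (k + n) * r - (s ^ (k + n) - 1) * r := by ring
    rw [h2]
    exact Ideal.sub_mem _ h1 (Ideal.mul_mem_right _ _ (hpow _))
  · intro x
    obtain ⟨a, ⟨_, ⟨n, rfl⟩⟩, rfl⟩ := IsLocalization.exists_mk'_eq (Submonoid.powers s) x
    refine ⟨a, ?_⟩
    have hunit : IsUnit (algebraMap R (Localization.Away s) (s ^ n)) :=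
      IsLocalization.map_units _ (⟨s ^ n, ⟨n, rfl⟩⟩ : Submonoid.powers s)
    obtain ⟨u, hu⟩ := hunit.exists_right_inv
    have hmk : IsLocalization.mk' (Localization.Away s) a (⟨s ^ n, ⟨n, rfl⟩⟩ : Submonoid.powers s) =
        algebraMap R _ a * u := by
      rw [IsLocalization.mk'_eq_iff_eq_mul]
      simp only
      rw [mul_assoc, mul_comm u, hu, mul_one]
    have h3 : IsLocalization.mk' (Localization.Away s) a (⟨s ^ n, ⟨n, rfl⟩⟩ : Submonoid.powers s) -
        algebraMap R _ a = - (algebraMap R (Localization.Away s) ((s ^ n - 1) * a)) * u := by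
      rw [hmk, map_mul, map_sub, map_one]
      have : algebraMap R (Localization.Away s) a * u - algebraMap R (Localization.Away s) a =
          algebraMap R (Localization.Away s) a * u -
            algebraMap R (Localization.Away s) a * (algebraMap R (Localization.Away s) (s ^ n) * u) := by
        rw [hu, mul_one]
      rw [this]
      ring
    rw [h3]
    exact Ideal.mul_mem_right _ _ (Ideal.neg_mem_iff _ |>.mpr
      (Ideal.mem_map_of_mem _ (Ideal.mul_mem_right _ _ (hpow n))))

theorem s17616
    (P : ∀ ⦃B B' : Type u⦄ [CommRing B] [CommRing B'], (B →+* B') → Prop)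
    (PAt : ∀ ⦃B B' : Type u⦄ [CommRing B] [CommRing B'], (B →+* B') → Ideal B' → Prop)
    (hPAt : ∀ ⦃B B' : Type u⦄ [CommRing B] [CommRing B'] (f : B →+* B') (q : Ideal B'),
      PAt f q ↔ ∃ g : B', g ∉ q ∧ P ((algebraMap B' (Localization.Away g)).comp f))
    (h₁ : ∀ ⦃B B' : Type u⦄ [CommRing B] [CommRing B'] (f : B →+* B'), f.FinitePresentation →
      ProCons.IsIndConstructible {q : PrimeSpectrum B' | PAt f q.asIdeal} ∧
        ((∀ q : PrimeSpectrum B', PAt f q.asIdeal) → P f))
    (h₂ : ∀ ⦃B B' : Type u⦄ [CommRing B] [CommRing B'] (f : B →+* B'), f.Etale → P f)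
    (h₃ : ∀ ⦃C C' C'' : Type u⦄ [CommRing C] [CommRing C'] [CommRing C''] (g : C →+* C')
      (h : C' →+* C'') (q : Ideal C'') [q.IsPrime],
      PAt h q → PAt g (q.comap h) → PAt (h.comp g) q)
    (A : Type u) [CommRing A] (I : Ideal A)
    (R : Type u) [CommRing R] [Algebra A R] [Algebra.FinitePresentation A R]
    (hR : ∀ (p : Ideal R) [p.IsPrime], I.map (algebraMap A R) ≤ p → PAt (algebraMap A R) p) :
    ∃ (R' : Type u) (_ : CommRing R') (_ : Algebra R R') (_ : Algebra A R') (_ : IsScalarTower A R R'),
      Algebra.Etale R R' ∧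
      Function.Bijective (Ideal.quotientMap ((I.map (algebraMap A R)).map (algebraMap R R'))
        (algebraMap R R') Ideal.le_comap_map) ∧ P (algebraMap A R') := by
  set J : Ideal R := I.map (algebraMap A R) with hJ
  let K : Ideal R := Ideal.span
    {g : R | P ((algebraMap R (Localization.Away g)).comp (algebraMap A R))}
  have hKJ : K ⊔ J = ⊤ := by
    by_contra hne
    obtain ⟨m, hm, hle⟩ := Ideal.exists_le_maximal _ hne
    haveI := hm.isPrime
    have hJm : J ≤ m := le_sup_right.trans hle
    obtain ⟨g, hgm, hg⟩ := (hPAt _ _).mp (hR m hJm)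
    exact hgm (hle (Ideal.mem_sup_left (Ideal.subset_span hg)))
  obtain ⟨s, hsK, i, hiJ, hsi⟩ := Submodule.mem_sup.mp ((Ideal.eq_top_iff_one _).mp hKJ)
  have hs1 : s - 1 ∈ J := by
    have : s - 1 = - i := by rw [← hsi]; ring
    rw [this]
    exact Ideal.neg_mem_iff _ |>.mpr hiJ
  have hPAts : ∀ (q : Ideal R) [q.IsPrime], s ∉ q → PAt (algebraMap A R) q := by
    intro q _ hsq
    have : ¬ K ≤ q := fun hle => hsq (hle hsK)
    rw [Ideal.span_le] at this
    obtain ⟨g, hg, hgq⟩ := Set.not_subset.mp this
    exact (hPAt _ _).mpr ⟨g, hgq, hg⟩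
  haveI et : Algebra.Etale R (Localization.Away s) := Algebra.Etale.of_isLocalizationAway s
  haveI fp : Algebra.FinitePresentation A (Localization.Away s) :=
    Algebra.FinitePresentation.trans A R (Localization.Away s)
  refine ⟨Localization.Away s, inferInstance, inferInstance, inferInstance, inferInstance, et,
    bijective_quotientMap_away J s hs1, ?_⟩
  have hfp : (algebraMap A (Localization.Away s)).FinitePresentation :=
    RingHom.finitePresentation_algebraMap.mpr fp
  refine (h₁ _ hfp).2 fun q => ?_
  have hcomp : algebraMap A (Localization.Away s) =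
      (algebraMap R (Localization.Away s)).comp (algebraMap A R) :=
    IsScalarTower.algebraMap_eq A R (Localization.Away s)
  rw [hcomp]
  apply h₃
  · refine (hPAt _ _).mpr ⟨1, fun h1 => q.isPrime.ne_top ((Ideal.eq_top_iff_one _).mpr h1), ?_⟩
    apply h₂
    apply RingHom.Etale.stableUnderComposition
    · exact RingHom.etale_algebraMap.mpr et
    · haveI : Algebra.Etale (Localization.Away s) (Localization.Away (1 : Localization.Away s)) :=
        Algebra.Etale.of_isLocalizationAway 1
      exact RingHom.etale_algebraMap.mpr inferInstance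
  · haveI : (q.asIdeal.comap (algebraMap R (Localization.Away s))).IsPrime := Ideal.comap_isPrime _ _
    apply hPAts
    intro hmem
    rw [Ideal.mem_comap] at hmem
    have hu : IsUnit (algebraMap R (Localization.Away s) s) := IsLocalization.Away.algebraMap_isUnit s
    exact q.isPrime.ne_top (Ideal.eq_top_of_isUnit_mem _ hmem hu)

end Groth.Agent.Helper2.PairHens
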