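import Mathlib
import Groth.Prelude
import Groth.Agent.Helper2.NagAU

set_option autoImplicit false
set_option linter.style.haveILetI false

namespace Groth.Agent.Helper2.PthRoot

universe u

open TensorProduct IsLocalRing Polynomial

/-- S0577 -/
theorem s0577 (A : Type u) [CommRing A] [IsDomain A]
    [IsLocalRing A] (hA : CAlg.IsNagata A) (p : ℕ) [Fact p.Prime] [CharP A p] (a : A)
    (h : ∃ α : AdicCompletion (IsLocalRing.maximalIdeal A) A,
      α ^ p = algebraMap A (AdicCompletion (IsLocalRing.maximalIdeal A) A) a) :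
    ∃ b : A, b ^ p = a := by
  classical
  haveI := hA.1
  obtain ⟨α, hα⟩ := h
  have hp : p.Prime := Fact.out
  haveI : IsNoetherianRing (EGA4.Cpl A) := Groth.Agent.S0543.result A _
  haveI : Module.FaithfullyFlat A (EGA4.Cpl A) := Module.FaithfullyFlat.of_flat_of_isLocalHom
  let K := FractionRing A
  let f : K[X] := X ^ p - C (algebraMap A K a)
  let L := f.SplittingField
  have hdeg : f.degree ≠ 0 := by
    have h1 : f.degree = p := degree_X_pow_sub_C hp.pos _
    rw [h1]
    exact_mod_cast hp.pos.ne'
  obtain ⟨r, hr⟩ := Splits.exists_eval_eq_zero (SplittingField.splits f)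
    (by rwa [degree_map])
  have hr' : r ^ p = algebraMap A L a := by
    have h1 : eval r (f.map (algebraMap K L)) = r ^ p - algebraMap K L (algebraMap A K a) := by
      simp [f]
    rw [h1, sub_eq_zero] at hr
    rw [hr, ← IsScalarTower.algebraMap_apply A K L]
  have hN2 : CAlg.IsN2 A :=
    Groth.Agent.Helper2.TateN2e.isN2_of_ringEquiv (RingEquiv.quotientBot A) (hA.2 ⊥)
  haveI hfin' : Module.Finite A (integralClosure A L) :=
    Groth.Agent.Helper4.Japanese.IsN2.finite hN2 K L
  have hrint : IsIntegral A r := by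
    refine ⟨X ^ p - C a, monic_X_pow_sub_C a hp.ne_zero, ?_⟩
    rw [eval₂_sub, eval₂_pow, eval₂_X, eval₂_C, hr']
    exact sub_self _
  let rB : integralClosure A L := ⟨r, hrint⟩
  haveI hred : IsReduced (integralClosure A L ⊗[A] EGA4.Cpl A) :=
    Groth.Agent.Helper2.NagAU.isReduced_tensor_cpl A hA _
  have hinjAL : Function.Injective (algebraMap A L) := by
    rw [IsScalarTower.algebraMap_eq A K L]
    exact (algebraMap K L).injective.comp (IsFractionRing.injective A K)
  have hinjAB : Function.Injective (algebraMap A (integralClosure A L)) := by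
    intro x y hxy
    exact hinjAL (congrArg (integralClosure A L).val hxy)
  have hinjAT : Function.Injective (algebraMap A (integralClosure A L ⊗[A] EGA4.Cpl A)) := by
    have h1 : Function.Injective (Algebra.TensorProduct.includeRight :
        EGA4.Cpl A →ₐ[A] integralClosure A L ⊗[A] EGA4.Cpl A) :=
      Algebra.TensorProduct.includeRight_injective hinjAB
    have h2 : Function.Injective (algebraMap A (EGA4.Cpl A)) :=
      FaithfulSMul.algebraMap_injective A _
    intro x y hxy
    apply h2
    apply h1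
    rw [AlgHom.commutes, AlgHom.commutes]
    exact hxy
  haveI : CharP (integralClosure A L ⊗[A] EGA4.Cpl A) p := charP_of_injective_algebraMap hinjAT p
  have hrBp : rB ^ p = algebraMap A (integralClosure A L) a := Subtype.ext hr'
  have hz : (rB ⊗ₜ[A] (1 : EGA4.Cpl A) - (1 : integralClosure A L) ⊗ₜ[A] α) ^ p = 0 := by
    rw [sub_pow_char, Algebra.TensorProduct.tmul_pow, Algebra.TensorProduct.tmul_pow, one_pow,
      one_pow, hα, hrBp, Algebra.algebraMap_eq_smul_one, Algebra.algebraMap_eq_smul_one,
      TensorProduct.smul_tmul, sub_self]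
  have hz0 : rB ⊗ₜ[A] (1 : EGA4.Cpl A) - (1 : integralClosure A L) ⊗ₜ[A] α = 0 :=
    IsNilpotent.eq_zero ⟨p, hz⟩
  let N : Submodule A (integralClosure A L) := LinearMap.range (Algebra.linearMap A _)
  have h1 := congrArg (LinearMap.rTensor (EGA4.Cpl A) N.mkQ) (sub_eq_zero.mp hz0)
  rw [LinearMap.rTensor_tmul, LinearMap.rTensor_tmul] at h1
  have hone : N.mkQ (1 : integralClosure A L) = 0 := by
    rw [Submodule.mkQ_apply, Submodule.Quotient.mk_eq_zero]
    exact ⟨1, by simp⟩
  rw [hone, TensorProduct.zero_tmul] at h1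
  have h3 : (1 : EGA4.Cpl A) ⊗ₜ[A] (N.mkQ rB) = 0 := by
    have := congrArg (TensorProduct.comm A _ _) h1
    rw [TensorProduct.comm_tmul, map_zero] at this
    exact this
  have h4 : N.mkQ rB = 0 := by
    apply Module.FaithfullyFlat.tensorProduct_mk_injective (A := A) (B := EGA4.Cpl A)
    rw [TensorProduct.mk_apply, h3, map_zero]
  rw [Submodule.mkQ_apply, Submodule.Quotient.mk_eq_zero] at h4
  obtain ⟨b, hb⟩ := h4
  refine ⟨b, hinjAB ?_⟩
  rw [map_pow, ← hrBp]
  congr 1

end Groth.Agent.Helper2.PthRoot
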