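import Mathlib
import Groth.Prelude
import Groth.Agent.Helper2.Unibr6
import Groth.Agent.Helper2.SmGU7
import Groth.Agent.Helper2.IndEtCritB
import Groth.Agent.S0735
import Groth.Agent.S12237
import Groth.Agent.Lead.IndEtale
import Groth.Agent.Helper1.HensStrictNoeth

set_option autoImplicit false
universe u
open IsLocalRing TensorProduct

namespace Groth.Agent.Helper2.PunA

/-- contraction of a minimal prime along a flat map is minimal -/
theorem comap_minimal_of_flat (B C : Type u) [CommRing B] [CommRing C] [Algebra B C]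
    [Module.Flat B C] (P : Ideal C) (hP : P ∈ minimalPrimes C) :
    P.comap (algebraMap B C) ∈ minimalPrimes B := by
  rw [minimalPrimes_eq_minimals] at hP ⊢
  obtain ⟨hPp, hPmin⟩ := hP
  haveI := hPp
  refine ⟨Ideal.comap_isPrime _ _, ?_⟩
  intro r hr hle
  by_contra hne
  have hlt : r < P.comap (algebraMap B C) := lt_of_le_of_ne hle (fun h => hne (h ▸ le_refl _))
  haveI := hr
  haveI : (P.comap (algebraMap B C)).IsPrime := Ideal.comap_isPrime _ _
  haveI : P.LiesOver (P.comap (algebraMap B C)) := ⟨rfl⟩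
  obtain ⟨P', hP'lt, hP'prime, hP'over⟩ :=
    Ideal.exists_ideal_lt_liesOver_of_lt (R := B) (S := C) (p := r) P hlt
  exact (not_le_of_gt hP'lt) (hPmin hP'prime hP'lt.le)

section A1

variable (A Ash : Type u) [CommRing A] [IsLocalRing A] [CommRing Ash] [IsLocalRing Ash]
  [Algebra A Ash] [IsLocalHom (algebraMap A Ash)] [Hensel.IsStrictHenselization A Ash]

/-- two minimal primes of `Ash` below a prime `𝔮` whose contraction to `A` is a geometrically
unibranch point coincide -/
theorem minimal_eq_of_le (𝔮 : Ideal Ash) [𝔮.IsPrime]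
    (hgu : CAlg2.IsGeomUnibranch (Localization.AtPrime (𝔮.comap (algebraMap A Ash))))
    (P₁ P₂ : Ideal Ash) (h₁ : P₁ ∈ minimalPrimes Ash) (h₂ : P₂ ∈ minimalPrimes Ash)
    (h₁q : P₁ ≤ 𝔮) (h₂q : P₂ ≤ 𝔮) : P₁ = P₂ := by
  by_contra hne
  have hind : EtPBC.IsIndEtale A Ash := Groth.Agent.S12237.result A Ash
  obtain ⟨S⟩ := Groth.Agent.Helper2.IndEtFib.nonempty_sys hind
  haveI := h₁.1.1
  haveI := h₂.1.1
  have hnle : ¬ P₁ ≤ P₂ := fun hle => hne (le_antisymm hle (h₂.2 ⟨h₁.1.1, bot_le⟩ hle))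
  obtain ⟨b, hb1, hb2⟩ := Set.not_subset.1 hnle
  obtain ⟨j, y, rfl⟩ := S.hsurj b
  letI : Algebra (S.R j) Ash := (S.φ j).toRingHom.toAlgebra
  haveI : IsScalarTower A (S.R j) Ash :=
    IsScalarTower.of_algebraMap_eq (fun a => ((S.φ j).commutes a).symm)
  have hRj : EtPBC.IsIndEtale A (S.R j) :=
    Groth.Agent.Helper2.IndEtCrit.isIndEtale_of_fac (fun P _ _ _ g =>
      ⟨S.R j, inferInstance, inferInstance, inferInstance, g, AlgHom.id A _, rfl⟩)
  haveI hflat : Module.Flat (S.R j) Ash :=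
    (Groth.Agent.Lead.IndEtale.weaklyEtale_of_isIndEtale
      (Groth.Agent.S0735.result A (S.R j) Ash hRj hind)).flat
  set Q : Ideal (S.R j) := 𝔮.comap (algebraMap (S.R j) Ash) with hQ
  haveI : Q.IsPrime := Ideal.comap_isPrime _ _
  have hPQ : 𝔮.comap (algebraMap A Ash) = Q.comap (algebraMap A (S.R j)) := by
    rw [hQ, Ideal.comap_comap, ← IsScalarTower.algebraMap_eq]
  have hguQ : CAlg2.IsGeomUnibranch (Localization.AtPrime Q) :=
    Groth.Agent.Helper2.SmGU7.ring A (S.R j) (𝔮.comap (algebraMap A Ash)) Q hPQ hgu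
  -- the nilradical of the localization is prime
  haveI hdom : IsDomain (CAlg2.red (Localization.AtPrime Q)) := hguQ.1.1
  have hNp : (nilradical (Localization.AtPrime Q)).IsPrime :=
    (Ideal.Quotient.isDomain_iff_prime _).1 hdom
  set N' : Ideal (S.R j) := (nilradical (Localization.AtPrime Q)).comap
    (algebraMap (S.R j) (Localization.AtPrime Q)) with hN'
  haveI : N'.IsPrime := Ideal.comap_isPrime _ _
  have key : ∀ P : Ideal Ash, P ∈ minimalPrimes Ash → P ≤ 𝔮 →
      P.comap (algebraMap (S.R j) Ash) = N' := by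
    intro P hP hPq
    haveI := hP.1.1
    have hmin := comap_minimal_of_flat (S.R j) Ash P hP
    haveI hpr : (P.comap (algebraMap (S.R j) Ash)).IsPrime := Ideal.comap_isPrime _ _
    have hle : P.comap (algebraMap (S.R j) Ash) ≤ Q := Ideal.comap_mono hPq
    have hdisj : Disjoint (Q.primeCompl : Set (S.R j)) (P.comap (algebraMap (S.R j) Ash) : Set _) := by
      rw [Set.disjoint_left]
      intro x hx hx'
      exact hx (hle hx')
    have h1 : ((P.comap (algebraMap (S.R j) Ash)).map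
        (algebraMap (S.R j) (Localization.AtPrime Q))).comap
        (algebraMap (S.R j) (Localization.AtPrime Q)) = P.comap (algebraMap (S.R j) Ash) :=
      IsLocalization.comap_map_of_isPrime_disjoint Q.primeCompl _ hpr hdisj
    have h2 : ((P.comap (algebraMap (S.R j) Ash)).map
        (algebraMap (S.R j) (Localization.AtPrime Q))).IsPrime :=
      IsLocalization.isPrime_of_isPrime_disjoint Q.primeCompl _ _ hpr hdisj
    have h3 : N' ≤ P.comap (algebraMap (S.R j) Ash) := by
      rw [← h1, hN']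
      exact Ideal.comap_mono (nilradical_le_prime _)
    exact (le_antisymm (hmin.2 ⟨inferInstance, bot_le⟩ h3) h3)
  have e1 := key P₁ h₁ h₁q
  have e2 := key P₂ h₂ h₂q
  have hy1 : y ∈ P₁.comap (algebraMap (S.R j) Ash) := hb1
  rw [e1, ← e2] at hy1
  exact hb2 hy1

omit [Hensel.IsStrictHenselization A Ash] in
theorem comap_maximalIdeal :
    (maximalIdeal Ash).comap (algebraMap A Ash) = maximalIdeal A :=
  ((IsLocalRing.local_hom_TFAE (algebraMap A Ash)).out 0 4).1
    (inferInstance : IsLocalHom (algebraMap A Ash))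

/-- a prime of `Ash` lying over the maximal ideal of `A` is the maximal ideal -/
theorem eq_maximalIdeal_of_comap (𝔮 : Ideal Ash) [𝔮.IsPrime]
    (h : 𝔮.comap (algebraMap A Ash) = maximalIdeal A) : 𝔮 = maximalIdeal Ash := by
  have h1 : (maximalIdeal A).map (algebraMap A Ash) ≤ 𝔮 := by
    rw [Ideal.map_le_iff_le_comap, h]
  rw [Groth.Agent.Helper1.Hens.map_maximalIdeal_of_isStrictHenselization A Ash] at h1
  exact le_antisymm (IsLocalRing.le_maximalIdeal (Ideal.IsPrime.ne_top inferInstance)) h1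

/-- if the maximal ideal of `A` is not a minimal prime, neither is that of `Ash` -/
theorem maximalIdeal_not_minimal (hmin : maximalIdeal A ∉ minimalPrimes A) :
    maximalIdeal Ash ∉ minimalPrimes Ash := by
  intro h
  haveI := Groth.Agent.Helper1.Hens.faithfullyFlat_of_isStrictHenselization A Ash
  have := comap_minimal_of_flat A Ash _ h
  rw [comap_maximalIdeal] at this
  exact hmin this

/-- (⇒) -/
theorem connected_of_gu (hA : CAlg2.IsGeomUnibranch A)
    (hmin : maximalIdeal A ∉ minimalPrimes A) :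
    ConnectedSpace ↥({closedPoint Ash}ᶜ : Set (PrimeSpectrum Ash)) := by
  obtain ⟨P₀, hP₀, huniq⟩ := (Groth.Agent.Helper2.Unibr6.s2135 A Ash).1 hA
  haveI := hP₀.1.1
  have hne : P₀ ≠ maximalIdeal Ash := fun h => maximalIdeal_not_minimal A Ash hmin (h ▸ hP₀)
  let p₀ : ↥({closedPoint Ash}ᶜ : Set (PrimeSpectrum Ash)) := ⟨⟨P₀, inferInstance⟩, by
    intro h
    apply hne
    have := congrArg PrimeSpectrum.asIdeal h
    exact this⟩
  have hgen : closure ({p₀} : Set ↥({closedPoint Ash}ᶜ : Set (PrimeSpectrum Ash))) = Set.univ := by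
    rw [Set.eq_univ_iff_forall]
    intro u
    rw [← specializes_iff_mem_closure, subtype_specializes_iff, ← PrimeSpectrum.le_iff_specializes]
    obtain ⟨P, hP, hle⟩ := Ideal.exists_minimalPrimes_le (I := ⊥) (J := u.1.asIdeal) bot_le
    have : P = P₀ := huniq P hP
    rw [this] at hle
    exact hle
  have hirr : IsIrreducible (Set.univ : Set ↥({closedPoint Ash}ᶜ : Set (PrimeSpectrum Ash))) := by
    rw [← hgen]
    exact isIrreducible_singleton.closure
  haveI : PreirreducibleSpace ↥({closedPoint Ash}ᶜ : Set (PrimeSpectrum Ash)) :=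
    ⟨hirr.isPreirreducible⟩
  exact { toPreconnectedSpace := inferInstance, toNonempty := ⟨p₀⟩ }

/-- (⇐), local form -/
theorem gu_of_connected [IsNoetherianRing A]
    (hloc : ∀ (𝔭 : Ideal A) [𝔭.IsPrime], 𝔭 ≠ maximalIdeal A →
      CAlg2.IsGeomUnibranch (Localization.AtPrime 𝔭))
    (hconn : maximalIdeal A ∉ minimalPrimes A →
      PreconnectedSpace ↥({closedPoint Ash}ᶜ : Set (PrimeSpectrum Ash))) :
    CAlg2.IsGeomUnibranch A := by
  rw [Groth.Agent.Helper2.Unibr6.s2135 A Ash]
  obtain ⟨P₁, hP₁, -⟩ := Ideal.exists_minimalPrimes_le (I := ⊥) (J := maximalIdeal Ash) bot_le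
  refine ⟨P₁, hP₁, ?_⟩
  intro P₂ hP₂
  by_cases hmin : maximalIdeal A ∈ minimalPrimes A
  · -- dimension zero
    have key : ∀ P : Ideal Ash, P ∈ minimalPrimes Ash → P = maximalIdeal Ash := by
      intro P hP
      haveI := hP.1.1
      refine eq_maximalIdeal_of_comap A Ash P ?_
      haveI : (P.comap (algebraMap A Ash)).IsPrime := Ideal.comap_isPrime _ _
      have hle : P.comap (algebraMap A Ash) ≤ maximalIdeal A :=
        IsLocalRing.le_maximalIdeal (Ideal.IsPrime.ne_top inferInstance)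
      exact le_antisymm hle (hmin.2 ⟨inferInstance, bot_le⟩ hle)
    rw [key P₂ hP₂, key P₁ hP₁]
  · by_contra hne
    haveI := hconn hmin
    haveI hN : IsNoetherianRing Ash :=
      Groth.Agent.Helper1.Hens.isNoetherianRing_of_isStrictHenselization A Ash
    have hfin : (minimalPrimes Ash).Finite := minimalPrimes.finite_of_isNoetherianRing Ash
    haveI := hP₁.1.1
    haveI := hP₂.1.1
    have hmS := maximalIdeal_not_minimal A Ash hmin
    let U := ↥({closedPoint Ash}ᶜ : Set (PrimeSpectrum Ash))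
    let Z₁ : Set U := Subtype.val ⁻¹' (PrimeSpectrum.zeroLocus (P₁ : Set Ash))
    let Z₂ : Set U := Subtype.val ⁻¹' (⋃ P ∈ (minimalPrimes Ash \ {P₁}),
      PrimeSpectrum.zeroLocus (P : Set Ash))
    have hZ₁ : IsClosed Z₁ :=
      (PrimeSpectrum.isClosed_zeroLocus _).preimage continuous_subtype_val
    have hZ₂ : IsClosed Z₂ := by
      refine IsClosed.preimage continuous_subtype_val ?_
      exact Set.Finite.isClosed_biUnion (hfin.subset Set.diff_subset)
        (fun P _ => PrimeSpectrum.isClosed_zeroLocus _)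
    have hcov : (Set.univ : Set U) ⊆ Z₁ ∪ Z₂ := by
      intro u _
      obtain ⟨P, hP, hle⟩ := Ideal.exists_minimalPrimes_le (I := ⊥) (J := u.1.asIdeal) bot_le
      by_cases hPP : P = P₁
      · left
        change u.1 ∈ PrimeSpectrum.zeroLocus (P₁ : Set Ash)
        rw [PrimeSpectrum.mem_zeroLocus]
        rw [hPP] at hle
        exact hle
      · right
        change u.1 ∈ ⋃ P ∈ (minimalPrimes Ash \ {P₁}), PrimeSpectrum.zeroLocus (P : Set Ash)
        simp only [Set.mem_iUnion, PrimeSpectrum.mem_zeroLocus]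
        exact ⟨P, ⟨hP, hPP⟩, hle⟩
    have hmem : ∀ (P : Ideal Ash) (hP : P ∈ minimalPrimes Ash),
        (⟨P, hP.1.1⟩ : PrimeSpectrum Ash) ∈ ({closedPoint Ash}ᶜ : Set (PrimeSpectrum Ash)) := by
      intro P hP h
      apply hmS
      have := congrArg PrimeSpectrum.asIdeal h
      change P = maximalIdeal Ash at this
      rw [← this]; exact hP
    have hne₁ : ((Set.univ : Set U) ∩ Z₁).Nonempty :=
      ⟨⟨⟨P₁, inferInstance⟩, hmem P₁ hP₁⟩, trivial, by
        change (⟨P₁, _⟩ : PrimeSpectrum Ash) ∈ PrimeSpectrum.zeroLocus (P₁ : Set Ash)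
        rw [PrimeSpectrum.mem_zeroLocus]⟩
    have hne₂ : ((Set.univ : Set U) ∩ Z₂).Nonempty :=
      ⟨⟨⟨P₂, inferInstance⟩, hmem P₂ hP₂⟩, trivial, by
        change (⟨P₂, _⟩ : PrimeSpectrum Ash) ∈
          ⋃ P ∈ (minimalPrimes Ash \ {P₁}), PrimeSpectrum.zeroLocus (P : Set Ash)
        simp only [Set.mem_iUnion, PrimeSpectrum.mem_zeroLocus]
        exact ⟨P₂, ⟨hP₂, hne⟩, le_refl _⟩⟩
    obtain ⟨u, -, hu₁, hu₂⟩ :=
      isPreconnected_closed_iff.1 isPreconnected_univ Z₁ Z₂ hZ₁ hZ₂ hcov hne₁ hne₂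
    have hu₁' : P₁ ≤ u.1.asIdeal := by
      have : u.1 ∈ PrimeSpectrum.zeroLocus (P₁ : Set Ash) := hu₁
      rwa [PrimeSpectrum.mem_zeroLocus] at this
    have hu₂' : u.1 ∈ ⋃ P ∈ (minimalPrimes Ash \ {P₁}), PrimeSpectrum.zeroLocus (P : Set Ash) := hu₂
    simp only [Set.mem_iUnion, PrimeSpectrum.mem_zeroLocus] at hu₂'
    obtain ⟨P, ⟨hP, hPP⟩, hle⟩ := hu₂'
    have hcom : u.1.asIdeal.comap (algebraMap A Ash) ≠ maximalIdeal A := by
      intro h
      have h2 := eq_maximalIdeal_of_comap A Ash u.1.asIdeal h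
      apply u.2
      change u.1 = closedPoint Ash
      exact PrimeSpectrum.ext h2
    haveI : (u.1.asIdeal.comap (algebraMap A Ash)).IsPrime := Ideal.comap_isPrime _ _
    exact hPP (minimal_eq_of_le A Ash u.1.asIdeal (hloc _ hcom) P P₁ hP hP₁ hle hu₁')

end A1

end Groth.Agent.Helper2.PunA
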