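import Mathlib
import Groth.Prelude
import Groth.Agent.Helper2.PunA
import Groth.Agent.Helper5.GuBir3
import Groth.Agent.S0537

set_option autoImplicit false
universe u
open AlgebraicGeometry CategoryTheory IsLocalRing

namespace Groth.Agent.Helper2.PunB

theorem closure_mem_irreducibleComponents_iff {X : Type*} [TopologicalSpace X] [T0Space X]
    [QuasiSober X] (x : X) :
    closure ({x} : Set X) ∈ irreducibleComponents X ↔ ∀ y, y ⤳ x → y = x := by
  constructor
  · intro H y hy
    have h1 : closure ({x} : Set X) ⊆ closure {y} :=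
      closure_minimal (Set.singleton_subset_iff.2 hy.mem_closure) isClosed_closure
    have h2 : closure ({y} : Set X) ⊆ closure {x} := H.2 isIrreducible_singleton.closure h1
    have h3 : x ⤳ y := specializes_iff_mem_closure.2 (h2 (subset_closure rfl))
    exact (hy.antisymm h3).eq
  · intro H
    refine ⟨isIrreducible_singleton.closure, fun Z hZ hle => ?_⟩
    obtain ⟨y, hy⟩ := QuasiSober.sober hZ.closure isClosed_closure
    have hx : x ∈ closure Z := subset_closure (hle (subset_closure rfl))
    rw [← hy.def] at hx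
    have := H y (specializes_iff_mem_closure.2 hx)
    subst this
    intro z hz
    have : z ∈ closure Z := subset_closure hz
    rwa [← hy.def] at this

theorem forall_specializes_eq_iff (X : Scheme.{u}) (x : X) :
    (∀ y : X, y ⤳ x → y = x) ↔
      maximalIdeal (X.presheaf.stalk x) ∈ minimalPrimes (X.presheaf.stalk x) := by
  have hinj : Function.Injective (X.fromSpecStalk x) :=
    (X.fromSpecStalk x).isEmbedding.injective
  constructor
  · intro H
    rw [minimalPrimes_eq_minimals]
    refine ⟨inferInstance, fun 𝔭 h𝔭 hle => ?_⟩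
    have h1 : (X.fromSpecStalk x) ⟨𝔭, h𝔭⟩ ∈ {y | y ⤳ x} := by
      rw [← Scheme.range_fromSpecStalk]; exact ⟨_, rfl⟩
    have h2 := H _ h1
    have hc := Scheme.fromSpecStalk_closedPoint (X := X) (x := x)
    have h3 := hinj (h2.trans hc.symm)
    have h4 := congrArg PrimeSpectrum.asIdeal h3
    change 𝔭 = maximalIdeal _ at h4
    rw [h4]
  · intro H y hy
    have h1 : y ∈ Set.range (X.fromSpecStalk x) := by
      rw [Scheme.range_fromSpecStalk]; exact hy
    obtain ⟨p, rfl⟩ := h1
    rw [minimalPrimes_eq_minimals] at H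
    have h2 : p.asIdeal = maximalIdeal (X.presheaf.stalk x) :=
      le_antisymm (IsLocalRing.le_maximalIdeal p.2.ne_top)
        (H.2 p.2 (IsLocalRing.le_maximalIdeal p.2.ne_top))
    have h3 : p = closedPoint (X.presheaf.stalk x) := PrimeSpectrum.ext h2
    rw [h3, Scheme.fromSpecStalk_closedPoint]

theorem exists_stalk_equiv_localization (X : Scheme.{u}) (x : X)
    (𝔮 : Ideal (X.presheaf.stalk x)) [𝔮.IsPrime] :
    ∃ y : X, Nonempty (Localization.AtPrime 𝔮 ≃+* X.presheaf.stalk y) := by
  obtain ⟨U, hU, hxU, -⟩ := exists_isAffineOpen_mem_and_subset (x := x) (U := ⊤) trivial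
  letI alg1 : Algebra Γ(X, U) (X.presheaf.stalk x) :=
    TopCat.Presheaf.algebra_section_stalk X.presheaf ⟨x, hxU⟩
  haveI loc1 : IsLocalization.AtPrime (X.presheaf.stalk x) (hU.primeIdealOf ⟨x, hxU⟩).asIdeal :=
    hU.isLocalization_stalk ⟨x, hxU⟩
  haveI loc2 : IsLocalization.AtPrime (Localization.AtPrime 𝔮)
      (𝔮.comap (algebraMap Γ(X, U) (X.presheaf.stalk x))) :=
    IsLocalization.isLocalization_isLocalization_atPrime_isLocalization
      (hU.primeIdealOf ⟨x, hxU⟩).asIdeal.primeCompl (Localization.AtPrime 𝔮) 𝔮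
  set y : PrimeSpectrum Γ(X, U) := ⟨𝔮.comap (algebraMap Γ(X, U) (X.presheaf.stalk x)), inferInstance⟩
    with hy
  have hyU : hU.fromSpec y ∈ U := by
    have := hU.range_fromSpec
    have h2 : hU.fromSpec y ∈ Set.range hU.fromSpec := ⟨y, rfl⟩
    rw [this] at h2
    exact h2
  refine ⟨hU.fromSpec y, ?_⟩
  letI alg2 : Algebra Γ(X, U) (X.presheaf.stalk (hU.fromSpec y)) :=
    TopCat.Presheaf.algebra_section_stalk X.presheaf ⟨hU.fromSpec y, hyU⟩
  haveI loc3 : IsLocalization.AtPrime (X.presheaf.stalk (hU.fromSpec y)) y.asIdeal :=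
    hU.isLocalization_stalk' y hyU
  exact ⟨(IsLocalization.algEquiv y.asIdeal.primeCompl (Localization.AtPrime 𝔮)
    (X.presheaf.stalk (hU.fromSpec y))).toRingEquiv⟩

theorem isNoetherianRing_stalk (X : Scheme.{u}) [IsLocallyNoetherian X] (x : X) :
    IsNoetherianRing (X.presheaf.stalk x) := inferInstance

theorem gu_stalk_of_conn (X : Scheme.{u}) [IsNoetherian X]
    (H : ∀ (x : X), closure ({x} : Set X) ∉ irreducibleComponents X →
        ∀ (Ash : Type u) [CommRing Ash] [IsLocalRing Ash] [Algebra (X.presheaf.stalk x) Ash]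
          [IsLocalHom (algebraMap (X.presheaf.stalk x) Ash)]
          [Hensel.IsStrictHenselization (X.presheaf.stalk x) Ash],
          ConnectedSpace ↥({IsLocalRing.closedPoint Ash}ᶜ : Set (PrimeSpectrum Ash))) :
    ∀ (d : WithBot ℕ∞) (x : X), ringKrullDim (X.presheaf.stalk x) = d →
      CAlg2.IsGeomUnibranch (X.presheaf.stalk x) := by
  intro d
  induction d using WellFoundedLT.induction with
  | _ d IH =>
    intro x hx
    haveI : IsNoetherianRing (X.presheaf.stalk x) := isNoetherianRing_stalk X x
    obtain ⟨Ash, i1, i2, i3, i4, hAsh⟩ := Groth.Agent.S0537.result (X.presheaf.stalk x)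
    letI := i1; letI := i2; letI := i3; letI := i4; letI := hAsh
    refine Groth.Agent.Helper2.PunA.gu_of_connected (X.presheaf.stalk x) Ash ?_ ?_
    · intro 𝔭 h𝔭 hne
      obtain ⟨y, ⟨e⟩⟩ := exists_stalk_equiv_localization X x 𝔭
      have hdim : ringKrullDim (X.presheaf.stalk y) < d := by
        rw [← ringKrullDim_eq_of_ringEquiv e, IsLocalization.AtPrime.ringKrullDim_eq_height 𝔭,
          ← hx, ← IsLocalRing.maximalIdeal_height_eq_ringKrullDim]
        have hlt : 𝔭 < maximalIdeal (X.presheaf.stalk x) :=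
          lt_of_le_of_ne (IsLocalRing.le_maximalIdeal h𝔭.ne_top) hne
        have := Ideal.height_strict_mono_of_isPrime hlt
        exact_mod_cast this
      exact Groth.Agent.Helper5.GuBir.gu_of_ringEquiv e.symm (IH _ hdim y rfl)
    · intro hmin
      have h1 : closure ({x} : Set X) ∉ irreducibleComponents X := by
        rw [closure_mem_irreducibleComponents_iff, forall_specializes_eq_iff]
        exact hmin
      exact (H x h1 Ash).toPreconnectedSpace

theorem main (X : Scheme.{u}) [IsNoetherian X] :
    (∀ x : X, CAlg2.IsGeomUnibranch (X.presheaf.stalk x)) ↔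
      ∀ (x : X), closure ({x} : Set X) ∉ irreducibleComponents X →
        ∀ (Ash : Type u) [CommRing Ash] [IsLocalRing Ash] [Algebra (X.presheaf.stalk x) Ash]
          [IsLocalHom (algebraMap (X.presheaf.stalk x) Ash)]
          [Hensel.IsStrictHenselization (X.presheaf.stalk x) Ash],
          ConnectedSpace ↥({IsLocalRing.closedPoint Ash}ᶜ : Set (PrimeSpectrum Ash)) := by
  constructor
  · intro H x hx Ash _ _ _ _ _
    refine Groth.Agent.Helper2.PunA.connected_of_gu (X.presheaf.stalk x) Ash (H x) ?_
    intro hmin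
    apply hx
    rw [closure_mem_irreducibleComponents_iff, forall_specializes_eq_iff]
    exact hmin
  · intro H x
    exact gu_stalk_of_conn X H _ x rfl

end Groth.Agent.Helper2.PunB
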