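import Mathlib
import Groth.Agent.Helper7.ZNPurR
import Groth.Agent.Lead.EtCMA
import Groth.Agent.Helper2.SerreLoc
import Groth.Agent.Helper5.IntegralDim
import Groth.Agent.S0249

set_option autoImplicit false
set_option linter.style.haveILetI false
set_option linter.unusedSectionVars false

universe u

/-!
# Purity of the branch locus, ring level: a finite algebra over a Noetherian ring with a unique prime
`q` over `p`, `R_p` regular, `T_q` a normal domain of the same dimension, unramified at the
height-one primes below `q`, is étale at `q` (via helper7's Zariski–Nagata purity `ZNPurQ`).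
-/

namespace Groth.Agent.Helper2.PurBr

open IsLocalRing

/-- a regular local ring of dimension one is a discrete valuation ring -/
theorem isDiscreteValuationRing_of_regular_dim_one (A : Type u) [CommRing A] [IsRegularLocalRing A]
    (hdim : ringKrullDim A = 1) :
    ∃ _ : IsDomain A, IsDiscreteValuationRing A := by
  haveI : IsDomain A := Groth.Agent.Lead.RegLocal.isDomain_of_isRegularLocalRing A
  haveI : IsIntegrallyClosed A :=
    Groth.Agent.Helper4.RegNormal.isIntegrallyClosed_of_isRegularLocalRing A
  refine ⟨inferInstance, ?_⟩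
  have hnf : ¬ IsField A := by
    intro hf
    have := ringKrullDim_eq_zero_of_isField hf
    rw [this] at hdim
    exact absurd hdim (by decide)
  have hmax : ((maximalIdeal A).height : WithBot ℕ∞) = 1 := by
    rw [IsLocalRing.maximalIdeal_height_eq_ringKrullDim, hdim]
  have hmax' : (maximalIdeal A).height = 1 := by exact_mod_cast hmax
  refine ((IsDiscreteValuationRing.TFAE A hnf).out 0 3 rfl rfl).mpr ⟨inferInstance, ?_⟩
  refine ⟨maximalIdeal A, ⟨?_, inferInstance⟩, ?_⟩
  · intro h0
    rw [h0, Ideal.height_bot] at hmax'
    exact zero_ne_one hmax'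
  · rintro P ⟨hP0, hPp⟩
    haveI := hPp
    by_contra hne
    have hlt : P < maximalIdeal A :=
      lt_of_le_of_ne (IsLocalRing.le_maximalIdeal hPp.ne_top) hne
    have h1 := Ideal.height_strict_mono_of_isPrime_of_isPrime hlt
    rw [hmax'] at h1
    have h2 : P.height = 0 := by
      have : P.height < 1 := h1
      exact ENat.lt_one_iff_eq_zero.mp this
    rw [Ideal.height_eq_zero_iff_eq_bot] at h2
    exact hP0 h2

/-- injectivity passes to the localizations -/
theorem localRingHom_injective {A C : Type*} [CommRing A] [CommRing C] [IsDomain C] [Algebra A C]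
    (hinj : Function.Injective (algebraMap A C)) (P : Ideal A) [P.IsPrime] (Q : Ideal C) [Q.IsPrime]
    (h : P = Q.comap (algebraMap A C)) :
    Function.Injective (Localization.localRingHom P Q (algebraMap A C) h) := by
  rw [injective_iff_map_eq_zero]
  intro x hx
  obtain ⟨a, s, rfl⟩ := IsLocalization.exists_mk'_eq P.primeCompl x
  rw [Localization.localRingHom_mk', IsLocalization.mk'_eq_zero_iff] at hx
  obtain ⟨t, ht⟩ := hx
  have h0 : algebraMap A C a = 0 := by
    rcases mul_eq_zero.mp ht with h1 | h1
    · exact absurd h1 (fun h2 => t.2 (h2 ▸ Q.zero_mem))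
    · exact h1
  have : a = 0 := hinj (by rw [h0, map_zero])
  rw [this, IsLocalization.mk'_zero]

/-- a finite domain over a regular local ring, unramified at a prime over a height-one prime, is
étale there -/
theorem isEtaleAt_of_comap_height_one (A C : Type u) [CommRing A] [IsRegularLocalRing A]
    [CommRing C] [IsDomain C] [Algebra A C] [Module.Finite A C]
    (hinj : Function.Injective (algebraMap A C)) (Q : Ideal C) [Q.IsPrime]
    (hP : (Q.comap (algebraMap A C)).height = 1) [Algebra.IsUnramifiedAt A Q] :
    Algebra.IsEtaleAt A Q := by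
  set P := Q.comap (algebraMap A C) with hPdef
  haveI : P.IsPrime := Ideal.comap_isPrime _ _
  haveI : Q.LiesOver P := ⟨rfl⟩
  haveI : Algebra.FinitePresentation A C :=
    Algebra.FinitePresentation.of_finiteType.mp inferInstance
  apply Groth.Agent.Lead.EtCMA.isEtaleAt_of_flat_local P Q
  letI := Localization.AtPrime.algebraOfLiesOver P Q
  haveI hreg : IsRegularLocalRing (Localization.AtPrime P) :=
    Groth.Agent.Helper2.SerreLoc.isRegularLocalRing_localization A P
  have hdim : ringKrullDim (Localization.AtPrime P) = 1 := by
    rw [IsLocalization.AtPrime.ringKrullDim_eq_height P, hP]; rfl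
  obtain ⟨hdom, hdvr⟩ := isDiscreteValuationRing_of_regular_dim_one _ hdim
  haveI : IsDomain (Localization.AtPrime Q) :=
    IsLocalization.isDomain_localization Q.primeCompl_le_nonZeroDivisors
  have hinj' : Function.Injective
      (algebraMap (Localization.AtPrime P) (Localization.AtPrime Q)) :=
    localRingHom_injective hinj P Q rfl
  rw [Module.Flat.flat_iff_torsion_eq_bot_of_isBezout, Submodule.eq_bot_iff]
  intro m hm
  rw [Submodule.mem_torsion_iff] at hm
  obtain ⟨a, ha⟩ := hm
  rw [Submonoid.smul_def, Algebra.smul_def] at ha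
  rcases mul_eq_zero.mp ha with h1 | h1
  · exfalso
    have : (a : Localization.AtPrime P) = 0 := hinj' (by rw [h1, map_zero])
    exact nonZeroDivisors.coe_ne_zero a this
  · exact h1

/-- a finite domain of full dimension over a Noetherian local domain contains it -/
theorem injective_of_finite_of_ringKrullDim_eq (A C : Type u) [CommRing A] [IsDomain A]
    [IsNoetherianRing A] [IsLocalRing A] [CommRing C] [IsDomain C] [Algebra A C] [Module.Finite A C]
    (hdim : ringKrullDim C = ringKrullDim A) : Function.Injective (algebraMap A C) := by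
  rw [injective_iff_map_eq_zero]
  intro r hr
  by_contra hr0
  set I : Ideal A := Ideal.span {r} with hI
  have hle : I ≤ RingHom.ker (algebraMap A C) := by
    rw [hI, Ideal.span_le, Set.singleton_subset_iff]
    exact hr
  letI : Algebra (A ⧸ I) C := (Ideal.Quotient.lift I (algebraMap A C) (fun a ha => hle ha)).toAlgebra
  haveI : IsScalarTower A (A ⧸ I) C := IsScalarTower.of_algebraMap_eq (fun a => by
    rw [RingHom.algebraMap_toAlgebra]; rfl)
  haveI : Algebra.IsIntegral A C := Algebra.IsIntegral.of_finite A C
  haveI : Algebra.IsIntegral (A ⧸ I) C := ⟨fun c => (Algebra.IsIntegral.isIntegral (R := A) c).tower_top⟩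
  have h1 : ringKrullDim C ≤ ringKrullDim (A ⧸ I) :=
    Groth.Agent.Helper5.IntegralDim.ringKrullDim_le_of_isIntegral
  have h2 : ringKrullDim (A ⧸ I) + 1 ≤ ringKrullDim A :=
    ringKrullDim_quotient_succ_le_of_nonZeroDivisor (mem_nonZeroDivisors_of_ne_zero hr0)
  have h3 : ringKrullDim A + 1 ≤ ringKrullDim A := by
    calc ringKrullDim A + 1 = ringKrullDim C + 1 := by rw [hdim]
      _ ≤ ringKrullDim (A ⧸ I) + 1 := by gcongr
      _ ≤ ringKrullDim A := h2
  obtain ⟨n, hn⟩ : ∃ n : ℕ, ringKrullDim A = n := by
    have h4 : ringKrullDim A ≠ ⊤ := ringKrullDim_ne_top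
    have h5 : ringKrullDim A ≠ ⊥ := ringKrullDim_ne_bot
    obtain ⟨m, hm⟩ := WithBot.ne_bot_iff_exists.mp h5
    have hm' : m ≠ ⊤ := by
      intro h
      apply h4
      rw [← hm, h]
      rfl
    obtain ⟨n, hn⟩ := ENat.ne_top_iff_exists.mp hm'
    refine ⟨n, ?_⟩
    rw [← hm, ← hn]
    rfl
  rw [hn] at h3
  have : ((n + 1 : ℕ) : WithBot ℕ∞) ≤ (n : ℕ) := by exact_mod_cast h3
  have : n + 1 ≤ n := by exact_mod_cast this
  omega

/-- étaleness at a prime passes to smaller primes -/
theorem isEtaleAt_of_le (A C : Type u) [CommRing A] [CommRing C] [Algebra A C]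
    [Algebra.FinitePresentation A C] (Q' Q : Ideal C) [Q'.IsPrime] [Q.IsPrime] (hle : Q' ≤ Q)
    (h : Algebra.IsEtaleAt A Q) : Algebra.IsEtaleAt A Q' := by
  have hs : (⟨Q', inferInstance⟩ : PrimeSpectrum C) ⤳ ⟨Q, inferInstance⟩ := by
    rw [← PrimeSpectrum.le_iff_specializes]
    exact hle
  have hopen : IsOpen (Algebra.etaleLocus A C) := Algebra.isOpen_etaleLocus
  have hQ : (⟨Q, inferInstance⟩ : PrimeSpectrum C) ∈ Algebra.etaleLocus A C := by
    rw [Algebra.mem_etaleLocus_iff]; exact h
  have := hs.mem_open hopen hQ
  rwa [Algebra.mem_etaleLocus_iff] at this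

/-- local form: a finite normal local domain over a regular local ring of the same dimension `≥ 1`,
unramified at its height-one primes, is étale -/
theorem formallyEtale_of_unramified_codim_one (A C : Type u) [CommRing A] [IsRegularLocalRing A]
    [CommRing C] [IsDomain C] [IsIntegrallyClosed C] [IsLocalRing C] [Algebra A C] [Module.Finite A C]
    (hdim : ringKrullDim C = ringKrullDim A) (h1 : (1 : WithBot ℕ∞) ≤ ringKrullDim C)
    (hunr : ∀ (Q : Ideal C) [Q.IsPrime], Q.height = 1 → Algebra.IsUnramifiedAt A Q) :
    Algebra.FormallyEtale A C := by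
  haveI : IsDomain A := Groth.Agent.Lead.RegLocal.isDomain_of_isRegularLocalRing A
  haveI : IsIntegrallyClosed A :=
    Groth.Agent.Helper4.RegNormal.isIntegrallyClosed_of_isRegularLocalRing A
  have hinj : Function.Injective (algebraMap A C) := injective_of_finite_of_ringKrullDim_eq A C hdim
  haveI : FaithfulSMul A C := (faithfulSMul_iff_algebraMap_injective A C).mpr hinj
  haveI : Algebra.IsIntegral A C := Algebra.IsIntegral.of_finite A C
  haveI : IsNoetherianRing C := IsNoetherianRing.of_finite A C
  haveI : Algebra.FinitePresentation A C :=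
    Algebra.FinitePresentation.of_finiteType.mp inferInstance
  -- primes of height one are étale
  have hone : ∀ (Q : Ideal C) [Q.IsPrime], Q.height = 1 → Algebra.IsEtaleAt A Q := by
    intro Q _ hQ
    haveI := hunr Q hQ
    haveI : (Q.comap (algebraMap A C)).IsPrime := Ideal.comap_isPrime _ _
    haveI : Q.LiesOver (Q.comap (algebraMap A C)) := ⟨rfl⟩
    apply isEtaleAt_of_comap_height_one A C hinj Q
    apply le_antisymm
    · have := Ideal.height_eq_height_add_of_liesOver_of_hasGoingDown
        (Q.comap (algebraMap A C)) Q
      rw [← hQ, this]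
      exact le_self_add
    · rw [← hQ]
      exact Groth.Agent.Helper7.ZNPur.height_le_height_comap_of_isIntegral Q
  have hcod : ∀ (Q : Ideal C) [Q.IsPrime], (Q.comap (algebraMap A C)).height ≤ 1 →
      Algebra.IsEtaleAt A Q := by
    intro Q _ hQ
    have hQ1 : Q.height ≤ 1 :=
      (Groth.Agent.Helper7.ZNPur.height_le_height_comap_of_isIntegral Q).trans hQ
    by_cases h0 : Q.height = 0
    · -- the generic point
      obtain ⟨Q₁, hQ₁p, -, hQ₁⟩ := Groth.Agent.S0249.result C h1 0 (Ideal.zero_mem _)
      haveI := hQ₁p
      have hbot : Q = ⊥ := (Ideal.height_eq_zero_iff_eq_bot).mp h0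
      exact isEtaleAt_of_le A C Q Q₁ (hbot ▸ bot_le) (hone Q₁ hQ₁)
    · apply hone Q
      apply le_antisymm hQ1
      rw [Order.one_le_iff_pos, pos_iff_ne_zero]
      exact h0
  have hall := Groth.Agent.Helper7.ZNPur.isEtaleAt_of_codim_one A C hinj hcod
  rw [← Algebra.etaleLocus_eq_univ_iff, Set.eq_univ_iff_forall]
  rintro ⟨Q, hQ⟩
  rw [Algebra.mem_etaleLocus_iff]
  exact hall Q

/-- chart form of the purity of the branch locus: `T` finite over the Noetherian ring `R`, `q` the
only prime of `T` over `p`, `R_p` regular, `T_q` a normal domain of the same dimension `≥ 1`,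
unramified at the height-one primes below `q`: then `T` is étale over `R` at `q`. -/
theorem isEtaleAt_of_unique_prime (R T : Type u) [CommRing R] [IsNoetherianRing R] [CommRing T]
    [Algebra R T] [Module.Finite R T] (p : Ideal R) [p.IsPrime] (q : Ideal T) [q.IsPrime]
    [q.LiesOver p] (hq : p.primesOver T = {q})
    (hreg : IsRegularLocalRing (Localization.AtPrime p))
    (hnorm : IsDomain (Localization.AtPrime q) ∧ IsIntegrallyClosed (Localization.AtPrime q))
    (hht : q.height = p.height) (h1 : 1 ≤ q.height)
    (hunr : ∀ (q' : Ideal T) [q'.IsPrime], q' ≤ q → q'.height = 1 → Algebra.IsUnramifiedAt R q') :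
    Algebra.IsEtaleAt R q := by
  letI := Localization.AtPrime.algebraOfLiesOver p q
  haveI := hreg
  obtain ⟨hd, hic⟩ := hnorm
  haveI := hd
  haveI := hic
  haveI : Module.Finite (Localization.AtPrime p) (Localization.AtPrime q) :=
    Localization.finite_of_primesOver_eq_singleton hq
  have hdim : ringKrullDim (Localization.AtPrime q) = ringKrullDim (Localization.AtPrime p) := by
    rw [IsLocalization.AtPrime.ringKrullDim_eq_height q, IsLocalization.AtPrime.ringKrullDim_eq_height p,
      hht]
  have h1' : (1 : WithBot ℕ∞) ≤ ringKrullDim (Localization.AtPrime q) := by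
    rw [IsLocalization.AtPrime.ringKrullDim_eq_height q]
    exact_mod_cast h1
  haveI : Algebra.FormallyEtale (Localization.AtPrime p) (Localization.AtPrime q) := by
    apply formallyEtale_of_unramified_codim_one _ _ hdim h1'
    intro Q _ hQ
    set q' := Q.comap (algebraMap T (Localization.AtPrime q)) with hq'
    haveI : q'.IsPrime := Ideal.comap_isPrime _ _
    have hq'le : q' ≤ q := by
      have h2 : Q ≤ maximalIdeal (Localization.AtPrime q) :=
        IsLocalRing.le_maximalIdeal Ideal.IsPrime.ne_top'
      calc q' ≤ (maximalIdeal (Localization.AtPrime q)).comap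
            (algebraMap T (Localization.AtPrime q)) := Ideal.comap_mono h2
        _ = q := IsLocalization.AtPrime.comap_maximalIdeal (Localization.AtPrime q) q
    have hq'ht : q'.height = 1 := by
      rw [← hQ]
      exact IsLocalization.height_under q.primeCompl Q
    haveI hU := hunr q' hq'le hq'ht
    haveI : IsLocalization.AtPrime (Localization.AtPrime Q) q' :=
      IsLocalization.isLocalization_isLocalization_atPrime_isLocalization q.primeCompl
        (Localization.AtPrime Q) Q
    let e : Localization.AtPrime q' ≃ₐ[T] Localization.AtPrime Q :=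
      IsLocalization.algEquiv q'.primeCompl _ _
    haveI : Algebra.FormallyUnramified R (Localization.AtPrime q') := hU
    haveI : Algebra.FormallyUnramified R (Localization.AtPrime Q) :=
      Algebra.FormallyUnramified.of_equiv (e.restrictScalars R)
    exact Algebra.FormallyUnramified.of_restrictScalars R (Localization.AtPrime p)
      (Localization.AtPrime Q)
  haveI : Algebra.FormallyEtale R (Localization.AtPrime p) :=
    Algebra.FormallyEtale.of_isLocalization p.primeCompl
  exact Algebra.FormallyEtale.comp R (Localization.AtPrime p) (Localization.AtPrime q)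

end Groth.Agent.Helper2.PurBr
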