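import Mathlib
import Groth.Agent.Helper2.PurBr1
import Groth.Agent.Helper3.EtCodim1Sch
import Groth.Agent.Helper4.EtLocalFlat
import Groth.Agent.Helper5.SmNorm6

set_option autoImplicit false
set_option linter.style.haveILetI false
set_option linter.unusedSectionVars false
set_option linter.unusedVariables false

universe u

/-!
# Purity of the branch locus, scheme level: the finite case
-/

namespace Groth.Agent.Helper2.PurBr

open IsLocalRing AlgebraicGeometry CategoryTheory Limits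
  Groth.Agent.Helper3.EtCodim1Sch

/-- étaleness at a prime of an affine chart gives flatness of the stalk map -/
lemma flat_stalkMap_of_isEtaleAt {X Y : Scheme.{u}} (f : X ⟶ Y) {V : Y.Opens} {W : X.Opens}
    (hV : IsAffineOpen V) (hW : IsAffineOpen W) (e : W ≤ f ⁻¹ᵁ V) (x : X) (hx : x ∈ W)
    [Algebra Γ(Y, V) Γ(X, W)] (halg : algebraMap Γ(Y, V) Γ(X, W) = (f.appLE V W e).hom)
    [IsNoetherianRing Γ(Y, V)] [Algebra.FiniteType Γ(Y, V) Γ(X, W)]
    (h : Algebra.IsEtaleAt Γ(Y, V) (hW.primeIdealOf ⟨x, hx⟩).asIdeal) :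
    (f.stalkMap x).hom.Flat := by
  have e' := IsAffineOpen.arrowStalkMapIso f V hV W hW e hx
  rw [RingHom.Flat.respectsIso.arrow_mk_iso_iff e']
  have hcomap := IsAffineOpen.comap_primeIdealOf_appLE V hV W hW e hx
  have key : ∀ (φ : Γ(Y, V) →+* Γ(X, W)) (hφ : algebraMap Γ(Y, V) Γ(X, W) = φ)
      (I : Ideal Γ(Y, V)) [I.IsPrime] (q : Ideal Γ(X, W)) [q.IsPrime]
      (h : I = q.comap φ),
      Algebra.IsEtaleAt Γ(Y, V) q → (Localization.localRingHom I q φ h).Flat := by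
    rintro _ rfl _ _ q _ rfl hq
    haveI : q.LiesOver (q.comap (algebraMap Γ(Y, V) Γ(X, W))) := ⟨rfl⟩
    letI := Localization.AtPrime.algebraOfLiesOver (q.comap (algebraMap Γ(Y, V) Γ(X, W))) q
    haveI := hq
    exact Groth.Agent.Helper4.EtLocalFlat.fwd_flat Γ(Y, V) Γ(X, W)
      (q.comap (algebraMap Γ(Y, V) Γ(X, W))) q
  exact key _ halg _ _ (congr($(hcomap).1).symm) h

/-- Finite case of the purity of the branch locus. -/
theorem stalkMap_etale_of_codim_one {V U : Scheme.{u}} [IsLocallyNoetherian U]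
    (h : V ⟶ U) [IsFinite h] (v : V)
    (huniq : ∀ w : V, h w = h v → w = v)
    (hreg : IsRegularLocalRing (U.presheaf.stalk (h v)))
    (hnorm : IsDomain (V.presheaf.stalk v) ∧ IsIntegrallyClosed (V.presheaf.stalk v))
    (hdimeq : ringKrullDim (V.presheaf.stalk v) = ringKrullDim (U.presheaf.stalk (h v)))
    (hdim : (1 : WithBot ℕ∞) ≤ ringKrullDim (V.presheaf.stalk v))
    (hunr : ∀ w : V, w ⤳ v → ringKrullDim (V.presheaf.stalk w) = 1 →
      (h.stalkMap w).hom.FormallyUnramified) :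
    (h.stalkMap v).hom.Flat ∧ (h.stalkMap v).hom.FormallyUnramified := by
  obtain ⟨U₀, hU₀, hvU₀, _⟩ := TopologicalSpace.Opens.isBasis_iff_nbhd.mp U.isBasis_affineOpens
    (TopologicalSpace.Opens.mem_top <| h v)
  have hU₀ : IsAffineOpen U₀ := hU₀
  have hW : IsAffineOpen (h ⁻¹ᵁ U₀) := hU₀.preimage h
  haveI : IsNoetherianRing Γ(U, U₀) := IsLocallyNoetherian.component_noetherian ⟨U₀, hU₀⟩
  have hfin : (h.appLE U₀ (h ⁻¹ᵁ U₀) le_rfl).hom.Finite := by
    rw [Scheme.Hom.appLE_eq_app]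
    exact IsFinite.finite_app h U₀ hU₀
  algebraize [(h.appLE U₀ (h ⁻¹ᵁ U₀) le_rfl).hom]
  have hv : v ∈ h ⁻¹ᵁ U₀ := hvU₀
  set q := (hW.primeIdealOf ⟨v, hv⟩).asIdeal with hq
  set p := (hU₀.primeIdealOf ⟨h v, hv⟩).asIdeal with hp
  have hcomap : ∀ (w : V) (hw : w ∈ h ⁻¹ᵁ U₀),
      (hW.primeIdealOf ⟨w, hw⟩).asIdeal.comap (algebraMap Γ(U, U₀) Γ(V, h ⁻¹ᵁ U₀)) =
        (hU₀.primeIdealOf ⟨h w, hw⟩).asIdeal := fun w hw =>
    congr($(IsAffineOpen.comap_primeIdealOf_appLE U₀ hU₀ (h ⁻¹ᵁ U₀) hW le_rfl hw).1)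
  haveI : q.LiesOver p := ⟨(hcomap v hv).symm⟩
  have hqu : p.primesOver Γ(V, h ⁻¹ᵁ U₀) = {q} := by
    ext q'
    constructor
    · rintro ⟨hq'p, hq'o⟩
      obtain ⟨w, hw, hwQ, -⟩ := exists_point_of_prime hW ⟨q', hq'p⟩
      have h1 : (hU₀.primeIdealOf ⟨h w, hw⟩) = (hU₀.primeIdealOf ⟨h v, hv⟩) := by
        apply PrimeSpectrum.ext
        rw [← hcomap w hw, hwQ]
        exact hq'o.over.symm
      have h2 : h w = h v := primeIdealOf_injective hU₀ _ _ _ _ h1
      have h3 : w = v := huniq w h2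
      subst h3
      exact congr($(hwQ).1).symm
    · rintro rfl
      exact ⟨inferInstance, inferInstance⟩
  have hregp : IsRegularLocalRing (Localization.AtPrime p) := by
    letI := U.presheaf.algebra_section_stalk ⟨h v, hv⟩
    haveI := hU₀.isLocalization_stalk ⟨h v, hv⟩
    have e := IsLocalization.algEquiv p.primeCompl (U.presheaf.stalk (h v)) (Localization.AtPrime p)
    haveI := hreg
    exact IsRegularLocalRing.of_ringEquiv e.toRingEquiv
  have hnormq : IsDomain (Localization.AtPrime q) ∧ IsIntegrallyClosed (Localization.AtPrime q) := by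
    letI := V.presheaf.algebra_section_stalk ⟨v, hv⟩
    haveI := hW.isLocalization_stalk ⟨v, hv⟩
    have e := IsLocalization.algEquiv q.primeCompl (V.presheaf.stalk v) (Localization.AtPrime q)
    exact Groth.Agent.Helper5.SmNorm.normal_of_ringEquiv e.toRingEquiv hnorm
  have hht : q.height = p.height := by
    have h1 := ringKrullDim_stalk_eq_height hW v hv
    have h2 := ringKrullDim_stalk_eq_height hU₀ (h v) hv
    rw [h1, h2] at hdimeq
    exact_mod_cast hdimeq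
  have h1q : 1 ≤ q.height := by
    rw [ringKrullDim_stalk_eq_height hW v hv] at hdim
    exact_mod_cast hdim
  have hE : Algebra.IsEtaleAt Γ(U, U₀) q := by
    refine isEtaleAt_of_unique_prime Γ(U, U₀) Γ(V, h ⁻¹ᵁ U₀) p q hqu hregp hnormq hht h1q ?_
    intro q₁ hq₁p hq₁le hq₁ht
    obtain ⟨w, hw, hwQ, hwf⟩ := exists_point_of_prime hW ⟨q₁, hq₁p⟩
    have hspec : w ⤳ v := by
      have h2 : (⟨q₁, hq₁p⟩ : PrimeSpectrum Γ(V, h ⁻¹ᵁ U₀)) ⤳ hW.primeIdealOf ⟨v, hv⟩ := by
        rw [← PrimeSpectrum.le_iff_specializes]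
        exact hq₁le
      have h3 := h2.map hW.fromSpec.continuous
      rwa [hwf, hW.fromSpec_primeIdealOf ⟨v, hv⟩] at h3
    have hdimw : ringKrullDim (V.presheaf.stalk w) = 1 := by
      rw [ringKrullDim_stalk_eq_height hW w hw, hwQ]
      change ((q₁.height : ℕ∞) : WithBot ℕ∞) = 1
      rw [hq₁ht]
      rfl
    have hs := hunr w hspec hdimw
    rw [← isUnramifiedAt_iff_stalkMap h hU₀ hW le_rfl w hw rfl] at hs
    have key2 : ∀ Q' : PrimeSpectrum Γ(V, h ⁻¹ᵁ U₀), Q' = ⟨q₁, hq₁p⟩ →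
        Algebra.IsUnramifiedAt Γ(U, U₀) Q'.asIdeal → Algebra.IsUnramifiedAt Γ(U, U₀) q₁ := by
      rintro _ rfl h
      exact h
    exact key2 _ hwQ hs
  refine ⟨flat_stalkMap_of_isEtaleAt h hU₀ hW le_rfl v hv rfl hE, ?_⟩
  rw [← isUnramifiedAt_iff_stalkMap h hU₀ hW le_rfl v hv rfl]
  haveI := hE
  exact inferInstanceAs (Algebra.FormallyUnramified Γ(U, U₀) (Localization.AtPrime q))

end Groth.Agent.Helper2.PurBr
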