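import Mathlib
import Groth.Agent.Helper2.PurBr2
import Groth.Agent.Helper2.FibSmAt
import Groth.Agent.S0065

set_option autoImplicit false
set_option linter.style.haveILetI false
set_option linter.unusedSectionVars false
set_option linter.unusedVariables false

universe u

/-!
# Purity of the branch locus (quasi-finite, equidimensional case)
-/

namespace Groth.Agent.Helper2.PurBr

open IsLocalRing AlgebraicGeometry CategoryTheory Limits
  Groth.Agent.Helper3.StalkNbhd Groth.Agent.Helper3.UnramBC Groth.Agent.Helper3.EtCodim1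
  Groth.Agent.Helper3.EtCodim1Sch

theorem main {X Y : Scheme.{u}} (f : X ⟶ Y) [LocallyOfFiniteType f]
    [IsLocallyNoetherian X] [IsLocallyNoetherian Y] (x : X)
    (hx : IsDomain (X.presheaf.stalk x) ∧ IsIntegrallyClosed (X.presheaf.stalk x))
    (hy : IsRegularLocalRing (Y.presheaf.stalk (f.base x)))
    (hq : f.QuasiFiniteAt x)
    (hdim : ringKrullDim (X.presheaf.stalk x) = ringKrullDim (Y.presheaf.stalk (f.base x)))
    (hdim1 : (1 : WithBot ℕ∞) ≤ ringKrullDim (X.presheaf.stalk x))
    (hunr : ∀ x' : X, x' ⤳ x → ringKrullDim (X.presheaf.stalk x') = 1 →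
      (f.stalkMap x').hom.FormallyUnramified) :
    ∃ U : X.Opens, x ∈ U ∧ Etale (U.ι ≫ f) := by
  haveI : LocallyOfFinitePresentation f := lfp_of_lft_noeth f
  rw [etale_nbhd_iff f x]
  obtain ⟨U', g, u, hget, hgu, J, hJ, V, v, H1, H2, H3⟩ :=
    Groth.Agent.Helper3.QFFinal.main f (f x) (ι := Unit) (fun _ => x) (fun _ _ _ => rfl)
      (fun _ => rfl) (fun _ => hq)
  haveI := hget
  obtain ⟨w₀, hw₀1, hw₀2⟩ := Scheme.Pullback.exists_preimage_pullback (f := f) (g := g) x u hgu.symm
  obtain ⟨j, hj⟩ := H3 w₀ () hw₀2 hw₀1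
  obtain ⟨hvV, hfin, hvu, hvuniq, -, hvx⟩ := H1 () j
  set V₀ := V () j with hV₀
  set v₀ := v () j with hv₀
  haveI := hfin
  haveI : IsLocallyNoetherian U' := LocallyOfFiniteType.isLocallyNoetherian g
  -- the étale map `e : V₀ ⟶ X`
  let e : (V₀ : Scheme.{u}) ⟶ X := V₀.ι ≫ pullback.fst f g
  let h : (V₀ : Scheme.{u}) ⟶ U' := V₀.ι ≫ pullback.snd f g
  haveI : Etale (pullback.fst f g) := inferInstance
  haveI : Etale e := inferInstance
  haveI : LocallyQuasiFinite e := ((Groth.Agent.Helper3.EtSmQF.main e).mp inferInstance).2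
  haveI : LocallyQuasiFinite g := ((Groth.Agent.Helper3.EtSmQF.main g).mp inferInstance).2
  have hdimeq : ∀ w : (V₀ : Scheme.{u}),
      ringKrullDim ((V₀ : Scheme.{u}).presheaf.stalk w) = ringKrullDim (X.presheaf.stalk (e w)) :=
    fun w => ringKrullDim_stalk_eq e w (e.quasiFiniteAt w)
  have hev₀ : e ⟨v₀, hvV⟩ = x := hvx
  have hhv₀ : h ⟨v₀, hvV⟩ = u := hvu
  have hdimg : ringKrullDim (U'.presheaf.stalk u) = ringKrullDim (Y.presheaf.stalk (g u)) :=
    ringKrullDim_stalk_eq g u (g.quasiFiniteAt u)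
  -- regularity of the stalk of `U'` at `u`
  have hregu : IsRegularLocalRing (U'.presheaf.stalk u) := by
    rw [Groth.Agent.S0065.result g u]
    have : ∀ y : Y, y = f x → IsRegularLocalRing (Y.presheaf.stalk y) := by
      rintro _ rfl; exact hy
    exact this _ hgu
  have hdimu : ringKrullDim (U'.presheaf.stalk u) = ringKrullDim (Y.presheaf.stalk (f x)) := by
    rw [hdimg]
    have : ∀ y : Y, y = f x → ringKrullDim (Y.presheaf.stalk y) =
        ringKrullDim (Y.presheaf.stalk (f x)) := by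
      rintro _ rfl; rfl
    exact this _ hgu
  have hdimv : ringKrullDim ((V₀ : Scheme.{u}).presheaf.stalk ⟨v₀, hvV⟩) =
      ringKrullDim (X.presheaf.stalk x) := by
    rw [hdimeq ⟨v₀, hvV⟩]
    have : ∀ y : X, y = x → ringKrullDim (X.presheaf.stalk y) =
        ringKrullDim (X.presheaf.stalk x) := by
      rintro _ rfl; rfl
    exact this _ hev₀
  have key := stalkMap_etale_of_codim_one h ⟨v₀, hvV⟩ ?_ ?_ ?_ ?_ ?_ ?_
  rotate_left
  · intro w hw
    apply Subtype.ext
    refine hvuniq w.1 w.2 ?_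
    have : h w = h ⟨v₀, hvV⟩ := hw
    exact this.trans hvu
  · have : ∀ y : U', y = u → IsRegularLocalRing (U'.presheaf.stalk y) := by
      rintro _ rfl; exact hregu
    exact this _ hhv₀
  · rw [Groth.Agent.Helper5.SmNorm.s0066 e ⟨v₀, hvV⟩]
    have : ∀ y : X, y = x → IsDomain (X.presheaf.stalk y) ∧
        IsIntegrallyClosed (X.presheaf.stalk y) := by
      rintro _ rfl; exact hx
    exact this _ hev₀
  · rw [hdimv, hdim, ← hdimu]
    have : ∀ y : U', y = u → ringKrullDim (U'.presheaf.stalk u) =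
        ringKrullDim (U'.presheaf.stalk y) := by
      rintro _ rfl; rfl
    exact this _ hhv₀
  · rw [hdimv]; exact hdim1
  · intro w hspec hdimw
    have hs1 : e w ⤳ x := by
      have := hspec.map e.continuous
      rwa [hev₀] at this
    have hd1 : ringKrullDim (X.presheaf.stalk (e w)) = 1 := by
      rw [← hdimeq w]; exact hdimw
    have h1 := hunr (e w) hs1 hd1
    have h2 : ((pullback.snd f g).stalkMap (V₀.ι w)).hom.FormallyUnramified :=
      (stalkMap_snd_formallyUnramified_iff f g (V₀.ι w)).mpr h1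
    exact (stalkMap_ι_comp_iff RingHom.FormallyUnramified.respectsIso (pullback.snd f g) V₀
      w.1 w.2).mpr h2
  obtain ⟨kflat, kunr⟩ := key
  have kunr' : ((pullback.snd f g).stalkMap v₀).hom.FormallyUnramified :=
    (stalkMap_ι_comp_iff RingHom.FormallyUnramified.respectsIso (pullback.snd f g) V₀ v₀ hvV).mp
      kunr
  have kflat' : ((pullback.snd f g).stalkMap v₀).hom.Flat :=
    (stalkMap_ι_comp_iff RingHom.Flat.respectsIso (pullback.snd f g) V₀ v₀ hvV).mp kflat
  have h3 := (stalkMap_snd_formallyUnramified_iff f g v₀).mp kunr'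
  -- flatness
  have hcompflat : ((pullback.snd f g ≫ g).stalkMap v₀).hom.Flat := by
    rw [Scheme.Hom.stalkMap_comp]
    exact RingHom.Flat.comp (Flat.stalkMap g _) kflat'
  have hcompflat' : ((pullback.fst f g ≫ f).stalkMap v₀).hom.Flat := by
    have : ∀ φ : pullback f g ⟶ Y, φ = pullback.snd f g ≫ g → (φ.stalkMap v₀).hom.Flat := by
      rintro _ rfl; exact hcompflat
    exact this _ pullback.condition
  have h4 : (f.stalkMap (pullback.fst f g v₀)).hom.Flat :=
    Groth.Agent.Helper2.FibSmAt.flat_of_comp_flat (pullback.fst f g) f v₀ hcompflat'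
      (Flat.stalkMap (pullback.fst f g) v₀)
  have : ∀ y : X, y = x → (f.stalkMap y).hom.Flat → (f.stalkMap y).hom.FormallyUnramified →
      (f.stalkMap x).hom.Flat ∧ (f.stalkMap x).hom.FormallyUnramified := by
    rintro _ rfl h h'; exact ⟨h, h'⟩
  exact this _ hvx h4 h3

end Groth.Agent.Helper2.PurBr
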