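import Mathlib
import Groth.Prelude.Def_FlatCA
import Groth.Agent.Helper4.FiberAss2

set_option linter.style.haveILetI false
set_option linter.unusedSectionVars false
set_option autoImplicit false

/-! A module which is projective over the base is universally pure (Raynaud–Gruson 3.3.5):
content ideals and Cayley–Hamilton. -/

namespace Groth.Agent.Helper2.PureProj

open TensorProduct FlatCA

attribute [local instance] Algebra.TensorProduct.rightAlgebra

universe u

section Nak

/-- a Nakayama-type statement in a domain. -/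
theorem eq_bot_of_mul_le {R : Type u} [CommRing R] [IsDomain R] (t I : Ideal R) [t.IsPrime]
    (hI : I.FG) (σ : R) (hσ : σ ∉ t) (h : ∀ y ∈ I, σ * y ∈ t * I) : I = ⊥ := by
  haveI : Module.Finite R I := Module.Finite.of_fg hI
  let f : Module.End R I := algebraMap R (Module.End R I) σ
  have hf : LinearMap.range f ≤ t • (⊤ : Submodule R I) := by
    rintro _ ⟨y, rfl⟩
    rw [Submodule.mem_smul_top_iff]
    exact h y y.2
  obtain ⟨p, hmon, -, hcoeff, hp⟩ :=
    LinearMap.exists_monic_and_natDegree_eq_and_coeff_mem_pow_and_aeval_eq_zero R f t hf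
  have hev : Polynomial.aeval f p = algebraMap R (Module.End R I) (p.eval σ) :=
    Polynomial.aeval_algebraMap_apply_eq_algebraMap_eval σ p
  have hδ : p.eval σ ∉ t := by
    intro hmem
    have h1 : p.eval σ - σ ^ p.natDegree ∈ t := by
      rw [Polynomial.eval_eq_sum_range, Finset.sum_range_succ, hmon.coeff_natDegree, one_mul,
        add_sub_cancel_right]
      apply Ideal.sum_mem
      intro i hi
      apply Ideal.mul_mem_right
      have hi' : i < p.natDegree := Finset.mem_range.1 hi
      exact Ideal.pow_le_self (by omega) (hcoeff i)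
    have h2 : σ ^ p.natDegree ∈ t := by
      have := t.sub_mem hmem h1
      simpa using this
    exact hσ (Ideal.IsPrime.mem_of_pow_mem inferInstance _ h2)
  have hδ0 : p.eval σ ≠ 0 := fun h0 => hδ (h0 ▸ t.zero_mem)
  rw [eq_bot_iff]
  intro y hy
  have h3 : (Polynomial.aeval f p) ⟨y, hy⟩ = 0 := by rw [hp]; rfl
  rw [hev] at h3
  have h4 : p.eval σ * y = 0 := by
    have := congrArg Subtype.val h3
    simpa using this
  rcases mul_eq_zero.1 h4 with h5 | h5
  · exact absurd h5 hδ0
  · rw [h5]; exact Ideal.zero_mem _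

end Nak

section Content
variable {A' B' : Type u} [CommRing A'] [CommRing B'] [Algebra A' B']
  {N' : Type u} [AddCommGroup N'] [Module B' N'] [Module A' N'] [IsScalarTower A' B' N']
  (s : N' →ₗ[A'] N' →₀ A') (hs : Finsupp.linearCombination A' id ∘ₗ s = LinearMap.id)

/-- the content ideal of `x` with respect to the coordinate system `s`. -/
def content (x : N') : Ideal A' := Ideal.span ((s x) '' ↑(s x).support)

theorem content_fg (x : N') : (content s x).FG :=
  Submodule.fg_span (Set.Finite.image _ (Finset.finite_toSet _))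

theorem coord_mem_content (x : N') (n : N') : s x n ∈ content s x := by
  by_cases hn : n ∈ (s x).support
  · exact Ideal.subset_span ⟨n, hn, rfl⟩
  · rw [Finsupp.notMem_support_iff.1 hn]
    exact Ideal.zero_mem _

include hs in
theorem mem_content_smul (x : N') : x ∈ content s x • (⊤ : Submodule A' N') := by
  have hx : x = Finsupp.linearCombination A' id (s x) := by
    have := LinearMap.congr_fun hs x
    exact this.symm
  have h2 : Finsupp.linearCombination A' id (s x) ∈ content s x • (⊤ : Submodule A' N') := by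
    rw [Finsupp.linearCombination_apply, Finsupp.sum]
    apply Submodule.sum_mem
    intro n _
    exact Submodule.smul_mem_smul (coord_mem_content s x n) Submodule.mem_top
  rwa [← hx] at h2

theorem coord_mem_of_mem_smul (𝔞 : Ideal A') (x : N')
    (hx : x ∈ 𝔞 • (⊤ : Submodule A' N')) (n : N') : s x n ∈ 𝔞 := by
  refine Submodule.smul_induction_on hx ?_ ?_
  · intro a ha y _
    rw [map_smul, Finsupp.smul_apply]
    exact Ideal.mul_mem_right _ _ ha
  · intro y z hy hz
    rw [map_add, Finsupp.add_apply]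
    exact Ideal.add_mem _ hy hz

theorem smul_mem_smul_top (𝔞 : Ideal A') (b : B') (x : N')
    (hx : x ∈ 𝔞 • (⊤ : Submodule A' N')) : b • x ∈ 𝔞 • (⊤ : Submodule A' N') := by
  refine Submodule.smul_induction_on hx ?_ ?_
  · intro a ha y _
    rw [smul_comm]
    exact Submodule.smul_mem_smul ha Submodule.mem_top
  · intro y z hy hz
    rw [smul_add]
    exact Submodule.add_mem _ hy hz

theorem smul_mem_of_mem_map (t I : Ideal A') (x : N')
    (hxI : x ∈ I • (⊤ : Submodule A' N')) (c : B') (hc : c ∈ t.map (algebraMap A' B')) :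
    c • x ∈ (t * I) • (⊤ : Submodule A' N') := by
  have hc' : c ∈ Submodule.span B' (⇑(algebraMap A' B') '' (t : Set A')) := hc
  clear hc
  induction hc' using Submodule.span_induction with
  | mem y hy =>
    obtain ⟨τ, hτ, rfl⟩ := hy
    rw [algebraMap_smul, Submodule.mul_smul]
    exact Submodule.smul_mem_smul hτ hxI
  | zero => rw [zero_smul]; exact Submodule.zero_mem _
  | add a b _ _ ha hb => rw [add_smul]; exact Submodule.add_mem _ ha hb
  | smul b a _ ha =>
    have h1 : (b • a) • x = b • (a • x) := by rw [smul_eq_mul, mul_smul]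
    rw [h1]
    exact smul_mem_smul_top (t * I) b (a • x) ha

include hs in
theorem key (t' t : Ideal A') [t'.IsPrime] [t.IsPrime] (hle : t' ≤ t) (x : N') (σ : A')
    (hσ : σ ∉ t) (c : B') (hc : c ∈ t.map (algebraMap A' B'))
    (h : σ • x - c • x ∈ t' • (⊤ : Submodule A' N')) :
    x ∈ t' • (⊤ : Submodule A' N') := by
  set I := content s x with hI
  have hxI := mem_content_smul s hs x
  -- `c • x ∈ (t * I) N'`
  have hcx : c • x ∈ (t * I) • (⊤ : Submodule A' N') := smul_mem_of_mem_map t I x hxI c hc
  have hσx : σ • x ∈ (t' ⊔ t * I) • (⊤ : Submodule A' N') := by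
    have : σ • x = (σ • x - c • x) + c • x := by abel
    rw [this, Submodule.sup_smul]
    exact Submodule.add_mem_sup h hcx
  have hgen : ∀ n, σ * s x n ∈ t' ⊔ t * I := by
    intro n
    have := coord_mem_of_mem_smul s _ _ hσx n
    rwa [map_smul, Finsupp.smul_apply, smul_eq_mul] at this
  have hall : ∀ i ∈ I, σ * i ∈ t' ⊔ t * I := by
    intro i hi
    refine Submodule.span_induction (p := fun i _ => σ * i ∈ t' ⊔ t * I) ?_ ?_ ?_ ?_ hi
    · rintro _ ⟨n, _, rfl⟩
      exact hgen n
    · rw [mul_zero]; exact Ideal.zero_mem _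
    · intro a b _ _ ha hb
      rw [mul_add]; exact Ideal.add_mem _ ha hb
    · intro a b _ hb
      rw [smul_eq_mul, mul_left_comm]
      exact Ideal.mul_mem_left _ _ hb
  -- pass to the quotient domain
  have hker : RingHom.ker (Ideal.Quotient.mk t') ≤ t := by rw [Ideal.mk_ker]; exact hle
  haveI : (t.map (Ideal.Quotient.mk t')).IsPrime :=
    Ideal.map_isPrime_of_surjective Ideal.Quotient.mk_surjective hker
  have hbot : I.map (Ideal.Quotient.mk t') = ⊥ := by
    refine eq_bot_of_mul_le (t.map (Ideal.Quotient.mk t')) _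
      (Ideal.FG.map (content_fg s x) _) (Ideal.Quotient.mk t' σ) ?_ ?_
    · intro hmem
      obtain ⟨τ, hτ, hτσ⟩ := (Ideal.mem_map_iff_of_surjective _ Ideal.Quotient.mk_surjective).1 hmem
      have : σ - τ ∈ t' := by
        rw [← Ideal.Quotient.eq]; exact hτσ.symm
      have : σ ∈ t := by
        have h2 := t.add_mem (hle this) hτ
        simpa using h2
      exact hσ this
    · intro y hy
      obtain ⟨i, hi, rfl⟩ := (Ideal.mem_map_iff_of_surjective _ Ideal.Quotient.mk_surjective).1 hy
      rw [← map_mul, ← Ideal.map_mul]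
      have h1 := Ideal.mem_map_of_mem (Ideal.Quotient.mk t') (hall i hi)
      rw [Ideal.map_sup, Ideal.map_quotient_self, bot_sup_eq] at h1
      exact h1
  have hIt' : I ≤ t' := by
    rw [Ideal.map_eq_bot_iff_le_ker, Ideal.mk_ker] at hbot
    exact hbot
  exact Submodule.smul_mono_left hIt' hxI

end Content

section Main
open Groth.Agent.Helper4.FiberAss

theorem not_isImpurity {A B : Type u} [CommRing A] [CommRing B] [Algebra A B]
    (N : Type u) [AddCommGroup N] [Module B N] [Module A N] [IsScalarTower A B N]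
    [Module.Projective A N] (p : Ideal A) [p.IsPrime]
    (A' B' N' : Type u) [CommRing A'] [CommRing B'] [Algebra A A'] [Algebra B B']
    [Algebra A' B'] [Algebra A B'] [IsScalarTower A B B'] [IsScalarTower A A' B']
    [AddCommGroup N'] [Module B' N'] [Module B N'] [IsScalarTower B B' N'] [Module A' N']
    [IsScalarTower A' B' N'] (f : N →ₗ[B] N') (t' t : Ideal A') [t'.IsPrime] [t.IsPrime]
    (P : Ideal B') [P.IsPrime] : ¬ FlatCA.IsImpurity A B N p A' B' N' f t' t P := by
  rintro ⟨hpo, hbc, hle, -, hPt', hass, hno⟩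
  -- `N'` is projective over `A'`
  haveI : Algebra.IsPushout A A' B B' := hpo.symm
  haveI : Module.Projective A' N' :=
    Module.Projective.of_equiv
      ((Algebra.IsPushout.cancelBaseChange A A' B B' N).symm ≪≫ₗ hbc.equiv.restrictScalars A')
  obtain ⟨s, hs⟩ := Module.projective_def'.1 (inferInstance : Module.Projective A' N')
  -- the element `z`
  obtain ⟨hprime, z, hz⟩ := hass
  have hz0 : z ≠ 0 := by
    rintro rfl
    apply hprime.ne_top
    rw [hz, Ideal.radical_eq_top, Ideal.eq_top_iff_one, Submodule.mem_colon_singleton]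
    simp
  obtain ⟨r, hr, x, hx⟩ := exists_smul_eq_toFiberMod_raw N' t' z
  -- `σ = b + c`
  obtain ⟨σ, hσ, b, hb, c, hc, hσbc⟩ : ∃ σ ∉ t, ∃ b ∈ P, ∃ c ∈ t.map (algebraMap A' B'),
      algebraMap A' B' σ = b + c := by
    by_contra hcon
    push_neg at hcon
    have hdisj : Disjoint ((P ⊔ t.map (algebraMap A' B') : Ideal B') : Set B')
        ((Submonoid.map (algebraMap A' B') t.primeCompl : Submonoid B') : Set B') := by
      rw [Set.disjoint_left]
      rintro y hyI ⟨σ, hσ, rfl⟩
      obtain ⟨b, hb, c, hc, hbc⟩ := Submodule.mem_sup.1 hyI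
      exact hcon σ hσ b hb c hc hbc.symm
    obtain ⟨P', hP'prime, hIP', hP'S⟩ := Ideal.exists_le_prime_disjoint _ _ hdisj
    haveI := hP'prime
    refine hno P' (le_sup_left.trans hIP') ⟨?_⟩
    ext a
    constructor
    · intro ha
      exact hIP' (Ideal.mem_sup_right (Ideal.mem_map_of_mem _ ha))
    · intro ha
      by_contra hat
      exact Set.disjoint_left.1 hP'S ha ⟨a, hat, rfl⟩
  -- `b ^ m • z = 0`
  obtain ⟨m, hm⟩ : ∃ m : ℕ, b ^ m • z = 0 := by
    have h1 : incl t' b ∈ FlatCA.fiberIdeal t' P := Ideal.mem_map_of_mem _ hb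
    rw [hz] at h1
    obtain ⟨m, hm⟩ := h1
    refine ⟨m, ?_⟩
    rw [Submodule.mem_colon_singleton, Submodule.mem_bot] at hm
    rw [smul_eq N' t', map_pow]
    exact hm
  -- `σ ^ m • z = (c * q) • z`
  obtain ⟨q, hq⟩ : ∃ q : B', (algebraMap A' B' σ) ^ m - b ^ m = c * q := by
    have h1 : algebraMap A' B' σ - b ∣ (algebraMap A' B' σ) ^ m - b ^ m := sub_dvd_pow_sub_pow _ _ m
    rw [hσbc, add_sub_cancel_left] at h1
    rw [hσbc]
    exact h1
  have hrel : (algebraMap A' B' σ) ^ m • z = (c * q) • z := by
    rw [← sub_eq_zero, ← sub_smul, ← hq, sub_sub_cancel]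
    exact hm
  -- transport to `x`
  have hx' : toFiberMod t' B' N' x = (algebraMap A' B' r) • z := hx.symm
  have h0 : toFiberMod t' B' N' ((σ ^ m) • x - (c * q) • x) = 0 := by
    rw [map_sub, ← algebraMap_smul B' (σ ^ m) x, map_smul, map_smul, hx', map_pow, smul_comm,
      hrel, smul_comm, sub_self]
  have h1 := toRes_toFiberMod (S := B') N' t' ((σ ^ m) • x - (c * q) • x)
  rw [h0, toRes_zero (S := B')] at h1
  obtain ⟨r₂, hr₂, hmem⟩ := exists_smul_mem_of_one_tmul_eq_zero N' t' _ h1.symm
  have hmem' : (σ ^ m) • (r₂ • x) - (c * q) • (r₂ • x) ∈ t' • (⊤ : Submodule A' N') := by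
    rw [smul_sub] at hmem
    rwa [smul_comm (σ ^ m) r₂ x, smul_comm (c * q) r₂ x]
  have hcq : c * q ∈ t.map (algebraMap A' B') := Ideal.mul_mem_right _ _ hc
  have hσm : σ ^ m ∉ t := fun h => hσ (Ideal.IsPrime.mem_of_pow_mem inferInstance _ h)
  have hx2 := key s hs t' t hle (r₂ • x) (σ ^ m) hσm (c * q) hcq hmem'
  -- conclude `z = 0`
  have hx3 : r₂ • x ∈ pN (S := B') N' t' := by
    have h2 := Ideal.smul_restrictScalars (R := A') (S := B') t' (⊤ : Submodule B' N')
    have h3 : r₂ • x ∈ (t'.map (algebraMap A' B') • (⊤ : Submodule B' N')).restrictScalars A' := by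
      rw [h2, Submodule.restrictScalars_top]; exact hx2
    exact h3
  have hx4 := toFiberMod_mem N' t' hx3
  rw [← algebraMap_smul B' r₂ x, map_smul, hx'] at hx4
  exact hz0 (eq_zero_of_smul_eq_zero N' t' hr z (eq_zero_of_smul_eq_zero N' t' hr₂ _ hx4))

end Main

end Groth.Agent.Helper2.PureProj
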