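import Mathlib
import Groth.Agent.Helper2.PureProj

/-!
# Helper2: projective source, flat target: injectivity modulo maximal ideals implies
injectivity modulo every ideal.
-/

set_option autoImplicit false
universe u

namespace Groth.Agent.Helper2.PureSpread1

open TensorProduct Groth.Agent.Helper2.PureProj

section
variable {A : Type u} [CommRing A]

theorem mem_smul_top_iff_tmul {P : Type u} [AddCommGroup P] [Module A P] (I : Ideal A) (y : P) :
    y ∈ I • (⊤ : Submodule A P) ↔ ((1 : A ⧸ I) ⊗ₜ[A] y) = 0 := by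
  rw [← (TensorProduct.quotTensorEquivQuotSMul P I).map_eq_zero_iff]
  have h1 : (1 : A ⧸ I) = Ideal.Quotient.mk I 1 := rfl
  rw [h1, TensorProduct.quotTensorEquivQuotSMul_mk_tmul, one_smul, Submodule.Quotient.mk_eq_zero]

/-- If `v ⊗ k` is injective for a field `k` over `A`, then `v ⊗ V` is injective for every
`k`-vector space `V`. -/
theorem lTensor_injective_of_field {k : Type u} [Field k] [Algebra A k] {V : Type u}
    [AddCommGroup V] [Module A V] [Module k V] [IsScalarTower A k V]
    {N' M : Type u} [AddCommGroup N'] [Module A N'] [AddCommGroup M] [Module A M]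
    (v : N' →ₗ[A] M) (h : Function.Injective (v.lTensor k)) :
    Function.Injective (v.lTensor V) := by
  let eN := TensorProduct.AlgebraTensorModule.cancelBaseChange A k k V N'
  let eM := TensorProduct.AlgebraTensorModule.cancelBaseChange A k k V M
  have hb : Function.Injective (v.baseChange k) := by
    rw [LinearMap.baseChange_eq_ltensor]; exact h
  have h1 : Function.Injective ((v.baseChange k).lTensor V) :=
    Module.Flat.lTensor_preserves_injective_linearMap _ hb
  have hcomm : ∀ z, eM ((v.baseChange k).lTensor V z) = v.lTensor V (eN z) := by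
    intro z
    induction z using TensorProduct.induction_on with
    | zero => simp
    | tmul x y =>
      induction y using TensorProduct.induction_on with
      | zero => simp
      | tmul a n =>
        simp only [eN, eM, LinearMap.lTensor_tmul, LinearMap.baseChange_tmul,
          TensorProduct.AlgebraTensorModule.cancelBaseChange_tmul]
      | add y1 y2 h1 h2 => simp only [tmul_add, map_add, h1, h2]
    | add z1 z2 h1 h2 => simp only [map_add, h1, h2]
  intro a b hab
  obtain ⟨a', rfl⟩ := eN.surjective a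
  obtain ⟨b', rfl⟩ := eN.surjective b
  rw [← hcomm, ← hcomm] at hab
  have := h1 (eM.injective hab)
  rw [this]

/-- multiplication map `c ⊗ P → P`. -/
noncomputable def mulMap (c : Ideal A) (P : Type u) [AddCommGroup P] [Module A P] :
    (↥c ⊗[A] P) →ₗ[A] P :=
  TensorProduct.lift ((LinearMap.lsmul A P) ∘ₗ c.subtype)

@[simp] theorem mulMap_tmul (c : Ideal A) (P : Type u) [AddCommGroup P] [Module A P]
    (a : c) (p : P) : mulMap c P (a ⊗ₜ[A] p) = (a : A) • p := by
  simp [mulMap]

theorem exists_mulMap_eq (c : Ideal A) (P : Type u) [AddCommGroup P] [Module A P] (x : P)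
    (hx : x ∈ c • (⊤ : Submodule A P)) : ∃ ω : ↥c ⊗[A] P, mulMap c P ω = x := by
  refine Submodule.smul_induction_on hx ?_ ?_
  · intro a ha y _
    exact ⟨(⟨a, ha⟩ : c) ⊗ₜ[A] y, by simp⟩
  · rintro y z ⟨ω1, rfl⟩ ⟨ω2, rfl⟩
    exact ⟨ω1 + ω2, map_add _ _ _⟩

theorem mulMap_mem (c : Ideal A) (P : Type u) [AddCommGroup P] [Module A P] (ω : ↥c ⊗[A] P) :
    mulMap c P ω ∈ c • (⊤ : Submodule A P) := by
  induction ω using TensorProduct.induction_on with
  | zero => simp
  | tmul a p => rw [mulMap_tmul]; exact Submodule.smul_mem_smul a.2 Submodule.mem_top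
  | add y z hy hz => rw [map_add]; exact Submodule.add_mem _ hy hz

theorem mulMap_lTensor (c : Ideal A) {P Q : Type u} [AddCommGroup P] [Module A P]
    [AddCommGroup Q] [Module A Q] (v : P →ₗ[A] Q) (ω : ↥c ⊗[A] P) :
    mulMap c Q (v.lTensor c ω) = v (mulMap c P ω) := by
  induction ω using TensorProduct.induction_on with
  | zero => simp
  | tmul a p => simp
  | add y z hy hz => simp only [map_add, hy, hz]

/-- a linear map `c → A ⧸ J` sending `a` to its class. -/
theorem quot_rTensor (c J : Ideal A) {V : Type u} [AddCommGroup V] [Module A V]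
    (q : ↥c →ₗ[A] V) (ι : V →ₗ[A] A ⧸ J) (hι : ∀ a : c, ι (q a) = Ideal.Quotient.mk J (a : A))
    (P : Type u) [AddCommGroup P] [Module A P] (ω : ↥c ⊗[A] P) :
    TensorProduct.quotTensorEquivQuotSMul P J ((ι ∘ₗ q).rTensor P ω) =
      Submodule.Quotient.mk (mulMap c P ω) := by
  induction ω using TensorProduct.induction_on with
  | zero => simp
  | tmul a p =>
    rw [LinearMap.rTensor_tmul, LinearMap.comp_apply, hι,
      TensorProduct.quotTensorEquivQuotSMul_mk_tmul, mulMap_tmul]
  | add y z hy hz => simp only [map_add, hy, hz, Submodule.Quotient.mk_add]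

theorem exists_maximal_not_le (I c : Ideal A) (hcfg : c.FG) (hcI : ¬ c ≤ I) :
    ∃ m : Ideal A, m.IsMaximal ∧ ¬ c ≤ I ⊔ m • c := by
  by_contra hall
  push_neg at hall
  have hne : I.colon (c : Set A) ≠ ⊤ := by
    intro htop
    rw [Submodule.colon_eq_top_iff_subset] at htop
    exact hcI htop
  obtain ⟨m, hm, hle⟩ := Ideal.exists_le_maximal _ hne
  obtain ⟨r, hr1, hr2⟩ := Submodule.exists_sub_one_mem_and_smul_le_of_fg_of_le_sup
    (I := m) (N := I) (N' := c) (P := c) hcfg le_rfl (hall m hm)
  have hrm : r ∈ m := hle (Submodule.mem_colon_iff_le.2 hr2)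
  have h1 : (1 : A) ∈ m := by
    have := m.sub_mem hrm hr1
    simpa using this
  exact hm.ne_top ((Ideal.eq_top_iff_one m).2 h1)

/-- **Key lemma**: `N'` projective, `M` flat, `v : N' → M` injective modulo every maximal ideal.
Then `v x ∈ I M` implies `x ∈ I N'`. -/
theorem mem_smul_of_map_mem {N' M : Type u} [AddCommGroup N'] [Module A N']
    [Module.Projective A N'] [AddCommGroup M] [Module A M] [Module.Flat A M] (v : N' →ₗ[A] M)
    (hv : ∀ (m : Ideal A) [m.IsMaximal], Function.Injective (v.lTensor (A ⧸ m)))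
    (I : Ideal A) (x : N') (hx : v x ∈ I • (⊤ : Submodule A M)) :
    x ∈ I • (⊤ : Submodule A N') := by
  obtain ⟨s, hs⟩ := Module.projective_def'.1 ‹Module.Projective A N'›
  have hcfg : (content s x).FG := content_fg s x
  have hxc : x ∈ content s x • (⊤ : Submodule A N') := mem_content_smul s hs x
  suffices hcI : content s x ≤ I from Submodule.smul_mono_left hcI hxc
  by_contra hcI
  obtain ⟨m, hm, hcm⟩ := exists_maximal_not_le I (content s x) hcfg hcI
  apply hcm
  generalize hc : content s x = c at *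
  set J : Ideal A := I ⊔ m • c with hJ
  have hIJ : I ≤ J := le_sup_left
  have hmc : m • c ≤ J := le_sup_right
  let W : Submodule A c := Submodule.comap c.subtype J
  let q : ↥c →ₗ[A] (↥c ⧸ W) := W.mkQ
  let ι : (↥c ⧸ W) →ₗ[A] A ⧸ J := Submodule.mapQ W J c.subtype le_rfl
  have hιq : ∀ a : c, ι (q a) = Ideal.Quotient.mk J (a : A) := fun a => rfl
  have hι : Function.Injective ι := by
    rw [injective_iff_map_eq_zero]
    intro z hz
    obtain ⟨y, rfl⟩ := W.mkQ_surjective z
    have h1 : ι (q y) = 0 := hz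
    rw [hιq, Ideal.Quotient.eq_zero_iff_mem] at h1
    exact (Submodule.Quotient.mk_eq_zero W).2 h1
  have htors : Module.IsTorsionBySet A (↥c ⧸ W) (m : Set A) := by
    intro z a
    obtain ⟨y, rfl⟩ := W.mkQ_surjective z
    rw [← map_smul]
    refine (Submodule.Quotient.mk_eq_zero W).2 ?_
    show ((a : A) • (y : A)) ∈ J
    exact hmc (Submodule.smul_mem_smul a.2 y.2)
  letI : Field (A ⧸ m) := Ideal.Quotient.field m
  letI : Module (A ⧸ m) (↥c ⧸ W) := Module.IsTorsionBySet.module htors
  haveI : IsScalarTower A (A ⧸ m) (↥c ⧸ W) := Module.IsTorsionBySet.isScalarTower htors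
  have hvV : Function.Injective (v.lTensor (↥c ⧸ W)) :=
    lTensor_injective_of_field (k := A ⧸ m) v (hv m)
  have hιM : Function.Injective (ι.rTensor M) :=
    Module.Flat.rTensor_preserves_injective_linearMap ι hι
  obtain ⟨ω₀, hω₀⟩ := exists_mulMap_eq c N' x hxc
  -- step 1
  have e1 : (ι ∘ₗ q).rTensor M (v.lTensor c ω₀) = 0 := by
    rw [← (TensorProduct.quotTensorEquivQuotSMul M J).map_eq_zero_iff,
      quot_rTensor c J q ι hιq, mulMap_lTensor, hω₀, Submodule.Quotient.mk_eq_zero]
    exact Submodule.smul_mono_left hIJ hx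
  have e2 : ι.rTensor M (v.lTensor (↥c ⧸ W) (q.rTensor N' ω₀)) = 0 := by
    rw [← e1, LinearMap.rTensor_comp, LinearMap.comp_apply]
    congr 1
    rw [← LinearMap.comp_apply, ← LinearMap.comp_apply, LinearMap.lTensor_comp_rTensor,
      LinearMap.rTensor_comp_lTensor]
  have e3 : q.rTensor N' ω₀ = 0 := by
    apply hvV
    rw [map_zero]
    apply hιM
    rw [map_zero, e2]
  have e4 : x ∈ J • (⊤ : Submodule A N') := by
    rw [← hω₀, ← Submodule.Quotient.mk_eq_zero, ← quot_rTensor c J q ι hιq,
      LinearMap.rTensor_comp, LinearMap.comp_apply, e3, map_zero, map_zero]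
  rw [← hc, content]
  rw [Ideal.span_le]
  rintro _ ⟨n, _, rfl⟩
  exact coord_mem_of_mem_smul s J x e4 n

end

end Groth.Agent.Helper2.PureSpread1
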