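import Mathlib
import Groth.Agent.Helper2.PureSpread1

/-!
# Helper2: content ideals and universal injectivity for modules with a pure spreadout
-/

set_option autoImplicit false
universe u

namespace Groth.Agent.Helper2.PureSpread2

open TensorProduct Groth.Agent.Helper2.PureProj Groth.Agent.Helper2.PureSpread1

section Abstract
variable {A : Type u} [CommRing A]

theorem mem_of_map_mem_of_inj {P Q : Type u} [AddCommGroup P] [Module A P] [AddCommGroup Q]
    [Module A Q] (f : P →ₗ[A] Q) (I : Ideal A)
    (hf : Function.Injective (f.lTensor (A ⧸ I))) (y : P)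
    (hy : f y ∈ I • (⊤ : Submodule A Q)) : y ∈ I • (⊤ : Submodule A P) := by
  rw [mem_smul_top_iff_tmul] at hy ⊢
  apply hf
  rw [map_zero, LinearMap.lTensor_tmul, hy]

theorem map_mem_smul_top {P Q : Type u} [AddCommGroup P] [Module A P] [AddCommGroup Q]
    [Module A Q] (f : P →ₗ[A] Q) (I : Ideal A) (y : P)
    (hy : y ∈ I • (⊤ : Submodule A P)) : f y ∈ I • (⊤ : Submodule A Q) := by
  refine Submodule.smul_induction_on hy ?_ ?_
  · intro a ha z _
    rw [map_smul]
    exact Submodule.smul_mem_smul ha Submodule.mem_top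
  · intro y z hy hz
    rw [map_add]
    exact Submodule.add_mem _ hy hz

theorem mulMap_eq (c : Ideal A) (P : Type u) [AddCommGroup P] [Module A P] (ω : ↥c ⊗[A] P) :
    mulMap c P ω = TensorProduct.lid A P (c.subtype.rTensor P ω) := by
  induction ω using TensorProduct.induction_on with
  | zero => simp
  | tmul a p => simp
  | add y z hy hz => simp only [map_add, hy, hz]

theorem mulMap_injective (c : Ideal A) (P : Type u) [AddCommGroup P] [Module A P]
    [Module.Flat A P] : Function.Injective (mulMap c P) := by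
  have h1 : Function.Injective (c.subtype.rTensor P) :=
    Module.Flat.rTensor_preserves_injective_linearMap _ Subtype.val_injective
  intro a b hab
  rw [mulMap_eq, mulMap_eq] at hab
  exact h1 ((TensorProduct.lid A P).injective hab)

/-- If `M` is flat and `u : N → M` satisfies `u x ∈ I M → x ∈ I N` for all `I`, then
`M ⧸ range u` is flat. -/
theorem flat_quot {N M : Type u} [AddCommGroup N] [Module A N] [AddCommGroup M] [Module A M]
    [Module.Flat A M] (u : N →ₗ[A] M)
    (H : ∀ (I : Ideal A) (x : N), u x ∈ I • (⊤ : Submodule A M) → x ∈ I • (⊤ : Submodule A N)) :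
    Module.Flat A (M ⧸ LinearMap.range u) := by
  rw [Module.Flat.iff_rTensor_injective']
  intro I
  suffices hinj : Function.Injective (mulMap I (M ⧸ LinearMap.range u)) by
    intro a b hab
    apply hinj
    rw [mulMap_eq, mulMap_eq, hab]
  rw [injective_iff_map_eq_zero]
  intro z hz
  obtain ⟨w, rfl⟩ := LinearMap.lTensor_surjective I (LinearMap.range u).mkQ_surjective z
  rw [mulMap_lTensor, Submodule.mkQ_apply, Submodule.Quotient.mk_eq_zero] at hz
  obtain ⟨n, hn⟩ := hz
  have hnI : n ∈ I • (⊤ : Submodule A N) := H I n (hn ▸ mulMap_mem I M w)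
  obtain ⟨w', hw'⟩ := exists_mulMap_eq I N n hnI
  have hww : w = u.lTensor I w' := by
    apply mulMap_injective I M
    rw [mulMap_lTensor, hw', hn]
  rw [hww, ← LinearMap.comp_apply, ← LinearMap.lTensor_comp, LinearMap.range_mkQ_comp,
    LinearMap.lTensor_zero, LinearMap.zero_apply]

variable {N' N : Type u} [AddCommGroup N'] [Module A N'] [AddCommGroup N] [Module A N]
  [Module.Projective A N'] (g : N' →ₗ[A] N)
  (hg : ∀ (Q : Type u) [AddCommGroup Q] [Module A Q], Function.Injective (g.lTensor Q))
  (hx : ∀ x : N, ∃ (τ : N ≃ₗ[A] N) (x' : N'), τ x = g x')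

include hg hx in
theorem exists_content (x : N) :
    ∃ I : Ideal A, x ∈ I • (⊤ : Submodule A N) ∧
      ∀ J : Ideal A, x ∈ J • (⊤ : Submodule A N) → I ≤ J := by
  obtain ⟨s, hs⟩ := Module.projective_def'.1 ‹Module.Projective A N'›
  obtain ⟨τ, x', hτ⟩ := hx x
  refine ⟨content s x', ?_, ?_⟩
  · have h1 : g x' ∈ content s x' • (⊤ : Submodule A N) :=
      map_mem_smul_top g _ _ (mem_content_smul s hs x')
    rw [← hτ] at h1
    have := map_mem_smul_top τ.symm.toLinearMap _ _ h1
    simpa using this
  · intro J hJ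
    have h1 : τ x ∈ J • (⊤ : Submodule A N) := map_mem_smul_top τ.toLinearMap _ _ hJ
    rw [hτ] at h1
    have h2 : x' ∈ J • (⊤ : Submodule A N') := mem_of_map_mem_of_inj g J (hg _) x' h1
    rw [content, Ideal.span_le]
    rintro _ ⟨n, _, rfl⟩
    exact coord_mem_of_mem_smul s J x' h2 n

include hg hx in
theorem mem_of_u_mem {M : Type u} [AddCommGroup M] [Module A M] [Module.Flat A M]
    (u : N →ₗ[A] M)
    (hu : ∀ (m : Ideal A) [m.IsMaximal], Function.Injective (u.lTensor (A ⧸ m)))
    (I : Ideal A) (x : N) (hxI : u x ∈ I • (⊤ : Submodule A M)) :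
    x ∈ I • (⊤ : Submodule A N) := by
  obtain ⟨τ, x', hτ⟩ := hx x
  let v : N' →ₗ[A] M := u ∘ₗ τ.symm.toLinearMap ∘ₗ g
  have hv : ∀ (m : Ideal A) [m.IsMaximal], Function.Injective (v.lTensor (A ⧸ m)) := by
    intro m _
    have : v.lTensor (A ⧸ m) = u.lTensor (A ⧸ m) ∘ₗ
        (τ.symm.toLinearMap.lTensor (A ⧸ m)) ∘ₗ g.lTensor (A ⧸ m) := by
      rw [← LinearMap.lTensor_comp, ← LinearMap.lTensor_comp]
    rw [this]
    exact (hu m).comp ((LinearEquiv.lTensor (A ⧸ m) τ.symm).injective.comp (hg _))
  have hvx : v x' = u x := by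
    simp only [v, LinearMap.comp_apply, ← hτ]
    simp
  have h1 : x' ∈ I • (⊤ : Submodule A N') := mem_smul_of_map_mem v hv I x' (hvx ▸ hxI)
  have h2 : g x' ∈ I • (⊤ : Submodule A N) := map_mem_smul_top g I _ h1
  rw [← hτ] at h2
  have := map_mem_smul_top τ.symm.toLinearMap I _ h2
  simpa using this

include hg hx in
theorem univInj {M : Type u} [AddCommGroup M] [Module A M] [Module.Flat A M]
    (u : N →ₗ[A] M)
    (hu : ∀ (m : Ideal A) [m.IsMaximal], Function.Injective (u.lTensor (A ⧸ m)))
    (Q : Type u) [AddCommGroup Q] [Module A Q] : Function.Injective (u.lTensor Q) := by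
  have H := mem_of_u_mem g hg hx u hu
  haveI : Module.Flat A (M ⧸ LinearMap.range u) := flat_quot u H
  have hinj : Function.Injective u := by
    rw [injective_iff_map_eq_zero]
    intro x hx0
    have h1 : u x ∈ (⊥ : Ideal A) • (⊤ : Submodule A M) := by
      rw [hx0]; exact Submodule.zero_mem _
    have h2 := H ⊥ x h1
    rw [Submodule.bot_smul] at h2
    exact (Submodule.mem_bot A).1 h2
  exact LinearMap.lTensor_injective_of_exact_of_flat (LinearMap.range u).mkQ
    (LinearMap.range u).mkQ_surjective u hinj u.exact_map_mkQ_range Q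

end Abstract

section Hookup

/-- multiplication by a unit of `L` as an `A`-linear automorphism of an `L`-module. -/
noncomputable def unitEquiv {A L N : Type u} [CommRing A] [CommRing L] [Algebra A L]
    [AddCommGroup N] [Module L N] [Module A N] [IsScalarTower A L N] (l : Lˣ) : N ≃ₗ[A] N where
  toFun y := (l : L) • y
  invFun y := ((l⁻¹ : Lˣ) : L) • y
  map_add' := smul_add _
  map_smul' a y := by
    simp only [RingHom.id_apply]
    exact smul_comm _ _ _
  left_inv y := by
    simp only
    rw [smul_smul, Units.inv_mul, one_smul]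
  right_inv y := by
    simp only
    rw [smul_smul, Units.mul_inv, one_smul]

theorem exists_smul_eq {B C L : Type u} [CommRing B] [CommRing C] [CommRing L] [Algebra B C]
    [Algebra C L] [Algebra B L] [IsScalarTower B C L] (T : Submonoid B) [IsLocalization T L]
    {N' N : Type u} [AddCommGroup N'] [Module C N'] [AddCommGroup N] [Module L N] [Module C N]
    [IsScalarTower C L N] (g : N' →ₗ[C] N) (hbc : IsBaseChange L g) (x : N) :
    ∃ t ∈ T, ∃ x' : N', (algebraMap B L t) • x = g x' := by
  refine hbc.inductionOn x (fun x => ∃ t ∈ T, ∃ x' : N', (algebraMap B L t) • x = g x')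
    ?_ ?_ ?_ ?_
  · exact ⟨1, T.one_mem, 0, by simp⟩
  · intro n
    exact ⟨1, T.one_mem, n, by simp⟩
  · rintro l y ⟨t, ht, x', hx'⟩
    obtain ⟨b, s, rfl⟩ := IsLocalization.exists_mk'_eq T l
    refine ⟨t * s, T.mul_mem ht s.2, (algebraMap B C b) • x', ?_⟩
    rw [map_smul, ← hx', smul_smul, map_mul, mul_assoc, IsLocalization.mk'_spec', mul_comm,
      ← smul_smul, IsScalarTower.algebraMap_apply B C L b, algebraMap_smul]
  · rintro y z ⟨t₁, ht₁, x₁, hx₁⟩ ⟨t₂, ht₂, x₂, hx₂⟩
    refine ⟨t₁ * t₂, T.mul_mem ht₁ ht₂, (algebraMap B C t₂) • x₁ + (algebraMap B C t₁) • x₂, ?_⟩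
    rw [map_add, map_smul, map_smul, ← hx₁, ← hx₂, smul_add, map_mul,
      ← algebraMap_smul L (algebraMap B C t₂), ← algebraMap_smul L (algebraMap B C t₁),
      ← IsScalarTower.algebraMap_apply B C L, ← IsScalarTower.algebraMap_apply B C L,
      smul_smul, smul_smul, mul_comm]

theorem main {A B : Type u} [CommRing A] [CommRing B] [Algebra A B] (T : Submonoid B)
    (N : Type u) [AddCommGroup N] [Module (Localization T) N] [Module A N]
    [IsScalarTower A (Localization T) N]
    {C : Type u} [CommRing C] [Algebra B C] [Algebra A C] [IsScalarTower A B C]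
    [Algebra C (Localization T)] [IsScalarTower B C (Localization T)]
    [IsScalarTower A C (Localization T)]
    [Module C N] [IsScalarTower C (Localization T) N] [IsScalarTower A C N]
    {N' : Type u} [AddCommGroup N'] [Module C N'] [Module A N'] [IsScalarTower A C N']
    (g : N' →ₗ[C] N) (hbc : IsBaseChange (Localization T) g) [Module.Projective A N']
    (huniv : ∀ (Q : Type u) [AddCommGroup Q] [Module A Q],
      Function.Injective ((g.restrictScalars A).lTensor Q)) :
    (∀ x : N, ∃ I : Ideal A, x ∈ I • (⊤ : Submodule A N) ∧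
      ∀ J : Ideal A, x ∈ J • (⊤ : Submodule A N) → I ≤ J) ∧
    ∀ (M : Type u) [AddCommGroup M] [Module A M] [Module.Flat A M] (u : N →ₗ[A] M),
      (∀ (m : Ideal A) [m.IsMaximal], Function.Injective (u.lTensor (A ⧸ m))) →
      ∀ (Q : Type u) [AddCommGroup Q] [Module A Q], Function.Injective (u.lTensor Q) := by
  have hx : ∀ x : N, ∃ (τ : N ≃ₗ[A] N) (x' : N'), τ x = (g.restrictScalars A) x' := by
    intro x
    obtain ⟨t, ht, x', hx'⟩ := exists_smul_eq T g hbc x
    have hu : IsUnit (algebraMap B (Localization T) t) :=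
      IsLocalization.map_units (Localization T) (⟨t, ht⟩ : T)
    refine ⟨unitEquiv (A := A) hu.unit, x', ?_⟩
    show (hu.unit : Localization T) • x = g x'
    rw [IsUnit.unit_spec, hx']
  refine ⟨fun x => exists_content (g.restrictScalars A) huniv hx x, ?_⟩
  intro M _ _ _ u hu Q _ _
  exact univInj (g.restrictScalars A) huniv hx u hu Q

end Hookup

end Groth.Agent.Helper2.PureSpread2
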