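import Mathlib
import Groth.Prelude
import Groth.Agent.Helper7.ZSec

/-!
# `IsCoherentPushCompl` in terms of concrete sections
-/

set_option autoImplicit false
set_option linter.style.haveILetI false
set_option linter.unusedSectionVars false

namespace Groth.Agent.Helper2.PushC

open AlgebraicGeometry CategoryTheory Opposite TopologicalSpace

universe u

variable (A : Type u) [CommRing A] (M : Type u) [AddCommGroup M] [Module A M]

/-- concrete sections of `M~` over an open subset, as an `A`-module. -/
abbrev SecT (U : Opens (PrimeSpectrum.Top A)) : Type u := (structureSheafInType A M).obj.obj (op U)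

/-- the canonical ring hom `A → Γ(Spec A, O)`. -/
noncomputable def sig : A →+* ((Spec (CommRingCat.of A)).ringCatSheaf.obj.obj (op ⊤)) :=
  algebraMap A ((structureSheafInType A A).obj.obj (op ⊤))

theorem sig_bijective : Function.Bijective (sig A) := by
  have h := StructureSheaf.toOpenₗ_top_bijective (R := A) (M := A)
  have he : ∀ a : A, sig A a = StructureSheaf.toOpenₗ A A ⊤ a := by
    intro a
    rfl
  constructor
  · intro a b hab
    rw [he, he] at hab
    exact h.1 hab
  · intro r
    obtain ⟨a, ha⟩ := h.2 r
    exact ⟨a, (he a).trans ha⟩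


variable (J : Ideal A)

/-- the module of sections with scalars restricted to global sections, as in the definition of
`IsCoherentPushCompl`. -/
noncomputable abbrev XR : ModuleCat ((Spec (CommRingCat.of A)).ringCatSheaf.obj.obj (op ⊤)) :=
  (ModuleCat.restrictScalars ((Spec (CommRingCat.of A)).ringCatSheaf.obj.map
        (homOfLE (le_top : EGA4.openCompl A J ≤ ⊤)).op).hom).obj
      ((EGA4.tildeOf A M).val.obj (op (EGA4.openCompl A J)))

theorem smul_eq (a : A) (s : SecT A M (EGA4.openCompl A J)) :
    (show XR A M J from (a • s)) = (sig A a) • (show XR A M J from s) := by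
  apply Subtype.ext
  funext x
  exact (algebraMap_smul (StructureSheaf.Localizations A x.1) a (s.1 x)).symm

theorem coh_iff : EGA4.IsCoherentPushCompl A J M ↔
    Module.Finite A (SecT A M (EGA4.openCompl A J)) := by
  letI : RingHomSurjective (sig A) := ⟨(sig_bijective A).2⟩
  let e : A ≃+* ((Spec (CommRingCat.of A)).ringCatSheaf.obj.obj (op ⊤)) :=
    RingEquiv.ofBijective (sig A) (sig_bijective A)
  let σ' : ((Spec (CommRingCat.of A)).ringCatSheaf.obj.obj (op ⊤)) →+* A := e.symm.toRingHom
  have hσ' : ∀ r, sig A (σ' r) = r := fun r => e.apply_symm_apply r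
  letI : RingHomSurjective σ' := ⟨e.symm.surjective⟩
  let f : SecT A M (EGA4.openCompl A J) →ₛₗ[sig A] XR A M J :=
    { toFun := fun s => s
      map_add' := fun _ _ => rfl
      map_smul' := fun a s => smul_eq A M J a s }
  let g : XR A M J →ₛₗ[σ'] SecT A M (EGA4.openCompl A J) :=
    { toFun := fun s => s
      map_add' := fun _ _ => rfl
      map_smul' := fun r s => by
        have h1 := smul_eq A M J (σ' r) s
        rw [hσ'] at h1
        exact h1.symm }
  constructor
  · intro h
    have h1 : (⊤ : Submodule _ (XR A M J)).FG := (Module.finite_def.1 h)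
    have h2 := h1.map g
    have h3 : Submodule.map g ⊤ = ⊤ := by
      rw [Submodule.map_top, LinearMap.range_eq_top]
      intro s
      exact ⟨s, rfl⟩
    rw [h3] at h2
    exact Module.finite_def.2 h2
  · intro h
    have h1 : (⊤ : Submodule A (SecT A M (EGA4.openCompl A J))).FG := (Module.finite_def.1 h)
    have h2 := h1.map f
    have h3 : Submodule.map f ⊤ = ⊤ := by
      rw [Submodule.map_top, LinearMap.range_eq_top]
      intro s
      exact ⟨s, rfl⟩
    rw [h3] at h2
    exact Module.finite_def.2 h2

end Groth.Agent.Helper2.PushC
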