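import Mathlib
import Groth.Prelude
import Groth.Agent.Helper7.ZSec
import Groth.Agent.Helper2.PushC1
import Groth.Agent.Helper2.AssDev

/-!
# Functoriality and left exactness of concrete sections of `M~`
-/

set_option autoImplicit false
set_option linter.style.haveILetI false
set_option linter.unusedSectionVars false

namespace Groth.Agent.Helper2.PushC

open AlgebraicGeometry CategoryTheory Opposite TopologicalSpace StructureSheaf

universe u

variable {A : Type u} [CommRing A]
variable {N M M'' : Type u} [AddCommGroup N] [Module A N] [AddCommGroup M] [Module A M]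
  [AddCommGroup M''] [Module A M'']

/-- the localisation of a linear map at a point -/
noncomputable abbrev locMap (f : N →ₗ[A] M) (x : PrimeSpectrum A) :
    LocalizedModule x.asIdeal.primeCompl N →ₗ[A] LocalizedModule x.asIdeal.primeCompl M :=
  IsLocalizedModule.map x.asIdeal.primeCompl (LocalizedModule.mkLinearMap _ N)
    (LocalizedModule.mkLinearMap _ M) f

theorem locMap_mk (f : N →ₗ[A] M) (x : PrimeSpectrum A) (n : N) (s : x.asIdeal.primeCompl) :
    locMap f x (LocalizedModule.mk n s) = LocalizedModule.mk (f n) s :=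
  IsLocalizedModule.map_LocalizedModules _ f n s

/-- functoriality of sections -/
noncomputable def secMap (f : N →ₗ[A] M) (U : Opens (PrimeSpectrum.Top A)) :
    SecT A N U →ₗ[A] SecT A M U where
  toFun s := ⟨fun x => locMap f x.1 (s.1 x), by
    intro x
    obtain ⟨V, hxV, i, r, g, hfrac⟩ := s.2 x
    refine ⟨V, hxV, i, f r, g, fun y => ⟨(hfrac y).1, ?_⟩⟩
    have h1 : s.1 (i y) = LocalizedModule.mk r ⟨g, (hfrac y).1⟩ := (hfrac y).2
    show locMap f (i y).1 (s.1 (i y)) = _
    rw [h1]
    exact locMap_mk f _ r _⟩
  map_add' s t := Subtype.ext (funext fun x => map_add (locMap f x.1) (s.1 x) (t.1 x))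
  map_smul' a s := Subtype.ext (funext fun x => map_smul (locMap f x.1) a (s.1 x))

theorem secMap_apply (f : N →ₗ[A] M) (U : Opens (PrimeSpectrum.Top A)) (s : SecT A N U) (x : U) :
    (secMap f U s).1 x = locMap f x.1 (s.1 x) := rfl

theorem secMap_injective (f : N →ₗ[A] M) (hf : Function.Injective f)
    (U : Opens (PrimeSpectrum.Top A)) : Function.Injective (secMap f U) := by
  intro s t hst
  apply Subtype.ext
  funext x
  have h1 := congrArg (fun u => u.1 x) hst
  simp only [secMap_apply] at h1
  exact IsLocalizedModule.map_injective _ _ _ f hf h1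

/-- left exactness of sections -/
theorem secMap_exact (f : N →ₗ[A] M) (g : M →ₗ[A] M'') (hf : Function.Injective f)
    (hex : Function.Exact f g) (U : Opens (PrimeSpectrum.Top A)) :
    Function.Exact (secMap f U) (secMap g U) := by
  intro s
  constructor
  · intro hs
    -- pointwise preimages
    have hpt : ∀ x : U, ∃ n : LocalizedModule x.1.asIdeal.primeCompl N, locMap f x.1 n = s.1 x := by
      intro x
      have h1 : locMap g x.1 (s.1 x) = 0 := congrArg (fun u => u.1 x) hs
      exact (LocalizedModule.map_exact x.1.asIdeal.primeCompl f g hex (s.1 x)).1 h1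
    choose n hn using hpt
    have hloc : ∀ x : U, ∃ (h : A) (_ : h ∉ x.1.asIdeal) (z : N), ∀ (y : U) (hy : h ∉ y.1.asIdeal),
        n y = LocalizedModule.mk z ⟨h, hy⟩ := by
      intro x
      obtain ⟨h, hh, z, hU, hz⟩ := Groth.Agent.Helper7.ZSec.exists_fraction
        (A := A) (M := M) (U := U) s x.1 x.2
      -- `g z` is killed by a power of `h`
      obtain ⟨k, hk⟩ := Groth.Agent.Helper7.ZSec.exists_pow_smul_eq_zero h (g z) (by
        intro y hy
        rw [← Groth.Agent.Helper7.ZSec.mk_one_eq_zero_iff]
        have h1 : locMap g y (s.1 ⟨y, hU y hy⟩) = 0 :=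
          congrArg (fun u => u.1 ⟨y, hU y hy⟩) hs
        rw [hz y hy, locMap_mk] at h1
        have h2 : (LocalizedModule.mk (g z) 1 : LocalizedModule y.asIdeal.primeCompl M'') =
            h • LocalizedModule.mk (g z) ⟨h, hy⟩ := by
          rw [LocalizedModule.smul'_mk]
          exact (LocalizedModule.mk_cancel (⟨h, hy⟩ : y.asIdeal.primeCompl) (g z)).symm
        rw [h2, h1, smul_zero])
      rw [← map_smul] at hk
      obtain ⟨z', hz'⟩ := (hex _).1 hk
      refine ⟨h ^ (k + 1), fun hmem => hh (x.1.2.mem_of_pow_mem _ hmem), z', ?_⟩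
      intro y hy
      have hy' : h ∉ y.1.asIdeal := fun hmem => hy (Ideal.pow_mem_of_mem _ hmem _ (Nat.succ_pos k))
      apply IsLocalizedModule.map_injective y.1.asIdeal.primeCompl
        (LocalizedModule.mkLinearMap y.1.asIdeal.primeCompl N)
        (LocalizedModule.mkLinearMap y.1.asIdeal.primeCompl M) f hf
      change locMap f y.1 (n y) = locMap f y.1 _
      rw [hn y, locMap_mk, hz', hz y.1 hy']
      rw [LocalizedModule.mk_eq]
      refine ⟨1, ?_⟩
      simp only [one_smul, Submonoid.smul_def]
      rw [pow_succ, mul_smul, smul_comm]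
    refine ⟨Groth.Agent.Helper7.ZSec.mkSec (A := A) (M := N) (U := U) n hloc, ?_⟩
    apply Subtype.ext
    funext x
    exact hn x
  · rintro ⟨t, rfl⟩
    apply Subtype.ext
    funext x
    change locMap g x.1 (locMap f x.1 (t.1 x)) = 0
    exact (LocalizedModule.map_exact x.1.asIdeal.primeCompl f g hex _).2 ⟨_, rfl⟩


theorem subsingleton_secT_of_forall (U : Opens (PrimeSpectrum.Top A))
    (h : ∀ x : U, Subsingleton (LocalizedModule x.1.asIdeal.primeCompl M)) :
    Subsingleton (SecT A M U) :=
  ⟨fun s t => Subtype.ext (funext fun x => @Subsingleton.elim _ (h x) _ _)⟩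

theorem subsingleton_localizedModule [Subsingleton M] (S : Submonoid A) :
    Subsingleton (LocalizedModule S M) := by
  refine ⟨fun a b => ?_⟩
  have h0 : ∀ c : LocalizedModule S M, c = 0 := by
    intro c
    induction c using LocalizedModule.induction_on with
    | h m s => rw [Subsingleton.elim m 0, LocalizedModule.zero_mk]
  rw [h0 a, h0 b]

variable [IsNoetherianRing A]

/-- finiteness of sections over a fixed open is stable under submodules and extensions. -/
theorem good (U : Opens (PrimeSpectrum.Top A)) :
    Groth.Agent.Helper2.AssDev.Good (A := A) (fun M _ _ => Module.Finite A (SecT A M U)) where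
  zero := fun M _ _ _ => by
    haveI : Subsingleton (SecT A M U) :=
      subsingleton_secT_of_forall U (fun x => subsingleton_localizedModule _)
    haveI : Finite (SecT A M U) := Finite.of_subsingleton
    exact Module.Finite.of_finite
  sub := fun N M _ _ _ _ _ f hf h => by
    haveI := h
    haveI : IsNoetherian A (SecT A M U) := isNoetherian_of_isNoetherianRing_of_finite A _
    exact Module.Finite.of_injective (secMap f U) (secMap_injective f hf U)
  ext := fun M' M M'' _ _ _ _ _ _ _ f g hf _ hex h' h'' => by
    haveI := h''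
    haveI : IsNoetherian A (SecT A M'' U) := isNoetherian_of_isNoetherianRing_of_finite A _
    refine Module.finite_def.2 (Submodule.fg_of_fg_map_of_fg_inf_ker (secMap g U)
      (IsNoetherian.noetherian _) ?_)
    rw [top_inf_eq, (LinearMap.exact_iff.1 (secMap_exact f g hf hex U)), LinearMap.range_eq_map]
    exact (Module.finite_def.1 h').map _

/-- the same for `IsCoherentPushCompl`. -/
theorem good_coh (J : Ideal A) :
    Groth.Agent.Helper2.AssDev.Good (A := A) (fun M _ _ => EGA4.IsCoherentPushCompl A J M) := by
  have h := good (A := A) (EGA4.openCompl A J)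
  refine ⟨?_, ?_, ?_⟩
  · intro M _ _ _
    exact (coh_iff A M J).2 (h.zero M)
  · intro N M _ _ _ _ _ f hf hM
    exact (coh_iff A N J).2 (h.sub N M f hf ((coh_iff A M J).1 hM))
  · intro M' M M'' _ _ _ _ _ _ _ f g hf hg hex h' h''
    exact (coh_iff A M J).2 (h.ext M' M M'' f g hf hg hex ((coh_iff A M' J).1 h')
      ((coh_iff A M'' J).1 h''))

/-- modules whose localisations vanish on the complement of `V(J)`. -/
theorem coh_of_killed (J : Ideal A) (M : Type u) [AddCommGroup M] [Module A M]
    (h : ∀ a ∈ J, ∀ m : M, a • m = 0) : EGA4.IsCoherentPushCompl A J M := by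
  rw [coh_iff]
  haveI : Subsingleton (SecT A M (EGA4.openCompl A J)) := by
    apply subsingleton_secT_of_forall
    intro x
    have hx : ¬ J ≤ x.1.asIdeal := (Groth.Agent.Helper7.ZSec.mem_openCompl_iff J x.1).1 x.2
    obtain ⟨a, haJ, hax⟩ := Set.not_subset.1 hx
    refine ⟨fun u v => ?_⟩
    have h0 : ∀ c : LocalizedModule x.1.asIdeal.primeCompl M, c = 0 := by
      intro c
      induction c using LocalizedModule.induction_on with
      | h m s =>
        rw [← LocalizedModule.mk_cancel_common_left (⟨a, hax⟩ : x.1.asIdeal.primeCompl) s m]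
        have : (⟨a, hax⟩ : x.1.asIdeal.primeCompl) • m = 0 := h a haJ m
        rw [this, LocalizedModule.zero_mk]
    rw [h0 u, h0 v]
  haveI : Finite (SecT A M (EGA4.openCompl A J)) := Finite.of_subsingleton
  exact Module.Finite.of_finite

end Groth.Agent.Helper2.PushC
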