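import Mathlib
import Groth.Prelude
import Groth.Agent.Helper2.QCAb1

/-!
# Modules freely generated by a section over an open
-/

set_option autoImplicit false
universe u
open CategoryTheory CategoryTheory.Limits AlgebraicGeometry TopologicalSpace Opposite

namespace Groth.Agent.Helper2.QCAb

variable {X : Scheme.{u}}

/-- the module freely generated by one section over `U` -/
noncomputable def PU (U : X.Opens) : X.Modules :=
  (PresheafOfModules.sheafification.{u} (𝟙 X.ringCatSheaf.obj)).obj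
    ((PresheafOfModules.free X.ringCatSheaf.obj).obj (yoneda.obj U))

/-- maps out of `PU U` are sections over `U` -/
noncomputable def secEquiv (U : X.Opens) (G : X.Modules) : (PU U ⟶ G) ≃ Γ(G, U) :=
  ((PresheafOfModules.sheafificationAdjunction.{u} (𝟙 X.ringCatSheaf.obj)).homEquiv _ G).trans
    PresheafOfModules.freeYonedaEquiv

theorem secEquiv_comp (U : X.Opens) {G G' : X.Modules} (φ : PU U ⟶ G) (γ : G ⟶ G') :
    secEquiv U G' (φ ≫ γ) = γ.app U (secEquiv U G φ) := by
  change PresheafOfModules.freeYonedaEquiv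
      ((PresheafOfModules.sheafificationAdjunction.{u} (𝟙 X.ringCatSheaf.obj)).homEquiv _ G' (φ ≫ γ)) =
    γ.app U (PresheafOfModules.freeYonedaEquiv
      ((PresheafOfModules.sheafificationAdjunction.{u} (𝟙 X.ringCatSheaf.obj)).homEquiv _ G φ))
  have h := Adjunction.homEquiv_naturality_right
    (PresheafOfModules.sheafificationAdjunction.{u} (𝟙 X.ringCatSheaf.obj)) φ γ
  refine (congrArg PresheafOfModules.freeYonedaEquiv h).trans ?_
  exact PresheafOfModules.freeYonedaEquiv_comp _ _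

/-- the map out of `PU U` attached to a section -/
noncomputable def ofSec (U : X.Opens) (G : X.Modules) (t : Γ(G, U)) : PU U ⟶ G :=
  (secEquiv U G).symm t

/-- the universal section -/
noncomputable def eU (U : X.Opens) : Γ(PU U, U) := secEquiv U (PU U) (𝟙 _)

theorem app_eU (U : X.Opens) {G : X.Modules} (φ : PU U ⟶ G) :
    φ.app U (eU U) = secEquiv U G φ := by
  have h := secEquiv_comp U (𝟙 (PU U)) φ
  rw [Category.id_comp] at h
  exact h.symm

theorem ofSec_app_eU (U : X.Opens) (G : X.Modules) (t : Γ(G, U)) :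
    (ofSec U G t).app U (eU U) = t := by
  rw [app_eU]
  exact (secEquiv U G).apply_symm_apply t

/-- finite sums of the `PU` -/
noncomputable def QQ (n : ℕ) (U : Fin n → X.Opens) : X.Modules := ∐ fun i => PU (U i)

/-- the map out of `QQ n U` attached to a family of sections -/
noncomputable def descQQ {n : ℕ} (U : Fin n → X.Opens) (K : X.Modules) (t : ∀ i, Γ(K, U i)) :
    QQ n U ⟶ K :=
  Sigma.desc (fun i => ofSec (U i) K (t i))

open Groth.Agent.Helper4 Groth.Agent.Helper1.EpiColim Groth.Agent.Helper2.FPHom in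
theorem epi_descQQ {n : ℕ} (U : Fin n → X.Opens) (K : X.Modules) [K.IsQuasicoherent]
    (t : ∀ i, Γ(K, U i))
    (hgen : ∀ x : X, ∃ V : X.Opens, IsAffineOpen V ∧ x ∈ V ∧
      Submodule.span Γ(X, V)
        {y : Γ(K, V) | ∃ (i : Fin n) (h : V ≤ U i), y = res K h (t i)} = ⊤) :
    Epi (descQQ U K t) := by
  apply QcohLocal.epi_of_app_surjective_of_affine_cover
  intro x
  obtain ⟨V, hV, hx, hspan⟩ := hgen x
  refine ⟨V, hV, hx, ?_⟩
  have hrange : LinearMap.range (appLin (descQQ U K t) V) = ⊤ := by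
    rw [eq_top_iff, ← hspan, Submodule.span_le]
    rintro y ⟨i, h, rfl⟩
    refine ⟨res (QQ n U) h ((Sigma.ι (fun i => PU (U i)) i).app (U i) (eU (U i))), ?_⟩
    change (descQQ U K t).app V (res (QQ n U) h ((Sigma.ι (fun i => PU (U i)) i).app (U i) (eU (U i))))
      = res K h (t i)
    rw [app_res']
    congr 1
    change ((Sigma.ι (fun i => PU (U i)) i) ≫ descQQ U K t).app (U i) (eU (U i)) = t i
    unfold descQQ
    rw [Sigma.ι_desc]
    exact ofSec_app_eU (U i) K (t i)
  intro y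
  have hy : y ∈ LinearMap.range (appLin (descQQ U K t) V) := by rw [hrange]; trivial
  obtain ⟨z, hz⟩ := hy
  exact ⟨z, hz⟩

open Groth.Agent.Helper4 Groth.Agent.Helper2.FPHom in
theorem exists_gen_data [CompactSpace X] (K : X.Modules) [K.IsQuasicoherent]
    (hK : SheafOfModules.IsFiniteType (R := X.ringCatSheaf) K) :
    ∃ (n : ℕ) (U : Fin n → X.Opens) (t : ∀ i, Γ(K, U i)),
      ∀ x : X, ∃ V : X.Opens, IsAffineOpen V ∧ x ∈ V ∧
        Submodule.span Γ(X, V)
          {y : Γ(K, V) | ∃ (i : Fin n) (h : V ≤ U i), y = res K h (t i)} = ⊤ := by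
  classical
  choose V hV hxV using fun x : X => QcohLimits.exists_affine_nhd x
  obtain ⟨T, hT⟩ := isCompact_univ.elim_finite_subcover (fun x => ((V x : X.Opens) : Set X))
    (fun x => (V x).isOpen) (fun x _ => Set.mem_iUnion.2 ⟨x, hxV x⟩)
  have hfin : ∀ x, Module.Finite Γ(X, V x) Γ(K, V x) := fun x =>
    SecDict.finite_sections (hV x) K inferInstance hK
  have hgen : ∀ x, ∃ S : Finset Γ(K, V x), Submodule.span Γ(X, V x) (S : Set Γ(K, V x)) = ⊤ :=
    fun x => (hfin x).fg_top
  choose S hS using hgen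
  let ι₀ : Type u := Σ x : T, ↥(S x.1)
  obtain ⟨n, ⟨e⟩⟩ := Finite.exists_equiv_fin ι₀
  refine ⟨n, fun j => V (e.symm j).1.1, fun j => ((e.symm j).2.1 : Γ(K, V (e.symm j).1.1)), ?_⟩
  intro y
  obtain ⟨x, hx⟩ := Set.mem_iUnion.1 (hT (Set.mem_univ y))
  obtain ⟨hxT, hyx⟩ := Set.mem_iUnion.1 hx
  refine ⟨V x, hV x, hyx, ?_⟩
  rw [eq_top_iff, ← hS x]
  apply Submodule.span_mono
  intro s hs
  let a : ι₀ := ⟨⟨x, hxT⟩, ⟨s, hs⟩⟩
  have key : ∀ (a a' : ι₀) (_ : a' = a), ∃ h : V a.1.1 ≤ V a'.1.1,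
      (a.2.1 : Γ(K, V a.1.1)) = res K h a'.2.1 := by
    rintro a _ rfl
    exact ⟨le_rfl, (res_self K _ _).symm⟩
  obtain ⟨h, hh⟩ := key a (e.symm (e a)) (e.symm_apply_apply a)
  exact ⟨e a, h, hh⟩

end Groth.Agent.Helper2.QCAb
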