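import Mathlib
import Groth.Prelude
import Groth.Agent.Helper2.QCAb2
import Groth.Agent.Helper2.LimDesc2
import Groth.Agent.Helper4.SubExt

/-!
# A small separating family of `QCoh(X)` and the special adjoint functor theorem
-/

set_option autoImplicit false
universe u u'
open CategoryTheory CategoryTheory.Limits AlgebraicGeometry TopologicalSpace Opposite

namespace Groth.Agent.Helper2.QCAb

open Groth.Agent.Helper4 Groth.Agent.Helper2.FPHom Groth.Agent.Helper2.FPExt

variable (X : Scheme.{u})

/-- index type of the separating family -/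
def Idx : Type (u + 1) :=
  Σ (n : ℕ) (U : Fin n → X.Opens),
    {S : Subobject (QQ n U) // (cokernel S.arrow).IsQuasicoherent}

instance small_Idx : Small.{u} (Idx X) := by
  unfold Idx
  infer_instance

/-- the members of the separating family -/
noncomputable def famObj (i : Idx X) : QCohCat.QCoh X := ⟨cokernel i.2.2.1.arrow, i.2.2.2⟩

/-- the separating family -/
def sepFam : ObjectProperty (QCohCat.QCoh X) := ObjectProperty.ofObj (famObj X)

instance small_sepFam : ObjectProperty.Small.{u} (sepFam X) := by
  unfold sepFam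
  infer_instance

variable [CompactSpace X] [QuasiSeparatedSpace X]

theorem isSeparating_sepFam : (sepFam X).IsSeparating := by
  intro M N f g h
  apply ObjectProperty.hom_ext
  haveI : M.obj.IsQuasicoherent := M.property
  rw [← sub_eq_zero]
  apply QcohLocal.eq_zero_of_app_eq_zero_of_affine_cover
  intro x
  obtain ⟨V, hV, hxV⟩ := QcohLimits.exists_affine_nhd x
  refine ⟨V, hV, hxV, fun m => ?_⟩
  obtain ⟨K, i, hi, hKq, hKft, k, hk⟩ :=
    SubExt.exists_submodule_through_section M.obj V hV.isCompact m
  haveI := hKq
  obtain ⟨n, U, t, hgen⟩ := exists_gen_data K hKft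
  haveI := epi_descQQ U K t hgen
  let π := descQQ U K t
  let S := kernelSubobject π
  let e : cokernel S.arrow ≅ K :=
    cokernelIsoOfEq (kernelSubobject_arrow π).symm ≪≫
      Groth.Agent.Helper2.LimDesc.cokernelIsoOfEpiKernel π (kernelSubobjectIso π).hom
  have hq : (cokernel S.arrow).IsQuasicoherent := QcohLimits.isQuasicoherent_of_iso e.symm
  let idx : Idx X := ⟨n, U, ⟨S, hq⟩⟩
  have key := h (famObj X idx) ⟨idx⟩ (ObjectProperty.homMk (e.hom ≫ i))
  have key' : (e.hom ≫ i) ≫ f.hom = (e.hom ≫ i) ≫ g.hom :=
    congrArg (fun z : famObj X idx ⟶ N => z.hom) key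
  have key'' : i ≫ f.hom = i ≫ g.hom := by
    rw [Category.assoc, Category.assoc] at key'
    exact (cancel_epi e.hom).1 key'
  have h1 := congrArg (fun ψ : K ⟶ N.obj => ψ.app V k) key''
  have hk' : i.app V k = m := hk
  have h2 : f.hom.app V m = g.hom.app V m := by
    rw [← hk']
    exact h1
  change f.hom.app V m - g.hom.app V m = 0
  rw [h2, sub_self]

instance wellPowered_QCoh : WellPowered.{u} (QCohCat.QCoh X) :=
  wellPowered_of_isDetecting (isSeparating_sepFam X).isDetecting

instance wellPowered_QCoh_op : WellPowered.{u} (QCohCat.QCoh X)ᵒᵖ := inferInstance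

/-- **special adjoint functor theorem for `QCoh(X)`**, `X` qcqs -/
theorem isLeftAdjoint_of_preservesColimits {A : Type u'} [Category.{u} A]
    (F : QCohCat.QCoh X ⥤ A) [PreservesColimitsOfSize.{u, u} F] : F.IsLeftAdjoint :=
  isLeftAdjoint_of_preservesColimits_of_isSeparating (isSeparating_sepFam X) F

end Groth.Agent.Helper2.QCAb
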