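import Mathlib
import Groth.Prelude
import Groth.Agent.Helper2.GenStalk1
import Groth.Agent.Helper4.FinLocFree2
import Groth.Agent.Lead.FlatBC2
import Groth.Agent.Lead.LimPres
import Groth.Agent.S2493

set_option autoImplicit false
set_option linter.unusedVariables false
open CategoryTheory CategoryTheory.Limits AlgebraicGeometry TopologicalSpace Topology TensorProduct
open IsLocalRing
universe u

namespace Groth.Agent.Helper2.QFlatBC

/-- base change of a nonzero finite module along a local homomorphism is nonzero. -/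
theorem subsingleton_baseChange_iff {A B G : Type u} [CommRing A] [CommRing B] [Algebra A B]
    [IsLocalRing A] [IsLocalRing B] [IsLocalHom (algebraMap A B)] [AddCommGroup G] [Module A G]
    [Module.Finite A G] : Subsingleton (B ⊗[A] G) ↔ Subsingleton G := by
  constructor
  · intro h
    let kA := ResidueField A
    let kB := ResidueField B
    let e1 : kB ⊗[B] (B ⊗[A] G) ≃ₗ[kB] kB ⊗[A] G :=
      TensorProduct.AlgebraTensorModule.cancelBaseChange A B kB kB G
    let e2 : kB ⊗[kA] (kA ⊗[A] G) ≃ₗ[kB] kB ⊗[A] G :=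
      TensorProduct.AlgebraTensorModule.cancelBaseChange A kA kB kB G
    haveI h1 : Subsingleton (kB ⊗[A] G) := e1.symm.toEquiv.subsingleton
    haveI h2 : Subsingleton (kB ⊗[kA] (kA ⊗[A] G)) := e2.toEquiv.subsingleton
    have h3 : Subsingleton (kA ⊗[A] G) :=
      (Module.FaithfullyFlat.subsingleton_tensorProduct_iff_right kA kB).1 h2
    exact (IsLocalRing.subsingleton_tensorProduct (R := A) (M := G)).1 h3
  · intro h
    infer_instance

/-- the support of the pullback of a quasi-coherent module of finite type. -/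
theorem subsingleton_stalk_pullback_iff {X' X : Scheme.{u}} (φ : X' ⟶ X) (G : X.Modules)
    [G.IsQuasicoherent] (hft : SheafOfModules.IsFiniteType (R := X.ringCatSheaf) G) (z' : X') :
    Subsingleton (((Scheme.Modules.pullback φ).obj G).presheaf.stalk z') ↔
      Subsingleton (G.presheaf.stalk (φ z')) := by
  letI alg : Algebra (X.presheaf.stalk (φ z')) (X'.presheaf.stalk z') :=
    (φ.stalkMap z').hom.toAlgebra
  haveI : IsLocalHom (algebraMap (X.presheaf.stalk (φ z')) (X'.presheaf.stalk z')) :=
    inferInstanceAs (IsLocalHom (φ.stalkMap z').hom)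
  haveI : Module.Finite (X.presheaf.stalk (φ z')) (G.presheaf.stalk (φ z')) :=
    Groth.Agent.Helper4.FinLocFree2.finite_stalk G hft (φ z')
  obtain ⟨E⟩ := Groth.Agent.Helper2.GenStalk.nonempty_stalk_pullback_equiv φ G z'
  rw [E.toEquiv.subsingleton_congr]
  exact subsingleton_baseChange_iff

/-- quasi-flat morphisms are stable under base change. -/
theorem isQuasiFlat_of_isPullback {X S X' S' : Scheme.{u}} {f : X ⟶ S} {f' : X' ⟶ S'}
    {g' : X' ⟶ X} {g : S' ⟶ S} (hc : IsPullback g' f' f g) (hf : FDesc.IsQuasiFlat f) :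
    FDesc.IsQuasiFlat f' := by
  obtain ⟨M, hM, hfl, hnt⟩ := hf
  haveI : M.IsQuasicoherent := hM.1
  refine ⟨(Scheme.Modules.pullback g').obj M,
    ⟨Groth.Agent.Lead.StalkPull.isQuasicoherent_pullbackObj g' M,
      Groth.Agent.Lead.LimPres.isFT_pullback g' M hM.2⟩, ?_, ?_⟩
  · intro x'
    exact Groth.Agent.Lead.FlatBC.main_baseChange f f' g' g hc M hM.1 x' (hfl _)
  · intro x'
    rw [← not_subsingleton_iff_nontrivial, subsingleton_stalk_pullback_iff g' M hM.2 x',
      not_subsingleton_iff_nontrivial]
    exact hnt _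

theorem s3429 {X Y : Scheme.{u}} (f : X ⟶ Y)
    (hf : FDesc.IsQuasiFlat f) [LocallyOfFinitePresentation f] : UniversallyOpen f :=
  ⟨MorphismProperty.universally_mk' _ _ fun t _ ↦ isOpenMap_of_generalizingMap _
    (Groth.Agent.S2493.result _ (isQuasiFlat_of_isPullback (IsPullback.of_hasPullback t f).flip hf))⟩

end Groth.Agent.Helper2.QFlatBC
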