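import Mathlib
import Groth.Prelude
import Groth.Agent.Helper2.QFlatBC1

set_option autoImplicit false
set_option linter.unusedVariables false
open CategoryTheory CategoryTheory.Limits AlgebraicGeometry TopologicalSpace Topology
universe u

namespace Groth.Agent.Helper2.QFlatBC

section top
variable {α : Type*} [TopologicalSpace α]

/-- an irreducible component of a quasi-sober `T0` space has a generic point, which is a maximal
point. -/
theorem exists_maximal_point_of_mem_irreducibleComponents [QuasiSober α] [T0Space α] {Z : Set α}
    (hZ : Z ∈ irreducibleComponents α) :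
    ∃ ξ : α, closure {ξ} = Z ∧ ∀ η : α, η ⤳ ξ → η = ξ := by
  have hirr : IsIrreducible Z := hZ.1
  have hcl : IsClosed Z := isClosed_of_mem_irreducibleComponents Z hZ
  obtain ⟨ξ, hξ⟩ := QuasiSober.sober hirr hcl
  refine ⟨ξ, hξ.def, ?_⟩
  intro η hη
  have h1 : Z ≤ closure {η} := by
    rw [← hξ.def]
    exact closure_minimal (Set.singleton_subset_iff.2 (specializes_iff_mem_closure.1 hη))
      isClosed_closure
  have h2 : closure {η} ≤ Z := hZ.2 (isIrreducible_singleton.closure) h1
  have h3 : ξ ⤳ η := by
    rw [specializes_iff_mem_closure, hξ.def]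
    exact h2 (subset_closure rfl)
  exact (hη.antisymm h3).eq

/-- the closure of a maximal point is an irreducible component. -/
theorem closure_singleton_mem_irreducibleComponents [QuasiSober α] {ξ : α}
    (hξ : ∀ η : α, η ⤳ ξ → η = ξ) : closure {ξ} ∈ irreducibleComponents α := by
  refine ⟨isIrreducible_singleton.closure, ?_⟩
  intro T hT hle
  obtain ⟨t, ht⟩ := QuasiSober.sober hT.closure isClosed_closure
  have h1 : t ⤳ ξ := by
    rw [specializes_iff_mem_closure, ht.def]
    exact subset_closure (hle (subset_closure rfl))
  have h2 := hξ t h1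
  subst h2
  rw [ht.def]
  exact subset_closure

/-- the generic point of an irreducible component is a maximal point. -/
theorem eq_of_specializes_of_closure_mem_irreducibleComponents [T0Space α] {y : α}
    (hy : closure {y} ∈ irreducibleComponents α) (t : α) (ht : t ⤳ y) : t = y := by
  have h1 : closure {y} ≤ closure {t} :=
    closure_minimal (Set.singleton_subset_iff.2 (specializes_iff_mem_closure.1 ht))
      isClosed_closure
  have h2 : closure {t} ≤ closure {y} := hy.2 (isIrreducible_singleton.closure) h1
  have h3 : y ⤳ t := by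
    rw [specializes_iff_mem_closure]
    exact h2 (subset_closure rfl)
  exact (ht.antisymm h3).eq

end top

set_option backward.isDefEq.respectTransparency false in
theorem s4633 {X Y Y' : Scheme.{u}} (f : X ⟶ Y) (g : Y' ⟶ Y)
    (hf : ∀ Z ∈ irreducibleComponents ↥X, closure (⇑f '' Z) ∈ irreducibleComponents ↥Y)
    (hg : FDesc.IsQuasiFlat g) (Z' : Set ↥(pullback f g))
    (hZ' : Z' ∈ irreducibleComponents ↥(pullback f g)) :
    closure (⇑(pullback.snd f g) '' Z') ∈ irreducibleComponents ↥Y' := by
  obtain ⟨ξ', hξ', hmax'⟩ := exists_maximal_point_of_mem_irreducibleComponents hZ'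
  -- the first projection is generalizing
  have hp : GeneralizingMap (pullback.fst f g).base :=
    Groth.Agent.S2493.result _ (isQuasiFlat_of_isPullback (IsPullback.of_hasPullback f g).flip hg)
  -- `x = p ξ'` is maximal
  have hx : ∀ η : X, η ⤳ pullback.fst f g ξ' → η = pullback.fst f g ξ' := by
    intro η hη
    obtain ⟨η', hη', rfl⟩ := hp hη
    rw [hmax' η' hη']
  -- `y = f x` is maximal
  have hy : ∀ t : Y, t ⤳ f (pullback.fst f g ξ') → t = f (pullback.fst f g ξ') := by
    have h1 := hf _ (closure_singleton_mem_irreducibleComponents hx)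
    rw [closure_image_closure f.continuous, Set.image_singleton] at h1
    exact eq_of_specializes_of_closure_mem_irreducibleComponents h1
  set y : Y := f (pullback.fst f g ξ') with hydef
  have hcond : g (pullback.snd f g ξ') = y := by
    rw [hydef, ← Scheme.Hom.comp_apply, ← Scheme.Hom.comp_apply, pullback.condition]
  -- the auxiliary fibre product over the residue field
  let W := pullback (f.fiberToSpecResidueField y) (g.fiberToSpecResidueField y)
  let a : W ⟶ f.fiber y := pullback.fst _ _
  let b : W ⟶ g.fiber y := pullback.snd _ _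
  have hbig : IsPullback (a ≫ f.fiberι y) b f (g.fiberι y ≫ g) := by
    have h1 : IsPullback a b (f.fiberToSpecResidueField y) (g.fiberToSpecResidueField y) :=
      IsPullback.of_hasPullback _ _
    have h2 : IsPullback (f.fiberι y) (f.fiberToSpecResidueField y) f
        (Y.fromSpecResidueField y) := IsPullback.of_hasPullback _ _
    have h3 := h1.paste_horiz h2
    rw [← g.fiber_fac y] at h3
    exact h3
  let c : W ⟶ pullback f g := pullback.lift (a ≫ f.fiberι y) (b ≫ g.fiberι y)
    (by rw [Category.assoc, Category.assoc]; exact hbig.w)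
  have hsq : IsPullback c b (pullback.snd f g) (g.fiberι y) := by
    refine IsPullback.of_right (h₁₂ := pullback.fst f g) (h₂₂ := g) (v₁₃ := f) ?_ ?_
      (IsPullback.of_hasPullback f g)
    · rw [pullback.lift_fst]
      exact hbig
    · rw [pullback.lift_snd]
  haveI : Flat b := inferInstance
  have hb : GeneralizingMap b.base := Flat.generalizingMap b
  -- `y' = q ξ'` is maximal
  have hy' : ∀ t : Y', t ⤳ pullback.snd f g ξ' → t = pullback.snd f g ξ' := by
    intro y'' hy''
    have h1 : g y'' = y := by
      have := hy (g y'') (by rw [← hcond]; exact hy''.map g.continuous)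
      exact this
    obtain ⟨b', hb'⟩ : pullback.snd f g ξ' ∈ Set.range (g.fiberι y) := by
      rw [g.range_fiberι]; exact hcond
    obtain ⟨b'', hb''⟩ : y'' ∈ Set.range (g.fiberι y) := by
      rw [g.range_fiberι]; exact h1
    have hsp : b'' ⤳ b' := by
      rw [← (g.fiberι y).isEmbedding.isInducing.specializes_iff, hb', hb'']
      exact hy''
    obtain ⟨ω, hω1, hω2⟩ := Scheme.exists_preimage_of_isPullback hsq ξ' b' hb'.symm
    have hsp' : b'' ⤳ b.base ω := by rw [hω2]; exact hsp
    obtain ⟨ω'', hω'', hbω''⟩ := hb hsp'
    have h2 : c ω'' ⤳ ξ' := by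
      have := hω''.map c.continuous
      rwa [hω1] at this
    have h3 := hmax' _ h2
    rw [← hb'', ← hbω'', ← h3]
    change (b ≫ g.fiberι y) ω'' = (c ≫ pullback.snd f g) ω''
    rw [hsq.w]
  have h5 := closure_singleton_mem_irreducibleComponents hy'
  rw [← hξ', closure_image_closure (pullback.snd f g).continuous, Set.image_singleton]
  exact h5

end Groth.Agent.Helper2.QFlatBC
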