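import Mathlib
import Groth.Prelude
import Groth.Agent.Helper5.QFlat3
import Groth.Agent.Helper7.PC
import Groth.Agent.Lead.ProConsLib7

set_option autoImplicit false
set_option linter.unusedVariables false
open CategoryTheory CategoryTheory.Limits AlgebraicGeometry TopologicalSpace Topology
universe u

namespace Groth.Agent.Helper2.QFlatBC

theorem s4648 {X Y : Scheme.{u}} (f : X ⟶ Y)
    (hf : FDesc.IsQuasiFlat f) [Surjective f] [QuasiCompact f] (Z : Set ↥Y) :
    (IsLocallyClosed Z ∧ ProCons.IsProConstructible Z) ↔
      (IsLocallyClosed (⇑f ⁻¹' Z) ∧ ProCons.IsProConstructible (⇑f ⁻¹' Z)) := by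
  constructor
  · rintro ⟨h1, h2⟩
    exact ⟨h1.preimage f.continuous, Groth.Agent.Helper7.PC.pro_preimage f Z h2⟩
  · rintro ⟨h1, h2⟩
    have himg : f.base '' (f.base ⁻¹' Z) = Z := Set.image_preimage_eq Z f.surjective
    have hZpro : ProCons.IsProConstructible Z := by
      rw [← himg]
      exact Groth.Agent.Lead.ProConsLib.pro_image f h2
    refine ⟨?_, hZpro⟩
    -- the preimage of the closure is the closure of the preimage
    have hcl : f.base ⁻¹' closure Z = closure (f.base ⁻¹' Z) := by
      apply Set.Subset.antisymm
      · intro x hx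
        obtain ⟨z, hz, hzx⟩ :=
          Groth.Agent.Lead.ProConsLib.exists_specializes_of_mem_closure hZpro hx
        obtain ⟨x', hx'x, hx'⟩ := Groth.Agent.Helper5.QFlat2.s2493 f hf hzx
        have h3 : x' ∈ f.base ⁻¹' Z := by
          change f.base x' ∈ Z
          rw [hx']; exact hz
        exact hx'x.mem_closed isClosed_closure (subset_closure h3)
      · exact closure_minimal (Set.preimage_mono subset_closure)
          (isClosed_closure.preimage f.continuous)
    have hq : Topology.IsQuotientMap f.base := Groth.Agent.Helper5.QFlat3.s2495 f hf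
    rw [isLocallyClosed_iff_isOpen_coborder] at h1 ⊢
    rw [← hq.isOpen_preimage]
    have : f.base ⁻¹' coborder Z = coborder (f.base ⁻¹' Z) := by
      rw [coborder_eq_union_closure_compl, coborder_eq_union_closure_compl, Set.preimage_union,
        Set.preimage_compl, hcl]
    rw [this]
    exact h1

end Groth.Agent.Helper2.QFlatBC
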