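import Mathlib

/-!
# The ideal generated by the elements `g - 1`, `g` group-like, is a Hopf ideal
-/

set_option autoImplicit false

namespace Groth.Agent.Helper2.QL
open TensorProduct

section hopfideal
variable {R : Type*} [CommRing R] {A : Type*} [CommRing A] [HopfAlgebra R A]
variable (S : Set A) (hS : ∀ g ∈ S, IsGroupLikeElem R g)

/-- the ideal generated by the `g - 1` -/
def glIdeal : Ideal A := Ideal.span ((fun g => g - 1) '' S)

lemma sub_one_mem_glIdeal {g : A} (hg : g ∈ S) : g - 1 ∈ glIdeal S :=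
  Ideal.subset_span ⟨g, hg, rfl⟩

include hS in
lemma glIdeal_le_ker_counit : glIdeal S ≤ RingHom.ker (Bialgebra.counitAlgHom R A) := by
  refine Ideal.span_le.mpr ?_
  rintro _ ⟨g, hg, rfl⟩
  rw [SetLike.mem_coe, RingHom.mem_ker, map_sub, map_one]
  show Coalgebra.counit (R := R) g - 1 = 0
  rw [(hS g hg).counit_eq_one, sub_self]

include hS in
lemma glIdeal_le_ker_comul : glIdeal S ≤ RingHom.ker
    ((Algebra.TensorProduct.map (Ideal.Quotient.mkₐ R (glIdeal S))
      (Ideal.Quotient.mkₐ R (glIdeal S))).comp (Bialgebra.comulAlgHom R A)) := by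
  refine Ideal.span_le.mpr ?_
  rintro _ ⟨g, hg, rfl⟩
  rw [SetLike.mem_coe, RingHom.mem_ker, map_sub, map_one, AlgHom.comp_apply]
  show Algebra.TensorProduct.map _ _ (Coalgebra.comul (R := R) g) - 1 = 0
  rw [(hS g hg).comul_eq_tmul_self, Algebra.TensorProduct.map_tmul]
  have h1 : Ideal.Quotient.mkₐ R (glIdeal S) g = 1 := by
    have : Ideal.Quotient.mk (glIdeal S) (g - 1) = 0 :=
      Ideal.Quotient.eq_zero_iff_mem.mpr (sub_one_mem_glIdeal S hg)
    rw [map_sub, map_one, sub_eq_zero] at this
    exact this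
  rw [h1, ← Algebra.TensorProduct.one_def, sub_self]

include hS in
lemma antipode_mem_glIdeal : ∀ x ∈ glIdeal S, HopfAlgebra.antipode R x ∈ glIdeal S := by
  have h : glIdeal S ≤ Ideal.comap (HopfAlgebra.antipodeAlgHom R A) (glIdeal S) := by
    refine Ideal.span_le.mpr ?_
    rintro _ ⟨g, hg, rfl⟩
    rw [SetLike.mem_coe, Ideal.mem_comap, map_sub, map_one]
    show HopfAlgebra.antipode R g - 1 ∈ glIdeal S
    have h1 : HopfAlgebra.antipode R g * g = 1 := (hS g hg).antipode_mul_cancel
    have h2 : HopfAlgebra.antipode R g - 1 = -(HopfAlgebra.antipode R g) * (g - 1) := by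
      rw [mul_sub, mul_one, neg_mul, h1]
      ring
    rw [h2]
    exact Ideal.mul_mem_left _ _ (sub_one_mem_glIdeal S hg)
  intro x hx
  exact h hx

include hS in
theorem isHopfIdeal_glIdeal : (glIdeal S).IsHopfIdeal R := by
  refine { counit_eq_zero := ?_, map_mkQ_comul_eq_zero := ?_, antipode_mem := ?_ }
  · intro x hx
    exact glIdeal_le_ker_counit S hS hx
  · intro x hx
    exact glIdeal_le_ker_comul S hS hx
  · intro x hx
    exact antipode_mem_glIdeal S hS x hx

end hopfideal

end Groth.Agent.Helper2.QL
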