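import Mathlib
import Groth.Agent.Helper2.QLHopfId

/-!
# The augmentation `A₀ ⊗ k[P] → A₀` and its kernel
-/

set_option autoImplicit false

namespace Groth.Agent.Helper2.QL
open TensorProduct

section aug
variable (k : Type*) [CommRing k] (A₀ : Type*) [CommRing A₀] [Bialgebra k A₀]
  (P : Type*) [CommMonoid P]

/-- the augmentation along the group algebra factor -/
noncomputable def augHom : A₀ ⊗[k] MonoidAlgebra k P →ₐc[k] A₀ :=
  ((Bialgebra.TensorProduct.rid k k A₀ : A₀ ⊗[k] k ≃ₐc[k] A₀) : A₀ ⊗[k] k →ₐc[k] A₀).comp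
    (Bialgebra.TensorProduct.map (BialgHom.id k A₀)
      (Bialgebra.counitBialgHom k (MonoidAlgebra k P)))

@[simp] lemma augHom_tmul (a : A₀) (x : MonoidAlgebra k P) :
    augHom k A₀ P (a ⊗ₜ[k] x) = Coalgebra.counit (R := k) x • a := rfl

lemma augHom_surjective : Function.Surjective (augHom k A₀ P) := by
  intro a
  refine ⟨a ⊗ₜ[k] 1, ?_⟩
  rw [augHom_tmul, Bialgebra.counit_one, one_smul]

/-- the group-like elements coming from the group algebra factor -/
def glSet : Set (A₀ ⊗[k] MonoidAlgebra k P) :=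
  Set.range (fun p : P => (1 : A₀) ⊗ₜ[k] (MonoidAlgebra.single p (1 : k) : MonoidAlgebra k P))

lemma isGroupLikeElem_glSet : ∀ g ∈ glSet k A₀ P, IsGroupLikeElem k g := by
  rintro _ ⟨p, rfl⟩
  constructor
  · simp [TensorProduct.counit_tmul]
  · simp [TensorProduct.comul_tmul, Algebra.TensorProduct.one_def]

lemma sub_mem_glIdeal (z : A₀ ⊗[k] MonoidAlgebra k P) :
    z - (augHom k A₀ P z) ⊗ₜ[k] (1 : MonoidAlgebra k P) ∈ glIdeal (glSet k A₀ P) := by
  induction z using TensorProduct.induction_on with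
  | zero => simp
  | add x y hx hy =>
    rw [map_add, add_tmul, add_sub_add_comm]
    exact add_mem hx hy
  | tmul a x =>
    induction x using MonoidAlgebra.induction_linear with
    | zero => simp
    | add x y hx hy =>
      rw [tmul_add, map_add, add_tmul, add_sub_add_comm]
      exact add_mem hx hy
    | single p r =>
      have h1 : a ⊗ₜ[k] (MonoidAlgebra.single p r : MonoidAlgebra k P) -
          (augHom k A₀ P (a ⊗ₜ[k] MonoidAlgebra.single p r)) ⊗ₜ[k] (1 : MonoidAlgebra k P) =
          ((r • a) ⊗ₜ[k] (1 : MonoidAlgebra k P)) *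
            ((1 : A₀) ⊗ₜ[k] (MonoidAlgebra.single p (1 : k) : MonoidAlgebra k P) - 1) := by
        rw [augHom_tmul, mul_sub, mul_one, Algebra.TensorProduct.tmul_mul_tmul, mul_one, one_mul,
          MonoidAlgebra.counit_single]
        congr 1
        rw [TensorProduct.smul_tmul, MonoidAlgebra.smul_single, smul_eq_mul, mul_one]
      rw [h1]
      exact Ideal.mul_mem_left _ _ (sub_one_mem_glIdeal _ ⟨p, rfl⟩)

theorem ker_augHom :
    RingHom.ker ((augHom k A₀ P : A₀ ⊗[k] MonoidAlgebra k P →ₐ[k] A₀) :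
      A₀ ⊗[k] MonoidAlgebra k P →+* A₀) = glIdeal (glSet k A₀ P) := by
  apply le_antisymm
  · intro z hz
    rw [RingHom.mem_ker] at hz
    have h := sub_mem_glIdeal k A₀ P z
    have hz' : augHom k A₀ P z = 0 := hz
    rw [hz', zero_tmul, sub_zero] at h
    exact h
  · refine Ideal.span_le.mpr ?_
    rintro _ ⟨_, ⟨p, rfl⟩, rfl⟩
    rw [SetLike.mem_coe, RingHom.mem_ker]
    show augHom k A₀ P ((1 : A₀) ⊗ₜ[k] MonoidAlgebra.single p (1 : k) - 1) = 0
    rw [map_sub, map_one, augHom_tmul, MonoidAlgebra.counit_single]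
    simp

end aug

end Groth.Agent.Helper2.QL
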