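import Mathlib

/-!
# A nil ideal gives a Henselian pair
-/

set_option autoImplicit false

namespace Groth.Agent.Helper2.QL
open Polynomial

lemma isAdicComplete_of_pow_eq_bot {R : Type*} [CommRing R] (J : Ideal R) (n : ℕ)
    (hn : J ^ n = ⊥) : IsAdicComplete J R := by
  have hbot : ∀ m, n ≤ m → (J ^ m • ⊤ : Submodule R R) = ⊥ := by
    intro m hm
    have h1 : J ^ m ≤ J ^ n := Ideal.pow_le_pow_right hm
    rw [hn, le_bot_iff] at h1
    rw [h1]
    simp
  haveI : IsHausdorff J R := ⟨fun x hx => by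
    have h := hx n
    rw [hbot n le_rfl, SModEq.bot] at h
    exact h⟩
  haveI : IsPrecomplete J R := ⟨fun f hf => by
    refine ⟨f n, fun m => ?_⟩
    rcases le_total m n with h | h
    · exact hf h
    · have h1 := hf h
      rw [hbot n le_rfl, SModEq.bot] at h1
      rw [h1]⟩
  exact {}

theorem henselianRing_of_nil {R : Type*} [CommRing R] (I : Ideal R)
    (hI : ∀ x ∈ I, IsNilpotent x) : HenselianRing R I := by
  have hjac : I ≤ Ideal.jacobson ⊥ := by
    intro x hx
    have h1 : x ∈ nilradical R := (mem_nilradical).mpr (hI x hx)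
    have h2 : nilradical R ≤ Ideal.jacobson ⊥ := by
      rw [nilradical]
      exact Ideal.radical_le_jacobson
    exact h2 h1
  refine ⟨hjac, ?_⟩
  intro f hf a₀ ha₀ hu
  set J : Ideal R := Ideal.span {f.eval a₀} with hJ
  obtain ⟨n, hn⟩ := hI _ ha₀
  have hJn : J ^ n = ⊥ := by
    rw [hJ, Ideal.span_singleton_pow, hn]
    simp
  haveI : IsAdicComplete J R := isAdicComplete_of_pow_eq_bot J n hJn
  have hJI : J ≤ I := by
    rw [hJ, Ideal.span_singleton_le_iff_mem]
    exact ha₀
  have hu' : IsUnit (f.derivative.eval a₀) := by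
    have := isLocalHom_of_le_jacobson_bot I hjac
    exact (isUnit_map_iff (Ideal.Quotient.mk I) _).mp hu
  obtain ⟨a, ha, haJ⟩ := HenselianRing.is_henselian (I := J) f hf a₀
    (Ideal.subset_span rfl) (hu'.map _)
  exact ⟨a, ha, hJI haJ⟩

end Groth.Agent.Helper2.QL
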