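import Mathlib
import Groth.Agent.Helper2.HDUniq

/-!
# Uniqueness of the descended Hopf algebra, with compatibility with the charts
-/

set_option autoImplicit false

namespace Groth.Agent.Helper2.QL
open TensorProduct Groth.Agent.Helper2.MultTypeSemi Groth.Agent.Helper2.SemiIso
  Groth.Agent.Helper2.HD

universe u

section uniq
variable {R : Type u} [CommRing R] {B : Type u} [CommRing B] [Algebra R B]
  [Module.FaithfullyFlat R B]
variable {M : Type u} [CommMonoid M]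
variable {H₁ H₂ : Type u} [CommRing H₁] [Bialgebra R H₁] [CommRing H₂] [Bialgebra R H₂]
variable (τ : MonoidAlgebra (B ⊗[R] B) M →ₐ[B ⊗[R] B] MonoidAlgebra (B ⊗[R] B) M)
variable (θ₁ : H₁ →ₐ[R] MonoidAlgebra B M) (θ₂ : H₂ →ₐ[R] MonoidAlgebra B M)

include τ in
/-- two Hopf algebras with charts having the same transition cocycle are isomorphic, compatibly
with the charts -/
theorem exists_bialgEquiv_of_equivariant
    (hθ₁ : IsSemiIso R B θ₁) (hθ₂ : IsSemiIso R B θ₂)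
    (h₁ : ∀ h, τ (c₁ R B M (θ₁ h)) = c₂ R B M (θ₁ h))
    (h₂ : ∀ h, τ (c₁ R B M (θ₂ h)) = c₂ R B M (θ₂ h)) :
    ∃ e : H₁ ≃ₐc[R] H₂, ∀ h, θ₂ (e h) = θ₁ h := by
  have hr₁ : IsRed R B θ₁.toLinearMap := hθ₁.2
  have hr₂ : IsRed R B θ₂.toLinearMap := hθ₂.2
  have hinj₁ : Function.Injective θ₁ := hr₁.injective
  have hinj₂ : Function.Injective θ₂ := hr₂.injective
  have hrange : θ₁.range = θ₂.range := by
    apply le_antisymm
    · rintro _ ⟨h, rfl⟩
      obtain ⟨p, hp⟩ := range_le_of_equivariant τ θ₁ θ₂ hr₂ h₁ h₂ h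
      exact ⟨p, hp⟩
    · rintro _ ⟨h, rfl⟩
      obtain ⟨p, hp⟩ := range_le_of_equivariant τ θ₂ θ₁ hr₁ h₂ h₁ h
      exact ⟨p, hp⟩
  let e₁ := AlgEquiv.ofInjective θ₁ hinj₁
  let e₂ := AlgEquiv.ofInjective θ₂ hinj₂
  let φ : H₁ ≃ₐ[R] H₂ := e₁.trans ((Subalgebra.equivOfEq _ _ hrange).trans e₂.symm)
  have hφ : ∀ h, θ₂ (φ h) = θ₁ h := by
    intro h
    have h3 : (e₂ (φ h) : MonoidAlgebra B M) = (e₁ h : MonoidAlgebra B M) := by
      simp [φ]
    exact h3
  have hsm : ∀ t : H₁ ⊗[R] H₁, semiMap R B θ₂.toLinearMap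
      (semiMap R R (φ : H₁ →ₐ[R] H₂).toLinearMap t) = semiMap R B θ₁.toLinearMap t := by
    intro t
    induction t using TensorProduct.induction_on with
    | zero => simp
    | add x y hx hy => simp only [map_add, hx, hy]
    | tmul x y =>
      simp only [semiMap_tmul, AlgHom.toLinearMap_apply, AlgEquiv.coe_algHom, hφ]
  have hsemi : IsSemiCoalg R R (φ : H₁ →ₐ[R] H₂) := by
    constructor
    · intro a
      apply FaithfulSMul.algebraMap_injective R B
      rw [Algebra.algebraMap_self_apply, ← hθ₂.1.counit, ← hθ₁.1.counit]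
      show Coalgebra.counit (R := B) (θ₂ (φ a)) = _
      rw [hφ]
    · intro a
      apply semiMap_injective R B θ₂ hr₂
      rw [hsm, ← hθ₁.1.comul, ← hθ₂.1.comul]
      show Coalgebra.comul (R := B) (θ₂ (φ a)) = _
      rw [hφ]
  exact ⟨BialgEquiv.ofBijective (bialgHomOfSemi' (φ : H₁ →ₐ[R] H₂) hsemi) φ.bijective,
    fun h => hφ h⟩

include τ in
/-- an equivariant element lies in the range of a chart -/
lemma mem_range_of_equivariant (hθ₂ : IsRed R B θ₂.toLinearMap)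
    (h₂ : ∀ h, τ (c₁ R B M (θ₂ h)) = c₂ R B M (θ₂ h)) (x : MonoidAlgebra B M)
    (hx : τ (c₁ R B M x) = c₂ R B M x) : x ∈ Set.range θ₂ := by
  let ι₁ : B →+* B ⊗[R] B :=
    (Algebra.TensorProduct.includeLeft (R := R) (S := R) (A := B) (B := B)).toRingHom
  let ι₂ : B →+* B ⊗[R] B :=
    (Algebra.TensorProduct.includeRight (R := R) (A := B) (B := B)).toRingHom
  let j₁ : MonoidAlgebra B M →+ MonoidAlgebra (B ⊗[R] B) M :=
    ((τ : MonoidAlgebra (B ⊗[R] B) M →+* MonoidAlgebra (B ⊗[R] B) M).comp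
      (MonoidAlgebra.mapRingHom M ι₁)).toAddMonoidHom
  let j₂ : MonoidAlgebra B M →+ MonoidAlgebra (B ⊗[R] B) M :=
    (MonoidAlgebra.mapRingHom M ι₂).toAddMonoidHom
  have hθT : IsRed R (B ⊗[R] B) ((c₂ R B M).comp θ₂).toLinearMap :=
    isRed_map_comp' (Algebra.TensorProduct.includeRight (R := R) (A := B) (B := B)) hθ₂
  have key := mem_range_of_eq (R := R) (B := B) θ₂.toLinearMap hθ₂ j₁ j₂
    (fun b n => by
      show τ (MonoidAlgebra.mapRingHom M ι₁ (b • n)) = _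
      rw [mapRingHom_smul, map_smul]
      rfl)
    (fun b n => mapRingHom_smul ι₂ M b n)
    (LinearMap.liftBaseChange (B ⊗[R] B) ((c₂ R B M).comp θ₂).toLinearMap) hθT.1
    (by
      intro p
      rw [LinearMap.liftBaseChange_tmul, one_smul]
      rfl)
    (fun p => h₂ p) x hx
  obtain ⟨p, hp⟩ := key
  exact ⟨p, hp⟩

end uniq

end Groth.Agent.Helper2.QL
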