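import Mathlib
import Groth.Prelude.Def_SGA3b
import Groth.Agent.Helper2.HDS2980
import Groth.Agent.Helper2.QLNilHens
import Groth.Agent.Helper2.QLUniq
import Groth.Agent.Helper2.GLike

/-!
# Lifting a twisted form of a monoid Hopf algebra along a nil ideal (constant type)
-/

set_option autoImplicit false
set_option linter.style.haveILetI false

namespace Groth.Agent.Helper2.QL
open TensorProduct Groth.Agent.Helper2.MultTypeSemi Groth.Agent.Helper2.SemiIso
  Groth.Agent.Helper2.NilSplit Groth.Agent.Helper2.NilLift Groth.Agent.Helper2.HD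
  Groth.Agent.Helper2.GLike

universe u

section nil
variable {R : Type u} [CommRing R] (I : Ideal R) (hI : ∀ x ∈ I, IsNilpotent x)

include hI in
lemma map_nil {X : Type*} [CommRing X] [Algebra R X] :
    ∀ x ∈ I.map (algebraMap R X), IsNilpotent x := by
  have h : I.map (algebraMap R X) ≤ nilradical X := by
    rw [Ideal.map_le_iff_le_comap]
    intro r hr
    rw [Ideal.mem_comap, mem_nilradical]
    exact (hI r hr).map _
  intro x hx
  exact mem_nilradical.mp (h hx)

variable {X : Type u} [CommRing X] [Algebra R X]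
variable {X₀ : Type u} [CommRing X₀] [Algebra (R ⧸ I) X₀] [Algebra R X₀]
  [IsScalarTower R (R ⧸ I) X₀] {χ : X →ₐ[R] X₀}

include hI in
lemma ker_nil_of_isRed (hχ : IsRed R (R ⧸ I) χ.toLinearMap) :
    ∀ x ∈ RingHom.ker (χ : X →+* X₀), IsNilpotent x := by
  rw [ker_of_isRed I hχ]
  exact map_nil I hI

include hI in
lemma henselian_of_isRed_nil (hχ : IsRed R (R ⧸ I) χ.toLinearMap) :
    HenselianRing X (RingHom.ker (χ : X →+* X₀)) :=
  henselianRing_of_nil _ (ker_nil_of_isRed I hI hχ)

end nil

end Groth.Agent.Helper2.QL
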