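import Mathlib
import Groth.Prelude.Def_SGA3b
import Groth.Agent.Helper2.QLCT
import Groth.Agent.Helper2.DiagSpan

/-!
# Lifting a twisted form of a monoid Hopf algebra along a nil ideal (constant type): the theorem
-/

set_option autoImplicit false
set_option linter.style.haveILetI false

namespace Groth.Agent.Helper2.QL
open TensorProduct Groth.Agent.Helper2.MultTypeSemi Groth.Agent.Helper2.SemiIso
  Groth.Agent.Helper2.NilSplit Groth.Agent.Helper2.NilLift Groth.Agent.Helper2.HD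
  Groth.Agent.Helper2.DiagSpan

universe u

theorem exists_lift_const (R : Type u) [CommRing R] (I : Ideal R) (hI : ∀ x ∈ I, IsNilpotent x)
    {A₀ : Type u} [CommRing A₀] [HopfAlgebra (R ⧸ I) A₀]
    {L : Type u} [CommRing L] [Algebra (R ⧸ I) L] [Algebra R L] [IsScalarTower R (R ⧸ I) L]
    [Module.FaithfullyFlat (R ⧸ I) L]
    {B : Type u} [CommRing B] [Algebra R B] [Module.FaithfullyFlat R B]
    (π : B →ₐ[R] L) (hπs : Function.Surjective π)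
    (hker : RingHom.ker (π : B →+* L) = I.map (algebraMap R B))
    {M : Type u} [CommGroup M] (θ₀ : A₀ →ₐ[R ⧸ I] MonoidAlgebra L M)
    (hθ₀ : IsSemiIso (R ⧸ I) L θ₀) :
    ∃ (A : Type u) (_ : CommRing A) (_ : HopfAlgebra R A) (θ : A →ₐ[R] MonoidAlgebra B M)
      (ψ : (R ⧸ I) ⊗[R] A ≃ₐc[R ⧸ I] A₀),
      IsSemiIso R B θ ∧ (∀ a, θ₀ (ψ ((1 : R ⧸ I) ⊗ₜ[R] a)) = MonoidAlgebra.mapAlgHom M π (θ a)) ∧
      (∀ g₀ : A₀, IsGroupLikeElem (R ⧸ I) g₀ →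
        ∃ g : A, IsGroupLikeElem R g ∧ ψ ((1 : R ⧸ I) ⊗ₜ[R] g) = g₀) := by
  have hred : IsRed R (R ⧸ I) π.toLinearMap := isRed_of_surjective_of_ker I π hπs hker
  have hred₂ : IsRed R (R ⧸ I) (pi₂ (k := R ⧸ I) π).toLinearMap := isRed_mix R (R ⧸ I) hred hred
  have hred₃ : IsRed R (R ⧸ I) (pi₃ (k := R ⧸ I) π).toLinearMap :=
    isRed_mix R (R ⧸ I) hred hred₂
  haveI h1 : HenselianRing B (RingHom.ker (π : B →+* L)) := henselian_of_isRed_nil I hI hred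
  haveI h2 : HenselianRing (B ⊗[R] B)
      (RingHom.ker (pi₂ (k := R ⧸ I) π : B ⊗[R] B →+* L ⊗[R ⧸ I] L)) :=
    henselian_of_isRed_nil I hI hred₂
  haveI h3 : HenselianRing (B ⊗[R] (B ⊗[R] B))
      (RingHom.ker (pi₃ (k := R ⧸ I) π :
        B ⊗[R] (B ⊗[R] B) →+* L ⊗[R ⧸ I] (L ⊗[R ⧸ I] L))) :=
    henselian_of_isRed_nil I hI hred₃
  have hs₂ : Function.Surjective (pi₂ (k := R ⧸ I) π) := surjective_of_isRed I hred₂
  -- the lifted cocycle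
  obtain ⟨Θ, hΘτ, hU, hZ⟩ := exists_lift_cocycle (k := R ⧸ I) π
    (RingHom.ker (π : B →+* L)) le_rfl
    (RingHom.ker (pi₂ (k := R ⧸ I) π : B ⊗[R] B →+* L ⊗[R ⧸ I] L)) hs₂ rfl
    (RingHom.ker (pi₃ (k := R ⧸ I) π :
        B ⊗[R] (B ⊗[R] B) →+* L ⊗[R ⧸ I] (L ⊗[R ⧸ I] L))) le_rfl
    (tau θ₀ hθ₀) (tau_groupLike θ₀ hθ₀) (tau_unit θ₀ hθ₀) (tau_cocycle θ₀ hθ₀)
  -- the descended Hopf algebra
  obtain ⟨A, _, _, θ, hθ, hθeq⟩ := exists_descent Θ hU hZ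
  -- the chart of the reduction
  have hθπ : IsSemiIso R L ((MonoidAlgebra.mapAlgHom M π).comp θ) := isSemiIso_map_comp π hθ
  have hθ' : IsSemiIso (R ⧸ I) L (liftMap R (R ⧸ I) ((MonoidAlgebra.mapAlgHom M π).comp θ)) :=
    hθπ.lift R (R ⧸ I) L
  obtain ⟨ψ, hψ⟩ := exists_bialgEquiv_of_equivariant (tau θ₀ hθ₀)
    (liftMap R (R ⧸ I) ((MonoidAlgebra.mapAlgHom M π).comp θ)) θ₀ hθ' hθ₀
    (by
      intro x
      induction x using TensorProduct.induction_on with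
      | zero => simp
      | add x y hx hy => simp only [map_add, hx, hy]
      | tmul r a =>
        rw [liftMap_tmul]
        have hc₁ : ∀ y : MonoidAlgebra L M, c₁ (R ⧸ I) L M (r • y) =
            algebraMap (R ⧸ I) (L ⊗[R ⧸ I] L) r • c₁ (R ⧸ I) L M y := by
          intro y
          rw [map_smul, algebraMap_smul]
        have hc₂ : ∀ y : MonoidAlgebra L M, c₂ (R ⧸ I) L M (r • y) =
            algebraMap (R ⧸ I) (L ⊗[R ⧸ I] L) r • c₂ (R ⧸ I) L M y := by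
          intro y
          rw [map_smul, algebraMap_smul]
        rw [hc₁, hc₂, map_smul]
        congr 1
        rw [AlgHom.comp_apply, c₁_map, c₂_map, ← hΘτ, hθeq])
    (fun h => tau_chart θ₀ hθ₀ h)
  have hcompat : ∀ a, θ₀ (ψ ((1 : R ⧸ I) ⊗ₜ[R] a)) = MonoidAlgebra.mapAlgHom M π (θ a) := by
    intro a
    rw [hψ, liftMap_tmul, one_smul]
    rfl
  refine ⟨A, inferInstance, inferInstance, θ, ψ, hθ, hcompat, ?_⟩
  intro g₀ hg₀
  have hy₀ : IsGroupLikeElem L (θ₀ g₀) := isGroupLikeElem_of_isSemiCoalg _ _ hθ₀.1 hg₀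
  obtain ⟨γ, hγ, hγπ⟩ := exists_lift_groupLike' (π : B →+* L) (RingHom.ker (π : B →+* L))
    hπs rfl hy₀
  have hγπ' : MonoidAlgebra.mapAlgHom M π γ = θ₀ g₀ := hγπ
  have heq : Θ (c₁ R B M γ) = c₂ R B M γ := by
    apply groupLike_eq_of_map_eq (pi₂ (k := R ⧸ I) π : B ⊗[R] B →+* L ⊗[R ⧸ I] L)
      (RingHom.ker (pi₂ (k := R ⧸ I) π : B ⊗[R] B →+* L ⊗[R ⧸ I] L)) le_rfl
    · exact (isGroupLikeElem_mapRingHom _ hγ).map Θ
    · exact isGroupLikeElem_mapRingHom _ hγ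
    · rw [hΘτ, ← c₁_map, ← c₂_map, hγπ', tau_chart]
  obtain ⟨g, hg⟩ := mem_range_of_equivariant
    (Θ : MonoidAlgebra (B ⊗[R] B) M →ₐ[B ⊗[R] B] MonoidAlgebra (B ⊗[R] B) M) θ hθ.2 hθeq γ heq
  refine ⟨g, ⟨?_, ?_⟩, ?_⟩
  · apply FaithfulSMul.algebraMap_injective R B
    rw [← hθ.1.counit, hg, hγ.counit_eq_one, map_one]
  · apply semiMap_injective R B θ hθ.2
    rw [← hθ.1.comul, hg, hγ.comul_eq_tmul_self, semiMap_tmul]
    show γ ⊗ₜ[B] γ = θ g ⊗ₜ[B] θ g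
    rw [hg]
  · have hr₀ : IsRed (R ⧸ I) L θ₀.toLinearMap := hθ₀.2
    have hinj : Function.Injective θ₀ := hr₀.injective
    apply hinj
    rw [hcompat, hg, hγπ']

end Groth.Agent.Helper2.QL
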