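import Mathlib
import Groth.Prelude.Def_SGA3b
import Groth.Agent.Helper2.DefApp

/-!
# Lifting a finite family of étale algebras along a nil ideal
-/

set_option autoImplicit false
set_option linter.style.haveILetI false

namespace Groth.Agent.Helper2.QL
open TensorProduct

universe u

section pimap
variable {R : Type*} [CommRing R] {F : Type*} {B T : F → Type*} [∀ f, CommRing (B f)]
  [∀ f, CommRing (T f)] [∀ f, Algebra R (B f)] [∀ f, Algebra R (T f)]
  (π : ∀ f, B f →ₐ[R] T f)

/-- the product of a family of algebra maps -/
noncomputable def piMap : (∀ f, B f) →ₐ[R] (∀ f, T f) :=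
  Pi.algHom R _ (fun f => (π f).comp (Pi.evalAlgHom R B f))

@[simp] lemma piMap_apply (x : ∀ f, B f) (f : F) : piMap π x f = π f (x f) := rfl

lemma piMap_surjective (h : ∀ f, Function.Surjective (π f)) : Function.Surjective (piMap π) := by
  intro y
  choose x hx using fun f => h f (y f)
  exact ⟨x, funext hx⟩

lemma ker_piMap [Fintype F] [DecidableEq F] (I : Ideal R)
    (h : ∀ f, RingHom.ker (π f : B f →+* T f) = I.map (algebraMap R (B f))) :
    RingHom.ker (piMap π : (∀ f, B f) →+* (∀ f, T f)) = I.map (algebraMap R (∀ f, B f)) := by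
  apply le_antisymm
  · intro x hx
    rw [RingHom.mem_ker] at hx
    have hx' : ∀ f, x f ∈ I.map (algebraMap R (B f)) := by
      intro f
      rw [← h f, RingHom.mem_ker]
      exact congrFun hx f
    have hsum : x = ∑ f, Pi.single f (x f) := by
      funext g
      simp [Finset.sum_apply]
    rw [hsum]
    apply Ideal.sum_mem
    intro f _
    have h1 : x f ∈ (I • ⊤ : Submodule R (B f)) := by
      rw [Ideal.smul_top_eq_map]
      exact hx' f
    have h2 : (LinearMap.single R B f) (x f) ∈ (I • ⊤ : Submodule R (∀ f, B f)) := by
      have := Submodule.mem_map_of_mem (f := LinearMap.single R B f) h1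
      rw [Submodule.map_smul''] at this
      exact Submodule.smul_mono le_rfl le_top this
    rw [Ideal.smul_top_eq_map] at h2
    exact h2
  · rw [Ideal.map_le_iff_le_comap]
    intro r hr
    rw [Ideal.mem_comap, RingHom.mem_ker]
    funext f
    show π f (algebraMap R (B f) r) = 0
    have : algebraMap R (B f) r ∈ RingHom.ker (π f : B f →+* T f) := by
      rw [h f]
      exact Ideal.mem_map_of_mem _ hr
    exact this

end pimap

end Groth.Agent.Helper2.QL
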