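import Mathlib
import Groth.Prelude.Def_SGA3b
import Groth.Agent.Helper2.QLCover

/-!
# Lifting a finite family of étale algebras along a nil ideal: existence
-/

set_option autoImplicit false
set_option linter.style.haveILetI false

namespace Groth.Agent.Helper2.QL
open TensorProduct

universe u

lemma le_of_nil' {R : Type*} [CommRing R] {I : Ideal R} (hI : ∀ x ∈ I, IsNilpotent x)
    (𝔭 : Ideal R) [h𝔭 : 𝔭.IsPrime] : I ≤ 𝔭 := by
  intro x hx
  obtain ⟨n, hn⟩ := hI x hx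
  exact h𝔭.mem_of_pow_mem n (by rw [hn]; exact 𝔭.zero_mem)

theorem exists_pi_cover (R : Type u) [CommRing R] (I : Ideal R) (hI : ∀ x ∈ I, IsNilpotent x)
    {F : Type u} [Fintype F] [DecidableEq F] (T : F → Type u) [∀ f, CommRing (T f)]
    [∀ f, Algebra (R ⧸ I) (T f)] [∀ f, Algebra R (T f)] [∀ f, IsScalarTower R (R ⧸ I) (T f)]
    [∀ f, Algebra.Etale (R ⧸ I) (T f)] [Module.FaithfullyFlat (R ⧸ I) (∀ f, T f)] :
    ∃ (B : F → Type u) (_ : ∀ f, CommRing (B f)) (_ : ∀ f, Algebra R (B f))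
      (π : ∀ f, B f →ₐ[R] T f),
      (∀ f, Algebra.Etale R (B f)) ∧ (∀ f, Function.Surjective (π f)) ∧
      (∀ f, RingHom.ker (π f : B f →+* T f) = I.map (algebraMap R (B f))) ∧
      Module.FaithfullyFlat R (∀ f, B f) := by
  have hex := fun f => Groth.Agent.Helper2.DefApp.exists_lift R I (T f)
  choose B cr alg hEt π hπs hker _ using hex
  letI := cr
  letI := alg
  haveI := hEt
  refine ⟨B, cr, alg, π, hEt, hπs, hker, ?_⟩
  haveI : Algebra.Etale R (∀ f, B f) := inferInstance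
  haveI : Module.Flat R (∀ f, B f) := inferInstance
  refine ⟨fun 𝔮 h𝔮 htop => ?_⟩
  haveI := h𝔮.isPrime
  have hI𝔮 : I ≤ 𝔮 := le_of_nil' hI 𝔮
  rw [Ideal.smul_top_eq_map] at htop
  have h1 : Ideal.map (algebraMap R (∀ f, B f)) 𝔮 = ⊤ := by
    apply Submodule.restrictScalars_injective R
    rw [htop]; rfl
  have h2 : Ideal.map (algebraMap R (∀ f, T f)) 𝔮 = ⊤ := by
    have e : algebraMap R (∀ f, T f) =
        (piMap π : (∀ f, B f) →+* (∀ f, T f)).comp (algebraMap R (∀ f, B f)) := by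
      ext r f
      simp
    rw [e, ← Ideal.map_map, h1, Ideal.map_top]
  have hkerq : RingHom.ker (Ideal.Quotient.mk I) ≤ 𝔮 := by rwa [Ideal.mk_ker]
  have h𝔮b : (Ideal.map (Ideal.Quotient.mk I) 𝔮).IsPrime :=
    Ideal.map_isPrime_of_surjective Ideal.Quotient.mk_surjective hkerq
  have h3 : Ideal.map (algebraMap R (∀ f, T f)) 𝔮 =
      Ideal.map (algebraMap (R ⧸ I) (∀ f, T f)) (Ideal.map (Ideal.Quotient.mk I) 𝔮) := by
    rw [Ideal.map_map]
    rw [IsScalarTower.algebraMap_eq R (R ⧸ I) (∀ f, T f)]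
    rfl
  rw [h3] at h2
  have h4 := Ideal.comap_map_eq_self_of_faithfullyFlat
    (B := ∀ f, T f) (Ideal.map (Ideal.Quotient.mk I) 𝔮)
  rw [h2, Ideal.comap_top] at h4
  exact h𝔮b.ne_top h4.symm

end Groth.Agent.Helper2.QL
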