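import Mathlib
import Groth.Agent.Helper2.SemiIso
import Groth.Agent.Helper2.HDSemi

/-!
# A finite family of charts with the same group gives a chart over the product ring
-/

set_option autoImplicit false

namespace Groth.Agent.Helper2.QL
open TensorProduct Groth.Agent.Helper2.MultTypeSemi Groth.Agent.Helper2.SemiIso
  Groth.Agent.Helper2.HD

section cmp
variable (k : Type*) [CommRing k] {F : Type*} (T : F → Type*) [∀ f, CommRing (T f)]
  [∀ f, Algebra k (T f)] (P : Type*) [CommMonoid P]

/-- the comparison of the monoid algebra over a product with the product of monoid algebras -/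
noncomputable def piCmp : MonoidAlgebra (∀ f, T f) P →ₐ[k] ∀ f, MonoidAlgebra (T f) P :=
  Pi.algHom k _ (fun f => MonoidAlgebra.mapAlgHom P (Pi.evalAlgHom k T f))

lemma piCmp_apply (x : MonoidAlgebra (∀ f, T f) P) (f : F) :
    piCmp k T P x f = MonoidAlgebra.mapAlgHom P (Pi.evalAlgHom k T f) x := rfl

@[simp] lemma coeff_piCmp (x : MonoidAlgebra (∀ f, T f) P) (f : F) (p : P) :
    (piCmp k T P x f).coeff p = x.coeff p f := by
  rw [piCmp_apply, MonoidAlgebra.coeff_mapAlgHom]
  rfl

lemma piCmp_injective : Function.Injective (piCmp k T P) := by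
  intro x y h
  apply MonoidAlgebra.coeff_injective
  ext p f
  have := congrArg (fun z => (z f).coeff p) h
  simpa using this

lemma piCmp_surjective [Fintype F] : Function.Surjective (piCmp k T P) := by
  classical
  intro y
  let s : Finset P := Finset.univ.biUnion (fun f => (y f).coeff.support)
  refine ⟨MonoidAlgebra.ofCoeff (Finsupp.onFinset s (fun p f => (y f).coeff p) ?_), ?_⟩
  · intro p hp
    by_contra hps
    apply hp
    funext f
    have : p ∉ (y f).coeff.support := fun h =>
      hps (Finset.mem_biUnion.mpr ⟨f, Finset.mem_univ f, h⟩)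
    simpa using this
  · funext f
    apply MonoidAlgebra.coeff_injective
    ext p
    simp

/-- the comparison as an equivalence -/
noncomputable def piEquiv [Fintype F] :
    MonoidAlgebra (∀ f, T f) P ≃ₐ[k] ∀ f, MonoidAlgebra (T f) P :=
  AlgEquiv.ofBijective (piCmp k T P) ⟨piCmp_injective k T P, piCmp_surjective k T P⟩

end cmp

end Groth.Agent.Helper2.QL
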