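import Mathlib
import Groth.Agent.Helper2.QLPi

/-!
# A finite family of charts with the same group gives a chart over the product ring: the chart
-/

set_option autoImplicit false

namespace Groth.Agent.Helper2.QL
open TensorProduct Groth.Agent.Helper2.MultTypeSemi Groth.Agent.Helper2.SemiIso
  Groth.Agent.Helper2.HD

section jointinj
variable {F : Type*} (T : F → Type*) [∀ f, CommRing (T f)] (P : Type*) [CommMonoid P]

/-- the projection of monoid algebras -/
noncomputable abbrev prj (f : F) : MonoidAlgebra (∀ f, T f) P →+* MonoidAlgebra (T f) P :=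
  MonoidAlgebra.mapRingHom P (Pi.evalRingHom T f)

lemma tensorEquiv_sq (f : F) (z : MonoidAlgebra (∀ f, T f) P ⊗[∀ f, T f] MonoidAlgebra (∀ f, T f) P) :
    MonoidAlgebra.tensorEquiv (T f)
      (sq (Pi.evalRingHom T f) (prj T P f) (mapRingHom_smul (Pi.evalRingHom T f) P) z) =
    MonoidAlgebra.mapRingHom (P × P) (Pi.evalRingHom T f)
      (MonoidAlgebra.tensorEquiv (∀ f, T f) z) := by
  induction z using TensorProduct.induction_on with
  | zero => simp
  | add x y hx hy => simp only [map_add, hx, hy]
  | tmul x y =>
    induction x using MonoidAlgebra.induction_linear with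
    | zero => simp
    | add x x' hx hx' => simp only [add_tmul, map_add, hx, hx']
    | single p l =>
      induction y using MonoidAlgebra.induction_linear with
      | zero => simp
      | add y y' hy hy' => simp only [tmul_add, map_add, hy, hy']
      | single q l' =>
        simp [MonoidAlgebra.tensorEquiv_single_tmul_single]

lemma eq_zero_of_sq_eq_zero
    (z : MonoidAlgebra (∀ f, T f) P ⊗[∀ f, T f] MonoidAlgebra (∀ f, T f) P)
    (h : ∀ f, sq (Pi.evalRingHom T f) (prj T P f) (mapRingHom_smul (Pi.evalRingHom T f) P) z = 0) :
    z = 0 := by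
  apply (MonoidAlgebra.tensorEquiv (∀ f, T f)).injective
  rw [map_zero]
  apply MonoidAlgebra.coeff_injective
  ext pq f
  have h1 := tensorEquiv_sq T P f z
  rw [h f, map_zero] at h1
  have h2 := congrArg (fun w => w.coeff pq) h1
  simpa using h2.symm

end jointinj

end Groth.Agent.Helper2.QL
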