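import Mathlib
import Groth.Agent.Helper2.QLPi2

/-!
# A finite family of charts with the same group gives a chart over the product ring: semi-iso
-/

set_option autoImplicit false

namespace Groth.Agent.Helper2.QL
open TensorProduct Groth.Agent.Helper2.MultTypeSemi Groth.Agent.Helper2.SemiIso
  Groth.Agent.Helper2.HD

section chart
variable {k : Type*} [CommRing k] {F : Type*} [Fintype F] {T : F → Type*} [∀ f, CommRing (T f)]
  [∀ f, Algebra k (T f)] {P : Type*} [CommMonoid P] {A : Type*} [CommRing A] [Bialgebra k A]
variable (θ : ∀ f, A →ₐ[k] MonoidAlgebra (T f) P)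

/-- the chart over the product ring -/
noncomputable def piChart : A →ₐ[k] MonoidAlgebra (∀ f, T f) P :=
  ((piEquiv k T P).symm : _ →ₐ[k] _).comp (Pi.algHom k _ θ)

lemma piCmp_piChart (a : A) : piCmp k T P (piChart θ a) = fun f => θ f a := by
  show piEquiv k T P ((piEquiv k T P).symm (Pi.algHom k _ θ a)) = _
  rw [AlgEquiv.apply_symm_apply]
  rfl

lemma prj_piChart (a : A) (f : F) : prj T P f (piChart θ a) = θ f a := by
  have h := congrFun (piCmp_piChart θ a) f
  rw [piCmp_apply] at h
  exact h

lemma isSemiCoalg_piChart (h : ∀ f, IsSemiCoalg k (T f) (θ f)) :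
    IsSemiCoalg k (∀ f, T f) (piChart θ) := by
  constructor
  · intro a
    funext f
    have h1 := (isCo_mapRingHom (Pi.evalRingHom T f) P).counit (piChart θ a)
    rw [prj_piChart, (h f).counit] at h1
    exact h1.symm
  · intro a
    rw [← sub_eq_zero]
    apply eq_zero_of_sq_eq_zero T P
    intro f
    rw [map_sub, sub_eq_zero]
    have h1 := (isCo_mapRingHom (Pi.evalRingHom T f) P).comul (piChart θ a)
    rw [prj_piChart, (h f).comul] at h1
    rw [← h1]
    generalize Coalgebra.comul (R := k) a = t
    induction t using TensorProduct.induction_on with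
    | zero => simp
    | add x y hx hy => simp only [map_add, hx, hy]
    | tmul x y =>
      simp only [semiMap_tmul, AlgHom.toLinearMap_apply, sq_tmul, prj_piChart]

end chart

end Groth.Agent.Helper2.QL
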