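import Mathlib
import Groth.Agent.Helper2.QLPi3

/-!
# A finite family of charts with the same group gives a chart over the product ring: bijectivity
-/

set_option autoImplicit false

namespace Groth.Agent.Helper2.QL
open TensorProduct Groth.Agent.Helper2.MultTypeSemi Groth.Agent.Helper2.SemiIso
  Groth.Agent.Helper2.HD

section chart
variable {k : Type*} [CommRing k] {F : Type*} [Fintype F] [DecidableEq F] {T : F → Type*}
  [∀ f, CommRing (T f)]
  [∀ f, Algebra k (T f)] {P : Type*} [CommMonoid P] {A : Type*} [CommRing A] [Bialgebra k A]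
variable (θ : ∀ f, A →ₐ[k] MonoidAlgebra (T f) P)

lemma prj_liftBaseChange (z : (∀ f, T f) ⊗[k] A) (f : F) :
    prj T P f (LinearMap.liftBaseChange (∀ f, T f) (piChart θ).toLinearMap z) =
      LinearMap.liftBaseChange (T f) (θ f).toLinearMap
        ((TensorProduct.piLeft k A T : (∀ f, T f) ⊗[k] A ≃ₗ[k] ∀ f, T f ⊗[k] A) z f) := by
  induction z using TensorProduct.induction_on with
  | zero => simp
  | add x y hx hy =>
    simp only [map_add, Pi.add_apply] at hx hy ⊢
    rw [hx, hy]
  | tmul l a =>
    rw [LinearMap.liftBaseChange_tmul, AlgHom.toLinearMap_apply, mapRingHom_smul, prj_piChart]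
    simp

theorem isSemiIso_piChart (h : ∀ f, IsSemiIso k (T f) (θ f)) :
    IsSemiIso k (∀ f, T f) (piChart θ) := by
  refine ⟨isSemiCoalg_piChart θ (fun f => (h f).1), ?_, ?_⟩
  · intro z z' hz
    apply (TensorProduct.piLeft k A T : (∀ f, T f) ⊗[k] A ≃ₗ[k] ∀ f, T f ⊗[k] A).injective
    funext f
    apply (h f).2.1
    rw [← prj_liftBaseChange, ← prj_liftBaseChange, hz]
  · intro y
    have hw : ∀ f, ∃ w : T f ⊗[k] A,
        LinearMap.liftBaseChange (T f) (θ f).toLinearMap w = prj T P f y := fun f => (h f).2.2 _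
    choose w hw using hw
    refine ⟨(TensorProduct.piLeft k A T : (∀ f, T f) ⊗[k] A ≃ₗ[k] ∀ f, T f ⊗[k] A).symm w, ?_⟩
    apply piCmp_injective k T P
    funext f
    rw [piCmp_apply, piCmp_apply]
    show prj T P f _ = prj T P f y
    rw [prj_liftBaseChange, LinearEquiv.apply_symm_apply, hw]

end chart

end Groth.Agent.Helper2.QL
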