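import Mathlib
import Groth.Agent.Helper2.SemiIso
import Groth.Agent.Helper2.NilLift

/-!
# The tensor product of two charts is a chart
-/

set_option autoImplicit false

namespace Groth.Agent.Helper2.QL
open TensorProduct Groth.Agent.Helper2.MultTypeSemi Groth.Agent.Helper2.SemiIso
  Groth.Agent.Helper2.NilLift

section prodmap
variable {k : Type*} [CommRing k] {T : Type*} [CommRing T] [Algebra k T]
variable {A₁ A₂ : Type*} [CommRing A₁] [Bialgebra k A₁] [CommRing A₂] [Bialgebra k A₂]
variable {D : Type*} [CommRing D] [Bialgebra T D] [Algebra k D] [IsScalarTower k T D]

lemma isSemiCoalg_productMap {α : A₁ →ₐ[k] D} {β : A₂ →ₐ[k] D} (hα : IsSemiCoalg k T α)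
    (hβ : IsSemiCoalg k T β) : IsSemiCoalg k T (Algebra.TensorProduct.productMap α β) := by
  constructor
  · intro z
    induction z using TensorProduct.induction_on with
    | zero => simp
    | add x y hx hy => simp only [map_add, hx, hy]
    | tmul a c =>
      rw [Algebra.TensorProduct.productMap_apply_tmul, Bialgebra.counit_mul, hα.counit, hβ.counit,
        TensorProduct.counit_tmul, smul_eq_mul, map_mul, mul_comm]
  · intro z
    induction z using TensorProduct.induction_on with
    | zero => simp
    | add x y hx hy => simp only [map_add, hx, hy]
    | tmul a c =>
      rw [Algebra.TensorProduct.productMap_apply_tmul, Bialgebra.comul_mul, hα.comul, hβ.comul,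
        TensorProduct.comul_tmul]
      generalize Coalgebra.comul (R := k) a = s
      generalize Coalgebra.comul (R := k) c = t
      induction s using TensorProduct.induction_on with
      | zero => simp
      | add x y hx hy => simp only [map_add, add_mul, add_tmul, hx, hy]
      | tmul a₁ a₂ =>
        induction t using TensorProduct.induction_on with
        | zero => simp
        | add x y hx hy => simp only [map_add, mul_add, tmul_add, hx, hy]
        | tmul c₁ c₂ =>
          simp [Algebra.TensorProduct.tmul_mul_tmul]

end prodmap

end Groth.Agent.Helper2.QL
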