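import Mathlib
import Groth.Agent.Helper2.QLTens

/-!
# The tensor product of two charts is a chart: the chart and its bijectivity
-/

set_option autoImplicit false

namespace Groth.Agent.Helper2.QL
open TensorProduct Groth.Agent.Helper2.MultTypeSemi Groth.Agent.Helper2.SemiIso
  Groth.Agent.Helper2.NilLift

section tchart
variable {k : Type*} [CommRing k] {T : Type*} [CommRing T] [Algebra k T]
variable {A₁ A₂ : Type*} [CommRing A₁] [Bialgebra k A₁] [CommRing A₂] [Bialgebra k A₂]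
variable {N₁ N₂ Q : Type*} [CommMonoid N₁] [CommMonoid N₂] [CommMonoid Q] (σ : N₁ × N₂ ≃* Q)
variable (θ₁ : A₁ →ₐ[k] MonoidAlgebra T N₁) (θ₂ : A₂ →ₐ[k] MonoidAlgebra T N₂)

/-- the left leg of the product chart -/
noncomputable def legL : A₁ →ₐ[k] MonoidAlgebra T Q :=
  ((MonoidAlgebra.mapDomainBialgHom T (σ.toMonoidHom.comp (MonoidHom.inl N₁ N₂)) :
    MonoidAlgebra T N₁ →ₐ[T] MonoidAlgebra T Q).restrictScalars k).comp θ₁

/-- the right leg of the product chart -/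
noncomputable def legR : A₂ →ₐ[k] MonoidAlgebra T Q :=
  ((MonoidAlgebra.mapDomainBialgHom T (σ.toMonoidHom.comp (MonoidHom.inr N₁ N₂)) :
    MonoidAlgebra T N₂ →ₐ[T] MonoidAlgebra T Q).restrictScalars k).comp θ₂

/-- the product chart -/
noncomputable def tchart : A₁ ⊗[k] A₂ →ₐ[k] MonoidAlgebra T Q :=
  Algebra.TensorProduct.productMap (legL σ θ₁) (legR σ θ₂)

lemma tchart_tmul (a : A₁) (c : A₂) :
    tchart σ θ₁ θ₂ (a ⊗ₜ[k] c) =
      MonoidAlgebra.mapDomainBialgHom T (σ.toMonoidHom.comp (MonoidHom.inl N₁ N₂)) (θ₁ a) *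
      MonoidAlgebra.mapDomainBialgHom T (σ.toMonoidHom.comp (MonoidHom.inr N₁ N₂)) (θ₂ c) := rfl

variable {σ θ₁ θ₂}

lemma isSemiCoalg_tchart (h₁ : IsSemiCoalg k T θ₁) (h₂ : IsSemiCoalg k T θ₂) :
    IsSemiCoalg k T (tchart σ θ₁ θ₂) :=
  isSemiCoalg_productMap (h₁.comp k T T (isSemiCoalg_bialgHom T _))
    (h₂.comp k T T (isSemiCoalg_bialgHom T _))

end tchart

end Groth.Agent.Helper2.QL
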