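import Mathlib
import Groth.Agent.Helper2.QLTens2

/-!
# The tensor product of two charts is a chart: bijectivity
-/

set_option autoImplicit false

namespace Groth.Agent.Helper2.QL
open TensorProduct Groth.Agent.Helper2.MultTypeSemi Groth.Agent.Helper2.SemiIso
  Groth.Agent.Helper2.NilLift

section bij
variable {k : Type*} [CommRing k] {T : Type*} [CommRing T] [Algebra k T]
variable {A₁ A₂ : Type*} [CommRing A₁] [Bialgebra k A₁] [CommRing A₂] [Bialgebra k A₂]
variable {N₁ N₂ Q : Type*} [CommMonoid N₁] [CommMonoid N₂] [CommMonoid Q] (σ : N₁ × N₂ ≃* Q)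
variable {θ₁ : A₁ →ₐ[k] MonoidAlgebra T N₁} {θ₂ : A₂ →ₐ[k] MonoidAlgebra T N₂}

variable (T A₁ A₂) in
/-- base change of the left inclusion -/
noncomputable def incL : T ⊗[k] A₁ →ₐ[T] T ⊗[k] (A₁ ⊗[k] A₂) :=
  Algebra.TensorProduct.map (AlgHom.id T T)
    (Algebra.TensorProduct.includeLeft : A₁ →ₐ[k] A₁ ⊗[k] A₂)

variable (T A₁ A₂) in
/-- base change of the right inclusion -/
noncomputable def incR : T ⊗[k] A₂ →ₐ[T] T ⊗[k] (A₁ ⊗[k] A₂) :=
  Algebra.TensorProduct.map (AlgHom.id T T)
    (Algebra.TensorProduct.includeRight : A₂ →ₐ[k] A₁ ⊗[k] A₂)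

/-- the inverse of the base change of a chart -/
noncomputable def chartInv {A : Type*} [CommRing A] [Bialgebra k A] {N : Type*} [CommMonoid N]
    {θ : A →ₐ[k] MonoidAlgebra T N} (h : IsSemiIso k T θ) : MonoidAlgebra T N ≃ₐ[T] T ⊗[k] A :=
  (AlgEquiv.ofBijective (liftMap k T θ) (liftMap_bijective h)).symm

lemma chartInv_apply {A : Type*} [CommRing A] [Bialgebra k A] {N : Type*} [CommMonoid N]
    {θ : A →ₐ[k] MonoidAlgebra T N} (h : IsSemiIso k T θ) (x : T ⊗[k] A) :
    chartInv h (liftMap k T θ x) = x :=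
  (AlgEquiv.ofBijective (liftMap k T θ) (liftMap_bijective h)).symm_apply_apply x

lemma liftMap_chartInv {A : Type*} [CommRing A] [Bialgebra k A] {N : Type*} [CommMonoid N]
    {θ : A →ₐ[k] MonoidAlgebra T N} (h : IsSemiIso k T θ) (y : MonoidAlgebra T N) :
    liftMap k T θ (chartInv h y) = y :=
  (AlgEquiv.ofBijective (liftMap k T θ) (liftMap_bijective h)).apply_symm_apply y

variable (h₁ : IsSemiIso k T θ₁) (h₂ : IsSemiIso k T θ₂)

/-- a leg of the monoid map defining the inverse -/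
noncomputable def legInv {A : Type*} [CommRing A] [Bialgebra k A] {N : Type*} [CommMonoid N]
    {θ : A →ₐ[k] MonoidAlgebra T N} (h : IsSemiIso k T θ) {X : Type*} [CommRing X] [Algebra T X]
    (j : T ⊗[k] A →ₐ[T] X) : N →* X :=
  (j.toRingHom.toMonoidHom).comp
    (((chartInv h).toAlgHom.toRingHom.toMonoidHom).comp (MonoidAlgebra.of T N))

@[simp] lemma legInv_apply {A : Type*} [CommRing A] [Bialgebra k A] {N : Type*} [CommMonoid N]
    {θ : A →ₐ[k] MonoidAlgebra T N} (h : IsSemiIso k T θ) {X : Type*} [CommRing X] [Algebra T X]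
    (j : T ⊗[k] A →ₐ[T] X) (n : N) :
    legInv h j n = j (chartInv h (MonoidAlgebra.single n 1)) := rfl

/-- the monoid map defining the inverse -/
noncomputable def muHom : Q →* T ⊗[k] (A₁ ⊗[k] A₂) :=
  (((legInv h₁ (incL T A₁ A₂)).comp (MonoidHom.fst N₁ N₂)) *
    ((legInv h₂ (incR T A₁ A₂)).comp (MonoidHom.snd N₁ N₂))).comp σ.symm.toMonoidHom

lemma muHom_apply (n : N₁) (m : N₂) :
    muHom σ h₁ h₂ (σ (n, m)) =
      incL T A₁ A₂ (chartInv h₁ (MonoidAlgebra.single n 1)) *
        incR T A₁ A₂ (chartInv h₂ (MonoidAlgebra.single m 1)) := by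
  simp [muHom]

/-- the inverse of the base change of the product chart -/
noncomputable def tchartInv : MonoidAlgebra T Q →ₐ[T] T ⊗[k] (A₁ ⊗[k] A₂) :=
  MonoidAlgebra.lift T _ Q (muHom σ h₁ h₂)

lemma liftMap_incL (x : T ⊗[k] A₁) :
    liftMap k T (tchart σ θ₁ θ₂) (incL T A₁ A₂ x) =
      MonoidAlgebra.mapDomainBialgHom T (σ.toMonoidHom.comp (MonoidHom.inl N₁ N₂))
        (liftMap k T θ₁ x) := by
  induction x using TensorProduct.induction_on with
  | zero => simp
  | add x y hx hy => simp only [map_add, hx, hy]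
  | tmul t a =>
    simp only [incL, Algebra.TensorProduct.map_tmul, AlgHom.coe_id, id_eq, liftMap_tmul,
      Algebra.TensorProduct.includeLeft_apply, tchart_tmul, map_one, mul_one, map_smul]

lemma liftMap_incR (x : T ⊗[k] A₂) :
    liftMap k T (tchart σ θ₁ θ₂) (incR T A₁ A₂ x) =
      MonoidAlgebra.mapDomainBialgHom T (σ.toMonoidHom.comp (MonoidHom.inr N₁ N₂))
        (liftMap k T θ₂ x) := by
  induction x using TensorProduct.induction_on with
  | zero => simp
  | add x y hx hy => simp only [map_add, hx, hy]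
  | tmul t a =>
    simp only [incR, Algebra.TensorProduct.map_tmul, AlgHom.coe_id, id_eq, liftMap_tmul,
      Algebra.TensorProduct.includeRight_apply, tchart_tmul, map_one, one_mul, map_smul]

lemma liftMap_tchartInv (y : MonoidAlgebra T Q) :
    liftMap k T (tchart σ θ₁ θ₂) (tchartInv σ h₁ h₂ y) = y := by
  have h : (liftMap k T (tchart σ θ₁ θ₂)).comp (tchartInv σ h₁ h₂) = AlgHom.id T _ := by
    apply MonoidAlgebra.algHom_ext
    · intro q
      obtain ⟨⟨n, m⟩, rfl⟩ := σ.surjective q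
      simp only [AlgHom.comp_apply, tchartInv, MonoidAlgebra.lift_single, one_smul, muHom_apply,
        map_mul, liftMap_incL, liftMap_incR, liftMap_chartInv, AlgHom.coe_id, id_eq]
      simp only [MonoidAlgebra.mapDomainBialgHom_single, MonoidHom.coe_comp,
        MulEquiv.coe_toMonoidHom, Function.comp_apply, MonoidHom.inl_apply, MonoidHom.inr_apply,
        MonoidAlgebra.single_mul_single, mul_one, ← map_mul, Prod.mk_mul_mk, one_mul]
    · ext
  exact DFunLike.congr_fun h y

lemma tchartInv_mapL (y : MonoidAlgebra T N₁) :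
    tchartInv σ h₁ h₂
      (MonoidAlgebra.mapDomainBialgHom T (σ.toMonoidHom.comp (MonoidHom.inl N₁ N₂)) y) =
      incL T A₁ A₂ (chartInv h₁ y) := by
  have h : (tchartInv σ h₁ h₂).comp
      (MonoidAlgebra.mapDomainBialgHom T (σ.toMonoidHom.comp (MonoidHom.inl N₁ N₂)) :
        MonoidAlgebra T N₁ →ₐ[T] MonoidAlgebra T Q) =
      (incL T A₁ A₂).comp (chartInv h₁ : MonoidAlgebra T N₁ →ₐ[T] T ⊗[k] A₁) := by
    apply MonoidAlgebra.algHom_ext
    · intro n
      show tchartInv σ h₁ h₂ (MonoidAlgebra.mapDomainBialgHom T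
        (σ.toMonoidHom.comp (MonoidHom.inl N₁ N₂)) (MonoidAlgebra.single n 1)) =
        incL T A₁ A₂ (chartInv h₁ (MonoidAlgebra.single n 1))
      rw [MonoidAlgebra.mapDomainBialgHom_single]
      show tchartInv σ h₁ h₂ (MonoidAlgebra.single (σ (n, 1)) 1) = _
      rw [tchartInv, MonoidAlgebra.lift_single, one_smul, muHom_apply,
        ← MonoidAlgebra.one_def, map_one, map_one, mul_one]
    · ext
  exact DFunLike.congr_fun h y

lemma tchartInv_mapR (y : MonoidAlgebra T N₂) :
    tchartInv σ h₁ h₂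
      (MonoidAlgebra.mapDomainBialgHom T (σ.toMonoidHom.comp (MonoidHom.inr N₁ N₂)) y) =
      incR T A₁ A₂ (chartInv h₂ y) := by
  have h : (tchartInv σ h₁ h₂).comp
      (MonoidAlgebra.mapDomainBialgHom T (σ.toMonoidHom.comp (MonoidHom.inr N₁ N₂)) :
        MonoidAlgebra T N₂ →ₐ[T] MonoidAlgebra T Q) =
      (incR T A₁ A₂).comp (chartInv h₂ : MonoidAlgebra T N₂ →ₐ[T] T ⊗[k] A₂) := by
    apply MonoidAlgebra.algHom_ext
    · intro n
      show tchartInv σ h₁ h₂ (MonoidAlgebra.mapDomainBialgHom T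
        (σ.toMonoidHom.comp (MonoidHom.inr N₁ N₂)) (MonoidAlgebra.single n 1)) =
        incR T A₁ A₂ (chartInv h₂ (MonoidAlgebra.single n 1))
      rw [MonoidAlgebra.mapDomainBialgHom_single]
      show tchartInv σ h₁ h₂ (MonoidAlgebra.single (σ (1, n)) 1) = _
      rw [tchartInv, MonoidAlgebra.lift_single, one_smul, muHom_apply,
        ← MonoidAlgebra.one_def, map_one, map_one, one_mul]
    · ext
  exact DFunLike.congr_fun h y

lemma tchartInv_liftMap (x : T ⊗[k] (A₁ ⊗[k] A₂)) :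
    tchartInv σ h₁ h₂ (liftMap k T (tchart σ θ₁ θ₂) x) = x := by
  induction x using TensorProduct.induction_on with
  | zero => simp
  | add x y hx hy => simp only [map_add, hx, hy]
  | tmul t z =>
    rw [liftMap_tmul, map_smul]
    have key : tchartInv σ h₁ h₂ (tchart σ θ₁ θ₂ z) = (1 : T) ⊗ₜ[k] z := by
      induction z using TensorProduct.induction_on with
      | zero => simp
      | add x y hx hy => simp only [map_add, tmul_add, hx, hy]
      | tmul a c =>
        rw [tchart_tmul, map_mul, tchartInv_mapL, tchartInv_mapR]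
        have e₁ : θ₁ a = liftMap k T θ₁ ((1 : T) ⊗ₜ[k] a) := by rw [liftMap_tmul, one_smul]
        have e₂ : θ₂ c = liftMap k T θ₂ ((1 : T) ⊗ₜ[k] c) := by rw [liftMap_tmul, one_smul]
        rw [e₁, e₂, chartInv_apply, chartInv_apply]
        simp [incL, incR]
    rw [key, TensorProduct.smul_tmul', smul_eq_mul, mul_one]

include h₁ h₂ in
theorem isSemiIso_tchart : IsSemiIso k T (tchart σ θ₁ θ₂) := by
  refine ⟨isSemiCoalg_tchart h₁.1 h₂.1, ?_⟩
  have h : (liftMap k T (tchart σ θ₁ θ₂)).toLinearMap =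
      LinearMap.liftBaseChange T (tchart σ θ₁ θ₂).toLinearMap := by
    apply TensorProduct.AlgebraTensorModule.ext
    intro t h
    simp
  have h2 : ⇑(liftMap k T (tchart σ θ₁ θ₂)) =
      ⇑(LinearMap.liftBaseChange T (tchart σ θ₁ θ₂).toLinearMap) := by
    rw [← h]; rfl
  rw [← h2]
  exact Function.bijective_iff_has_inverse.mpr
    ⟨tchartInv σ h₁ h₂, tchartInv_liftMap σ h₁ h₂, liftMap_tchartInv σ h₁ h₂⟩

end bij

end Groth.Agent.Helper2.QL
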