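import Mathlib
import Groth.Prelude.Def_SGA3b
import Groth.Agent.Helper2.QLTens3
import Groth.Agent.Helper2.QLPi4
import Groth.Agent.Helper2.QLHopfId
import Groth.Agent.Helper2.QLCover
import Groth.Agent.Helper2.KerAff3

/-!
# Auxiliary computations for the lifting of quasi-isotrivial groups along a nil ideal
-/

set_option autoImplicit false

namespace Groth.Agent.Helper2.QL
open TensorProduct Groth.Agent.Helper2.MultTypeSemi Groth.Agent.Helper2.SemiIso
  Groth.Agent.Helper2.NilSplit Groth.Agent.Helper2.KerMT Groth.Agent.Helper2.KerAff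

section A
variable {k : Type*} [CommRing k] {T : Type*} [CommRing T] [Algebra k T]
variable {A₁ : Type*} [CommRing A₁] [Bialgebra k A₁]
variable {N₁ P Q : Type*} [CommMonoid N₁] [CommMonoid P] [CommMonoid Q] (σ : N₁ × P ≃* Q)
variable (θ₁ : A₁ →ₐ[k] MonoidAlgebra T N₁)

lemma tchart_one_tmul_single (p : P) :
    tchart σ θ₁ (rho k T P) ((1 : A₁) ⊗ₜ[k] (MonoidAlgebra.single p (1 : k) : MonoidAlgebra k P)) =
      MonoidAlgebra.single (σ (1, p)) (1 : T) := by
  rw [tchart_tmul, map_one, map_one, one_mul, rho_single, map_one,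
    MonoidAlgebra.mapDomainBialgHom_single]
  rfl

end A

section B
variable {A D : Type*} [CommRing A] [CommRing D] {P : Type*}

lemma map_glIdeal_range (φ : A →+* D) (g : P → A) :
    Ideal.map φ (glIdeal (Set.range g)) = glIdeal (Set.range (fun p => φ (g p))) := by
  rw [glIdeal, glIdeal, Ideal.map_span]
  congr 1
  ext x
  constructor
  · rintro ⟨_, ⟨_, ⟨p, rfl⟩, rfl⟩, rfl⟩
    exact ⟨φ (g p), ⟨p, rfl⟩, by rw [map_sub, map_one]⟩
  · rintro ⟨_, ⟨p, rfl⟩, rfl⟩
    exact ⟨g p - 1, ⟨g p, ⟨p, rfl⟩, rfl⟩, by rw [map_sub, map_one]⟩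

end B

section C
variable (T : Type*) [CommRing T] {M P : Type*} [CommGroup M] [CommGroup P] (h : P →* M)

lemma glIdeal_range_single :
    glIdeal (Set.range (fun p => (MonoidAlgebra.single (h p) (1 : T) : MonoidAlgebra T M))) =
      augH T h.range := by
  rw [glIdeal, augH]
  congr 1
  ext x
  constructor
  · rintro ⟨_, ⟨p, rfl⟩, rfl⟩
    exact ⟨⟨h p, ⟨p, rfl⟩⟩, rfl⟩
  · rintro ⟨⟨_, ⟨p, rfl⟩⟩, rfl⟩
    exact ⟨_, ⟨p, rfl⟩, rfl⟩

end C

section D
variable {R : Type*} [CommRing R] {F : Type*} {B T : F → Type*} [∀ f, CommRing (B f)]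
  [∀ f, CommRing (T f)] [∀ f, Algebra R (B f)] [∀ f, Algebra R (T f)]
  (π : ∀ f, B f →ₐ[R] T f) (P : Type*) [CommMonoid P]

lemma map_eval_eq_prj (x : MonoidAlgebra (∀ f, B f) P) (f : F) :
    MonoidAlgebra.mapRingHom P (π f : B f →+* T f)
      (MonoidAlgebra.mapAlgHom P (Pi.evalAlgHom R B f) x) =
      prj T P f (MonoidAlgebra.mapAlgHom P (piMap π) x) := by
  apply MonoidAlgebra.coeff_injective
  ext p
  simp [MonoidAlgebra.coeff_mapAlgHom, MonoidAlgebra.coeff_mapRingHom]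

end D

end Groth.Agent.Helper2.QL
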