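import Mathlib
import Groth.Prelude.Def_SGA3b
import Groth.Agent.Helper2.QLMain1
import Groth.Agent.Helper2.QLCT2
import Groth.Agent.Helper2.QLCover2
import Groth.Agent.Helper2.QLLoc
import Groth.Agent.Helper2.KerMT2

/-!
# Lifting along a nil ideal through a constant-type enlargement
-/

set_option autoImplicit false
set_option linter.style.haveILetI false

namespace Groth.Agent.Helper2.QL
open TensorProduct Groth.Agent.Helper2.MultTypeSemi Groth.Agent.Helper2.SemiIso
  Groth.Agent.Helper2.NilSplit Groth.Agent.Helper2.NilLift Groth.Agent.Helper2.HD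
  Groth.Agent.Helper2.KerMT Groth.Agent.Helper2.KerAff Groth.Agent.Helper2.DiagSpan SGA3b

universe u

theorem lift_of_enlargement (R : Type u) [CommRing R] (I : Ideal R)
    (hI : ∀ x ∈ I, IsNilpotent x)
    (A₀ : Type u) [CommRing A₀] [HopfAlgebra (R ⧸ I) A₀]
    (C : Type u) [CommRing C] [HopfAlgebra (R ⧸ I) C]
    {F : Type u} [Fintype F] [DecidableEq F] (T : F → Type u) [∀ f, CommRing (T f)]
    [∀ f, Algebra (R ⧸ I) (T f)] [∀ f, Algebra.Etale (R ⧸ I) (T f)]
    [Module.FaithfullyFlat (R ⧸ I) (∀ f, T f)]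
    (P : Type u) [CommGroup P] (θp : ∀ f, C →ₐ[R ⧸ I] MonoidAlgebra (T f) P)
    (hθp : ∀ f, IsSemiIso (R ⧸ I) (T f) (θp f))
    (h : F → P →* P) (g₀ : P → C) (hg₀ : ∀ p, IsGroupLikeElem (R ⧸ I) (g₀ p))
    (hθg : ∀ f p, θp f (g₀ p) = MonoidAlgebra.single (h f p) 1)
    (q₀ : C →ₐc[R ⧸ I] A₀) (hq₀ : Function.Surjective q₀)
    (hkerq : RingHom.ker ((q₀ : C →ₐ[R ⧸ I] A₀) : C →+* A₀) = glIdeal (Set.range g₀)) :
    ∃ (A : Type u) (_ : CommRing A) (_ : HopfAlgebra R A), IsQuasiIsotrivial R A ∧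
      Nonempty (((R ⧸ I) ⊗[R] A) ≃ₐc[R ⧸ I] A₀) := by
  classical
  letI : ∀ f, Algebra R (T f) := fun f =>
    ((algebraMap (R ⧸ I) (T f)).comp (algebraMap R (R ⧸ I))).toAlgebra
  haveI : ∀ f, IsScalarTower R (R ⧸ I) (T f) := fun f =>
    IsScalarTower.of_algebraMap_eq (fun _ => rfl)
  letI : Algebra R A₀ := ((algebraMap (R ⧸ I) A₀).comp (algebraMap R (R ⧸ I))).toAlgebra
  haveI : IsScalarTower R (R ⧸ I) A₀ := IsScalarTower.of_algebraMap_eq (fun _ => rfl)
  letI : Algebra R C := ((algebraMap (R ⧸ I) C).comp (algebraMap R (R ⧸ I))).toAlgebra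
  haveI : IsScalarTower R (R ⧸ I) C := IsScalarTower.of_algebraMap_eq (fun _ => rfl)
  let θ₀ : C →ₐ[R ⧸ I] MonoidAlgebra (∀ f, T f) P := piChart θp
  have hθ₀ : IsSemiIso (R ⧸ I) (∀ f, T f) θ₀ := isSemiIso_piChart θp hθp
  -- the lifted cover
  obtain ⟨B, _, _, π, hBet, hπs, hker, hBff⟩ := exists_pi_cover R I hI T
  haveI := hBet
  haveI := hBff
  -- the lifted group of constant type
  obtain ⟨Ap, _, _, Θ, ψ, hΘ, hcompat, hgl⟩ := exists_lift_const R I hI (piMap π)
    (piMap_surjective π hπs) (ker_piMap π I hker) θ₀ hθ₀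
  -- the lifted group-like elements
  choose g hg hψg using fun p => hgl _ (hg₀ p)
  let J : Ideal Ap := glIdeal (Set.range g)
  haveI hJ : J.IsHopfIdeal R := isHopfIdeal_glIdeal (Set.range g) (by
    rintro _ ⟨p, rfl⟩
    exact hg p)
  refine ⟨Ap ⧸ J, inferInstance, inferInstance, ?_, ?_⟩
  · have hch : ∀ f, ∃ (M : Type u) (_ : CommGroup M)
        (χ : (Ap ⧸ J) →ₐ[R] MonoidAlgebra (B f) M), IsSemiIso R (B f) χ := by
      intro f
      haveI : HenselianRing (B f) (RingHom.ker (π f : B f →+* T f)) :=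
        henselianRing_of_nil _ (by rw [hker f]; exact map_nil I hI)
      let θB : Ap →ₐ[R] MonoidAlgebra (B f) P :=
        (MonoidAlgebra.mapAlgHom P (Pi.evalAlgHom R B f)).comp Θ
      have hθB : IsSemiIso R (B f) θB := isSemiIso_map_comp (Pi.evalAlgHom R B f) hΘ
      have hkey : ∀ p, θB (g p) = MonoidAlgebra.single (h f p) 1 := by
        intro p
        apply groupLike_eq_of_map_eq (π f : B f →+* T f) (RingHom.ker (π f : B f →+* T f)) le_rfl
        · exact isGroupLikeElem_of_isSemiCoalg R (B f) hθB.1 (hg p)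
        · exact MonoidAlgebra.isGroupLikeElem_single_one _
        · show MonoidAlgebra.mapRingHom P (π f : B f →+* T f)
            (MonoidAlgebra.mapAlgHom P (Pi.evalAlgHom R B f) (Θ (g p))) = _
          rw [map_eval_eq_prj, ← hcompat, hψg, prj_piChart, hθg, MonoidAlgebra.mapRingHom_single,
            map_one]
      have hmap : Ideal.map (θB : Ap →+* MonoidAlgebra (B f) P) J =
          RingHom.ker ((projB (B f) (h f).range :
            MonoidAlgebra (B f) P →ₐ[B f] MonoidAlgebra (B f) (P ⧸ (h f).range)) :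
              MonoidAlgebra (B f) P →+* MonoidAlgebra (B f) (P ⧸ (h f).range)) := by
        rw [ker_projB, map_glIdeal_range, ← glIdeal_range_single]
        congr 2
        funext p
        exact hkey p
      obtain ⟨χ, hχ⟩ := exists_quotChart (projB (B f) (h f).range :
          MonoidAlgebra (B f) P →ₐ[B f] MonoidAlgebra (B f) (P ⧸ (h f).range)) J hθB
        (isSemiCoalg_bialgHom (B f) (projB (B f) (h f).range)) (projB_surjective _ _) hmap
      exact ⟨P ⧸ (h f).range, inferInstance, χ, hχ⟩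
    choose M hM χ hχ using hch
    letI := hM
    exact isQuasiIsotrivial_of_charts R (Ap ⧸ J) B M χ hχ
  · let θ' : Ap →ₐ[R] C :=
      ((ψ.toBialgHom : (R ⧸ I) ⊗[R] Ap →ₐ[R ⧸ I] C).restrictScalars R).comp
        (Algebra.TensorProduct.includeRight : Ap →ₐ[R] (R ⧸ I) ⊗[R] Ap)
    have hθ' : IsSemiIso R (R ⧸ I) θ' :=
      (isSemiIso_includeRight R (R ⧸ I) Ap).comp R (R ⧸ I) (R ⧸ I)
        (isSemiIso_bialgEquiv (R ⧸ I) ψ)
    have hθ'g : ∀ p, θ' (g p) = g₀ p := fun p => hψg p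
    have hmap : Ideal.map (θ' : Ap →+* C) J =
        RingHom.ker ((q₀ : C →ₐ[R ⧸ I] A₀) : C →+* A₀) := by
      rw [hkerq, map_glIdeal_range]
      congr 2
      funext p
      exact hθ'g p
    obtain ⟨χ, hχ, -⟩ := exists_quotChart' (q₀ : C →ₐ[R ⧸ I] A₀) J hθ'
      (isSemiCoalg_bialgHom (R ⧸ I) q₀) hq₀ hmap
    exact ⟨bialgEquivOfSemiIso χ hχ⟩

end Groth.Agent.Helper2.QL
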