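import Mathlib

/-!
# The Eilenberg swindle for a family of commutative groups
-/

set_option autoImplicit false

namespace Groth.Agent.Helper2.QL

universe u

section swindle
variable {F : Type u} [DecidableEq F] (N : F → Type u) [∀ f, CommGroup (N f)]

/-- the absorbing group -/
abbrev SwP : Type u := ℕ → (∀ f, N f)

/-- the absorbing isomorphism -/
def sw (f : F) : N f × SwP N ≃* SwP N where
  toFun x := fun i => match i with
    | 0 => Function.update (x.2 0) f x.1
    | j + 1 => Function.update (x.2 (j + 1)) f (x.2 j f)
  invFun q := (q 0 f, fun i => Function.update (q i) f (q (i + 1) f))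
  left_inv x := by
    obtain ⟨n, p⟩ := x
    refine Prod.ext ?_ ?_
    · simp
    · funext i
      cases i <;> simp
  right_inv q := by
    funext i
    cases i <;> simp
  map_mul' x y := by
    obtain ⟨n, p⟩ := x
    obtain ⟨n', p'⟩ := y
    funext i
    cases i with
    | zero =>
      funext g
      by_cases hg : g = f
      · subst hg; simp
      · simp [Function.update_of_ne hg]
    | succ j =>
      funext g
      by_cases hg : g = f
      · subst hg; simp
      · simp [Function.update_of_ne hg]

/-- the embedding of the `f`-th group -/
def swL (f : F) : N f →* SwP N := (sw N f).toMonoidHom.comp (MonoidHom.inl _ _)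

/-- the shifted embedding of the absorbing group -/
def swR (f : F) : SwP N →* SwP N := (sw N f).toMonoidHom.comp (MonoidHom.inr _ _)

lemma sw_apply (f : F) (n : N f) (p : SwP N) : sw N f (n, p) = swL N f n * swR N f p := by
  show _ = sw N f (n, 1) * sw N f (1, p)
  rw [← map_mul]
  simp

end swindle

end Groth.Agent.Helper2.QL
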