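import Mathlib
import Groth.Prelude.Def_SGA3b
import Groth.Agent.Helper2.QLMain2
import Groth.Agent.Helper2.QLFam
import Groth.Agent.Helper2.QLAug
import Groth.Agent.Helper2.QLSwindle

/-!
# S2979: quasi-isotrivial groups of multiplicative type lift along a nil ideal
-/

set_option autoImplicit false
set_option linter.style.haveILetI false

namespace Groth.Agent.Helper2.QL
open TensorProduct Groth.Agent.Helper2.MultTypeSemi Groth.Agent.Helper2.SemiIso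
  Groth.Agent.Helper2.NilSplit SGA3b

universe u

section
variable (k : Type u) [CommRing k] (A₀ : Type u) [CommRing A₀] [HopfAlgebra k A₀]
  {F : Type u} [DecidableEq F] (T : F → Type u) [∀ f, CommRing (T f)]
  [∀ f, Algebra k (T f)] (N : F → Type u) [∀ f, CommGroup (N f)]
  (θ : ∀ f, A₀ →ₐ[k] MonoidAlgebra (T f) (N f))

/-- the enlarged chart -/
noncomputable def bigChart (f : F) :
    A₀ ⊗[k] MonoidAlgebra k (SwP N) →ₐ[k] MonoidAlgebra (T f) (SwP N) :=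
  tchart (sw N f) (θ f) (rho k (T f) (SwP N))

lemma isSemiIso_bigChart (hθ : ∀ f, IsSemiIso k (T f) (θ f)) (f : F) :
    IsSemiIso k (T f) (bigChart k A₀ T N θ f) :=
  isSemiIso_tchart (sw N f) (hθ f) (isSemiIso_rho k (T f) (SwP N))

lemma bigChart_gl (f : F) (p : SwP N) :
    bigChart k A₀ T N θ f ((1 : A₀) ⊗ₜ[k]
      (MonoidAlgebra.single p (1 : k) : MonoidAlgebra k (SwP N))) =
      MonoidAlgebra.single (swR N f p) 1 :=
  tchart_one_tmul_single (sw N f) (θ f) p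

end

theorem s2979 (R : Type u) [CommRing R] (I : Ideal R) (hI : ∀ x ∈ I, IsNilpotent x)
    (A₀ : Type u) [CommRing A₀] [HopfAlgebra (R ⧸ I) A₀] (h0 : IsQuasiIsotrivial (R ⧸ I) A₀) :
    ∃ (A : Type u) (_ : CommRing A) (_ : HopfAlgebra R A), IsQuasiIsotrivial R A ∧
      Nonempty (((R ⧸ I) ⊗[R] A) ≃ₐc[R ⧸ I] A₀) := by
  classical
  obtain ⟨F, _, _, T, _, _, N, _, θ, hEt, hFF, hθ⟩ := exists_qfam (R ⧸ I) A₀ h0
  haveI := hEt
  haveI := hFF
  refine lift_of_enlargement R I hI A₀ (A₀ ⊗[R ⧸ I] MonoidAlgebra (R ⧸ I) (SwP N)) T (SwP N)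
    (bigChart (R ⧸ I) A₀ T N θ) ?_
    (fun f => swR N f) (fun p : SwP N => (1 : A₀) ⊗ₜ[R ⧸ I]
        (MonoidAlgebra.single p (1 : R ⧸ I) : MonoidAlgebra (R ⧸ I) (SwP N))) ?_ ?_
    (augHom (R ⧸ I) A₀ (SwP N)) ?_ ?_
  · exact isSemiIso_bigChart (R ⧸ I) A₀ T N θ hθ
  · exact fun p => isGroupLikeElem_glSet (R ⧸ I) A₀ (SwP N) _ ⟨p, rfl⟩
  · exact bigChart_gl (R ⧸ I) A₀ T N θ
  · exact augHom_surjective _ _ _
  · exact ker_augHom (R ⧸ I) A₀ (SwP N)

end Groth.Agent.Helper2.QL
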