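import Mathlib
import Groth.Prelude.Def_CAlgX

/-!
# Quasi-regular sequences modulo an ideal, and their transfer along "localize and reduce" maps
-/

set_option autoImplicit false
open MvPolynomial
universe u

namespace Groth.Agent.Helper2.QRBase

variable {B : Type u} [CommRing B]

/-- `f` is quasi-regular modulo the ideal `K`. -/
def QRmod {r : ℕ} (K : Ideal B) (f : Fin r → B) : Prop :=
  ∀ (n : ℕ) (P : MvPolynomial (Fin r) B), P.IsHomogeneous n →
    eval f P ∈ Ideal.span (Set.range f) ^ (n + 1) ⊔ K →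
      ∀ d : Fin r →₀ ℕ, P.coeff d ∈ Ideal.span (Set.range f) ⊔ K

/-- elements of `𝔟 * J^n` are values of homogeneous polynomials of degree `n` with coefficients
in `𝔟`. -/
theorem exists_of_mem_mul_pow {r : ℕ} (f : Fin r → B) (𝔟 : Ideal B) (n : ℕ) (y : B)
    (hy : y ∈ 𝔟 * Ideal.span (Set.range f) ^ n) :
    ∃ P : MvPolynomial (Fin r) B, P.IsHomogeneous n ∧ (∀ d, P.coeff d ∈ 𝔟) ∧ eval f P = y := by
  refine Submodule.mul_induction_on hy ?_ ?_
  · intro u hu m hm
    rw [Ideal.mem_span_pow_iff_exists_isHomogeneous] at hm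
    obtain ⟨P₀, hP₀, rfl⟩ := hm
    refine ⟨C u * P₀, hP₀.C_mul u, fun d => ?_, ?_⟩
    · rw [coeff_C_mul]
      exact Ideal.mul_mem_right _ _ hu
    · rw [map_mul, eval_C]
  · rintro y₁ y₂ ⟨P₁, h₁, hc₁, rfl⟩ ⟨P₂, h₂, hc₂, rfl⟩
    exact ⟨P₁ + P₂, h₁.add h₂, fun d => by rw [coeff_add]; exact Ideal.add_mem _ (hc₁ d) (hc₂ d),
      map_add _ _ _⟩

/-- a homogeneous polynomial of degree `n` with coefficients in `𝔟` evaluates into `𝔟 * J^n`. -/
theorem eval_mem_mul_pow {r : ℕ} (f : Fin r → B) (𝔟 : Ideal B) (n : ℕ)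
    (P : MvPolynomial (Fin r) B) (hP : P.IsHomogeneous n) (hc : ∀ d, P.coeff d ∈ 𝔟) :
    eval f P ∈ 𝔟 * Ideal.span (Set.range f) ^ n := by
  rw [MvPolynomial.eval_eq']
  refine Ideal.sum_mem _ fun d hd => ?_
  refine Ideal.mul_mem_mul (hc d) ?_
  rw [Ideal.mem_span_pow_iff_exists_isHomogeneous]
  refine ⟨monomial d 1, ?_, by simp [MvPolynomial.eval_monomial]⟩
  have hdeg : d.degree = n := by
    have := hP (mem_support_iff.mp hd)
    rw [Finsupp.degree_eq_weight_one]
    exact this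
  exact isHomogeneous_monomial _ hdeg

theorem eval_mem_pow {r : ℕ} (f : Fin r → B) (n : ℕ)
    (P : MvPolynomial (Fin r) B) (hP : P.IsHomogeneous n) :
    eval f P ∈ Ideal.span (Set.range f) ^ n := by
  rw [Ideal.mem_span_pow_iff_exists_isHomogeneous]
  exact ⟨P, hP, rfl⟩

/-- quasi-regularity of the images in `B ⧸ K` gives quasi-regularity modulo `K`. -/
theorem qrmod_of_isQuasiRegular {r : ℕ} (K : Ideal B) (f : Fin r → B)
    (hq : CAlgX.IsQuasiRegular (fun i => Ideal.Quotient.mk K (f i))) : QRmod K f := by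
  intro n P hP hev d
  have hspan : Ideal.span (Set.range fun i => Ideal.Quotient.mk K (f i)) =
      (Ideal.span (Set.range f)).map (Ideal.Quotient.mk K) := by
    rw [Ideal.map_span, ← Set.range_comp]
    rfl
  have h1 : eval (fun i => Ideal.Quotient.mk K (f i)) (map (Ideal.Quotient.mk K) P) =
      Ideal.Quotient.mk K (eval f P) := by
    rw [eval_map]
    exact (MvPolynomial.eval₂_comp (Ideal.Quotient.mk K) f P).symm
  have h2 := hq n (map (Ideal.Quotient.mk K) P) (hP.map _) (by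
    rw [h1, hspan, ← Ideal.map_pow]
    obtain ⟨y, hy, z, hz, hyz⟩ := Submodule.mem_sup.mp hev
    rw [← hyz, map_add, Ideal.Quotient.eq_zero_iff_mem.mpr hz, add_zero]
    exact Ideal.mem_map_of_mem _ hy) d
  rw [coeff_map, hspan, Ideal.mem_map_iff_of_surjective _ Ideal.Quotient.mk_surjective] at h2
  obtain ⟨y, hy, hyc⟩ := h2
  have h3 : P.coeff d - y ∈ K := by
    rw [← Ideal.Quotient.eq_zero_iff_mem, map_sub, hyc, sub_self]
  have : P.coeff d = y + (P.coeff d - y) := by ring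
  rw [this]
  exact Submodule.add_mem_sup hy h3

section core
variable {r : ℕ} (K 𝔓 : Ideal B) (f : Fin r → B)

/-- `𝔓 ∩ (J^n + K) ≤ 𝔓 J^n + K` for all `n`, from the case `n = 1` and quasi-regularity mod `K`. -/
theorem inf_pow_le (hq : QRmod K f)
    (h1 : 𝔓 ⊓ (Ideal.span (Set.range f) ⊔ K) ≤ 𝔓 * Ideal.span (Set.range f) ⊔ K) :
    ∀ n : ℕ, 𝔓 ⊓ (Ideal.span (Set.range f) ^ n ⊔ K) ≤ 𝔓 * Ideal.span (Set.range f) ^ n ⊔ K := by
  intro n
  induction n with
  | zero =>
    intro x hx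
    rw [pow_zero, Ideal.one_eq_top, Ideal.mul_top]
    exact Ideal.mem_sup_left hx.1
  | succ n ih =>
    intro x hx
    have hx' : x ∈ 𝔓 ⊓ (Ideal.span (Set.range f) ^ n ⊔ K) :=
      ⟨hx.1, sup_le_sup_right (Ideal.pow_le_pow_right (Nat.le_succ n)) K hx.2⟩
    obtain ⟨y, hy, κ, hκ, hyκ⟩ := Submodule.mem_sup.mp (ih hx')
    obtain ⟨P, hP, hPc, hPy⟩ := exists_of_mem_mul_pow f 𝔓 n y hy
    have hcoef : ∀ d, P.coeff d ∈ 𝔓 * Ideal.span (Set.range f) ⊔ K := by
      intro d
      apply h1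
      refine ⟨hPc d, hq n P hP ?_ d⟩
      rw [hPy]
      have : y = x - κ := by rw [← hyκ]; ring
      rw [this]
      obtain ⟨a, ha, b, hb, hab⟩ := Submodule.mem_sup.mp hx.2
      rw [← hab]
      have : a + b - κ = a + (b - κ) := by ring
      rw [this]
      exact Submodule.add_mem_sup ha (sub_mem hb hκ)
    -- now `y = eval f P` with coefficients in `𝔓 J + K`
    have hy2 : y ∈ (𝔓 * Ideal.span (Set.range f) ⊔ K) * Ideal.span (Set.range f) ^ n := by
      rw [← hPy]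
      exact eval_mem_mul_pow f _ n P hP hcoef
    have hle : (𝔓 * Ideal.span (Set.range f) ⊔ K) * Ideal.span (Set.range f) ^ n ≤
        𝔓 * Ideal.span (Set.range f) ^ (n + 1) ⊔ K := by
      rw [Ideal.sup_mul]
      refine sup_le ?_ (le_trans Ideal.mul_le_left le_sup_right)
      rw [mul_assoc, ← pow_succ']
      exact le_sup_left
    rw [← hyκ]
    exact Ideal.add_mem _ (hle hy2) (Ideal.mem_sup_right hκ)

/-- quasi-regularity mod `K` plus the intersection property gives quasi-regularity mod `𝔓`. -/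
theorem qrmod_of_inf_le (hq : QRmod K f) (hK : K ≤ 𝔓)
    (h1 : 𝔓 ⊓ (Ideal.span (Set.range f) ⊔ K) ≤ 𝔓 * Ideal.span (Set.range f) ⊔ K) :
    QRmod 𝔓 f := by
  intro n P hP hev d
  obtain ⟨y, hy, z, hz, hyz⟩ := Submodule.mem_sup.mp hev
  have hzJ : z ∈ Ideal.span (Set.range f) ^ n := by
    have : z = eval f P - y := by rw [← hyz]; ring
    rw [this]
    exact sub_mem (eval_mem_pow f n P hP) (Ideal.pow_le_pow_right (Nat.le_succ n) hy)
  have hz2 := inf_pow_le K 𝔓 f hq h1 n ⟨hz, Ideal.mem_sup_left hzJ⟩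
  obtain ⟨w, hw, κ, hκ, hwκ⟩ := Submodule.mem_sup.mp hz2
  obtain ⟨Q, hQ, hQc, hQw⟩ := exists_of_mem_mul_pow f 𝔓 n w hw
  have h2 := hq n (P - Q) (hP.sub hQ) (by
    rw [map_sub, hQw]
    have : eval f P - w = y + κ := by rw [← hyz, ← hwκ]; ring
    rw [this]
    exact Submodule.add_mem_sup hy hκ) d
  rw [coeff_sub] at h2
  have : P.coeff d = (P.coeff d - Q.coeff d) + Q.coeff d := by ring
  rw [this]
  exact Ideal.add_mem _ (sup_le_sup_left hK _ h2) (Ideal.mem_sup_right (hQc d))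

end core

section transfer
variable {T : Type u} [CommRing T] (φ : B →+* T)

/-- finitely many elements have a common denominator. -/
theorem exists_common_denom
    (hi : ∀ t : T, ∃ s b : B, IsUnit (φ s) ∧ φ s * t = φ b) (S : Finset T) :
    ∃ s : B, IsUnit (φ s) ∧ ∀ t ∈ S, ∃ b : B, φ s * t = φ b := by
  classical
  induction S using Finset.induction_on with
  | empty => exact ⟨1, by simp, by simp⟩
  | insert a S _ ih =>
    obtain ⟨s, hs, hS⟩ := ih
    obtain ⟨s', b', hs', hb'⟩ := hi a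
    refine ⟨s * s', by rw [map_mul]; exact hs.mul hs', fun t ht => ?_⟩
    rcases Finset.mem_insert.mp ht with rfl | ht
    · exact ⟨s * b', by rw [map_mul, map_mul, ← hb']; ring⟩
    · obtain ⟨b, hb⟩ := hS t ht
      exact ⟨s' * b, by rw [map_mul, map_mul, ← hb]; ring⟩

/-- elements of an extended ideal come from the ideal up to a unit multiple. -/
theorem exists_of_mem_map
    (hi : ∀ t : T, ∃ s b : B, IsUnit (φ s) ∧ φ s * t = φ b) (𝔠 : Ideal B) (x : T)
    (hx : x ∈ 𝔠.map φ) : ∃ s y : B, IsUnit (φ s) ∧ y ∈ 𝔠 ∧ φ s * x = φ y := by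
  unfold Ideal.map at hx
  induction hx using Submodule.span_induction with
  | mem x hx =>
    obtain ⟨y, hy, rfl⟩ := hx
    exact ⟨1, y, by simp, hy, by simp⟩
  | zero => exact ⟨1, 0, by simp, zero_mem _, by simp⟩
  | add x₁ x₂ _ _ h₁ h₂ =>
    obtain ⟨s₁, y₁, hs₁, hy₁, e₁⟩ := h₁
    obtain ⟨s₂, y₂, hs₂, hy₂, e₂⟩ := h₂
    refine ⟨s₁ * s₂, s₂ * y₁ + s₁ * y₂, by rw [map_mul]; exact hs₁.mul hs₂,
      Ideal.add_mem _ (Ideal.mul_mem_left _ _ hy₁) (Ideal.mul_mem_left _ _ hy₂), ?_⟩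
    simp only [map_mul, map_add]
    rw [← e₁, ← e₂]
    ring
  | smul t x _ h =>
    obtain ⟨s, y, hs, hy, e⟩ := h
    obtain ⟨s₀, b, hs₀, hb⟩ := hi t
    refine ⟨s₀ * s, b * y, by rw [map_mul]; exact hs₀.mul hs, Ideal.mul_mem_left _ _ hy, ?_⟩
    simp only [map_mul, smul_eq_mul]
    rw [← e, ← hb]
    ring

/-- transfer of quasi-regularity along a map that is "a localization of the quotient by `𝔓`". -/
theorem isQuasiRegular_of_qrmod {r : ℕ} (𝔓 : Ideal B) (f : Fin r → B) (hq : QRmod 𝔓 f)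
    (hi : ∀ t : T, ∃ s b : B, IsUnit (φ s) ∧ φ s * t = φ b)
    (hii : ∀ b : B, φ b = 0 → ∃ s : B, IsUnit (φ s) ∧ s * b ∈ 𝔓)
    (hiii : ∀ b ∈ 𝔓, φ b = 0) :
    CAlgX.IsQuasiRegular (fun i => φ (f i)) := by
  classical
  intro n Pbar hPbar hev d
  have hspan : Ideal.span (Set.range fun i => φ (f i)) = (Ideal.span (Set.range f)).map φ := by
    rw [Ideal.map_span, ← Set.range_comp]
    rfl
  by_cases hd : d ∈ Pbar.support
  swap
  · rw [notMem_support_iff.mp hd]
    exact zero_mem _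
  -- common denominator for the coefficients
  obtain ⟨s, hs, hS⟩ := exists_common_denom φ hi (Pbar.support.image fun d => Pbar.coeff d)
  have hS' : ∀ d' ∈ Pbar.support, ∃ b : B, φ s * Pbar.coeff d' = φ b := fun d' hd' =>
    hS _ (Finset.mem_image_of_mem _ hd')
  choose! c₀ hc₀ using hS'
  obtain ⟨P, hPdef⟩ : ∃ P : MvPolynomial (Fin r) B,
      P = ∑ d' ∈ Pbar.support, monomial d' (c₀ d') := ⟨_, rfl⟩
  have hcoeff : ∀ d', φ (P.coeff d') = φ s * Pbar.coeff d' := by
    intro d'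
    rw [hPdef, coeff_sum]
    simp only [coeff_monomial]
    rw [Finset.sum_ite_eq' Pbar.support d']
    split_ifs with hd'
    · exact (hc₀ d' hd').symm
    · rw [notMem_support_iff.mp hd', mul_zero, map_zero]
  have hmap : map φ P = C (φ s) * Pbar := by
    ext d'
    rw [coeff_map, coeff_C_mul, hcoeff]
  have hhom : P.IsHomogeneous n := by
    rw [hPdef]
    apply IsHomogeneous.sum
    intro d' hd'
    exact isWeightedHomogeneous_monomial 1 d' _ (hPbar (mem_support_iff.mp hd'))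
  have e1 : φ (eval f P) = φ s * eval (fun i => φ (f i)) Pbar := by
    rw [MvPolynomial.eval₂_comp, ← eval_map, hmap, map_mul, eval_C]
    rfl
  have h2 : φ (eval f P) ∈ (Ideal.span (Set.range f) ^ (n + 1)).map φ := by
    rw [e1, Ideal.map_pow, ← hspan]
    exact Ideal.mul_mem_left _ _ hev
  obtain ⟨s', y, hs', hy, e2⟩ := exists_of_mem_map φ hi _ _ h2
  have h3 : φ (s' * eval f P - y) = 0 := by
    rw [map_sub, map_mul, e2, sub_self]
  obtain ⟨s'', hs'', h4⟩ := hii _ h3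
  have hQ : (C (s'' * s') * P).IsHomogeneous n := by
    have := (isHomogeneous_C (Fin r) (s'' * s')).mul hhom
    rwa [zero_add] at this
  have hevQ : eval f (C (s'' * s') * P) ∈ Ideal.span (Set.range f) ^ (n + 1) ⊔ 𝔓 := by
    rw [map_mul, eval_C]
    have : s'' * s' * eval f P = s'' * y + s'' * (s' * eval f P - y) := by ring
    rw [this]
    exact Submodule.add_mem_sup (Ideal.mul_mem_left _ _ hy) h4
  have h5 := hq n _ hQ hevQ d
  rw [coeff_C_mul] at h5
  obtain ⟨a, ha, b, hb, hab⟩ := Submodule.mem_sup.mp h5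
  have h6 : φ (s'' * s') * (φ s * Pbar.coeff d) = φ a := by
    rw [← hcoeff, ← map_mul, ← hab, map_add, hiii b hb, add_zero]
  have hu : IsUnit (φ (s'' * s') * φ s) := by
    rw [map_mul]
    exact (hs''.mul hs').mul hs
  rw [← mul_assoc] at h6
  rw [← Ideal.unit_mul_mem_iff_mem _ hu, h6, hspan]
  exact Ideal.mem_map_of_mem _ ha

end transfer

end Groth.Agent.Helper2.QRBase
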