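import Mathlib
import Groth.Prelude
import Groth.Agent.Helper2.QRBase
import Groth.Agent.Helper2.InjFlatFin
import Groth.Agent.Helper2.LocCritFP
import Groth.Agent.Helper2.EssFP
import Groth.Agent.Helper2.NilpNak
import Groth.Agent.Helper2.FlatFibre2
import Groth.Agent.Helper2.FlatRegQuot
import Groth.Agent.Helper7.QRReg

/-!
# Flatness of the quotient by a sequence that is quasi-regular modulo a locally nilpotent ideal
-/

set_option autoImplicit false
open RingTheory.Sequence Pointwise Function TensorProduct IsLocalRing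
universe u

namespace Groth.Agent.Helper2.QRFlat

section slice
variable {R T : Type u} [CommRing R] [CommRing T] [IsLocalRing R] [IsLocalRing T] [Algebra R T]
  [IsLocalHom (algebraMap R T)]

/-- slicing for essentially finitely presented local algebras. -/
theorem flat_quot (hT : CAlgX.IsEssFinitePresentation R T)
    {N P : Type u} [AddCommGroup N] [Module T N] [Module R N] [IsScalarTower R T N]
    [Module.FinitePresentation T N] [Module.Flat R N]
    [AddCommGroup P] [Module T P] [Module R P] [IsScalarTower R T P]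
    (f : T)
    (hf : ∀ z : N, f • z ∈ ((maximalIdeal R).map (algebraMap R T) • ⊤ : Submodule T N) →
      z ∈ ((maximalIdeal R).map (algebraMap R T) • ⊤ : Submodule T N))
    (π : N →ₗ[T] P) (hπ : Surjective π) (hex : Exact (LinearMap.lsmul T N f) π) :
    Module.Flat R P := by
  obtain ⟨-, hfl⟩ := Groth.Agent.Helper2.InjFlatFin.s2107 hT (M := N) (N := N)
    (LinearMap.lsmul T N f) hf
  have hker : LinearMap.ker π = LinearMap.range (LinearMap.lsmul T N f) :=
    LinearMap.exact_iff.mp hex
  let e : (N ⧸ LinearMap.range (LinearMap.lsmul T N f)) ≃ₗ[T] P :=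
    (Submodule.quotEquivOfEq _ _ hker.symm).trans (π.quotKerEquivOfSurjective hπ)
  exact Module.Flat.of_linearEquiv (e.restrictScalars R).symm

theorem fibre_hyp (fs : List T)
    (hreg : IsWeaklyRegular
      (T ⧸ ((maximalIdeal R).map (algebraMap R T) • (⊤ : Submodule T T))) fs)
    (i : ℕ) (hi : i < fs.length)
    (z : T ⧸ (Ideal.ofList (fs.take i) • (⊤ : Submodule T T)))
    (hz : fs[i] • z ∈ ((maximalIdeal R).map (algebraMap R T) • ⊤ :
      Submodule T (T ⧸ (Ideal.ofList (fs.take i) • (⊤ : Submodule T T))))) :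
    z ∈ ((maximalIdeal R).map (algebraMap R T) • ⊤ :
      Submodule T (T ⧸ (Ideal.ofList (fs.take i) • (⊤ : Submodule T T)))) := by
  obtain ⟨z, rfl⟩ := Submodule.Quotient.mk_surjective _ z
  rw [← Submodule.Quotient.mk_smul, Groth.Agent.Helper2.FlatFibre2.mk_mem_smul_top_iff] at hz
  rw [Groth.Agent.Helper2.FlatFibre2.mk_mem_smul_top_iff]
  have h1 := hreg.regular_mod_prev i hi
  have h2 : fs[i] • (Submodule.Quotient.mk (Submodule.Quotient.mk z) :
      (T ⧸ ((maximalIdeal R).map (algebraMap R T) • (⊤ : Submodule T T))) ⧸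
        (Ideal.ofList (fs.take i) • ⊤ : Submodule T
          (T ⧸ ((maximalIdeal R).map (algebraMap R T) • (⊤ : Submodule T T))))) = 0 := by
    rw [← Submodule.Quotient.mk_smul, ← Submodule.Quotient.mk_smul,
      Submodule.Quotient.mk_eq_zero, Groth.Agent.Helper2.FlatFibre2.mk_mem_smul_top_iff, sup_comm]
    exact hz
  have h3 := h1.right_eq_zero_of_smul h2
  rw [Submodule.Quotient.mk_eq_zero, Groth.Agent.Helper2.FlatFibre2.mk_mem_smul_top_iff,
    sup_comm] at h3
  exact h3

theorem fp_quot (fs : List T) :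
    Module.FinitePresentation T (T ⧸ (Ideal.ofList fs • (⊤ : Submodule T T))) := by
  refine Module.finitePresentation_of_surjective (Ideal.ofList fs • (⊤ : Submodule T T)).mkQ
    (Submodule.mkQ_surjective _) ?_
  rw [Submodule.ker_mkQ]
  have : (Ideal.ofList fs • (⊤ : Submodule T T)) = Ideal.ofList fs := by
    rw [smul_eq_mul, Ideal.mul_top]
  rw [this]
  exact Submodule.fg_span (List.finite_toSet fs)

theorem flat_all (hT : CAlgX.IsEssFinitePresentation R T) [Module.Flat R T] (fs : List T)
    (hreg : IsWeaklyRegular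
      (T ⧸ ((maximalIdeal R).map (algebraMap R T) • (⊤ : Submodule T T))) fs) :
    ∀ i, i ≤ fs.length →
      Module.Flat R (T ⧸ (Ideal.ofList (fs.take i) • (⊤ : Submodule T T))) := by
  intro i
  induction i with
  | zero =>
    intro _
    have h0 : (Ideal.ofList (fs.take 0) • (⊤ : Submodule T T)) = ⊥ := by
      rw [List.take_zero, Ideal.ofList_nil, Submodule.bot_smul]
    exact Module.Flat.of_linearEquiv
      ((Submodule.quotEquivOfEqBot _ h0).restrictScalars R)
  | succ i ih =>
    intro hi
    haveI := ih (Nat.le_of_succ_le hi)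
    haveI := fp_quot (fs.take i)
    have hex := Groth.Agent.Helper2.FlatRegQuot.exact_aux (A := T) (M := T) fs i hi
    refine flat_quot hT (fs[i]) (fibre_hyp fs hreg i hi) _ ?_ hex
    intro x
    obtain ⟨x, rfl⟩ := Submodule.Quotient.mk_surjective _ x
    exact ⟨Submodule.Quotient.mk x, rfl⟩

end slice


section main
open Groth.Agent.Helper2.QRBase
variable (A' B' : Type u) [CommRing A'] [CommRing B'] [Algebra A' B']
  (I : Ideal A') {r : ℕ} (f' : Fin r → B')

/-- the intersection property from flatness of the quotient. -/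
theorem inf_le (p : Ideal A')
    (hflat : Module.Flat (A' ⧸ I)
      ((B' ⧸ Ideal.map (algebraMap A' B') I) ⧸
        Ideal.span (Set.range (fun i => Ideal.Quotient.mk (Ideal.map (algebraMap A' B') I) (f' i))))) :
    p.map (algebraMap A' B') ⊓ (Ideal.span (Set.range f') ⊔ I.map (algebraMap A' B')) ≤
      p.map (algebraMap A' B') * Ideal.span (Set.range f') ⊔ I.map (algebraMap A' B') := by
  set K := I.map (algebraMap A' B') with hKdef
  set Jb : Ideal (B' ⧸ K) := Ideal.span (Set.range (fun i => Ideal.Quotient.mk K (f' i))) with hJb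
  have hspan : Jb = (Ideal.span (Set.range f')).map (Ideal.Quotient.mk K) := by
    rw [hJb, Ideal.map_span, ← Set.range_comp]
    rfl
  let φ : (B' ⧸ K) →ₗ[A' ⧸ I] ((B' ⧸ K) ⧸ Jb) := (Submodule.mkQ Jb).restrictScalars (A' ⧸ I)
  have hφ : Surjective φ := Submodule.mkQ_surjective _
  have key := Groth.Agent.Helper2.NilpNak.ker_inf_smul_le' φ hφ (p.map (Ideal.Quotient.mk I))
  intro x hx
  have hxK : Ideal.Quotient.mk K x ∈ LinearMap.ker φ := by
    change Submodule.mkQ Jb (Ideal.Quotient.mk K x) = 0
    rw [Submodule.mkQ_apply, Submodule.Quotient.mk_eq_zero, hspan,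
      Ideal.mem_quotient_iff_mem_sup]
    exact hx.2
  have hxa : Ideal.Quotient.mk K x ∈
      (p.map (Ideal.Quotient.mk I) • ⊤ : Submodule (A' ⧸ I) (B' ⧸ K)) := by
    rw [Ideal.smul_top_eq_map, Submodule.restrictScalars_mem, Ideal.map_map]
    have : (algebraMap (A' ⧸ I) (B' ⧸ K)).comp (Ideal.Quotient.mk I) =
        (Ideal.Quotient.mk K).comp (algebraMap A' B') := rfl
    rw [this, ← Ideal.map_map]
    exact Ideal.mem_map_of_mem _ hx.1
  have h3 := key ⟨hxK, hxa⟩
  have hle : (p.map (Ideal.Quotient.mk I) • LinearMap.ker φ : Submodule (A' ⧸ I) (B' ⧸ K)) ≤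
      ((p.map (algebraMap A' B') * Ideal.span (Set.range f')).map
        (Ideal.Quotient.mk K)).restrictScalars (A' ⧸ I) := by
    rw [Submodule.smul_le]
    intro a ha y hy
    rw [Ideal.mem_map_iff_of_surjective _ Ideal.Quotient.mk_surjective] at ha
    obtain ⟨a₀, ha₀, rfl⟩ := ha
    have hy' : y ∈ Jb := by
      have : Submodule.mkQ Jb y = 0 := hy
      rwa [Submodule.mkQ_apply, Submodule.Quotient.mk_eq_zero] at this
    rw [hspan, Ideal.mem_map_iff_of_surjective _ Ideal.Quotient.mk_surjective] at hy'
    obtain ⟨y₀, hy₀, rfl⟩ := hy'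
    rw [Submodule.restrictScalars_mem]
    have : (Ideal.Quotient.mk I a₀) • (Ideal.Quotient.mk K y₀) =
        Ideal.Quotient.mk K (algebraMap A' B' a₀ * y₀) := by
      rw [Algebra.smul_def, map_mul]
      rfl
    rw [this]
    exact Ideal.mem_map_of_mem _ (Ideal.mul_mem_mul (Ideal.mem_map_of_mem _ ha₀) hy₀)
  have h4 := hle h3
  rw [Submodule.restrictScalars_mem, Ideal.mem_quotient_iff_mem_sup] at h4
  exact h4

variable [Module.Flat A' B'] [Algebra.FinitePresentation A' B']

set_option maxHeartbeats 1000000 in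
/-- the local statement at a prime containing the sequence. -/
theorem flat_local (hI : ∀ x ∈ I, IsNilpotent x) (Q : Ideal B') [Q.IsPrime]
    (hfQ : ∀ i, f' i ∈ Q)
    (hq : CAlgX.IsQuasiRegular
      (fun i => Ideal.Quotient.mk (Ideal.map (algebraMap A' B') I) (f' i)))
    (hflat : Module.Flat (A' ⧸ I)
      ((B' ⧸ Ideal.map (algebraMap A' B') I) ⧸
        Ideal.span (Set.range (fun i => Ideal.Quotient.mk (Ideal.map (algebraMap A' B') I) (f' i))))) :
    letI := Localization.AtPrime.algebraOfLiesOver (Q.comap (algebraMap A' B')) Q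
    Module.Flat (Localization.AtPrime (Q.comap (algebraMap A' B')))
      (Localization.AtPrime Q ⧸
        (Ideal.ofList (List.ofFn fun i => algebraMap B' (Localization.AtPrime Q) (f' i)) •
          (⊤ : Submodule (Localization.AtPrime Q) (Localization.AtPrime Q)))) := by
  letI alg := Localization.AtPrime.algebraOfLiesOver (Q.comap (algebraMap A' B')) Q
  set p := Q.comap (algebraMap A' B') with hp
  set R := Localization.AtPrime p with hR
  set T := Localization.AtPrime Q with hTdef
  haveI : IsLocalHom (algebraMap R T) :=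
    Localization.isLocalHom_localRingHom _ _ _ Ideal.LiesOver.over
  have hT : CAlgX.IsEssFinitePresentation R T :=
    Groth.Agent.Helper2.EssFP.essFP_of_atPrime p Q (fun a ha => ha) R T
  haveI : Module.Flat R T := inferInstance
  have hIp : I ≤ p := by
    intro x hx
    obtain ⟨n, hn⟩ := hI x hx
    exact Ideal.IsPrime.mem_of_pow_mem inferInstance n (hn ▸ p.zero_mem)
  set K := I.map (algebraMap A' B') with hKdef
  set 𝔓 := p.map (algebraMap A' B') with h𝔓def
  have hK : K ≤ 𝔓 := Ideal.map_mono hIp
  have hqr : QRmod 𝔓 f' :=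
    qrmod_of_inf_le K 𝔓 f' (qrmod_of_isQuasiRegular K f' hq) hK (inf_le A' B' I f' p hflat)
  set 𝔪T := (maximalIdeal R).map (algebraMap R T) with h𝔪Tdef
  have h𝔪 : 𝔪T = 𝔓.map (algebraMap B' T) := by
    rw [h𝔪Tdef, ← Localization.AtPrime.map_eq_maximalIdeal, Ideal.map_map, h𝔓def, Ideal.map_map,
      ← IsScalarTower.algebraMap_eq, ← IsScalarTower.algebraMap_eq]
  let φ : B' →+* T ⧸ 𝔪T := (Ideal.Quotient.mk 𝔪T).comp (algebraMap B' T)
  have hi : ∀ t : T ⧸ 𝔪T, ∃ s b : B', IsUnit (φ s) ∧ φ s * t = φ b := by
    intro t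
    obtain ⟨τ, rfl⟩ := Ideal.Quotient.mk_surjective t
    obtain ⟨⟨b, s⟩, h⟩ := IsLocalization.surj Q.primeCompl τ
    refine ⟨s, b, (IsLocalization.map_units T s).map (Ideal.Quotient.mk 𝔪T), ?_⟩
    change Ideal.Quotient.mk 𝔪T (algebraMap B' T s) * Ideal.Quotient.mk 𝔪T τ =
      Ideal.Quotient.mk 𝔪T (algebraMap B' T b)
    rw [← map_mul, mul_comm]
    exact congrArg _ h
  have hii : ∀ b : B', φ b = 0 → ∃ s : B', IsUnit (φ s) ∧ s * b ∈ 𝔓 := by
    intro b hb
    have hb' : algebraMap B' T b ∈ 𝔓.map (algebraMap B' T) := by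
      rw [← h𝔪]
      exact Ideal.Quotient.eq_zero_iff_mem.mp hb
    rw [IsLocalization.algebraMap_mem_map_algebraMap_iff Q.primeCompl] at hb'
    obtain ⟨s, hs, hsb⟩ := hb'
    exact ⟨s, (IsLocalization.map_units T (⟨s, hs⟩ : Q.primeCompl)).map (Ideal.Quotient.mk 𝔪T), hsb⟩
  have hiii : ∀ b ∈ 𝔓, φ b = 0 := by
    intro b hb
    apply Ideal.Quotient.eq_zero_iff_mem.mpr
    rw [h𝔪]
    exact Ideal.mem_map_of_mem _ hb
  have hqrT : CAlgX.IsQuasiRegular (fun i => φ (f' i)) :=
    isQuasiRegular_of_qrmod φ 𝔓 f' hqr hi hii hiii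
  haveI : IsNoetherianRing (T ⧸ 𝔪T) :=
    Groth.Agent.Helper2.LocCritFP.isNoetherianRing_quot_of_essFP hT
  have hjac : ∀ i, φ (f' i) ∈ Ring.jacobson (T ⧸ 𝔪T) := by
    intro i
    rw [← Ideal.jacobson_bot, Ideal.mem_jacobson_bot]
    intro y
    obtain ⟨η, rfl⟩ := Ideal.Quotient.mk_surjective y
    have hmem : algebraMap B' T (f' i) ∈ maximalIdeal T :=
      (IsLocalization.AtPrime.to_map_mem_maximal_iff T Q (f' i)).mpr (hfQ i)
    have hu : IsUnit (algebraMap B' T (f' i) * η + 1) := by
      by_contra hnu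
      have h1 : algebraMap B' T (f' i) * η + 1 ∈ maximalIdeal T := (mem_maximalIdeal _).mpr hnu
      have h2 : (1 : T) ∈ maximalIdeal T := by
        have := sub_mem h1 (Ideal.mul_mem_right η _ hmem)
        simpa using this
      exact (maximalIdeal.isMaximal T).ne_top ((Ideal.eq_top_iff_one _).mpr h2)
    have := hu.map (Ideal.Quotient.mk 𝔪T)
    simpa [φ] using this
  have hwr := Groth.Agent.Helper7.QRReg.s5803 (T ⧸ 𝔪T) r (fun i => φ (f' i)) hjac hqrT
  have hsub : (𝔪T • (⊤ : Submodule T T)) = (𝔪T : Submodule T T) := by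
    rw [smul_eq_mul, Ideal.mul_top]
  let e : (T ⧸ (𝔪T • (⊤ : Submodule T T))) ≃ₗ[T] (T ⧸ 𝔪T) := Submodule.quotEquivOfEq _ _ hsub
  have hreg : IsWeaklyRegular (T ⧸ (𝔪T • (⊤ : Submodule T T)))
      (List.ofFn fun i => algebraMap B' T (f' i)) := by
    rw [e.isWeaklyRegular_congr, ← isWeaklyRegular_map_algebraMap_iff (T ⧸ 𝔪T), List.map_ofFn]
    exact hwr
  have hlen : (List.ofFn fun i => algebraMap B' T (f' i)).length = r := List.length_ofFn
  have := flat_all hT (List.ofFn fun i => algebraMap B' T (f' i)) hreg r (le_of_eq hlen.symm)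
  rwa [List.take_of_length_le (le_of_eq hlen)] at this


set_option maxHeartbeats 1000000 in
/-- **S9270**. -/
theorem s9270 (hI : ∀ x ∈ I, IsNilpotent x)
    (hq : CAlgX.IsQuasiRegular
      (fun i => Ideal.Quotient.mk (Ideal.map (algebraMap A' B') I) (f' i)))
    (hflat : Module.Flat (A' ⧸ I)
      ((B' ⧸ Ideal.map (algebraMap A' B') I) ⧸
        Ideal.span (Set.range (fun i => Ideal.Quotient.mk (Ideal.map (algebraMap A' B') I) (f' i))))) :
    Module.Flat A' (B' ⧸ Ideal.span (Set.range f')) := by
  set J' : Ideal B' := Ideal.span (Set.range f') with hJ'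
  refine Module.flat_of_isLocalized_maximal B' (B' ⧸ J')
    (fun P _ => Localization.AtPrime P ⧸
      Submodule.localized' (Localization.AtPrime P) P.primeCompl
        (Algebra.linearMap B' (Localization.AtPrime P)) J')
    (fun P _ => Submodule.toLocalizedQuotient' (Localization.AtPrime P) P.primeCompl
        (Algebra.linearMap B' (Localization.AtPrime P)) J') ?_
  intro P hP
  have hloc : Submodule.localized' (Localization.AtPrime P) P.primeCompl
        (Algebra.linearMap B' (Localization.AtPrime P)) J' =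
      Submodule.span (Localization.AtPrime P)
        (Set.range fun i => algebraMap B' (Localization.AtPrime P) (f' i)) := by
    rw [hJ']
    change Submodule.localized' (Localization.AtPrime P) P.primeCompl
        (Algebra.linearMap B' (Localization.AtPrime P)) (Submodule.span B' (Set.range f')) = _
    rw [Submodule.localized'_span, ← Set.range_comp]
    rfl
  by_cases hfP : ∀ i, f' i ∈ P
  · have h1 := flat_local A' B' I f' hI P hfP hq hflat
    letI alg := Localization.AtPrime.algebraOfLiesOver (P.comap (algebraMap A' B')) P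
    haveI : Module.Flat (Localization.AtPrime (P.comap (algebraMap A' B')))
      (Localization.AtPrime P ⧸
        (Ideal.ofList (List.ofFn fun i => algebraMap B' (Localization.AtPrime P) (f' i)) •
          (⊤ : Submodule (Localization.AtPrime P) (Localization.AtPrime P)))) := h1
    have h2 : Module.Flat A' (Localization.AtPrime P ⧸
        (Ideal.ofList (List.ofFn fun i => algebraMap B' (Localization.AtPrime P) (f' i)) •
          (⊤ : Submodule (Localization.AtPrime P) (Localization.AtPrime P)))) :=
      Module.Flat.trans A' (Localization.AtPrime (P.comap (algebraMap A' B'))) _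
    have heq : Submodule.localized' (Localization.AtPrime P) P.primeCompl
        (Algebra.linearMap B' (Localization.AtPrime P)) J' =
        (Ideal.ofList (List.ofFn fun i => algebraMap B' (Localization.AtPrime P) (f' i)) •
          (⊤ : Submodule (Localization.AtPrime P) (Localization.AtPrime P))) := by
      rw [hloc, smul_eq_mul, Ideal.mul_top]
      change _ = Ideal.span _
      congr 1
      ext x
      simp [List.mem_ofFn']
    exact Module.Flat.of_linearEquiv ((Submodule.quotEquivOfEq _ _ heq).restrictScalars A')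
  · push Not at hfP
    obtain ⟨i, hi⟩ := hfP
    have htop : Submodule.localized' (Localization.AtPrime P) P.primeCompl
        (Algebra.linearMap B' (Localization.AtPrime P)) J' = ⊤ := by
      rw [hloc]
      have hu : IsUnit (algebraMap B' (Localization.AtPrime P) (f' i)) :=
        IsLocalization.map_units (Localization.AtPrime P) (⟨f' i, hi⟩ : P.primeCompl)
      exact (Ideal.eq_top_of_isUnit_mem _ (Submodule.subset_span ⟨i, rfl⟩) hu)
    haveI : Subsingleton (Localization.AtPrime P ⧸
        Submodule.localized' (Localization.AtPrime P) P.primeCompl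
          (Algebra.linearMap B' (Localization.AtPrime P)) J') :=
      Submodule.Quotient.subsingleton_iff.mpr htop
    infer_instance

end main

end Groth.Agent.Helper2.QRFlat
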