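import Mathlib
import Groth.Prelude
import Groth.Agent.Helper2.QRFlat
import Groth.Agent.Lead.Deform4

/-!
# Smoothness of the quotient by a sequence that is quasi-regular modulo a locally nilpotent ideal
-/

set_option autoImplicit false
universe u

namespace Groth.Agent.Helper2.QRSmooth

variable (A' B' : Type u) [CommRing A'] [CommRing B'] [Algebra A' B']
  [Module.Flat A' B'] [Algebra.FinitePresentation A' B'] (I : Ideal A') {r : ℕ} (f' : Fin r → B')

set_option maxHeartbeats 1000000 in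
/-- **S9271**. -/
theorem s9271 (hI : ∀ x ∈ I, IsNilpotent x)
    (hq : CAlgX.IsQuasiRegular
      (fun i => Ideal.Quotient.mk (Ideal.map (algebraMap A' B') I) (f' i)))
    (hsm : Algebra.Smooth (A' ⧸ I)
      ((B' ⧸ Ideal.map (algebraMap A' B') I) ⧸
        Ideal.span (Set.range (fun i => Ideal.Quotient.mk (Ideal.map (algebraMap A' B') I) (f' i))))) :
    Algebra.Smooth A' (B' ⧸ Ideal.span (Set.range f')) := by
  set K := I.map (algebraMap A' B') with hKdef
  set J' : Ideal B' := Ideal.span (Set.range f') with hJ'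
  set Jb : Ideal (B' ⧸ K) := Ideal.span (Set.range (fun i => Ideal.Quotient.mk K (f' i))) with hJb
  have hspan : Jb = J'.map (Ideal.Quotient.mk K) := by
    rw [hJb, hJ', Ideal.map_span, ← Set.range_comp]
    rfl
  haveI : Module.Flat (A' ⧸ I) ((B' ⧸ K) ⧸ Jb) := inferInstance
  have hflat : Module.Flat A' (B' ⧸ J') :=
    Groth.Agent.Helper2.QRFlat.s9270 A' B' I f' hI hq inferInstance
  have hfp : Algebra.FinitePresentation A' (B' ⧸ J') :=
    Algebra.FinitePresentation.quotient (R := A') (A := B') (I := J')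
      (Submodule.fg_span (Set.finite_range f'))
  -- the surjection `B'/J' → (B'/K)/Jb`
  let πC : (B' ⧸ J') →+* ((B' ⧸ K) ⧸ Jb) :=
    Ideal.Quotient.lift J' ((Ideal.Quotient.mk Jb).comp (Ideal.Quotient.mk K)) (by
      intro b hb
      rw [RingHom.comp_apply, Ideal.Quotient.eq_zero_iff_mem, hspan]
      exact Ideal.mem_map_of_mem _ hb)
  have hπC : Function.Surjective πC := by
    intro y
    obtain ⟨y, rfl⟩ := Ideal.Quotient.mk_surjective y
    obtain ⟨y, rfl⟩ := Ideal.Quotient.mk_surjective y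
    exact ⟨Ideal.Quotient.mk J' y, rfl⟩
  have hcomm : (algebraMap (A' ⧸ I) ((B' ⧸ K) ⧸ Jb)).comp (Ideal.Quotient.mk I) =
      πC.comp (algebraMap A' (B' ⧸ J')) := by
    ext a
    rfl
  have hnil : RingHom.ker (Ideal.Quotient.mk I) ≤ nilradical A' := by
    rw [Ideal.mk_ker]
    intro x hx
    exact hI x hx
  have hL : RingHom.ker πC = (RingHom.ker (Ideal.Quotient.mk I)).map (algebraMap A' (B' ⧸ J')) := by
    rw [Ideal.mk_ker]
    have h1 : I.map (algebraMap A' (B' ⧸ J')) = K.map (Ideal.Quotient.mk J') := by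
      rw [hKdef, Ideal.map_map]
      rfl
    rw [h1]
    ext y
    obtain ⟨b, rfl⟩ := Ideal.Quotient.mk_surjective y
    rw [RingHom.mem_ker, Ideal.mem_quotient_iff_mem_sup]
    change Ideal.Quotient.mk Jb (Ideal.Quotient.mk K b) = 0 ↔ _
    rw [Ideal.Quotient.eq_zero_iff_mem, hspan, Ideal.mem_quotient_iff_mem_sup, sup_comm]
  have hβ := Groth.Agent.Lead.Deform4.smooth_of_nil_fibre_hom (algebraMap A' (B' ⧸ J'))
    (algebraMap (A' ⧸ I) ((B' ⧸ K) ⧸ Jb)) (Ideal.Quotient.mk I) πC hcomm
    Ideal.Quotient.mk_surjective hπC hnil hL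
    (RingHom.flat_algebraMap_iff.mpr hflat)
    (RingHom.finitePresentation_algebraMap.mpr hfp)
    (RingHom.smooth_algebraMap.mpr hsm)
  exact RingHom.smooth_algebraMap.mp hβ

end Groth.Agent.Helper2.QRSmooth
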