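import Mathlib
import Groth.Prelude
import Groth.Agent.S11329
import Groth.Agent.Helper4.QcohGlue
import Groth.Agent.Helper4.QcohLimits
import Groth.Agent.Helper4.TildeExact
import Groth.Agent.Helper4.AffineDict

set_option autoImplicit false

namespace Groth.Agent.Helper2.QcInjFl

open AlgebraicGeometry CategoryTheory Opposite TopologicalSpace CategoryTheory.Limits

universe u

variable {X : Scheme.{u}}

/-- all restriction maps are surjective -/
def ResSurj (E : X.Modules) : Prop :=
  ∀ (U V : X.Opens) (h : U ≤ V), Function.Surjective (E.val.map (homOfLE h).op).hom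

theorem resSurj_tilde {R : CommRingCat.{u}} [IsNoetherianRing R] (I : ModuleCat.{u} R)
    [Injective I] : ResSurj (tilde I) := by
  intro U V h
  haveI : Module.Injective R I := Module.injective_module_of_injective_object R I
  exact Groth.Agent.S11329.result R I U V h

theorem resSurj_pushforward {Y : Scheme.{u}} (f : Y ⟶ X) (T : Y.Modules) (hT : ResSurj T) :
    ResSurj ((Scheme.Modules.pushforward f).obj T) := by
  intro U V h
  exact hT (f ⁻¹ᵁ U) (f ⁻¹ᵁ V) (f.preimage_mono h)


/-- the piece over one affine open of a Noetherian scheme -/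
theorem base {R : CommRingCat.{u}} [IsNoetherianRing R] (f : Spec R ⟶ X) [IsOpenImmersion f]
    (J : X.Modules) [J.IsQuasicoherent] :
    ∃ (E : X.Modules), E.IsQuasicoherent ∧ ResSurj E ∧ ∃ φ : J ⟶ E,
      ∀ (U : X.Opens), U ≤ f.opensRange → ∀ s : Γ(J, U), φ.app U s = 0 → s = 0 := by
  let N : (Spec R).Modules := (Scheme.Modules.restrictFunctor f).obj J
  haveI : N.IsQuasicoherent := inferInstance
  let M : ModuleCat.{u} R := (modulesSpecToSheaf.obj N).presheaf.obj (.op ⊤)
  haveI : IsIso N.fromTildeΓ := inferInstance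
  let I : ModuleCat.{u} R := Injective.under M
  let ι : M ⟶ I := Injective.ι M
  haveI : Mono ι := inferInstance
  haveI : Mono (tilde.map ι) := Groth.Agent.Helper4.TildeExact.mono_tilde_map R ι
  let ψ : N ⟶ tilde I := inv N.fromTildeΓ ≫ tilde.map ι
  haveI : Mono ψ := mono_comp _ _
  let E : X.Modules := (Scheme.Modules.pushforward f).obj (tilde I)
  let φ : J ⟶ E := (Scheme.Modules.restrictAdjunction f).unit.app J ≫
    (Scheme.Modules.pushforward f).map ψ
  haveI : QuasiCompact f := inferInstance
  haveI : QuasiSeparated f := inferInstance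
  refine ⟨E, Groth.Agent.Helper4.QcohGlue.isQuasicoherent_pushforward f (tilde I),
    resSurj_pushforward f _ (resSurj_tilde I), φ, ?_⟩
  intro U hU s hs
  have h1 : φ.app U s = ψ.app (f ⁻¹ᵁ U) (((Scheme.Modules.restrictAdjunction f).unit.app J).app U s) :=
    rfl
  have hs' : ψ.app (f ⁻¹ᵁ U) (((Scheme.Modules.restrictAdjunction f).unit.app J).app U s) =
      (0 : Γ(tilde I, f ⁻¹ᵁ U)) := h1.symm.trans hs
  have h2 : ((Scheme.Modules.restrictAdjunction f).unit.app J).app U s = 0 := by
    apply Groth.Agent.Helper4.AffineDict.app_injective_of_mono ψ (f ⁻¹ᵁ U)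
    exact hs'.trans (map_zero _).symm
  rw [Scheme.Modules.restrictAdjunction_unit_app_app] at h2
  have hle : U ≤ f ''ᵁ f ⁻¹ᵁ U := by
    rw [Scheme.Hom.image_preimage_eq_opensRange_inf]
    exact le_inf hU le_rfl
  have h3 : J.presheaf.map (homOfLE hle).op
      (J.presheaf.map (homOfLE (f.image_preimage_le U)).op s) = s := by
    rw [← ConcreteCategory.comp_apply, ← Functor.map_comp]
    have : (homOfLE (f.image_preimage_le U)).op ≫ (homOfLE hle).op = 𝟙 (op U) := rfl
    rw [this, J.presheaf.map_id]
    rfl
  calc s = J.presheaf.map (homOfLE hle).op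
        (J.presheaf.map (homOfLE (f.image_preimage_le U)).op s) := h3.symm
    _ = J.presheaf.map (homOfLE hle).op 0 :=
        congrArg (fun z => (J.presheaf.map (homOfLE hle).op) z) h2
    _ = 0 := map_zero _

end Groth.Agent.Helper2.QcInjFl
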