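import Mathlib
import Groth.Prelude
import Groth.Agent.Helper2.QcInjFl1
import Groth.Agent.Helper4.RpushQc

set_option autoImplicit false

namespace Groth.Agent.Helper2.QcInjFl

open AlgebraicGeometry CategoryTheory Opposite TopologicalSpace CategoryTheory.Limits
open scoped ZeroObject

universe u

variable {X : Scheme.{u}}

theorem res_app {M N : X.Modules} (φ : M ⟶ N) {U V : X.Opens} (h : U ≤ V) (s : Γ(M, V)) :
    N.presheaf.map (homOfLE h).op (φ.app V s) = φ.app U (M.presheaf.map (homOfLE h).op s) := by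
  have := φ.mapPresheaf.naturality (homOfLE h).op
  exact (congrArg (fun k => k s) this).symm

theorem resSurj_biprod (E₁ E₂ : X.Modules) (h₁ : ResSurj E₁) (h₂ : ResSurj E₂) :
    ResSurj (E₁ ⊞ E₂) := by
  intro U V h t
  obtain ⟨a', ha'⟩ := h₁ U V h ((biprod.fst : E₁ ⊞ E₂ ⟶ E₁).app U t)
  obtain ⟨b', hb'⟩ := h₂ U V h ((biprod.snd : E₁ ⊞ E₂ ⟶ E₂).app U t)
  refine ⟨(biprod.inl : E₁ ⟶ E₁ ⊞ E₂).app V a' + (biprod.inr : E₂ ⟶ E₁ ⊞ E₂).app V b', ?_⟩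
  show (E₁ ⊞ E₂).presheaf.map (homOfLE h).op _ = t
  have ha'' : E₁.presheaf.map (homOfLE h).op a' = (biprod.fst : E₁ ⊞ E₂ ⟶ E₁).app U t := ha'
  have hb'' : E₂.presheaf.map (homOfLE h).op b' = (biprod.snd : E₁ ⊞ E₂ ⟶ E₂).app U t := hb'
  rw [map_add, res_app, res_app, ha'', hb'']
  have htot : (biprod.fst ≫ biprod.inl + biprod.snd ≫ biprod.inr : E₁ ⊞ E₂ ⟶ E₁ ⊞ E₂) = 𝟙 _ :=
    biprod.total
  exact congrArg (fun k : E₁ ⊞ E₂ ⟶ E₁ ⊞ E₂ => k.app U t) htot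

/-- `J` embeds, over `W`, into a quasi-coherent module with surjective restriction maps. -/
def Good (J : X.Modules) (W : X.Opens) : Prop :=
  ∃ (E : X.Modules), E.IsQuasicoherent ∧ ResSurj E ∧ ∃ φ : J ⟶ E,
    ∀ (U : X.Opens), U ≤ W → ∀ s : Γ(J, U), φ.app U s = 0 → s = 0

theorem good_sup (J : X.Modules) {W₁ W₂ : X.Opens} (h₁ : Good J W₁) (h₂ : Good J W₂) :
    Good J (W₁ ⊔ W₂) := by
  obtain ⟨E₁, hq₁, hs₁, φ₁, hφ₁⟩ := h₁
  obtain ⟨E₂, hq₂, hs₂, φ₂, hφ₂⟩ := h₂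
  refine ⟨E₁ ⊞ E₂, Groth.Agent.Helper4.QcohLimits.isQuasicoherent_biprod E₁ E₂,
    resSurj_biprod E₁ E₂ hs₁ hs₂, biprod.lift φ₁ φ₂, ?_⟩
  intro U hU s hs
  have e₁ : φ₁.app U s = 0 := by
    have h : (biprod.lift φ₁ φ₂ ≫ biprod.fst : J ⟶ E₁) = φ₁ := biprod.lift_fst _ _
    have h' : (biprod.fst : E₁ ⊞ E₂ ⟶ E₁).app U ((biprod.lift φ₁ φ₂).app U s) = φ₁.app U s :=
      congrArg (fun k : J ⟶ E₁ => k.app U s) h
    rw [← h', hs, map_zero]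
  have e₂ : φ₂.app U s = 0 := by
    have h : (biprod.lift φ₁ φ₂ ≫ biprod.snd : J ⟶ E₂) = φ₂ := biprod.lift_snd _ _
    have h' : (biprod.snd : E₁ ⊞ E₂ ⟶ E₂).app U ((biprod.lift φ₁ φ₂).app U s) = φ₂.app U s :=
      congrArg (fun k : J ⟶ E₂ => k.app U s) h
    rw [← h', hs, map_zero]
  have r₁ : J.presheaf.map (homOfLE (inf_le_left : U ⊓ W₁ ≤ U)).op s = 0 := by
    apply hφ₁ _ inf_le_right
    rw [← res_app, e₁, map_zero]
  have r₂ : J.presheaf.map (homOfLE (inf_le_left : U ⊓ W₂ ≤ U)).op s = 0 := by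
    apply hφ₂ _ inf_le_right
    rw [← res_app, e₂, map_zero]
  refine TopCat.Sheaf.eq_of_locally_eq₂ (⟨J.presheaf, J.isSheaf⟩ : TopCat.Sheaf Ab X)
    (homOfLE (inf_le_left : U ⊓ W₁ ≤ U)) (homOfLE (inf_le_left : U ⊓ W₂ ≤ U)) ?_ s 0 ?_ ?_
  · rw [← inf_sup_left]
    exact le_inf le_rfl hU
  · exact r₁.trans (map_zero _).symm
  · exact r₂.trans (map_zero _).symm

theorem good_bot (J : X.Modules) : Good J ⊥ := by
  have hz : IsZero (0 : X.Modules) := isZero_zero _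
  refine ⟨0, Groth.Agent.Helper4.RpushQc.isQuasicoherent_of_isZero hz, ?_, 0, ?_⟩
  · intro U V h t
    refine ⟨0, ?_⟩
    have h1 : (𝟙 (0 : X.Modules)) = 0 := hz.eq_of_src _ _
    have h2 : Scheme.Modules.Hom.app (𝟙 (0 : X.Modules)) U t =
        Scheme.Modules.Hom.app (0 : (0 : X.Modules) ⟶ 0) U t := by rw [h1]
    have h3 : t = 0 := h2
    rw [h3]
    exact map_zero _
  · intro U hU s _
    refine TopCat.Sheaf.eq_of_locally_eq' (⟨J.presheaf, J.isSheaf⟩ : TopCat.Sheaf Ab X)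
      (fun i : PEmpty.{1} => i.elim) U (fun i => i.elim) ?_ s 0 (fun i => i.elim)
    exact hU.trans bot_le

end Groth.Agent.Helper2.QcInjFl
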