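import Mathlib
import Groth.Prelude
import Groth.Agent.Helper2.QcInjFl2

set_option autoImplicit false

namespace Groth.Agent.Helper2.QcInjFl

open AlgebraicGeometry CategoryTheory Opposite TopologicalSpace CategoryTheory.Limits
open scoped ZeroObject

universe u

variable {X : Scheme.{u}}

theorem good_mono (J : X.Modules) {W₁ W₂ : X.Opens} (h : W₁ ≤ W₂) (h₂ : Good J W₂) : Good J W₁ := by
  obtain ⟨E, hq, hs, φ, hφ⟩ := h₂
  exact ⟨E, hq, hs, φ, fun U hU s hs' => hφ U (hU.trans h) s hs'⟩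

theorem good_top [IsNoetherian X] (J : X.Modules) [J.IsQuasicoherent] : Good J ⊤ := by
  classical
  let 𝒰 := X.affineOpenCover
  have hcov : (⨆ i, (𝒰.f i).opensRange) = ⊤ := 𝒰.openCover.iSup_opensRange
  have key : ∀ t : Finset 𝒰.I₀, Good J (⨆ i ∈ t, (𝒰.f i).opensRange) := by
    intro t
    induction t using Finset.induction_on with
    | empty =>
      simp only [Finset.notMem_empty, iSup_false, iSup_bot]
      exact good_bot J
    | insert a s ha ih =>
      rw [Finset.iSup_insert]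
      refine good_sup J ?_ ih
      haveI : IsLocallyNoetherian (Spec (𝒰.X a)) :=
        inferInstanceAs (IsLocallyNoetherian (𝒰.openCover.X a))
      haveI : IsNoetherianRing (𝒰.X a) := isLocallyNoetherian_Spec.mp inferInstance
      exact base (𝒰.f a) J
  have hc : IsCompact (Set.univ : Set X) := isCompact_univ
  obtain ⟨t, ht⟩ := hc.elim_finite_subcover (fun i => ((𝒰.f i).opensRange : Set X))
    (fun i => (𝒰.f i).opensRange.isOpen) (by
      intro x _
      have : x ∈ (⨆ i, (𝒰.f i).opensRange : X.Opens) := by rw [hcov]; trivial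
      rw [Opens.mem_iSup] at this
      obtain ⟨i, hi⟩ := this
      exact Set.mem_iUnion.mpr ⟨i, hi⟩)
  refine good_mono J ?_ (key t)
  intro x _
  have hx := ht (Set.mem_univ x)
  simp only [Set.mem_iUnion] at hx
  obtain ⟨i, hi, hxi⟩ := hx
  have : x ∈ (⨆ i ∈ t, (𝒰.f i).opensRange : X.Opens) := by
    rw [Opens.mem_iSup]
    refine ⟨i, ?_⟩
    rw [Opens.mem_iSup]
    exact ⟨hi, hxi⟩
  exact this


theorem mono_of_good {J E : X.Modules} (φ : J ⟶ E)
    (hφ : ∀ (U : X.Opens), U ≤ ⊤ → ∀ s : Γ(J, U), φ.app U s = 0 → s = 0) : Mono φ := by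
  refine Preadditive.mono_of_cancel_zero _ ?_
  intro Z g hg
  ext U x
  have h1 : φ.app U (g.app U x) = 0 := congrArg (fun k : Z ⟶ E => k.app U x) hg
  exact hφ U le_top _ h1

theorem main (X : Scheme.{u}) [IsNoetherian X]
    (J : ObjectProperty.FullSubcategory (fun M : X.Modules => Coh.IsQCoh M)) (hJ : Injective J)
    (U V : X.Opens) (hUV : U ≤ V) :
    Function.Surjective (J.obj.val.map (homOfLE hUV).op).hom := by
  haveI : J.obj.IsQuasicoherent := J.property
  obtain ⟨E, hq, hs, φ, hφ⟩ := good_top J.obj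
  haveI : Mono φ := mono_of_good φ hφ
  let E' : ObjectProperty.FullSubcategory (fun M : X.Modules => Coh.IsQCoh M) := ⟨E, hq⟩
  let φ' : J ⟶ E' := ObjectProperty.homMk φ
  haveI : Mono φ' := by
    refine ⟨fun {Z} g h hgh => ?_⟩
    apply ObjectProperty.hom_ext
    have h1 : g.hom ≫ φ = h.hom ≫ φ := congrArg (fun k : Z ⟶ E' => k.hom) hgh
    exact (cancel_mono φ).mp h1
  let r' : E' ⟶ J := Injective.factorThru (𝟙 J) φ'
  have hr : φ' ≫ r' = 𝟙 J := Injective.comp_factorThru _ _
  have hr2 : φ ≫ r'.hom = 𝟙 J.obj := congrArg (fun k : J ⟶ J => k.hom) hr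
  intro s
  obtain ⟨t, ht⟩ := hs U V hUV (φ.app U s)
  refine ⟨r'.hom.app V t, ?_⟩
  show J.obj.presheaf.map (homOfLE hUV).op (r'.hom.app V t) = s
  have ht' : E.presheaf.map (homOfLE hUV).op t = φ.app U s := ht
  rw [res_app, ht']
  exact congrArg (fun k : J.obj ⟶ J.obj => k.app U s) hr2

end Groth.Agent.Helper2.QcInjFl
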