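import Mathlib
open CategoryTheory CategoryTheory.Limits AlgebraicGeometry
universe u

namespace Groth.Agent.Helper2.QcSurj

theorem qc_of_comp_surj {X Y Z : Scheme.{u}} (f : X ⟶ Y) (g : Y ⟶ Z) [Surjective f]
    [QuasiCompact (f ≫ g)] : QuasiCompact g := by
  rw [quasiCompact_iff_forall_isAffineOpen]
  intro U hU
  have h := (f ≫ g).isCompact_preimage hU.isCompact
  have : (g ⁻¹ᵁ U : Set Y) = f '' ((f ≫ g) ⁻¹ᵁ U : Set X) := by
    ext y
    constructor
    · intro hy
      obtain ⟨x, rfl⟩ := f.surjective y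
      exact ⟨x, by simpa using hy, rfl⟩
    · rintro ⟨x, hx, rfl⟩
      simpa using hx
  rw [this]
  exact h.image f.continuous

end Groth.Agent.Helper2.QcSurj
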