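import Groth.Agent.Helper2.VeryDense

set_option autoImplicit false
universe u v

namespace Groth.Agent.Helper2

variable {A : Type u} {B : Type v} [TopologicalSpace A] [TopologicalSpace B]

/-- Set-level quasi-homeomorphism: preimage is injective and surjective on open sets. -/
def QH (g : A → B) : Prop :=
  (∀ U₁ U₂ : Set B, IsOpen U₁ → IsOpen U₂ → g ⁻¹' U₁ = g ⁻¹' U₂ → U₁ = U₂) ∧
    (∀ V : Set A, IsOpen V → ∃ U : Set B, IsOpen U ∧ g ⁻¹' U = V)

theorem QH.subset_of_preimage_subset {g : A → B} (hg : QH g) {U U' : Set B} (hU : IsOpen U)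
    (hU' : IsOpen U') (h : g ⁻¹' U ⊆ g ⁻¹' U') : U ⊆ U' := by
  have : g ⁻¹' (U ∪ U') = g ⁻¹' U' := by
    rw [Set.preimage_union]; exact Set.union_eq_self_of_subset_left h
  have := hg.1 _ _ (hU.union hU') hU' this
  rw [← this]
  exact Set.subset_union_left

theorem QH.isCompact_preimage_iff {g : A → B} (hg : QH g) (hgc : Continuous g) {K : Set B}
    (hK : IsOpen K) : IsCompact K ↔ IsCompact (g ⁻¹' K) := by
  constructor
  · intro hc
    rw [isCompact_iff_finite_subcover]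
    intro ι V hV hcov
    have hex : ∀ i, ∃ U : Set B, IsOpen U ∧ g ⁻¹' U = V i := fun i => hg.2 (V i) (hV i)
    choose U hUo hUe using hex
    have h1 : g ⁻¹' K ⊆ g ⁻¹' (⋃ i, U i) := by
      rw [Set.preimage_iUnion]; simpa only [hUe] using hcov
    have h2 : K ⊆ ⋃ i, U i := hg.subset_of_preimage_subset hK (isOpen_iUnion hUo) h1
    obtain ⟨t, ht⟩ := hc.elim_finite_subcover U hUo h2
    refine ⟨t, ?_⟩
    have := Set.preimage_mono (f := g) ht
    rw [Set.preimage_iUnion₂] at this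
    simpa only [hUe] using this
  · intro hc
    rw [isCompact_iff_finite_subcover]
    intro ι U hU hcov
    have h1 : g ⁻¹' K ⊆ ⋃ i, g ⁻¹' (U i) := by
      rw [← Set.preimage_iUnion]; exact Set.preimage_mono hcov
    obtain ⟨t, ht⟩ := hc.elim_finite_subcover (fun i => g ⁻¹' (U i))
      (fun i => (hU i).preimage hgc) h1
    refine ⟨t, ?_⟩
    apply hg.subset_of_preimage_subset hK (isOpen_biUnion fun i _ => hU i)
    rw [Set.preimage_iUnion₂]
    exact ht

theorem QH.noetherianSpace_iff {g : A → B} (hg : QH g) (hgc : Continuous g) :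
    TopologicalSpace.NoetherianSpace B ↔ TopologicalSpace.NoetherianSpace A := by
  rw [TopologicalSpace.noetherianSpace_iff_opens, TopologicalSpace.noetherianSpace_iff_opens]
  constructor
  · intro h V
    obtain ⟨U, hU, hUe⟩ := hg.2 V V.isOpen
    rw [← hUe, ← hg.isCompact_preimage_iff hgc hU]
    exact h ⟨U, hU⟩
  · intro h U
    rw [hg.isCompact_preimage_iff hgc U.isOpen]
    exact h ⟨g ⁻¹' U, U.isOpen.preimage hgc⟩

/-- Restriction of a quasi-homeomorphism over a locally quasi-constructible subset. -/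
theorem QH.restrictPreimage {g : A → B} (hg : QH g) {Y' : Set B} (hY' : LQC Y') :
    QH (Y'.restrictPreimage g) := by
  obtain ⟨hinj, hsurj⟩ := hg
  constructor
  · intro U₁ U₂ hU₁ hU₂ e
    rw [isOpen_induced_iff] at hU₁ hU₂
    obtain ⟨O₁, hO₁, rfl⟩ := hU₁
    obtain ⟨O₂, hO₂, rfl⟩ := hU₂
    have e' : g ⁻¹' (O₁ ∩ Y') = g ⁻¹' (O₂ ∩ Y') := by
      ext a
      constructor
      · rintro ⟨h1, h2⟩
        have : (⟨a, h2⟩ : ↥(g ⁻¹' Y')) ∈ (Y'.restrictPreimage g) ⁻¹' (Subtype.val ⁻¹' O₁) := h1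
        rw [e] at this
        exact ⟨this, h2⟩
      · rintro ⟨h1, h2⟩
        have : (⟨a, h2⟩ : ↥(g ⁻¹' Y')) ∈ (Y'.restrictPreimage g) ⁻¹' (Subtype.val ⁻¹' O₂) := h1
        rw [← e] at this
        exact ⟨this, h2⟩
    have key := LQC.eq_of_preimage_eq g hinj (hY'.open_inter hO₁) (hY'.open_inter hO₂) e'
    ext ⟨y, hy⟩
    constructor
    · intro h1
      have : y ∈ O₁ ∩ Y' := ⟨h1, hy⟩
      rw [key] at this
      exact this.1
    · intro h1
      have : y ∈ O₂ ∩ Y' := ⟨h1, hy⟩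
      rw [← key] at this
      exact this.1
  · intro V hV
    rw [isOpen_induced_iff] at hV
    obtain ⟨V₀, hV₀, rfl⟩ := hV
    obtain ⟨O, hO, rfl⟩ := hsurj V₀ hV₀
    exact ⟨Subtype.val ⁻¹' O, hO.preimage continuous_subtype_val, rfl⟩

/-- Bijectivity on `Opens` gives the set-level form. -/
theorem QH.of_bijective {g : A → B} (hgc : Continuous g)
    (hq : Function.Bijective (fun U : TopologicalSpace.Opens B =>
      (⟨g ⁻¹' (U : Set B), U.isOpen.preimage hgc⟩ : TopologicalSpace.Opens A))) : QH g := by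
  constructor
  · intro U₁ U₂ h₁ h₂ e
    have := @hq.1 ⟨U₁, h₁⟩ ⟨U₂, h₂⟩ (TopologicalSpace.Opens.ext e)
    exact congrArg (fun W : TopologicalSpace.Opens B => (W : Set B)) this
  · intro V hV
    obtain ⟨U, hU⟩ := hq.2 ⟨V, hV⟩
    exact ⟨U, U.isOpen, congrArg (fun W : TopologicalSpace.Opens A => (W : Set A)) hU⟩

end Groth.Agent.Helper2
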