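import Mathlib
open CategoryTheory Limits Opposite
universe w v₁ u₁

namespace Groth.Agent.Helper2.ShfEpi

variable {C : Type u₁} [Category.{v₁} C] (J : GrothendieckTopology C)

/-- Sectionwise pullback square from a pullback square of sheaves of types. -/
lemma isPullback_app {X Y X' Y' : Sheaf J (Type w)} {f : X ⟶ Y} {f' : X' ⟶ Y'} {i₁ : X' ⟶ X}
    {i₂ : Y' ⟶ Y} (h : IsPullback f' i₁ i₂ f) (V : Cᵒᵖ) :
    IsPullback (f'.hom.app V) (i₁.hom.app V) (i₂.hom.app V) (f.hom.app V) :=
  h.map (sheafToPresheaf J (Type w) ⋙ (evaluation _ _).obj V)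

/-- Epimorphisms of sheaves of types are stable under base change. -/
lemma epi_of_isPullback [HasSheafify J (Type w)]
    {X Y X' Y' : Sheaf J (Type w)} {f : X ⟶ Y} {f' : X' ⟶ Y'} {i₁ : X' ⟶ X} {i₂ : Y' ⟶ Y}
    (h : IsPullback f' i₁ i₂ f) [Epi f] : Epi f' := by
  have hf : Sheaf.IsLocallySurjective f := (Sheaf.isLocallySurjective_iff_epi f).mpr inferInstance
  rw [← Sheaf.isLocallySurjective_iff_epi]
  constructor
  intro U t
  have hy := Presheaf.imageSieve_mem J f.hom (i₂.hom.app (op U) t)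
  refine J.superset_covering ?_ hy
  intro V g hg
  obtain ⟨x, hx⟩ := hg
  have hV := isPullback_app J h (op V)
  obtain ⟨x', hx'1, hx'2⟩ := Types.exists_of_isPullback hV (Y'.obj.map g.op t) x (by
    rw [hx]
    exact (NatTrans.naturality_apply i₂.hom g.op t))
  exact ⟨x', hx'1⟩

end Groth.Agent.Helper2.ShfEpi
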