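import Mathlib
import Groth.Agent.S5217
import Groth.Agent.Helper9.RepEpi
import Groth.Agent.Helper2.MaxOpenFpqc

set_option autoImplicit false
universe u
open CategoryTheory CategoryTheory.Limits AlgebraicGeometry Opposite

namespace Groth.Agent.Helper2.QuotIff

variable (K : Precoverage Scheme.{u}) {S : Scheme.{u}}

/-- `V ↦ h_V` as a functor -/
noncomputable def Fun : Over S ⥤ QuotSh.Sh K S :=
  CategoryTheory.uliftYoneda.{u + 1} ⋙ presheafToSheaf (QuotSh.J K S) (Type (u + 1))

lemma Fun_obj (V : Over S) : (Fun K).obj V = QuotSh.rep K V := rfl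

lemma Fun_map {V W : Over S} (g : V ⟶ W) : (Fun K).map g = QuotSh.repMap K g := rfl

instance : PreservesFiniteLimits (Fun K (S := S)) := by
  unfold Fun
  infer_instance

noncomputable def FunIso [(QuotSh.J K S).Subcanonical] :
    Fun K (S := S) ≅ (QuotSh.J K S).uliftYoneda.{u + 1} :=
  Functor.isoWhiskerRight (GrothendieckTopology.uliftYonedaCompSheafToPresheaf.{u + 1} (QuotSh.J K S)).symm _ ≪≫
    Functor.associator _ _ _ ≪≫
    Functor.isoWhiskerLeft _ (sheafificationNatIso (QuotSh.J K S) (Type (u + 1))).symm ≪≫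
    Functor.rightUnitor _

instance [(QuotSh.J K S).Subcanonical] : (Fun K (S := S)).Full :=
  Functor.Full.of_iso (FunIso K).symm

instance [(QuotSh.J K S).Subcanonical] : (Fun K (S := S)).Faithful :=
  Functor.Faithful.of_iso (FunIso K).symm


section Sheaf
variable {K}
variable [(QuotSh.J K S).Subcanonical] {R U Y : Over S} {s t : R ⟶ U} {q : U ⟶ Y}

lemma isQuotient_of_kernelPair (hkp : IsKernelPair q s t) (hepi : Epi (QuotSh.repMap K q)) :
    QuotSh.IsQuotient K s t q := by
  have w : s ≫ q = t ≫ q := hkp.w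
  refine ⟨w, ?_⟩
  have hkp' : IsKernelPair ((Fun K).map q) ((Fun K).map s) ((Fun K).map t) := hkp.map (Fun K)
  haveI : Epi ((Fun K).map q) := hepi
  haveI : IsRegularEpi ((Fun K).map q) := IsRegularEpiCategory.regularEpiOfEpi _
  have hcol : IsColimit (Cofork.ofπ ((Fun K).map q) hkp'.w) := hkp'.toCoequalizer'
  let inv : QuotSh.rep K Y ⟶ QuotSh.quot K s t :=
    Cofork.IsColimit.desc hcol (QuotSh.quotπ K s t) (QuotSh.quot_condition K s t)
  have h1 : QuotSh.repMap K q ≫ inv = QuotSh.quotπ K s t :=
    Cofork.IsColimit.π_desc' hcol _ _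
  have h2 : QuotSh.quotπ K s t ≫ QuotSh.quotDesc K q w = QuotSh.repMap K q :=
    coequalizer.π_desc _ _
  refine ⟨inv, ?_, ?_⟩
  · apply coequalizer.hom_ext
    change QuotSh.quotπ K s t ≫ _ = QuotSh.quotπ K s t ≫ _
    rw [← Category.assoc, h2, h1, Category.comp_id]
  · apply Cofork.IsColimit.hom_ext hcol
    change QuotSh.repMap K q ≫ _ = QuotSh.repMap K q ≫ _
    rw [← Category.assoc, h1, h2, Category.comp_id]

lemma jointlyMono_map (h : JointlyMono₂ s t) : JointlyMono₂ ((Fun K).map s) ((Fun K).map t) := by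
  haveI : Mono (prod.lift s t) := by
    constructor
    intro Z a b hab
    apply h.right_cancellation
    · rw [← prod.lift_fst s t, ← Category.assoc, hab, Category.assoc]
    · rw [← prod.lift_snd s t, ← Category.assoc, hab, Category.assoc]
  haveI : Mono ((Fun K).map (prod.lift s t)) := inferInstance
  have e : (Fun K).map (prod.lift s t) ≫ prodComparison (Fun K) U U =
      prod.lift ((Fun K).map s) ((Fun K).map t) := by
    apply Limits.prod.hom_ext
    · rw [Category.assoc, prodComparison_fst, ← Functor.map_comp, prod.lift_fst, prod.lift_fst]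
    · rw [Category.assoc, prodComparison_snd, ← Functor.map_comp, prod.lift_snd, prod.lift_snd]
  haveI : Mono (prod.lift ((Fun K).map s) ((Fun K).map t)) := by
    rw [← e]; infer_instance
  constructor
  intro Z a b h1 h2
  rw [← cancel_mono (prod.lift ((Fun K).map s) ((Fun K).map t))]
  apply Limits.prod.hom_ext
  · rw [Category.assoc, Category.assoc, prod.lift_fst, h1]
  · rw [Category.assoc, Category.assoc, prod.lift_snd, h2]

lemma kernelPair_of_isQuotient [IsEquivalenceRelation s t] (h : QuotSh.IsQuotient K s t q) :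
    IsKernelPair q s t ∧ Epi (QuotSh.repMap K q) := by
  obtain ⟨w, hiso⟩ := h
  have h2 : QuotSh.quotπ K s t ≫ QuotSh.quotDesc K q w = QuotSh.repMap K q :=
    coequalizer.π_desc _ _
  have hepi : Epi (QuotSh.repMap K q) := by
    rw [← h2]
    haveI : Epi (QuotSh.quotπ K s t) := by
      unfold QuotSh.quotπ
      exact coequalizer.π_epi
    infer_instance
  refine ⟨?_, hepi⟩
  obtain ⟨e⟩ := (inferInstance : IsEquivalenceRelation s t).nonempty_equivalenceRelation
  haveI := jointlyMono_map (K := K) e.toJointlyMono₂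
  haveI : IsEquivalenceRelation (QuotSh.repMap K s) (QuotSh.repMap K t) :=
    EquivalenceRelation.isEquivalenceRelation (p₁ := (Fun K).map s) (p₂ := (Fun K).map t)
      { toReflexiveRelation := e.toReflexiveRelation.map (Fun K)
        s := (e.toSymmetricRelation.map (Fun K)).s
        symmetry₁ := (e.toSymmetricRelation.map (Fun K)).symmetry₁
        symmetry₂ := (e.toSymmetricRelation.map (Fun K)).symmetry₂
        c := (e.toTransitiveRelation.map (Fun K)).c
        isLimit := (e.toTransitiveRelation.map (Fun K)).isLimit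
        t := (e.toTransitiveRelation.map (Fun K)).t
        transitivity₁ := (e.toTransitiveRelation.map (Fun K)).transitivity₁
        transitivity₂ := (e.toTransitiveRelation.map (Fun K)).transitivity₂ }
  obtain ⟨⟨E⟩⟩ := Groth.Agent.S5217.result (QuotSh.J K S) (QuotSh.repMap K s) (QuotSh.repMap K t)
  -- `E.π` is a coequalizer
  haveI : Epi E.π := by
    have := E.universally_effectiveEpi_π _ _ _ (IsPullback.of_id_snd (f := E.π))
    haveI : EffectiveEpi E.π := this
    infer_instance
  haveI : IsRegularEpi E.π := IsRegularEpiCategory.regularEpiOfEpi _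
  have hcol : IsColimit (Cofork.ofπ E.π E.isKernelPair.w) := E.isKernelPair.toCoequalizer'
  let j : E.B ⟶ QuotSh.rep K Y :=
    Cofork.IsColimit.desc hcol (QuotSh.repMap K q) (by
      change (Fun K).map s ≫ (Fun K).map q = (Fun K).map t ≫ (Fun K).map q
      rw [← Functor.map_comp, ← Functor.map_comp, w])
  have hj : E.π ≫ j = QuotSh.repMap K q := Cofork.IsColimit.π_desc' hcol _ _
  -- `j` is an isomorphism: compare with the coequalizer
  let c : E.B ⟶ QuotSh.quot K s t :=
    Cofork.IsColimit.desc hcol (QuotSh.quotπ K s t) (QuotSh.quot_condition K s t)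
  have hc : E.π ≫ c = QuotSh.quotπ K s t := Cofork.IsColimit.π_desc' hcol _ _
  let c' : QuotSh.quot K s t ⟶ E.B := coequalizer.desc E.π E.isKernelPair.w
  have hc' : QuotSh.quotπ K s t ≫ c' = E.π := coequalizer.π_desc _ _
  have hcc' : c ≫ c' = 𝟙 _ := by
    apply Cofork.IsColimit.hom_ext hcol
    change E.π ≫ _ = E.π ≫ _
    rw [← Category.assoc, hc, hc', Category.comp_id]
  have hjc : j = c ≫ QuotSh.quotDesc K q w := by
    apply Cofork.IsColimit.hom_ext hcol
    change E.π ≫ _ = E.π ≫ _
    rw [hj, ← Category.assoc, hc, h2]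
  haveI : Mono c := mono_of_mono_fac hcc'
  haveI : Mono j := by
    rw [hjc]; infer_instance
  have hkp' : IsKernelPair ((Fun K).map q) ((Fun K).map s) ((Fun K).map t) := by
    have := E.isKernelPair.comp_of_mono (f₂ := j)
    rwa [hj] at this
  exact IsPullback.of_map (Fun K) w hkp'

end Sheaf


section Cover
open Groth.Agent.Helper2 Groth.Agent.Helper2.MaxOpen Groth.Agent.Helper2.MaxOpenTgt
  Groth.Agent.Helper2.MaxOpenFpqc

lemma flat_codescends : RingHom.CodescendsAlong RingHom.Flat RingHom.FaithfullyFlat := by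
  refine .mk _ RingHom.Flat.respectsIso fun R S T _ _ _ _ _ h h' ↦ ?_
  rw [RingHom.flat_algebraMap_iff] at h' ⊢
  rw [RingHom.faithfullyFlat_algebraMap_iff] at h
  exact Module.Flat.of_flat_tensorProduct R T S

instance flat_descends : MorphismProperty.DescendsAlong @Flat (@Surjective ⊓ @Flat ⊓ @QuasiCompact) :=
  HasRingHomProperty.descendsAlong_flat flat_codescends

/-- a property satisfying fppf descent can be checked on an fppf covering family -/
lemma of_cover (P : MorphismProperty Scheme.{u}) [P.IsStableUnderBaseChange]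
    [IsZariskiLocalAtTarget P]
    [P.DescendsAlong (@Surjective ⊓ @Flat ⊓ @LocallyOfFinitePresentation)] {X Y : Scheme.{u}}
    (f : X ⟶ Y) (R : Presieve Y) (hR : R ∈ Scheme.fppfPrecoverage Y)
    (h : ∀ {U : Scheme.{u}} (g : U ⟶ Y), R g → P (pullback.snd f g)) : P f := by
  obtain ⟨𝒰, rfl⟩ := R.exists_eq_preZeroHypercover
  change _ ∈ Scheme.precoverage (@Flat ⊓ @LocallyOfFinitePresentation) Y at hR
  rw [Scheme.ofArrows_mem_precoverage_iff] at hR
  obtain ⟨hsurj, hQ⟩ := hR
  choose i hi using hsurj
  have hopen : ∀ y : Y, IsOpen (Set.range (𝒰.f (i y))) := fun y => by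
    haveI : Flat (𝒰.f (i y)) := (hQ (i y)).1
    haveI : LocallyOfFinitePresentation (𝒰.f (i y)) := (hQ (i y)).2
    exact (𝒰.f (i y)).isOpenMap.isOpen_range
  let V : Y → Y.Opens := fun y => ⟨Set.range (𝒰.f (i y)), hopen y⟩
  refine IsZariskiLocalAtTarget.of_iSup_eq_top V ?_ ?_
  · rw [eq_top_iff]
    intro y _
    exact TopologicalSpace.Opens.mem_iSup.mpr ⟨y, hi y⟩
  · intro y
    set g := 𝒰.f (i y) with hg
    haveI : Flat g := (hQ (i y)).1
    haveI : LocallyOfFinitePresentation g := (hQ (i y)).2
    have e : (⊤ : (𝒰.X (i y)).Opens) ≤ g ⁻¹ᵁ V y := fun u _ => ⟨u, rfl⟩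
    have hs : Function.Surjective (g.resLE (V y) ⊤ e) :=
      resLE_surjective g ⊤ (V y) e (by rintro _ ⟨u, rfl⟩; exact ⟨u, trivial, rfl⟩)
    have hQ' : (@Surjective ⊓ @Flat ⊓ @LocallyOfFinitePresentation : MorphismProperty Scheme.{u})
        (g.resLE (V y) ⊤ e) := ⟨⟨⟨hs⟩, inferInstance⟩, inferInstance⟩
    have sq : IsPullback (pullback.fst f g) (pullback.snd f g) f g := IsPullback.of_hasPullback _ _
    have h1 : P (pullback.snd f g ∣_ ⊤) := (restrict_top_iff _).mpr (h g ⟨i y⟩)
    have h2 := (restrict_iff (P := P) sq (V y) ⊤ e).mp h1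
    exact MorphismProperty.DescendsAlong.of_isPullback
      (IsPullback.of_hasPullback (f ∣_ V y) (g.resLE (V y) ⊤ e)).flip hQ' h2

set_option backward.isDefEq.respectTransparency.types false in
instance fppfHasIsos' : Precoverage.HasIsos Scheme.fppfPrecoverage.{u} := by
  unfold Scheme.fppfPrecoverage
  have : (@Flat ⊓ @LocallyOfFinitePresentation : MorphismProperty Scheme.{u}).ContainsIdentities :=
    ⟨fun X => ⟨inferInstance, inferInstance⟩⟩
  infer_instance

variable {K} [K.IsStableUnderComposition] [K.IsStableUnderBaseChange] [K.HasPullbacks] [K.HasIsos]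
variable {R U Y : Over S} {s t : R ⟶ U} {q : U ⟶ Y}

lemma epi_of_singleton_mem
    (h : ∀ (T : Over S) (w : T ⟶ Y), Presieve.singleton (pullback.fst w.left q.left) ∈ K T.left) :
    Epi (QuotSh.repMap K q) := by
  rw [Groth.Agent.Helper9.RepEpi.epi_repMap_iff]
  intro T w
  refine ⟨_, h T w, ?_⟩
  rintro _ _ ⟨⟩
  exact ⟨pullback.snd w.left q.left, pullback.condition.symm⟩

lemma prop_of_epi (hK : K ≤ Scheme.fppfPrecoverage) (P : MorphismProperty Scheme.{u})
    [P.IsStableUnderBaseChange] [IsZariskiLocalAtTarget P]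
    [P.DescendsAlong (@Surjective ⊓ @Flat ⊓ @LocallyOfFinitePresentation)]
    (hkp : IsKernelPair q s t) (hepi : Epi (QuotSh.repMap K q)) (hs : P s.left) : P q.left := by
  rw [Groth.Agent.Helper9.RepEpi.epi_repMap_iff] at hepi
  obtain ⟨R', hR', hlift⟩ := hepi Y (𝟙 Y)
  refine of_cover P q.left R' (hK _ hR') ?_
  intro U' g hg
  obtain ⟨v, hv⟩ := hlift g hg
  have hv' : v ≫ q.left = g := by
    rw [hv]; exact Category.comp_id _
  have hkpS : IsPullback t.left s.left q.left q.left := (hkp.map (Over.forget S)).flip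
  have sqv : IsPullback (pullback.fst s.left v) (pullback.snd s.left v) s.left v :=
    IsPullback.of_hasPullback _ _
  have sq := sqv.paste_horiz hkpS
  rw [hv'] at sq
  have h1 : P (pullback.snd s.left v) := P.pullback_snd _ _ hs
  have := sq.isoPullback_hom_snd
  rw [← this, P.cancel_left_of_respectsIso] at h1
  exact h1

end Cover

end Groth.Agent.Helper2.QuotIff

namespace Groth.Agent.Helper2.QuotIffEt
open Groth.Agent.Helper2.QuotIff

lemma etale_le_fppf : Scheme.etalePrecoverage.{u} ≤ Scheme.fppfPrecoverage := by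
  unfold Scheme.etalePrecoverage Scheme.fppfPrecoverage
  exact Scheme.precoverage_mono fun _ _ f hf => by
    haveI : Etale f := hf
    exact ⟨inferInstance, inferInstance⟩

instance etaleSubcanonical (S : Scheme.{u}) :
    (QuotSh.J Scheme.etalePrecoverage.{u} S).Subcanonical := by
  haveI : (Scheme.etalePrecoverage.{u}).toGrothendieck.Subcanonical :=
    .of_le (K := Scheme.fppfTopology) (Precoverage.toGrothendieck_mono etale_le_fppf)
  exact GrothendieckTopology.subcanonical_over _ S

instance : Precoverage.HasIsos Scheme.etalePrecoverage.{u} := by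
  unfold Scheme.etalePrecoverage
  infer_instance

instance : Precoverage.IsStableUnderComposition Scheme.etalePrecoverage.{u} := by
  unfold Scheme.etalePrecoverage
  infer_instance

instance : Precoverage.IsStableUnderBaseChange Scheme.etalePrecoverage.{u} := by
  unfold Scheme.etalePrecoverage
  infer_instance

instance : Precoverage.HasPullbacks Scheme.etalePrecoverage.{u} := by
  unfold Scheme.etalePrecoverage
  infer_instance

end Groth.Agent.Helper2.QuotIffEt
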