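import Mathlib
import Groth.Agent.Helper2.QuotIff

set_option autoImplicit false
universe u
open CategoryTheory CategoryTheory.Limits AlgebraicGeometry Opposite

namespace Groth.Agent.Helper2.QuotEpi
open Groth.Agent.Helper2.QuotIff

/-- precomposing a parallel pair with an epimorphism does not change the coequalizer -/
noncomputable def isColimit_of_epi_comp {C : Type*} [Category C] {A B X Y : C} (e : A ⟶ B) [Epi e]
    {p₁ p₂ : B ⟶ X} {π : X ⟶ Y} (w : p₁ ≫ π = p₂ ≫ π) (h : IsColimit (Cofork.ofπ π w)) :
    IsColimit (Cofork.ofπ π (show (e ≫ p₁) ≫ π = (e ≫ p₂) ≫ π by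
      rw [Category.assoc, Category.assoc, w])) := by
  refine Cofork.IsColimit.mk _ (fun c => Cofork.IsColimit.desc h c.π ?_) ?_ ?_
  · rw [← cancel_epi e, ← Category.assoc, ← Category.assoc]
    exact c.condition
  · intro c
    exact Cofork.IsColimit.π_desc' h _ _
  · intro c m hm
    apply Cofork.IsColimit.hom_ext h
    rw [Cofork.IsColimit.π_desc' h]
    exact hm

end Groth.Agent.Helper2.QuotEpi
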