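import Mathlib
import Groth.Prelude

set_option autoImplicit false
open Function
universe u

namespace Groth.Agent.Helper2.QuotLoc

/-- flatness of the localization of `R / k` versus flatness of `R_q / k`. -/
theorem flat_localizedModule_quot_iff {A R Rq : Type u} [CommRing A] [CommRing R] [CommRing Rq]
    [Algebra A R] [Algebra R Rq] [Algebra A Rq] [IsScalarTower A R Rq]
    (q : Ideal R) [q.IsPrime] [IsLocalization.AtPrime Rq q] (k : R) :
    Module.Flat A (LocalizedModule q.primeCompl (R ⧸ Ideal.span {k})) ↔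
      Module.Flat A (Rq ⧸ Ideal.span {algebraMap R Rq k}) := by
  let f : R →ₗ[R] Rq := Algebra.linearMap R Rq
  let I : Submodule R R := Ideal.span {k}
  have hI : I.localized' Rq q.primeCompl f = Ideal.span {algebraMap R Rq k} := by
    show (Submodule.span R {k}).localized' Rq q.primeCompl f = _
    rw [Submodule.localized'_span, Set.image_singleton]
    rfl
  let e₁ : LocalizedModule q.primeCompl (R ⧸ I) ≃ₗ[R] Rq ⧸ I.localized' Rq q.primeCompl f :=
    IsLocalizedModule.iso q.primeCompl (I.toLocalizedQuotient' Rq q.primeCompl f)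
  let e₂ : (Rq ⧸ I.localized' Rq q.primeCompl f) ≃ₗ[Rq] Rq ⧸ Ideal.span {algebraMap R Rq k} :=
    Submodule.quotEquivOfEq _ _ hI
  let e : LocalizedModule q.primeCompl (R ⧸ I) ≃ₗ[A] Rq ⧸ Ideal.span {algebraMap R Rq k} :=
    (e₁.restrictScalars A).trans (e₂.restrictScalars A)
  exact ⟨fun h => Module.Flat.of_linearEquiv e.symm, fun h => Module.Flat.of_linearEquiv e⟩

/-- multiplication by `k` is injective on `R_q` iff elements killed by `k` are killed by
elements outside `q`. -/
theorem mul_injective_iff {R Rq : Type u} [CommRing R] [CommRing Rq] [Algebra R Rq]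
    (q : Ideal R) [q.IsPrime] [IsLocalization.AtPrime Rq q] (k : R) :
    (∀ z : Rq, algebraMap R Rq k * z = 0 → z = 0) ↔
      (∀ b : R, k * b = 0 → ∃ t : R, t ∉ q ∧ t * b = 0) := by
  constructor
  · intro H b hb
    have h1 : algebraMap R Rq k * algebraMap R Rq b = 0 := by
      rw [← map_mul, hb, map_zero]
    have h2 := H _ h1
    obtain ⟨c, hc⟩ := (IsLocalization.map_eq_zero_iff q.primeCompl Rq b).mp h2
    exact ⟨c, c.2, hc⟩
  · intro H z hz
    obtain ⟨⟨a, s⟩, hs⟩ := IsLocalization.surj q.primeCompl z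
    have hs' : z * algebraMap R Rq s = algebraMap R Rq a := hs
    have h1 : algebraMap R Rq (k * a) = 0 := by
      rw [map_mul, ← hs', ← mul_assoc, hz, zero_mul]
    obtain ⟨c, hc⟩ := (IsLocalization.map_eq_zero_iff q.primeCompl Rq (k * a)).mp h1
    have h2 : k * ((c : R) * a) = 0 := by
      rw [← hc]; ring
    obtain ⟨t, ht, hta⟩ := H _ h2
    have h3 : algebraMap R Rq a = 0 := by
      rw [IsLocalization.map_eq_zero_iff q.primeCompl Rq a]
      exact ⟨⟨t * c, Submonoid.mul_mem _ ht c.2⟩, by
        show t * (c : R) * a = 0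
        rw [mul_assoc]; exact hta⟩
    rw [h3] at hs'
    have hu : IsUnit (algebraMap R Rq s) := IsLocalization.map_units Rq s
    exact (hu.mul_left_eq_zero).mp hs'

end Groth.Agent.Helper2.QuotLoc
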