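import Mathlib

set_option autoImplicit false
universe u

open Topology Matrix

namespace Groth.Agent.Helper2.RankCons

section LA
variable {k : Type*} [Field k] {ι₁ ι₂ : Type} [Fintype ι₁] [Fintype ι₂] [DecidableEq ι₁]
  [DecidableEq ι₂]

/-- the rank of a matrix over a field is at least `r` iff some `r × r` minor is nonzero -/
theorem le_rank_iff_exists_minor (M : Matrix ι₁ ι₂ k) (r : ℕ) :
    r ≤ M.rank ↔ ∃ (I : Fin r → ι₁) (J : Fin r → ι₂), (M.submatrix I J).det ≠ 0 := by
  constructor
  · intro hr
    obtain ⟨κ, a, ha, hsp, hli⟩ := exists_linearIndependent' k M.col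
    haveI : Fintype κ := Fintype.ofInjective a ha
    have hcard : Fintype.card κ = M.rank := by
      rw [Matrix.rank_eq_finrank_span_cols, ← hsp,
        linearIndependent_iff_card_eq_finrank_span.mp hli, Set.finrank]
    have hle : Fintype.card (Fin r) ≤ Fintype.card κ := by
      rw [Fintype.card_fin, hcard]; exact hr
    obtain ⟨e⟩ := Function.Embedding.nonempty_of_card_le hle
    set J : Fin r → ι₂ := a ∘ e with hJ
    have hliJ : LinearIndependent k (M.col ∘ J) := by
      have := hli.comp e e.injective
      exact this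
    set M₁ : Matrix ι₁ (Fin r) k := M.submatrix id J with hM₁
    have hM₁rank : M₁.rank = r := by
      have h1 : LinearIndependent k M₁ᵀ.row := hliJ
      have := h1.rank_matrix
      rw [Matrix.rank_transpose, Fintype.card_fin] at this
      exact this
    obtain ⟨κ', a', ha', hsp', hli'⟩ := exists_linearIndependent' k M₁.row
    haveI : Fintype κ' := Fintype.ofInjective a' ha'
    have hcard' : Fintype.card κ' = r := by
      rw [← hM₁rank, Matrix.rank_eq_finrank_span_row, ← hsp',
        linearIndependent_iff_card_eq_finrank_span.mp hli', Set.finrank]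
    let e' : κ' ≃ Fin r := Fintype.equivFinOfCardEq hcard'
    set I : Fin r → ι₁ := a' ∘ e'.symm with hI
    refine ⟨I, J, ?_⟩
    have hrows : LinearIndependent k (M.submatrix I J).row := by
      have := hli'.comp e'.symm e'.symm.injective
      exact this
    have hu : IsUnit (M.submatrix I J) := Matrix.linearIndependent_rows_iff_isUnit.mp hrows
    have hdet := (Matrix.isUnit_iff_isUnit_det _).mp hu
    exact hdet.ne_zero
  · rintro ⟨I, J, hdet⟩
    have h1 : (M.submatrix I J).rank = Fintype.card (Fin r) := Matrix.rank_of_det_ne_zero hdet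
    rw [Fintype.card_fin] at h1
    rw [← h1]
    exact Matrix.rank_submatrix_le M I J

end LA

section RK
variable {A : Type*} [CommRing A] {ι₁ ι₂ : Type} [Fintype ι₁] [Fintype ι₂] [DecidableEq ι₁]
  [DecidableEq ι₂]

theorem setOf_le_rank_eq (M : Matrix ι₁ ι₂ A) (r : ℕ) :
    {p : PrimeSpectrum A | r ≤ (M.map (algebraMap A p.asIdeal.ResidueField)).rank} =
      ⋃ (IJ : (Fin r → ι₁) × (Fin r → ι₂)),
        (PrimeSpectrum.basicOpen ((M.submatrix IJ.1 IJ.2).det) : Set (PrimeSpectrum A)) := by
  ext p
  simp only [Set.mem_setOf_eq, Set.mem_iUnion, SetLike.mem_coe, PrimeSpectrum.mem_basicOpen]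
  rw [le_rank_iff_exists_minor]
  constructor
  · rintro ⟨I, J, h⟩
    refine ⟨(I, J), fun hmem => h ?_⟩
    have h1 : ((M.map (algebraMap A p.asIdeal.ResidueField)).submatrix I J) =
        (M.submatrix I J).map (algebraMap A p.asIdeal.ResidueField) := rfl
    rw [h1]
    have h2 := RingHom.map_det (algebraMap A p.asIdeal.ResidueField) (M.submatrix I J)
    rw [RingHom.mapMatrix_apply] at h2
    rw [← h2, Ideal.algebraMap_residueField_eq_zero]
    exact hmem
  · rintro ⟨⟨I, J⟩, h⟩
    refine ⟨I, J, ?_⟩
    have h1 : ((M.map (algebraMap A p.asIdeal.ResidueField)).submatrix I J) =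
        (M.submatrix I J).map (algebraMap A p.asIdeal.ResidueField) := rfl
    rw [h1]
    have h2 := RingHom.map_det (algebraMap A p.asIdeal.ResidueField) (M.submatrix I J)
    rw [RingHom.mapMatrix_apply] at h2
    rw [← h2, Ne, Ideal.algebraMap_residueField_eq_zero]
    exact h

theorem isConstructible_setOf_le_rank (M : Matrix ι₁ ι₂ A) (r : ℕ) :
    IsConstructible
      {p : PrimeSpectrum A | r ≤ (M.map (algebraMap A p.asIdeal.ResidueField)).rank} := by
  rw [setOf_le_rank_eq]
  exact IsConstructible.iUnion fun _ => PrimeSpectrum.isConstructible_basicOpen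

theorem isConstructible_setOf_rank_eq (M : Matrix ι₁ ι₂ A) (n : ℕ) :
    IsConstructible
      {p : PrimeSpectrum A | (M.map (algebraMap A p.asIdeal.ResidueField)).rank = n} := by
  have : {p : PrimeSpectrum A | (M.map (algebraMap A p.asIdeal.ResidueField)).rank = n} =
      {p : PrimeSpectrum A | n ≤ (M.map (algebraMap A p.asIdeal.ResidueField)).rank} \
        {p : PrimeSpectrum A | n + 1 ≤ (M.map (algebraMap A p.asIdeal.ResidueField)).rank} := by
    ext p
    simp only [Set.mem_ofPred_eq, Set.mem_sdiff]
    omega
  rw [this]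
  exact (isConstructible_setOf_le_rank M n).sdiff (isConstructible_setOf_le_rank M (n + 1))

end RK

end Groth.Agent.Helper2.RankCons
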