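import Mathlib
import Groth.Agent.Helper2.RankCons1

set_option autoImplicit false
universe u

open Topology Matrix

namespace Groth.Agent.Helper2.RankCons

section G
variable {A : Type*} [CommRing A] {ι : Type} [Fintype ι] [DecidableEq ι]

/-- reduction of vectors modulo a prime, as an `A`-linear map -/
noncomputable def redL (k : Type*) [CommRing k] [Algebra A k] : (ι → A) →ₗ[A] (ι → k) :=
  (Algebra.linearMap A k).compLeft ι

@[simp] theorem redL_apply (k : Type*) [CommRing k] [Algebra A k] (v : ι → A) :
    redL k v = (algebraMap A k) ∘ v := rfl

theorem span_image_redL_eq (k : Type*) [Field k] [Algebra A k] (X : Set (ι → A))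
    (t : Set (ι → A)) (htX : t ⊆ X) (hspan : Submodule.span A t = Submodule.span A X) :
    Submodule.span k (redL k '' X) = Submodule.span k (redL k '' t) := by
  apply le_antisymm
  · rw [Submodule.span_le]
    rintro _ ⟨x, hx, rfl⟩
    have h1 : x ∈ Submodule.span A t := by rw [hspan]; exact Submodule.subset_span hx
    have h2 : redL k x ∈ (Submodule.span A t).map (redL k) := Submodule.mem_map_of_mem h1
    rw [Submodule.map_span] at h2
    exact Submodule.span_le_restrictScalars A k _ h2
  · exact Submodule.span_mono (Set.image_mono htX)

theorem isConstructible_setOf_finrank_span_eq (X : Set (ι → A))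
    (hX : (Submodule.span A X).FG) (n : ℕ) :
    IsConstructible {p : PrimeSpectrum A |
      Module.finrank p.asIdeal.ResidueField
        (Submodule.span p.asIdeal.ResidueField (redL p.asIdeal.ResidueField '' X)) = n} := by
  classical
  obtain ⟨t, htX, hspan⟩ := (Submodule.fg_span_iff_fg_span_finset_subset X).mp hX
  set w : Fin t.card → (ι → A) := fun i => ((t.equivFin.symm i : (ι → A))) with hw
  have hrange : Set.range w = (t : Set (ι → A)) := by
    ext x
    constructor
    · rintro ⟨i, rfl⟩
      exact (t.equivFin.symm i).2
    · intro hx
      exact ⟨t.equivFin ⟨x, hx⟩, by simp [hw]⟩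
  set BM : Matrix ι (Fin t.card) A := Matrix.of fun i l => w l i with hBM
  have key : ∀ p : PrimeSpectrum A,
      Module.finrank p.asIdeal.ResidueField
        (Submodule.span p.asIdeal.ResidueField (redL p.asIdeal.ResidueField '' X)) =
      (BM.map (algebraMap A p.asIdeal.ResidueField)).rank := by
    intro p
    have hset : redL p.asIdeal.ResidueField '' (t : Set (ι → A)) =
        Set.range (BM.map (algebraMap A p.asIdeal.ResidueField)).col := by
      rw [← hrange, ← Set.range_comp]
      rfl
    rw [span_image_redL_eq _ X t htX hspan.symm, Matrix.rank_eq_finrank_span_cols, hset]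
  simp only [key]
  exact isConstructible_setOf_rank_eq BM n

end G

end Groth.Agent.Helper2.RankCons
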