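import Mathlib
import Groth.Agent.Helper2.RankCons2

set_option autoImplicit false
universe u

open Topology Matrix TensorProduct

namespace Groth.Agent.Helper2.RankCons

section Q
variable {A : Type u} [CommRing A] {Q : Type u} [AddCommGroup Q] [Module A Q] {d : ℕ}
  (π : (Fin d → A) →ₗ[A] Q) (ι : Q →ₗ[A] (Fin d → A))

/-- coordinates of an endomorphism of `Q` via a presentation as a direct summand of `A^d` -/
noncomputable def lam (g : Q →ₗ[A] Q) : Fin d × Fin d → A :=
  fun ij => LinearMap.toMatrix' (ι ∘ₗ g ∘ₗ π) ij.1 ij.2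

variable (k : Type*) [Field k] [Algebra A k]

/-- the same over a field -/
noncomputable def Lam : (k ⊗[A] Q →ₗ[k] k ⊗[A] Q) →ₗ[k] (Fin d × Fin d → k) where
  toFun G := fun ij =>
    LinearMap.toMatrix (Algebra.TensorProduct.basis k (Pi.basisFun A (Fin d)))
      (Algebra.TensorProduct.basis k (Pi.basisFun A (Fin d)))
      ((ι.baseChange k) ∘ₗ G ∘ₗ (π.baseChange k)) ij.1 ij.2
  map_add' G G' := by
    ext ij
    simp [LinearMap.comp_add, LinearMap.add_comp]
  map_smul' c G := by
    ext ij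
    simp [LinearMap.comp_smul, LinearMap.smul_comp]

theorem Lam_injective (hπι : π ∘ₗ ι = LinearMap.id) : Function.Injective (Lam π ι k) := by
  intro G G' h
  have h1 : (ι.baseChange k) ∘ₗ G ∘ₗ (π.baseChange k) = (ι.baseChange k) ∘ₗ G' ∘ₗ (π.baseChange k) := by
    apply (LinearMap.toMatrix (Algebra.TensorProduct.basis k (Pi.basisFun A (Fin d)))
      (Algebra.TensorProduct.basis k (Pi.basisFun A (Fin d)))).injective
    ext i j
    exact congrFun h (i, j)
  have h2 : (π.baseChange k) ∘ₗ (ι.baseChange k) = LinearMap.id := by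
    rw [← LinearMap.baseChange_comp, hπι, LinearMap.baseChange_id]
  have h3 : ∀ G'' : k ⊗[A] Q →ₗ[k] k ⊗[A] Q,
      G'' = (π.baseChange k) ∘ₗ ((ι.baseChange k) ∘ₗ G'' ∘ₗ (π.baseChange k)) ∘ₗ (ι.baseChange k) := by
    intro G''
    calc G'' = LinearMap.id ∘ₗ G'' ∘ₗ LinearMap.id := by simp
      _ = ((π.baseChange k) ∘ₗ (ι.baseChange k)) ∘ₗ G'' ∘ₗ ((π.baseChange k) ∘ₗ (ι.baseChange k)) := by
        rw [h2]
      _ = _ := by simp only [LinearMap.comp_assoc]
  rw [h3 G, h3 G', h1]

theorem Lam_baseChange (g : Q →ₗ[A] Q) :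
    Lam π ι k (g.baseChange k) = redL k (lam π ι g) := by
  ext ij
  have h1 : (ι.baseChange k) ∘ₗ (g.baseChange k) ∘ₗ (π.baseChange k) =
      (ι ∘ₗ g ∘ₗ π).baseChange k := by
    rw [LinearMap.baseChange_comp, LinearMap.baseChange_comp]
  show LinearMap.toMatrix _ _ ((ι.baseChange k) ∘ₗ (g.baseChange k) ∘ₗ (π.baseChange k)) ij.1 ij.2 = _
  rw [h1, LinearMap.toMatrix_baseChange, LinearMap.toMatrix_eq_toMatrix']
  rfl

theorem finrank_span_eq (hπι : π ∘ₗ ι = LinearMap.id) {σ : Type*} (g : σ → (Q →ₗ[A] Q)) :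
    Module.finrank k (Submodule.span k (Set.range fun s : σ => (g s).baseChange k)) =
      Module.finrank k (Submodule.span k (redL k '' (Set.range fun s : σ => lam π ι (g s)))) := by
  set T := Submodule.span k (Set.range fun s : σ => (g s).baseChange k) with hT
  have h1 : T.map (Lam π ι k) =
      Submodule.span k (redL k '' (Set.range fun s : σ => lam π ι (g s))) := by
    rw [hT, Submodule.map_span, ← Set.range_comp, ← Set.range_comp]
    congr 2
    ext s : 1
    exact Lam_baseChange π ι k (g s)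
  rw [← h1]
  exact (Submodule.equivMapOfInjective (Lam π ι k) (Lam_injective π ι k hπι) T).finrank_eq

end Q

end Groth.Agent.Helper2.RankCons
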