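import Mathlib
import Groth.Agent.Helper2.RankCons3

set_option autoImplicit false
universe u

open Topology Matrix TensorProduct

namespace Groth.Agent.Helper2.RankCons

theorem s15153 (A : Type u) [CommRing A] [IsNoetherianRing A]
    (S : Type u) [CommRing S] [Algebra A S]
    (Q : Type u) [AddCommGroup Q] [Module A Q] [Module S Q] [IsScalarTower A S Q]
    [Module.Finite A Q] [Module.Flat A Q] (n : ℕ) :
    Topology.IsConstructible {p : PrimeSpectrum A |
      Module.finrank p.asIdeal.ResidueField
        (Submodule.span p.asIdeal.ResidueField
          (Set.range fun s : S =>
            LinearMap.baseChange p.asIdeal.ResidueField (DistribSMul.toLinearMap A Q s))) = n} := by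
  haveI : Module.FinitePresentation A Q := Module.finitePresentation_of_finite A Q
  haveI : Module.Projective A Q := Module.Flat.projective_of_finitePresentation
  obtain ⟨d, π, hπ⟩ := Module.Finite.exists_fin' A Q
  obtain ⟨ι, hι⟩ := Module.projective_lifting_property π LinearMap.id hπ
  set X : Set (Fin d × Fin d → A) :=
    Set.range fun s : S => lam π ι (DistribSMul.toLinearMap A Q s) with hX
  have hfg : (Submodule.span A X).FG := IsNoetherian.noetherian _
  have key : ∀ p : PrimeSpectrum A,
      Module.finrank p.asIdeal.ResidueField
        (Submodule.span p.asIdeal.ResidueField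
          (Set.range fun s : S =>
            LinearMap.baseChange p.asIdeal.ResidueField (DistribSMul.toLinearMap A Q s))) =
      Module.finrank p.asIdeal.ResidueField
        (Submodule.span p.asIdeal.ResidueField (redL p.asIdeal.ResidueField '' X)) := by
    intro p
    exact finrank_span_eq π ι p.asIdeal.ResidueField hι
      (fun s : S => (DistribSMul.toLinearMap A Q s))
  simp only [key]
  exact isConstructible_setOf_finrank_span_eq X hfg n

end Groth.Agent.Helper2.RankCons
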