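import Mathlib

set_option autoImplicit false
universe u v w

namespace Groth.Agent.Helper2.RankOneAbs

/-- abstract "rank one" relations in a group `G` -/
structure Rel (Γ : Type u) [CommRing Γ] (G : Type v) [Group G] (Tg : Type w) [Group Tg] where
  P : Γ → G
  M : Γ → G
  I : Tg →* G
  α : Tg →* Γˣ
  A : Γˣ →* Tg
  P_add : ∀ a b, P (a + b) = P a * P b
  M_add : ∀ a b, M (a + b) = M a * M b
  hP : ∀ t x, I t * P x * (I t)⁻¹ = P ((α t : Γ) * x)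
  hM : ∀ t y, I t * M y * (I t)⁻¹ = M (((α t)⁻¹ : Γˣ) * y)
  hA : ∀ z, α (A z) = z ^ 2
  hF : ∀ x y (u : Γˣ), (u : Γ) = 1 + x * y →
    P x * M y = M (y * (u⁻¹ : Γˣ)) * I (A u) * P (x * (u⁻¹ : Γˣ))

variable {Γ : Type u} [CommRing Γ] {G : Type v} [Group G] {Tg : Type w} [Group Tg]
  (R : Rel Γ G Tg)

namespace Rel

lemma P_zero : R.P 0 = 1 := by
  have h := R.P_add 0 0
  rw [add_zero] at h
  exact (mul_eq_left.mp h.symm)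

lemma M_zero : R.M 0 = 1 := by
  have h := R.M_add 0 0
  rw [add_zero] at h
  exact (mul_eq_left.mp h.symm)

lemma P_neg (a : Γ) : R.P (-a) = (R.P a)⁻¹ := by
  rw [eq_inv_iff_mul_eq_one, ← R.P_add, neg_add_cancel, R.P_zero]

lemma M_neg (a : Γ) : R.M (-a) = (R.M a)⁻¹ := by
  rw [eq_inv_iff_mul_eq_one, ← R.M_add, neg_add_cancel, R.M_zero]

/-- `h u = I (A u)` -/
def h (u : Γˣ) : G := R.I (R.A u)

lemma h_mul (u v : Γˣ) : R.h (u * v) = R.h u * R.h v := by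
  simp [h, map_mul]

lemma h_one : R.h 1 = 1 := by simp [h]

lemma h_inv (u : Γˣ) : R.h u⁻¹ = (R.h u)⁻¹ := by simp [h, map_inv]

lemma h_P (u : Γˣ) (x : Γ) : R.h u * R.P x = R.P ((u : Γ) ^ 2 * x) * R.h u := by
  have := R.hP (R.A u) x
  rw [R.hA, Units.val_pow_eq_pow_val] at this
  rw [← this]
  simp [h]

lemma h_M (u : Γˣ) (y : Γ) : R.h u * R.M y = R.M (((u⁻¹ : Γˣ) : Γ) ^ 2 * y) * R.h u := by
  have := R.hM (R.A u) y
  rw [R.hA] at this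
  rw [show (((u ^ 2)⁻¹ : Γˣ) : Γ) = ((u⁻¹ : Γˣ) : Γ) ^ 2 by simp] at this
  rw [← this]
  simp [h]

/-- reversed commutation rule (S8488) -/
theorem reversed (x y : Γ) (u : Γˣ) (hu : (u : Γ) = 1 + x * y) :
    R.M y * R.P x = R.P (x * (u⁻¹ : Γˣ)) * (R.h u)⁻¹ * R.M (y * (u⁻¹ : Γˣ)) := by
  have h1 := R.hF (-x) (-y) u (by rw [hu]; ring)
  have h2 := congrArg (·⁻¹) h1
  simp only [mul_inv_rev] at h2
  rw [R.P_neg, R.M_neg, inv_inv, inv_inv, neg_mul, neg_mul, R.P_neg, R.M_neg, inv_inv, inv_inv] at h2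
  rw [h2, mul_assoc]
  rfl

/-- the coroot through root groups (S8470) -/
theorem coroot (z : Γˣ) :
    R.h z = R.M (((z⁻¹ : Γˣ) : Γ) - 1) * R.P 1 * R.M ((z : Γ) - 1) * R.P (-((z⁻¹ : Γˣ) : Γ)) := by
  have h1 := R.hF 1 ((z : Γ) - 1) z (by ring)
  rw [mul_assoc (R.M _), h1]
  have e1 : ((z : Γ) - 1) * ((z⁻¹ : Γˣ) : Γ) = 1 - ((z⁻¹ : Γˣ) : Γ) := by
    rw [sub_mul, Units.mul_inv, one_mul]
  rw [e1, one_mul]
  have e2 : R.M (((z⁻¹ : Γˣ) : Γ) - 1) * (R.M (1 - ((z⁻¹ : Γˣ) : Γ)) * R.I (R.A z) * R.P ((z⁻¹ : Γˣ) : Γ)) *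
      R.P (-((z⁻¹ : Γˣ) : Γ)) = R.I (R.A z) := by
    rw [R.P_neg]
    have : R.M (((z⁻¹ : Γˣ) : Γ) - 1) * R.M (1 - ((z⁻¹ : Γˣ) : Γ)) = 1 := by
      rw [← R.M_add]; ring_nf; exact R.M_zero
    calc _ = (R.M (((z⁻¹ : Γˣ) : Γ) - 1) * R.M (1 - ((z⁻¹ : Γˣ) : Γ))) * R.I (R.A z) *
          (R.P ((z⁻¹ : Γˣ) : Γ) * (R.P ((z⁻¹ : Γˣ) : Γ))⁻¹) := by group
      _ = _ := by rw [this, mul_inv_cancel, one_mul, mul_one]
  rw [e2]
  rfl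

lemma I_M (t : Tg) (y : Γ) : R.I t * R.M y = R.M (((R.α t)⁻¹ : Γˣ) * y) * R.I t := by
  rw [← R.hM t y]; group

lemma P_I (t : Tg) (x : Γ) : R.P x * R.I t = R.I t * R.P (((R.α t)⁻¹ : Γˣ) * x) := by
  have := R.hP t (((R.α t)⁻¹ : Γˣ) * x)
  rw [← mul_assoc, Units.mul_inv, one_mul] at this
  rw [← this]; group

/-- product of two elements of the big cell (S8476) -/
theorem bigcell (t t' : Tg) (x y x' y' : Γ) (u : Γˣ) (hu : (u : Γ) = 1 + x * y') :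
    (R.M y * R.I t * R.P x) * (R.M y' * R.I t' * R.P x') =
      R.M (y + ((R.α t)⁻¹ : Γˣ) * (y' * (u⁻¹ : Γˣ))) * R.I (t * R.A u * t') *
        R.P (((R.α t')⁻¹ : Γˣ) * (x * (u⁻¹ : Γˣ)) + x') := by
  have h1 := R.hF x y' u hu
  calc (R.M y * R.I t * R.P x) * (R.M y' * R.I t' * R.P x')
      = R.M y * R.I t * (R.P x * R.M y') * R.I t' * R.P x' := by group
    _ = R.M y * (R.I t * R.M (y' * (u⁻¹ : Γˣ))) * R.I (R.A u) * (R.P (x * (u⁻¹ : Γˣ)) * R.I t') * R.P x' := by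
        rw [h1]; group
    _ = R.M y * (R.M (((R.α t)⁻¹ : Γˣ) * (y' * (u⁻¹ : Γˣ))) * R.I t) * R.I (R.A u) *
          (R.I t' * R.P (((R.α t')⁻¹ : Γˣ) * (x * (u⁻¹ : Γˣ)))) * R.P x' := by
        rw [R.I_M, R.P_I]
    _ = (R.M y * R.M (((R.α t)⁻¹ : Γˣ) * (y' * (u⁻¹ : Γˣ)))) * (R.I t * R.I (R.A u) * R.I t') *
          (R.P (((R.α t')⁻¹ : Γˣ) * (x * (u⁻¹ : Γˣ))) * R.P x') := by group
    _ = _ := by rw [← R.M_add, ← R.P_add, map_mul, map_mul]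

/-- the Weyl element attached to a unit `x` -/
def wel (x : Γˣ) : G := R.P x * R.M (-((x⁻¹ : Γˣ) : Γ)) * R.P x

lemma P_h (u : Γˣ) (x : Γ) : R.P x * R.h u = R.h u * R.P (((u⁻¹ : Γˣ) : Γ) ^ 2 * x) := by
  have := R.h_P u (((u⁻¹ : Γˣ) : Γ) ^ 2 * x)
  rw [← mul_assoc, ← mul_pow, Units.mul_inv, one_pow, one_mul] at this
  exact this.symm

/-- product of two Weyl elements (S8449) -/
theorem wel_mul (x y : Γˣ) : R.wel x * R.wel y = R.h (-(x * y⁻¹)) := by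
  set u : Γˣ := -(x * y⁻¹) with hu
  have hu1 : (u : Γ) = 1 + ((x : Γ) + y) * (-((y⁻¹ : Γˣ) : Γ)) := by
    rw [hu]
    push_cast
    have : (y : Γ) * ((y⁻¹ : Γˣ) : Γ) = 1 := Units.mul_inv y
    linear_combination this
  have huinv : ((u⁻¹ : Γˣ) : Γ) = -((y : Γ) * ((x⁻¹ : Γˣ) : Γ)) := by
    rw [hu]
    simp [mul_comm]
  have h1 := R.hF ((x : Γ) + y) (-((y⁻¹ : Γˣ) : Γ)) u hu1
  have e1 : -((y⁻¹ : Γˣ) : Γ) * ((u⁻¹ : Γˣ) : Γ) = ((x⁻¹ : Γˣ) : Γ) := by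
    rw [huinv]
    have : ((y⁻¹ : Γˣ) : Γ) * (y : Γ) = 1 := Units.inv_mul y
    linear_combination ((x⁻¹ : Γˣ) : Γ) * this
  rw [e1] at h1
  calc R.wel x * R.wel y
      = R.P x * R.M (-((x⁻¹ : Γˣ) : Γ)) * (R.P x * R.P y) * R.M (-((y⁻¹ : Γˣ) : Γ)) * R.P y := by
        unfold wel; group
    _ = R.P x * R.M (-((x⁻¹ : Γˣ) : Γ)) * (R.P ((x : Γ) + y) * R.M (-((y⁻¹ : Γˣ) : Γ))) * R.P y := by
        rw [R.P_add]; group
    _ = R.P x * (R.M (-((x⁻¹ : Γˣ) : Γ)) * R.M ((x⁻¹ : Γˣ) : Γ)) * R.I (R.A u) *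
          (R.P (((x : Γ) + y) * ((u⁻¹ : Γˣ) : Γ)) * R.P y) := by
        rw [h1]; group
    _ = R.P x * R.h u * R.P (((x : Γ) + y) * ((u⁻¹ : Γˣ) : Γ) + y) := by
        rw [← R.M_add, neg_add_cancel, R.M_zero, ← R.P_add]; simp [h]
    _ = R.h u * (R.P (((u⁻¹ : Γˣ) : Γ) ^ 2 * x) * R.P (((x : Γ) + y) * ((u⁻¹ : Γˣ) : Γ) + y)) := by
        rw [R.P_h]; group
    _ = R.h u := by
        rw [← R.P_add]
        have : ((u⁻¹ : Γˣ) : Γ) ^ 2 * x + (((x : Γ) + y) * ((u⁻¹ : Γˣ) : Γ) + y) = 0 := by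
          rw [huinv]
          have hx : ((x⁻¹ : Γˣ) : Γ) * (x : Γ) = 1 := Units.inv_mul x
          linear_combination ((y : Γ) ^ 2 * ((x⁻¹ : Γˣ) : Γ) - y) * hx
        rw [this, R.P_zero, mul_one]

theorem wel_sq (x : Γˣ) : R.wel x ^ 2 = R.h (-1) := by
  rw [pow_two, R.wel_mul, mul_inv_cancel]

theorem wel_neg (x : Γˣ) : R.wel (-x) = (R.wel x)⁻¹ := by
  rw [eq_inv_iff_mul_eq_one, R.wel_mul]
  have : -(-x * x⁻¹) = (1 : Γˣ) := by simp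
  rw [this, R.h_one]

/-- S8448 (b) -/
theorem wel_smul (z x : Γˣ) : R.wel (z * x) = R.h z * R.wel x ∧ R.wel (z * x) = R.wel x * (R.h z)⁻¹ := by
  constructor
  · have h1 := R.wel_mul (z * x) (-x)
    rw [R.wel_neg] at h1
    have : -(z * x * (-x)⁻¹) = z := by simp [mul_assoc]
    rw [this] at h1
    rw [← h1]; group
  · have h1 := R.wel_mul (-x) (z * x)
    rw [R.wel_neg] at h1
    have : -(-x * (z * x)⁻¹) = z⁻¹ := by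
      rw [mul_inv_rev]; simp [mul_comm, mul_assoc]
    rw [this, R.h_inv] at h1
    rw [← h1]; group

lemma I_wel (t : Tg) (x : Γˣ) : R.I t * R.wel x * (R.I t)⁻¹ = R.wel (R.α t * x) := by
  unfold wel
  have h1 := R.hP t x
  have h2 := R.hM t (-((x⁻¹ : Γˣ) : Γ))
  calc R.I t * (R.P x * R.M (-((x⁻¹ : Γˣ) : Γ)) * R.P x) * (R.I t)⁻¹
      = (R.I t * R.P x * (R.I t)⁻¹) * (R.I t * R.M (-((x⁻¹ : Γˣ) : Γ)) * (R.I t)⁻¹) *
          (R.I t * R.P x * (R.I t)⁻¹) := by group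
    _ = _ := by
        rw [h1, h2]
        congr 2
        · simp [mul_inv_rev, mul_comm]

/-- S8448 (a) -/
theorem wel_conj (t : Tg) (x : Γˣ) :
    R.wel x * R.I t * (R.wel x)⁻¹ = (R.h (R.α t))⁻¹ * R.I t := by
  have h1 := R.I_wel t (-x)
  have h2 := (R.wel_smul (R.α t) (-x)).2
  rw [h2, R.wel_neg] at h1
  -- h1 : I t * (wel x)⁻¹ * (I t)⁻¹ = (wel x)⁻¹ * (h (α t))⁻¹
  have h3 : R.wel x * R.I t * (R.wel x)⁻¹ = R.wel x * (R.I t * (R.wel x)⁻¹ * (R.I t)⁻¹) * R.I t := by group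
  rw [h3, h1]; group

end Rel

end Groth.Agent.Helper2.RankOneAbs
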