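import Mathlib
import Groth.Agent.Helper2.RankOneAbs

set_option autoImplicit false
universe u v w

namespace Groth.Agent.Helper2.RankOneAbs

variable {Γ : Type u} [CommRing Γ] {G : Type v} [Group G] {Tg : Type w} [Group Tg]
  (R : Rel Γ G Tg)

namespace Rel

/-- `w(x) P(y) = M(-y/x²) w(x)` when `y` and `x - y` are units. -/
theorem wel_P_of_units (x y d : Γˣ) (hd : (d : Γ) = x - y) :
    R.wel x * R.P y = R.M (-(y : Γ) * ((x⁻¹ : Γˣ) : Γ) ^ 2) * R.wel x := by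
  have hxx : (x : Γ) * ((x⁻¹ : Γˣ) : Γ) = 1 := Units.mul_inv x
  have hyy : (y : Γ) * ((y⁻¹ : Γˣ) : Γ) = 1 := Units.mul_inv y
  have hdd : (d : Γ) * ((d⁻¹ : Γˣ) : Γ) = 1 := Units.mul_inv d
  -- left side
  have L : R.wel x * R.P y =
      R.P (-(x : Γ) ^ 2 * ((y⁻¹ : Γˣ) : Γ)) * (R.h (-(y * x⁻¹)))⁻¹ * R.M ((y⁻¹ : Γˣ) : Γ) := by
    set u : Γˣ := -(y * x⁻¹) with hu
    have hu1 : (u : Γ) = 1 + ((x : Γ) + y) * (-((x⁻¹ : Γˣ) : Γ)) := by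
      rw [hu]; push_cast; linear_combination hxx
    have huinv : ((u⁻¹ : Γˣ) : Γ) = -((x : Γ) * ((y⁻¹ : Γˣ) : Γ)) := by
      rw [hu]; simp [mul_comm]
    have h1 := R.reversed ((x : Γ) + y) (-((x⁻¹ : Γˣ) : Γ)) u hu1
    calc R.wel x * R.P y = R.P x * (R.M (-((x⁻¹ : Γˣ) : Γ)) * R.P ((x : Γ) + y)) := by
          unfold wel; rw [R.P_add]; group
      _ = (R.P x * R.P (((x : Γ) + y) * ((u⁻¹ : Γˣ) : Γ))) * (R.h u)⁻¹ *
            R.M (-((x⁻¹ : Γˣ) : Γ) * ((u⁻¹ : Γˣ) : Γ)) := by rw [h1]; group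
      _ = _ := by
          rw [← R.P_add]
          congr 2
          · congr 1
            rw [huinv]; linear_combination (-(x : Γ)) * hyy
          · congr 1
            rw [huinv]; linear_combination (((y⁻¹ : Γˣ) : Γ)) * hxx
  -- right side
  have Rt : R.M (-(y : Γ) * ((x⁻¹ : Γˣ) : Γ) ^ 2) * R.wel x =
      R.P (-(x : Γ) ^ 2 * ((y⁻¹ : Γˣ) : Γ)) * (R.h (-(y * x⁻¹)))⁻¹ * R.M ((y⁻¹ : Γˣ) : Γ) := by
    set u1 : Γˣ := d * x⁻¹ with hu1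
    set u2 : Γˣ := -(y * d⁻¹) with hu2
    have hu1' : (u1 : Γ) = 1 + (x : Γ) * (-(y : Γ) * ((x⁻¹ : Γˣ) : Γ) ^ 2) := by
      rw [hu1]; push_cast; rw [hd]; linear_combination (1 + (y : Γ) * ((x⁻¹ : Γˣ) : Γ)) * hxx
    have hu1inv : ((u1⁻¹ : Γˣ) : Γ) = (x : Γ) * ((d⁻¹ : Γˣ) : Γ) := by
      rw [hu1]; simp [mul_comm]
    have hu2' : (u2 : Γ) = 1 + (x : Γ) * (-((d⁻¹ : Γˣ) : Γ)) := by
      rw [hu2]; push_cast
      have : (x : Γ) = d + y := by rw [hd]; ring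
      rw [this]; linear_combination hdd
    have hu2inv : ((u2⁻¹ : Γˣ) : Γ) = -((d : Γ) * ((y⁻¹ : Γˣ) : Γ)) := by
      rw [hu2]; simp [mul_comm]
    have h1 := R.reversed (x : Γ) (-(y : Γ) * ((x⁻¹ : Γˣ) : Γ) ^ 2) u1 hu1'
    have h3 := R.reversed (x : Γ) (-((d⁻¹ : Γˣ) : Γ)) u2 hu2'
    have e1 : -(y : Γ) * ((x⁻¹ : Γˣ) : Γ) ^ 2 * ((u1⁻¹ : Γˣ) : Γ) + -((x⁻¹ : Γˣ) : Γ) =
        -((d⁻¹ : Γˣ) : Γ) := by
      rw [hu1inv]
      have hxd : (x : Γ) = d + y := by rw [hd]; ring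
      have : ((x⁻¹ : Γˣ) : Γ) * (x : Γ) = 1 := Units.inv_mul x
      linear_combination (((d⁻¹ : Γˣ) : Γ) * ((x⁻¹ : Γˣ) : Γ)) * hxd +
        (-((d⁻¹ : Γˣ) : Γ) - (y : Γ) * ((x⁻¹ : Γˣ) : Γ) * ((d⁻¹ : Γˣ) : Γ)) * this +
        ((x⁻¹ : Γˣ) : Γ) * hdd
    calc R.M (-(y : Γ) * ((x⁻¹ : Γˣ) : Γ) ^ 2) * R.wel x
        = (R.M (-(y : Γ) * ((x⁻¹ : Γˣ) : Γ) ^ 2) * R.P x) * R.M (-((x⁻¹ : Γˣ) : Γ)) * R.P x := by
          unfold wel; group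
      _ = R.P ((x : Γ) * ((u1⁻¹ : Γˣ) : Γ)) * (R.h u1)⁻¹ *
            (R.M (-(y : Γ) * ((x⁻¹ : Γˣ) : Γ) ^ 2 * ((u1⁻¹ : Γˣ) : Γ)) * R.M (-((x⁻¹ : Γˣ) : Γ))) *
              R.P x := by rw [h1]; group
      _ = R.P ((x : Γ) * ((u1⁻¹ : Γˣ) : Γ)) * (R.h u1)⁻¹ * (R.M (-((d⁻¹ : Γˣ) : Γ)) * R.P x) := by
          rw [← R.M_add, e1]; group
      _ = R.P ((x : Γ) * ((u1⁻¹ : Γˣ) : Γ)) * ((R.h u1)⁻¹ * R.P ((x : Γ) * ((u2⁻¹ : Γˣ) : Γ))) *
            (R.h u2)⁻¹ * R.M (-((d⁻¹ : Γˣ) : Γ) * ((u2⁻¹ : Γˣ) : Γ)) := by rw [h3]; group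
      _ = R.P ((x : Γ) * ((u1⁻¹ : Γˣ) : Γ)) *
            (R.P (((u1⁻¹ : Γˣ) : Γ) ^ 2 * ((x : Γ) * ((u2⁻¹ : Γˣ) : Γ))) * (R.h u1)⁻¹) *
            (R.h u2)⁻¹ * R.M (-((d⁻¹ : Γˣ) : Γ) * ((u2⁻¹ : Γˣ) : Γ)) := by
          congr 3
          have := R.h_P u1⁻¹ ((x : Γ) * ((u2⁻¹ : Γˣ) : Γ))
          rw [R.h_inv] at this
          exact this
      _ = _ := by
          have hh : (R.h u1)⁻¹ * (R.h u2)⁻¹ = (R.h (-(y * x⁻¹)))⁻¹ := by
            rw [← mul_inv_rev, ← R.h_mul]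
            congr 2
            rw [hu1, hu2]
            have : d⁻¹ * d = 1 := inv_mul_cancel d
            calc -(y * d⁻¹) * (d * x⁻¹) = -(y * (d⁻¹ * d) * x⁻¹) := by
                  simp only [neg_mul, mul_assoc]
              _ = _ := by rw [this, mul_one]
          calc _ = (R.P ((x : Γ) * ((u1⁻¹ : Γˣ) : Γ)) *
                R.P (((u1⁻¹ : Γˣ) : Γ) ^ 2 * ((x : Γ) * ((u2⁻¹ : Γˣ) : Γ)))) *
                ((R.h u1)⁻¹ * (R.h u2)⁻¹) * R.M (-((d⁻¹ : Γˣ) : Γ) * ((u2⁻¹ : Γˣ) : Γ)) := by group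
            _ = _ := by
                rw [hh, ← R.P_add]
                congr 2
                · congr 1
                  rw [hu1inv, hu2inv]
                  have hxd : (x : Γ) = d + y := by rw [hd]; ring
                  linear_combination
                    (-((x : Γ) ^ 2 * ((y⁻¹ : Γˣ) : Γ)) -
                      (x : Γ) ^ 3 * ((d⁻¹ : Γˣ) : Γ) * ((y⁻¹ : Γˣ) : Γ)) * hdd
                    - ((x : Γ) ^ 2 * ((d⁻¹ : Γˣ) : Γ)) * hyy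
                    - ((x : Γ) ^ 2 * ((d⁻¹ : Γˣ) : Γ) * ((y⁻¹ : Γˣ) : Γ)) * hxd
                · congr 1
                  rw [hu2inv]
                  linear_combination (((y⁻¹ : Γˣ) : Γ)) * hdd
  rw [L, Rt]

/-- the braid relation holds when the ring contains a primitive cube root of unity -/
theorem braid_of_omega (x ω : Γˣ) (hω : 1 + (ω : Γ) + (ω : Γ) ^ 2 = 0) :
    R.wel x * R.P x = R.M (-((x⁻¹ : Γˣ) : Γ)) * R.wel x := by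
  have hxx : (x : Γ) * ((x⁻¹ : Γˣ) : Γ) = 1 := Units.mul_inv x
  set y₁ : Γˣ := -(ω * x) with hy₁
  set y₂ : Γˣ := -(ω ^ 2 * x) with hy₂
  have h1 : ((y₂ : Γˣ) : Γ) = x - y₁ := by
    rw [hy₁, hy₂]; push_cast; linear_combination (-(x : Γ)) * hω
  have h2 : ((y₁ : Γˣ) : Γ) = x - y₂ := by
    rw [hy₁, hy₂]; push_cast; linear_combination (-(x : Γ)) * hω
  have hsum : (x : Γ) = y₁ + y₂ := by
    rw [hy₁, hy₂]; push_cast; linear_combination (x : Γ) * hω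
  have e1 := R.wel_P_of_units x y₁ y₂ h1
  have e2 := R.wel_P_of_units x y₂ y₁ h2
  calc R.wel x * R.P x = (R.wel x * R.P y₁) * R.P y₂ := by
        conv_lhs => rw [hsum, R.P_add]
        group
    _ = R.M (-(y₁ : Γ) * ((x⁻¹ : Γˣ) : Γ) ^ 2) * (R.wel x * R.P y₂) := by rw [e1]; group
    _ = (R.M (-(y₁ : Γ) * ((x⁻¹ : Γˣ) : Γ) ^ 2) * R.M (-(y₂ : Γ) * ((x⁻¹ : Γˣ) : Γ) ^ 2)) *
          R.wel x := by rw [e2]; group
    _ = _ := by
        rw [← R.M_add]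
        congr 2
        have : -(y₁ : Γ) * ((x⁻¹ : Γˣ) : Γ) ^ 2 + -(y₂ : Γ) * ((x⁻¹ : Γˣ) : Γ) ^ 2 =
            -((y₁ : Γ) + y₂) * ((x⁻¹ : Γˣ) : Γ) ^ 2 := by ring
        rw [this, ← hsum]
        linear_combination (-((x⁻¹ : Γˣ) : Γ)) * hxx

section braid
variable (x : Γˣ) (hb : R.wel x * R.P x = R.M (-((x⁻¹ : Γˣ) : Γ)) * R.wel x)
include hb

theorem wel_eq_MPM : R.wel x = R.M (-((x⁻¹ : Γˣ) : Γ)) * R.P x * R.M (-((x⁻¹ : Γˣ) : Γ)) := by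
  have h1 : R.wel x * R.P x =
      (R.M (-((x⁻¹ : Γˣ) : Γ)) * R.P x * R.M (-((x⁻¹ : Γˣ) : Γ))) * R.P x := by
    rw [hb]; unfold wel; group
  exact mul_right_cancel h1

theorem conj_P : R.wel x * R.P x * (R.wel x)⁻¹ = R.M (-((x⁻¹ : Γˣ) : Γ)) := by
  rw [hb]; group

theorem cube : (R.wel x * R.P x) ^ 3 = 1 := by
  have hc : R.wel x * R.wel x = R.h (-1) := by rw [← pow_two, R.wel_sq]
  have hcp : R.h (-1) * R.P x = R.P x * R.h (-1) := by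
    have := R.h_P (-1) (x : Γ)
    simpa using this
  have hcm : R.h (-1) * R.M (-((x⁻¹ : Γˣ) : Γ)) = R.M (-((x⁻¹ : Γˣ) : Γ)) * R.h (-1) := by
    have := R.h_M (-1) (-((x⁻¹ : Γˣ) : Γ))
    simpa using this
  have hcc : R.h (-1) * R.h (-1) = 1 := by
    rw [← R.h_mul]; simp [R.h_one]
  set w := R.wel x with hw
  set p := R.P x with hp
  set m := R.M (-((x⁻¹ : Γˣ) : Γ)) with hm
  set c := R.h (-1) with hcdef
  have hw' : w = p * m * p := rfl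
  calc (w * p) ^ 3 = (w * p) * (w * p) * (w * p) := by rw [pow_three]; group
    _ = (w * p) * (m * w) * (w * p) := by rw [hb]
    _ = w * (p * m) * (w * w) * p := by group
    _ = w * (p * m) * c * p := by rw [hc]
    _ = w * (p * (m * c)) * p := by group
    _ = w * (p * (c * m)) * p := by rw [hcm]
    _ = w * ((p * c) * m) * p := by group
    _ = w * ((c * p) * m) * p := by rw [hcp]
    _ = (w * c) * (p * m * p) := by group
    _ = (w * c) * w := by rw [← hw']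
    _ = (p * m * p * c) * w := by rw [hw']
    _ = p * m * (p * c) * w := by group
    _ = p * m * (c * p) * w := by rw [hcp]
    _ = p * (m * c) * p * w := by group
    _ = p * (c * m) * p * w := by rw [hcm]
    _ = (p * c) * (m * p) * w := by group
    _ = (c * p) * (m * p) * w := by rw [hcp]
    _ = c * (p * m * p) * w := by group
    _ = c * (w * w) := by rw [← hw']; group
    _ = 1 := by rw [hc, hcc]

end braid

end Rel

end Groth.Agent.Helper2.RankOneAbs
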