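import Mathlib
import Groth.Prelude
import Groth.Agent.Helper2.GaAdd
import Groth.Agent.Helper2.RankOneAbs

set_option autoImplicit false
set_option linter.unusedSectionVars false
set_option linter.style.haveILetI false
universe u

open CategoryTheory MonoidalCategory CartesianMonoidalCategory MonObj GrpObj AlgebraicGeometry
  CategoryTheory.Limits
open Red

namespace Groth.Agent.Helper2.RankOneTr

open Groth.Agent.Helper5.GaPts Groth.Agent.Helper2.GaAdd Groth.Agent.Helper2.RankOneAbs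

variable {S : Scheme.{u}} {G T : Over S} [GrpObj G] [GrpObj T] (i : T ⟶ G) [IsMonHom i]
  (α : T ⟶ Red.Gm S) [IsMonHom α]
  (pp pm : Red.Ga S ⟶ G) [IsMonHom pp] [IsMonHom pm]
  (hpp : ∀ (X : Over S) (t : X ⟶ T) (x : X ⟶ Red.Ga S), ∃ x' : X ⟶ Red.Ga S,
    x' ≫ pp = (t ≫ i) * (x ≫ pp) * (t ≫ i)⁻¹ ∧ Red.gaFn x' = Red.gmFn (t ≫ α) * Red.gaFn x)
  (hpm : ∀ (X : Over S) (t : X ⟶ T) (y : X ⟶ Red.Ga S), ∃ y' : X ⟶ Red.Ga S,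
    y' ≫ pm = (t ≫ i) * (y ≫ pm) * (t ≫ i)⁻¹ ∧ Red.gaFn y' * Red.gmFn (t ≫ α) = Red.gaFn y)
  (av : Red.Gm S ⟶ T) [IsMonHom av] (h2 : av ≫ α = (𝟙 (Red.Gm S)) ^ 2)
  (hF : ∀ (X : Over S) (x y : X ⟶ Red.Ga S), IsUnit (1 + Red.gaFn x * Red.gaFn y) →
    ∃ (x' y' : X ⟶ Red.Ga S) (z : X ⟶ Red.Gm S), Red.gmFn z = 1 + Red.gaFn x * Red.gaFn y ∧
      Red.gaFn x' * Red.gmFn z = Red.gaFn x ∧ Red.gaFn y' * Red.gmFn z = Red.gaFn y ∧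
      (x ≫ pp) * (y ≫ pm) = (y' ≫ pm) * (z ≫ av ≫ i) * (x' ≫ pp))
  (X : Over S)

include hpp hpm h2 hF in
/-- the abstract rank-one relations on `X`-valued points -/
noncomputable def mkRel : Rel Γ(X.left, ⊤) (X ⟶ G) (X ⟶ T) where
  P a := pt a ≫ pp
  M a := pt a ≫ pm
  I := IsMonHom.monoidHom i X
  α := (GmPts.equiv X).toMonoidHom.comp (IsMonHom.monoidHom α X)
  A := (IsMonHom.monoidHom av X).comp (GmPts.equiv X).symm.toMonoidHom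
  P_add a b := by rw [pt_add, MonObj.mul_comp]
  M_add a b := by rw [pt_add, MonObj.mul_comp]
  hP t x := by
    obtain ⟨x', h1, h3⟩ := hpp X t (pt x)
    rw [gaFn_pt] at h3
    have : x' = pt (Red.gmFn (t ≫ α) * x) := gaFn_injective (by rw [h3, gaFn_pt])
    rw [this] at h1
    exact h1.symm
  hM t y := by
    obtain ⟨y', h1, h3⟩ := hpm X t (pt y)
    rw [gaFn_pt] at h3
    have hu : ((GmPts.unitOfPt (t ≫ α) : (Γ(X.left, ⊤))ˣ) : Γ(X.left, ⊤)) = Red.gmFn (t ≫ α) := rfl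
    have : y' = pt ((((GmPts.unitOfPt (t ≫ α))⁻¹ : (Γ(X.left, ⊤))ˣ) : Γ(X.left, ⊤)) * y) := by
      apply gaFn_injective
      rw [gaFn_pt, ← h3, ← hu, _root_.mul_comm (Red.gaFn y'), ← _root_.mul_assoc, Units.inv_mul, _root_.one_mul]
    rw [this] at h1
    exact h1.symm
  hA z := by
    apply (GmPts.equiv X).symm.injective
    show (GmPts.equiv X).symm ((GmPts.equiv X) ((GmPts.ptOfUnit z ≫ av) ≫ α)) = _
    rw [MulEquiv.symm_apply_apply, Category.assoc, h2, MonObj.comp_pow, Category.comp_id, map_pow]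
    rfl
  hF x y u hu := by
    obtain ⟨x', y', z, h1, h3, h4, h5⟩ := hF X (pt x) (pt y)
      (by rw [gaFn_pt, gaFn_pt, ← hu]; exact u.isUnit)
    simp only [gaFn_pt] at h1 h3 h4
    rw [← hu] at h1
    have hz : z = GmPts.ptOfUnit u := GmPts.gmFn_injective (by
      show Red.gmFn z = Red.gmFn (GmPts.ptOfUnit u)
      rw [h1, GmPts.gmFn_ptOfUnit])
    have hx' : x' = pt (x * ((u⁻¹ : (Γ(X.left, ⊤))ˣ) : Γ(X.left, ⊤))) := by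
      apply gaFn_injective
      rw [gaFn_pt, ← h3, h1, _root_.mul_assoc, Units.mul_inv, _root_.mul_one]
    have hy' : y' = pt (y * ((u⁻¹ : (Γ(X.left, ⊤))ˣ) : Γ(X.left, ⊤))) := by
      apply gaFn_injective
      rw [gaFn_pt, ← h4, h1, _root_.mul_assoc, Units.mul_inv, _root_.mul_one]
    rw [hz, hx', hy'] at h5
    rw [h5]
    rfl

section lemmas
variable {i α pp pm av X}

local notation "RR" => mkRel i α pp pm hpp hpm av h2 hF X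

lemma P_eq (x : X ⟶ Red.Ga S) (a : Γ(X.left, ⊤)) (h : Red.gaFn x = a) : (RR).P a = x ≫ pp := by
  subst h
  show pt (Red.gaFn x) ≫ pp = x ≫ pp
  rw [pt_gaFn]

lemma M_eq (x : X ⟶ Red.Ga S) (a : Γ(X.left, ⊤)) (h : Red.gaFn x = a) : (RR).M a = x ≫ pm := by
  subst h
  show pt (Red.gaFn x) ≫ pm = x ≫ pm
  rw [pt_gaFn]

lemma h_eq (z : X ⟶ Red.Gm S) (u : (Γ(X.left, ⊤))ˣ) (hu : (u : Γ(X.left, ⊤)) = Red.gmFn z) :
    (RR).h u = z ≫ av ≫ i := by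
  have : GmPts.ptOfUnit u = z := GmPts.gmFn_injective (by
    show Red.gmFn (GmPts.ptOfUnit u) = Red.gmFn z
    rw [GmPts.gmFn_ptOfUnit, hu])
  show (GmPts.ptOfUnit u ≫ av) ≫ i = z ≫ av ≫ i
  rw [this, Category.assoc]

lemma I_eq (t : X ⟶ T) : (RR).I t = t ≫ i := rfl

lemma α_eq (t : X ⟶ T) : (((RR).α t : (Γ(X.left, ⊤))ˣ) : Γ(X.left, ⊤)) = Red.gmFn (t ≫ α) := rfl

lemma A_eq (z : X ⟶ Red.Gm S) (u : (Γ(X.left, ⊤))ˣ) (hu : (u : Γ(X.left, ⊤)) = Red.gmFn z) :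
    (RR).A u = z ≫ av := by
  have : GmPts.ptOfUnit u = z := GmPts.gmFn_injective (by
    show Red.gmFn (GmPts.ptOfUnit u) = Red.gmFn z
    rw [GmPts.gmFn_ptOfUnit, hu])
  show GmPts.ptOfUnit u ≫ av = z ≫ av
  rw [this]

end lemmas

include hpp hpm h2 hF in
/-- S8488 -/
theorem s8488 (x y x' y' : X ⟶ Red.Ga S) (z : X ⟶ Red.Gm S)
    (hz : Red.gmFn z = 1 + Red.gaFn x * Red.gaFn y)
    (hx' : Red.gaFn x' * Red.gmFn z = Red.gaFn x) (hy' : Red.gaFn y' * Red.gmFn z = Red.gaFn y) :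
    (y ≫ pm) * (x ≫ pp) = (x' ≫ pp) * (z ≫ av ≫ i)⁻¹ * (y' ≫ pm) := by
  let R := mkRel i α pp pm hpp hpm av h2 hF X
  let u : (Γ(X.left, ⊤))ˣ := GmPts.unitOfPt z
  have hu : (u : Γ(X.left, ⊤)) = Red.gmFn z := rfl
  have key := R.reversed (Red.gaFn x) (Red.gaFn y) u (by rw [hu, hz])
  have e1 : Red.gaFn x' = Red.gaFn x * ((u⁻¹ : (Γ(X.left, ⊤))ˣ) : Γ(X.left, ⊤)) := by
    rw [← hx', ← hu, _root_.mul_assoc, Units.mul_inv, _root_.mul_one]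
  have e2 : Red.gaFn y' = Red.gaFn y * ((u⁻¹ : (Γ(X.left, ⊤))ˣ) : Γ(X.left, ⊤)) := by
    rw [← hy', ← hu, _root_.mul_assoc, Units.mul_inv, _root_.mul_one]
  rw [P_eq hpp hpm h2 hF x _ rfl, M_eq hpp hpm h2 hF y _ rfl, P_eq hpp hpm h2 hF x' _ e1,
    M_eq hpp hpm h2 hF y' _ e2, h_eq hpp hpm h2 hF z u hu] at key
  exact key

include hpp hpm h2 hF in
/-- S8470 -/
theorem s8470 (z : X ⟶ Red.Gm S) (y₁ x₁ y₂ x₂ : X ⟶ Red.Ga S)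
    (hy₁ : Red.gaFn y₁ * Red.gmFn z = 1 - Red.gmFn z)
    (hx₁ : Red.gaFn x₁ = 1) (hy₂ : Red.gaFn y₂ = Red.gmFn z - 1)
    (hx₂ : Red.gaFn x₂ * Red.gmFn z = -1) :
    z ≫ av ≫ i = (y₁ ≫ pm) * (x₁ ≫ pp) * (y₂ ≫ pm) * (x₂ ≫ pp) := by
  let R := mkRel i α pp pm hpp hpm av h2 hF X
  let u : (Γ(X.left, ⊤))ˣ := GmPts.unitOfPt z
  have hu : (u : Γ(X.left, ⊤)) = Red.gmFn z := rfl
  have key := R.coroot u
  have e1 : Red.gaFn y₁ = ((u⁻¹ : (Γ(X.left, ⊤))ˣ) : Γ(X.left, ⊤)) - 1 := by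
    have : Red.gaFn y₁ = (Red.gaFn y₁ * u) * ((u⁻¹ : (Γ(X.left, ⊤))ˣ) : Γ(X.left, ⊤)) := by
      rw [_root_.mul_assoc, Units.mul_inv, _root_.mul_one]
    rw [this, hu, hy₁, ← hu, sub_mul, Units.mul_inv, _root_.one_mul]
  have e2 : Red.gaFn x₂ = -((u⁻¹ : (Γ(X.left, ⊤))ˣ) : Γ(X.left, ⊤)) := by
    have : Red.gaFn x₂ = (Red.gaFn x₂ * u) * ((u⁻¹ : (Γ(X.left, ⊤))ˣ) : Γ(X.left, ⊤)) := by
      rw [_root_.mul_assoc, Units.mul_inv, _root_.mul_one]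
    rw [this, hu, hx₂, neg_mul, _root_.one_mul]
  rw [h_eq hpp hpm h2 hF z u hu, M_eq hpp hpm h2 hF y₁ _ e1, P_eq hpp hpm h2 hF x₁ _ hx₁,
    M_eq hpp hpm h2 hF y₂ _ (hy₂.trans (by rw [hu])), P_eq hpp hpm h2 hF x₂ _ e2] at key
  exact key

include hpp hpm h2 hF in
/-- S8476 -/
theorem s8476 (x y x' y' y₂ x₂ : X ⟶ Red.Ga S) (t t' : X ⟶ T) (z : X ⟶ Red.Gm S)
    (hz : Red.gmFn z = 1 + Red.gaFn x * Red.gaFn y')
    (hy₂ : (Red.gaFn y₂ - Red.gaFn y) * Red.gmFn z * Red.gmFn (t ≫ α) = Red.gaFn y')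
    (hx₂ : (Red.gaFn x₂ - Red.gaFn x') * Red.gmFn z * Red.gmFn (t' ≫ α) = Red.gaFn x) :
    ((y ≫ pm) * (t ≫ i) * (x ≫ pp)) * ((y' ≫ pm) * (t' ≫ i) * (x' ≫ pp)) =
      (y₂ ≫ pm) * ((t * (z ≫ av) * t') ≫ i) * (x₂ ≫ pp) := by
  let R := mkRel i α pp pm hpp hpm av h2 hF X
  let u : (Γ(X.left, ⊤))ˣ := GmPts.unitOfPt z
  have hu : (u : Γ(X.left, ⊤)) = Red.gmFn z := rfl
  have key := R.bigcell t t' (Red.gaFn x) (Red.gaFn y) (Red.gaFn x') (Red.gaFn y') u (by rw [hu, hz])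
  have ha : (((R.α t : (Γ(X.left, ⊤))ˣ)) : Γ(X.left, ⊤)) = Red.gmFn (t ≫ α) := rfl
  have ha' : (((R.α t' : (Γ(X.left, ⊤))ˣ)) : Γ(X.left, ⊤)) = Red.gmFn (t' ≫ α) := rfl
  have e1 : Red.gaFn y₂ = Red.gaFn y + (((R.α t)⁻¹ : (Γ(X.left, ⊤))ˣ) : Γ(X.left, ⊤)) *
      (Red.gaFn y' * ((u⁻¹ : (Γ(X.left, ⊤))ˣ) : Γ(X.left, ⊤))) := by
    rw [← hy₂, ← hu, ← ha]
    have h1 : (u : Γ(X.left, ⊤)) * ((u⁻¹ : (Γ(X.left, ⊤))ˣ) : Γ(X.left, ⊤)) = 1 := Units.mul_inv u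
    have h3 : ((R.α t : (Γ(X.left, ⊤))ˣ) : Γ(X.left, ⊤)) *
        (((R.α t)⁻¹ : (Γ(X.left, ⊤))ˣ) : Γ(X.left, ⊤)) = 1 := Units.mul_inv _
    linear_combination (-(Red.gaFn y₂ - Red.gaFn y) * ((R.α t : (Γ(X.left, ⊤))ˣ) : Γ(X.left, ⊤)) *
        (((R.α t)⁻¹ : (Γ(X.left, ⊤))ˣ) : Γ(X.left, ⊤))) * h1 - (Red.gaFn y₂ - Red.gaFn y) * h3
  have e2 : Red.gaFn x₂ = (((R.α t')⁻¹ : (Γ(X.left, ⊤))ˣ) : Γ(X.left, ⊤)) *
      (Red.gaFn x * ((u⁻¹ : (Γ(X.left, ⊤))ˣ) : Γ(X.left, ⊤))) + Red.gaFn x' := by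
    rw [← hx₂, ← hu, ← ha']
    have h1 : (u : Γ(X.left, ⊤)) * ((u⁻¹ : (Γ(X.left, ⊤))ˣ) : Γ(X.left, ⊤)) = 1 := Units.mul_inv u
    have h3 : ((R.α t' : (Γ(X.left, ⊤))ˣ) : Γ(X.left, ⊤)) *
        (((R.α t')⁻¹ : (Γ(X.left, ⊤))ˣ) : Γ(X.left, ⊤)) = 1 := Units.mul_inv _
    linear_combination (-(Red.gaFn x₂ - Red.gaFn x') * ((R.α t' : (Γ(X.left, ⊤))ˣ) : Γ(X.left, ⊤)) *
        (((R.α t')⁻¹ : (Γ(X.left, ⊤))ˣ) : Γ(X.left, ⊤))) * h1 - (Red.gaFn x₂ - Red.gaFn x') * h3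
  rw [P_eq hpp hpm h2 hF x _ rfl, M_eq hpp hpm h2 hF y _ rfl, P_eq hpp hpm h2 hF x' _ rfl,
    M_eq hpp hpm h2 hF y' _ rfl, P_eq hpp hpm h2 hF x₂ _ e2, M_eq hpp hpm h2 hF y₂ _ e1,
    A_eq hpp hpm h2 hF z u hu] at key
  exact key

include hpp hpm h2 hF in
lemma wel_eq (x x' : X ⟶ Red.Ga S) (hx : Red.gaFn x' * Red.gaFn x = -1) :
    ∃ ux : (Γ(X.left, ⊤))ˣ, (ux : Γ(X.left, ⊤)) = Red.gaFn x ∧
      (mkRel i α pp pm hpp hpm av h2 hF X).wel ux = (x ≫ pp) * (x' ≫ pm) * (x ≫ pp) := by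
  refine ⟨⟨Red.gaFn x, -Red.gaFn x', by rw [mul_neg, _root_.mul_comm, hx, neg_neg],
    by rw [neg_mul, hx, neg_neg]⟩, rfl, ?_⟩
  unfold Rel.wel
  rw [P_eq hpp hpm h2 hF x _ rfl, M_eq hpp hpm h2 hF x' _ (by simp)]

include hpp hpm h2 hF in
/-- S8449 -/
theorem s8449 (x x' y y' : X ⟶ Red.Ga S) (hx : Red.gaFn x' * Red.gaFn x = -1)
    (hy : Red.gaFn y' * Red.gaFn y = -1)
    (m n : X ⟶ Red.Gm S) (hm : Red.gmFn m * Red.gaFn y = - Red.gaFn x) (hn : Red.gmFn n = -1) :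
    ((x ≫ pp) * (x' ≫ pm) * (x ≫ pp)) * ((y ≫ pp) * (y' ≫ pm) * (y ≫ pp)) = m ≫ av ≫ i ∧
      ((x ≫ pp) * (x' ≫ pm) * (x ≫ pp)) ^ 2 = n ≫ av ≫ i := by
  let R := mkRel i α pp pm hpp hpm av h2 hF X
  obtain ⟨ux, hux, hwx⟩ := wel_eq i α pp pm hpp hpm av h2 hF X x x' hx
  obtain ⟨uy, huy, hwy⟩ := wel_eq i α pp pm hpp hpm av h2 hF X y y' hy
  constructor
  · rw [← hwx, ← hwy, R.wel_mul]
    apply h_eq
    push_cast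
    rw [hux]
    have h1 : (uy : Γ(X.left, ⊤)) * ((uy⁻¹ : (Γ(X.left, ⊤))ˣ) : Γ(X.left, ⊤)) = 1 := Units.mul_inv uy
    rw [huy] at h1
    linear_combination (Red.gmFn m) * h1 - ((uy⁻¹ : (Γ(X.left, ⊤))ˣ) : Γ(X.left, ⊤)) * hm
  · rw [← hwx, R.wel_sq]
    apply h_eq
    rw [hn]
    simp

include hpp hpm h2 hF in
/-- S8448 -/
theorem s8448 (x x' : X ⟶ Red.Ga S) (hx : Red.gaFn x' * Red.gaFn x = -1) :
    (∀ t : X ⟶ T, ((x ≫ pp) * (x' ≫ pm) * (x ≫ pp)) * (t ≫ i) * ((x ≫ pp) * (x' ≫ pm) * (x ≫ pp))⁻¹ =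
        (t ≫ α ≫ av ≫ i)⁻¹ * (t ≫ i)) ∧
      ∀ (z : X ⟶ Red.Gm S) (y y' : X ⟶ Red.Ga S), Red.gaFn y = Red.gmFn z * Red.gaFn x →
        Red.gaFn y' * Red.gaFn y = -1 →
        (y ≫ pp) * (y' ≫ pm) * (y ≫ pp) = (z ≫ av ≫ i) * ((x ≫ pp) * (x' ≫ pm) * (x ≫ pp)) ∧
          (y ≫ pp) * (y' ≫ pm) * (y ≫ pp) = ((x ≫ pp) * (x' ≫ pm) * (x ≫ pp)) * (z ≫ av ≫ i)⁻¹ := by
  let R := mkRel i α pp pm hpp hpm av h2 hF X
  obtain ⟨ux, hux, hwx⟩ := wel_eq i α pp pm hpp hpm av h2 hF X x x' hx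
  constructor
  · intro t
    have key := R.wel_conj t ux
    rw [hwx, h_eq hpp hpm h2 hF (t ≫ α) (R.α t) rfl] at key
    rw [← Category.assoc]
    exact key
  · intro z y y' hy hyy
    obtain ⟨uy, huy, hwy⟩ := wel_eq i α pp pm hpp hpm av h2 hF X y y' hyy
    let uz : (Γ(X.left, ⊤))ˣ := GmPts.unitOfPt z
    have huz : (uz : Γ(X.left, ⊤)) = Red.gmFn z := rfl
    have : uy = uz * ux := Units.ext (by push_cast; rw [huy, hy, huz, hux])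
    have key := R.wel_smul uz ux
    rw [← this, hwy, hwx, h_eq hpp hpm h2 hF z uz huz] at key
    exact key

end Groth.Agent.Helper2.RankOneTr
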