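import Mathlib
import Groth.Prelude
import Groth.Agent.Helper2.RankOneTr
import Groth.Agent.Helper2.RankOneAbs2
import Groth.Agent.Helper2.OmegaCover

set_option autoImplicit false
set_option linter.unusedSectionVars false
set_option linter.style.haveILetI false
universe u

open CategoryTheory MonoidalCategory CartesianMonoidalCategory MonObj GrpObj AlgebraicGeometry
  CategoryTheory.Limits
open Red

namespace Groth.Agent.Helper2.RankOneTr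

open Groth.Agent.Helper5.GaPts Groth.Agent.Helper2.GaAdd Groth.Agent.Helper2.RankOneAbs
  Groth.Agent.Helper2.OmegaCover

variable {S : Scheme.{u}} {G T : Over S} [GrpObj G] [GrpObj T] (i : T ⟶ G) [IsMonHom i]
  (α : T ⟶ Red.Gm S) [IsMonHom α]
  (pp pm : Red.Ga S ⟶ G) [IsMonHom pp] [IsMonHom pm]
  (hpp : ∀ (X : Over S) (t : X ⟶ T) (x : X ⟶ Red.Ga S), ∃ x' : X ⟶ Red.Ga S,
    x' ≫ pp = (t ≫ i) * (x ≫ pp) * (t ≫ i)⁻¹ ∧ Red.gaFn x' = Red.gmFn (t ≫ α) * Red.gaFn x)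
  (hpm : ∀ (X : Over S) (t : X ⟶ T) (y : X ⟶ Red.Ga S), ∃ y' : X ⟶ Red.Ga S,
    y' ≫ pm = (t ≫ i) * (y ≫ pm) * (t ≫ i)⁻¹ ∧ Red.gaFn y' * Red.gmFn (t ≫ α) = Red.gaFn y)
  (av : Red.Gm S ⟶ T) [IsMonHom av] (h2 : av ≫ α = (𝟙 (Red.Gm S)) ^ 2)
  (hF : ∀ (X : Over S) (x y : X ⟶ Red.Ga S), IsUnit (1 + Red.gaFn x * Red.gaFn y) →
    ∃ (x' y' : X ⟶ Red.Ga S) (z : X ⟶ Red.Gm S), Red.gmFn z = 1 + Red.gaFn x * Red.gaFn y ∧
      Red.gaFn x' * Red.gmFn z = Red.gaFn x ∧ Red.gaFn y' * Red.gmFn z = Red.gaFn y ∧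
      (x ≫ pp) * (y ≫ pm) = (y' ≫ pm) * (z ≫ av ≫ i) * (x' ≫ pp))
  (X : Over S)

section compat
variable {X} {X' : Over S} (p : X' ⟶ X)

include hpp hpm h2 hF in
lemma comp_P (a : Γ(X.left, ⊤)) :
    p ≫ (mkRel i α pp pm hpp hpm av h2 hF X).P a =
      (mkRel i α pp pm hpp hpm av h2 hF X').P (p.left.appTop a) := by
  show p ≫ (pt a ≫ pp) = pt (p.left.appTop a) ≫ pp
  rw [← Category.assoc, comp_pt]

include hpp hpm h2 hF in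
lemma comp_M (a : Γ(X.left, ⊤)) :
    p ≫ (mkRel i α pp pm hpp hpm av h2 hF X).M a =
      (mkRel i α pp pm hpp hpm av h2 hF X').M (p.left.appTop a) := by
  show p ≫ (pt a ≫ pm) = pt (p.left.appTop a) ≫ pm
  rw [← Category.assoc, comp_pt]

include hpp hpm h2 hF in
lemma comp_wel (ux : (Γ(X.left, ⊤))ˣ) :
    p ≫ (mkRel i α pp pm hpp hpm av h2 hF X).wel ux =
      (mkRel i α pp pm hpp hpm av h2 hF X').wel (Units.map p.left.appTop.hom.toMonoidHom ux) := by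
  unfold Rel.wel
  rw [MonObj.comp_mul, MonObj.comp_mul, comp_P, comp_M]
  congr 3
  rw [map_neg]
  rfl

end compat

include hpp hpm h2 hF in
/-- the braid relation on `X`-points -/
theorem braid (ux : (Γ(X.left, ⊤))ˣ) :
    (mkRel i α pp pm hpp hpm av h2 hF X).wel ux * (mkRel i α pp pm hpp hpm av h2 hF X).P ux =
      (mkRel i α pp pm hpp hpm av h2 hF X).M (-((ux⁻¹ : (Γ(X.left, ⊤))ˣ) : Γ(X.left, ⊤))) *
        (mkRel i α pp pm hpp hpm av h2 hF X).wel ux := by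
  apply π_epi X
  let ux' : (Γ((cov X).left, ⊤))ˣ := Units.map (π X).left.appTop.hom.toMonoidHom ux
  have key := (mkRel i α pp pm hpp hpm av h2 hF (cov X)).braid_of_omega ux' (ωX_unit X).unit
    (by rw [IsUnit.unit_spec]; exact ωX_rel X)
  rw [MonObj.comp_mul, MonObj.comp_mul, comp_wel, comp_P, comp_M]
  convert key using 3
  · rfl
  · rw [map_neg]
    rfl

include hpp hpm h2 hF in
lemma wel_eq' (x x' : X ⟶ Red.Ga S) (hx : Red.gaFn x' * Red.gaFn x = -1) :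
    ∃ ux : (Γ(X.left, ⊤))ˣ, (ux : Γ(X.left, ⊤)) = Red.gaFn x ∧
      Red.gaFn x' = -((ux⁻¹ : (Γ(X.left, ⊤))ˣ) : Γ(X.left, ⊤)) ∧
      (mkRel i α pp pm hpp hpm av h2 hF X).wel ux = (x ≫ pp) * (x' ≫ pm) * (x ≫ pp) := by
  obtain ⟨ux, hux, hw⟩ := wel_eq i α pp pm hpp hpm av h2 hF X x x' hx
  refine ⟨ux, hux, ?_, hw⟩
  have h1 : (ux : Γ(X.left, ⊤)) * ((ux⁻¹ : (Γ(X.left, ⊤))ˣ) : Γ(X.left, ⊤)) = 1 := Units.mul_inv ux
  rw [← hux] at hx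
  linear_combination ((ux⁻¹ : (Γ(X.left, ⊤))ˣ) : Γ(X.left, ⊤)) * hx - Red.gaFn x' * h1

include hpp hpm h2 hF in
/-- S8475 -/
theorem s8475 (x x' : X ⟶ Red.Ga S) (hx : Red.gaFn x' * Red.gaFn x = -1) :
    ((x ≫ pp) * (x' ≫ pm) * (x ≫ pp)) * (x ≫ pp) * ((x ≫ pp) * (x' ≫ pm) * (x ≫ pp))⁻¹ = x' ≫ pm ∧
      (((x ≫ pp) * (x' ≫ pm) * (x ≫ pp)) * (x ≫ pp)) ^ 3 = 1 := by
  let R := mkRel i α pp pm hpp hpm av h2 hF X
  obtain ⟨ux, hux, hux', hw⟩ := wel_eq' i α pp pm hpp hpm av h2 hF X x x' hx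
  have hb := braid i α pp pm hpp hpm av h2 hF X ux
  have h1 := R.conj_P ux hb
  have h3 := R.cube ux hb
  rw [hw, P_eq hpp hpm h2 hF x _ hux.symm] at h1 h3
  rw [M_eq hpp hpm h2 hF x' _ hux'] at h1
  exact ⟨h1, h3⟩

include hpp hpm h2 hF in
/-- S8483 -/
theorem s8483 (x x' nx nx' y y' : X ⟶ Red.Ga S) (hx : Red.gaFn x' * Red.gaFn x = -1)
    (hnx : Red.gaFn nx = - Red.gaFn x) (hnx' : Red.gaFn nx' = - Red.gaFn x')
    (hy : Red.gaFn y' * Red.gaFn y = -1) (z : X ⟶ Red.Gm S)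
    (hz : Red.gmFn z = Red.gaFn x * Red.gaFn y) :
    (nx' ≫ pm) * (nx ≫ pp) * (nx' ≫ pm) = ((x ≫ pp) * (x' ≫ pm) * (x ≫ pp))⁻¹ ∧
      (nx ≫ pp) * (nx' ≫ pm) * (nx ≫ pp) = ((x ≫ pp) * (x' ≫ pm) * (x ≫ pp))⁻¹ ∧
      ((x ≫ pp) * (x' ≫ pm) * (x ≫ pp)) * ((y ≫ pm) * (y' ≫ pp) * (y ≫ pm)) = z ≫ av ≫ i := by
  let R := mkRel i α pp pm hpp hpm av h2 hF X
  obtain ⟨ux, hux, hux', hw⟩ := wel_eq' i α pp pm hpp hpm av h2 hF X x x' hx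
  obtain ⟨uy, huy, huy', -⟩ := wel_eq' i α pp pm hpp hpm av h2 hF X y y' hy
  have e_nx : Red.gaFn nx = ((-ux : (Γ(X.left, ⊤))ˣ) : Γ(X.left, ⊤)) := by
    rw [hnx, ← hux]; simp
  have e_nx' : Red.gaFn nx' = -((((-ux)⁻¹ : (Γ(X.left, ⊤))ˣ)) : Γ(X.left, ⊤)) := by
    rw [hnx', hux']; simp
  refine ⟨?_, ?_, ?_⟩
  · have h1 := R.wel_eq_MPM (-ux) (braid i α pp pm hpp hpm av h2 hF X (-ux))
    rw [R.wel_neg, hw, P_eq hpp hpm h2 hF nx _ e_nx, M_eq hpp hpm h2 hF nx' _ e_nx'] at h1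
    exact h1.symm
  · have h1 := R.wel_neg ux
    unfold Rel.wel at h1
    rw [P_eq hpp hpm h2 hF nx _ e_nx, M_eq hpp hpm h2 hF nx' _ e_nx'] at h1
    rw [h1]
    exact congrArg (·⁻¹) hw
  · let v : (Γ(X.left, ⊤))ˣ := -uy⁻¹
    have hv1 : Red.gaFn y' = ((v : (Γ(X.left, ⊤))ˣ) : Γ(X.left, ⊤)) := by
      rw [huy']; simp [v]
    have hv2 : Red.gaFn y = -(((v⁻¹ : (Γ(X.left, ⊤))ˣ)) : Γ(X.left, ⊤)) := by
      rw [← huy]; simp [v]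
    have h1 := R.wel_eq_MPM v (braid i α pp pm hpp hpm av h2 hF X v)
    rw [P_eq hpp hpm h2 hF y' _ hv1, M_eq hpp hpm h2 hF y _ hv2] at h1
    rw [← h1, ← hw, R.wel_mul]
    apply h_eq
    rw [hz, ← hux, ← huy]
    simp [v]

end Groth.Agent.Helper2.RankOneTr
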