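import Mathlib

universe u

open CategoryTheory AlgebraicGeometry AlgebraicGeometry.Scheme

namespace Groth.Agent.Helper2.RatOver

variable (S : Scheme.{u}) {X Y : Scheme.{u}} [X.Over S] [Y.Over S]

/-- the set of domains of `S`-representatives. -/
abbrev domSet (f : X ⤏ Y) : Set X.Opens :=
  { U | ∃ g : X.PartialMap Y, g.IsOver S ∧ g.toRationalMap = f ∧ g.domain = U }

/-- The largest open on which an `S`-representative exists. -/
def domainOver (f : X ⤏ Y) : X.Opens := sSup (domSet S f)

lemma dense_domainOver (f : X ⤏ Y) [f.IsOver S] : Dense (X := X) (domainOver S f) := by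
  obtain ⟨g, hg, hgf⟩ := f.exists_partialMap_over S
  exact g.dense_domain.mono (le_sSup (a := g.domain) ⟨g, hg, hgf, rfl⟩ : g.domain ≤ domainOver S f)

set_option backward.isDefEq.respectTransparency false in
noncomputable
def openCoverDomainOver (f : X ⤏ Y) : (domainOver S f).toScheme.OpenCover where
  I₀ := domSet S f
  X U := U.1.toScheme
  f U := X.homOfLE (le_sSup U.2)
  mem₀ := by
    rw [presieve₀_mem_precoverage_iff]
    refine ⟨fun x ↦ ?_, inferInstance⟩
    use ⟨_, (TopologicalSpace.Opens.mem_sSup.mp x.2).choose_spec.1⟩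
    exact ⟨⟨x.1, (TopologicalSpace.Opens.mem_sSup.mp x.2).choose_spec.2⟩, Subtype.ext (by simp)⟩

set_option backward.isDefEq.respectTransparency false in
noncomputable
def toPartialMapOver [IsReduced X] [IsSeparated (Y ↘ S)] (f : X ⤏ Y) [f.IsOver S] :
    X.PartialMap Y := by
  refine ⟨domainOver S f, dense_domainOver S f, (openCoverDomainOver S f).glueMorphisms
    (fun x ↦ (X.isoOfEq x.2.choose_spec.2.2).inv ≫ x.2.choose.hom) ?_⟩
  intro x y
  let g (x : (openCoverDomainOver S f).I₀) := x.2.choose
  have hg₀ (x) : (g x).IsOver S := x.2.choose_spec.1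
  have hg₁ (x) : (g x).toRationalMap = f := x.2.choose_spec.2.1
  have hg₂ (x) : (g x).domain = x.1 := x.2.choose_spec.2.2
  refine (cancel_epi (isPullback_opens_inf_le (le_sSup x.2) (le_sSup y.2)).isoPullback.hom).mp ?_
  simp only [openCoverDomainOver, IsPullback.isoPullback_hom_fst_assoc,
    IsPullback.isoPullback_hom_snd_assoc]
  change _ ≫ _ ≫ (g x).hom = _ ≫ _ ≫ (g y).hom
  simp_rw [← cancel_epi (X.isoOfEq congr($(hg₂ x) ⊓ $(hg₂ y))).hom, ← Category.assoc]
  have := hg₀ x
  have := hg₀ y
  convert! (PartialMap.equiv_iff_of_isSeparated (S := S) (f := g x) (g := g y)).mp ?_ using 1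
  · rw [PartialMap.restrict_hom]; congr 1; simp [g, ← cancel_mono (Opens.ι _)]
  · rw [PartialMap.restrict_hom]; congr 1; simp [g, ← cancel_mono (Opens.ι _)]
  · rw [← PartialMap.toRationalMap_eq_iff, hg₁, hg₁]


lemma le_domain_toPartialMapOver [IsReduced X] [IsSeparated (Y ↘ S)] (f : X ⤏ Y) [f.IsOver S]
    (h : X.PartialMap Y) (hh : h.IsOver S) (hf : h.toRationalMap = f) :
    h.domain ≤ (toPartialMapOver S f).domain :=
  show h.domain ≤ domainOver S f from le_sSup (a := h.domain) ⟨h, hh, hf, rfl⟩

set_option backward.defeqAttrib.useBackward true in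
lemma restrict_toPartialMapOver [IsReduced X] [IsSeparated (Y ↘ S)] (f : X ⤏ Y) [f.IsOver S]
    (h : X.PartialMap Y) [hh : h.IsOver S] (hf : h.toRationalMap = f) :
    ((toPartialMapOver S f).restrict _ h.dense_domain
      (le_domain_toPartialMapOver S f h hh hf)).hom = h.hom := by
  dsimp [toPartialMapOver]
  refine ((openCoverDomainOver S f).ι_glueMorphisms _ _ ⟨_, h, hh, hf, rfl⟩).trans ?_
  generalize_proofs _ H _
  have := H.choose_spec.1
  have : H.choose = h :=
    (PartialMap.equiv_iff_of_domain_eq_of_isSeparated (S := S) H.choose_spec.2.2).mp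
      (PartialMap.toRationalMap_eq_iff.mp (H.choose_spec.2.1.trans hf.symm))
  exact ((PartialMap.ext_iff _ _).mp this.symm).choose_spec.symm


set_option backward.isDefEq.respectTransparency false in
set_option backward.defeqAttrib.useBackward true in
instance isOver_toPartialMapOver [IsReduced X] [IsSeparated (Y ↘ S)] (f : X ⤏ Y) [f.IsOver S] :
    (toPartialMapOver S f).IsOver S := by
  constructor
  apply (openCoverDomainOver S f).hom_ext
  intro x
  have hx := x.2.choose_spec.1
  dsimp [toPartialMapOver]
  rw [Cover.ι_glueMorphisms_assoc]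
  simp only [Category.assoc]
  have := hx.comp_over
  rw [this]
  change _ ≫ (Opens.ι _ ≫ X ↘ S) = _ ≫ (Opens.ι _ ≫ X ↘ S)
  rw [← Category.assoc, ← Category.assoc]
  congr 1
  simp [openCoverDomainOver]


set_option backward.isDefEq.respectTransparency.types false in
set_option backward.defeqAttrib.useBackward true in
lemma eq_restrict_toPartialMapOver [IsReduced X] [IsSeparated (Y ↘ S)] (f : X ⤏ Y) [f.IsOver S]
    (h : X.PartialMap Y) (hh : h.IsOver S) (hf : h.toRationalMap = f) :
    ∃ hle : h.domain ≤ (toPartialMapOver S f).domain,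
      h = (toPartialMapOver S f).restrict h.domain h.dense_domain hle := by
  refine ⟨le_domain_toPartialMapOver S f h hh hf, Eq.symm ?_⟩
  exact PartialMap.ext _ h rfl (by simpa using restrict_toPartialMapOver S f h hf)

lemma toRationalMap_toPartialMapOver [IsReduced X] [IsSeparated (Y ↘ S)] (f : X ⤏ Y)
    [f.IsOver S] : (toPartialMapOver S f).toRationalMap = f := by
  obtain ⟨h, hh, hf⟩ := f.exists_partialMap_over S
  obtain ⟨hle, e⟩ := eq_restrict_toPartialMapOver S f h hh hf
  have h2 := PartialMap.restrict_toRationalMap (toPartialMapOver S f) h.domain h.dense_domain hle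
  rw [← e, hf] at h2
  exact h2.symm

end Groth.Agent.Helper2.RatOver
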