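import Mathlib
import Groth.Prelude
import Groth.Agent.Helper2.RedBC1
import Groth.Agent.Helper2.AssTS4
import Groth.Agent.Helper2.FieldTensNE3
import Groth.Agent.Helper4.AssAlg

set_option autoImplicit false
set_option linter.unusedVariables false
open CategoryTheory CategoryTheory.Limits AlgebraicGeometry TopologicalSpace Topology TensorProduct
open IsLocalRing
universe u

namespace Groth.Agent.Helper2.RedBC

open Groth.Agent.Helper4.AssSpec

/-- the stalk of the structure module has length one iff the local ring is a field. -/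
theorem length_structure_stalk_eq_one_iff (Φ : Scheme.{u}) (w : Φ) :
    Module.length (Φ.presheaf.stalk w) ((Coh.structureModule Φ).presheaf.stalk w) = 1 ↔
      ∀ x : Φ.presheaf.stalk w, x ≠ 0 → IsUnit x := by
  rw [← (Groth.Agent.Lead.CartSec.unitStalkEquiv w).length_eq, Module.length_eq_one_iff,
    isSimpleModule_self_iff_isUnit]
  exact and_iff_right inferInstance

/-- a reduced local ring whose maximal ideal is associated is a field. -/
theorem isUnit_of_isAssociatedPrime_of_isReduced {A : Type u} [CommRing A] [IsLocalRing A]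
    [IsReduced A] (h : IsAssociatedPrime (maximalIdeal A) A) (x : A) (hx : x ≠ 0) : IsUnit x := by
  obtain ⟨hprime, a, ha⟩ := h
  have ha0 : a ≠ 0 := by
    rintro rfl
    apply hprime.ne_top
    rw [ha, Ideal.eq_top_iff_one]
    refine ⟨1, ?_⟩
    rw [Submodule.mem_colon_singleton, Submodule.mem_bot, smul_zero]
  have hkill : ∀ y ∈ maximalIdeal A, y * a = 0 := by
    intro y hy
    rw [ha] at hy
    obtain ⟨n, hn⟩ := hy
    rw [Submodule.mem_colon_singleton, Submodule.mem_bot, smul_eq_mul] at hn
    apply IsReduced.eq_zero
    refine ⟨n + 1, ?_⟩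
    rw [mul_pow, pow_succ y, pow_succ a]
    calc y ^ n * y * (a ^ n * a) = (y ^ n * a) * (y * a ^ n) := by ring
      _ = 0 := by rw [hn, zero_mul]
  have hau : IsUnit a := by
    by_contra hnu
    have : a ∈ maximalIdeal A := (IsLocalRing.mem_maximalIdeal a).2 hnu
    have h2 := hkill a this
    exact ha0 (IsReduced.eq_zero _ ⟨2, by rw [pow_two]; exact h2⟩)
  by_contra hxu
  have hxm : x ∈ maximalIdeal A := (IsLocalRing.mem_maximalIdeal x).2 hxu
  have := hkill x hxm
  exact hx (hau.mul_left_eq_zero.1 this)

/-- a ring all of whose localizations at weakly associated primes are fields is reduced. -/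
theorem isReduced_of_forall_isUnit (R : CommRingCat.{u})
    (h : ∀ w ∈ AssSch.Ass (Coh.structureModule (Spec R)),
      ∀ x : (Spec R).presheaf.stalk w, x ≠ 0 → IsUnit x) : IsReduced R := by
  constructor
  intro a hnil
  by_contra ha0
  have hne : (Submodule.colon (⊥ : Submodule R R) {a} : Ideal R) ≠ ⊤ := by
    intro htop
    apply ha0
    have : (1 : R) ∈ (Submodule.colon (⊥ : Submodule R R) {a} : Ideal R) := by rw [htop]; trivial
    rw [Submodule.mem_colon_singleton, Submodule.mem_bot, one_smul] at this
    exact this
  obtain ⟨p, hp⟩ := Ideal.nonempty_minimalPrimes hne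
  haveI : p.IsPrime := hp.1.1
  let w : PrimeSpectrum.Top R := ⟨p, inferInstance⟩
  haveI hloc : IsLocalization.AtPrime ((Spec R).presheaf.stalk w) p := isLocStalk R w
  have hw : (show ↥(Spec R) from w) ∈ AssSch.Ass (Coh.structureModule (Spec R)) := by
    rw [Groth.Agent.Helper3.AssBCC.mem_ass_iff]
    exact (Groth.Agent.Helper4.AssAlg.isAssociatedPrime_maximalIdeal_iff p
      ((Spec R).presheaf.stalk w) (Algebra.linearMap R ((Spec R).presheaf.stalk w))).2 ⟨a, hp⟩
  have hne0 : algebraMap R ((Spec R).presheaf.stalk w) a ≠ 0 := by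
    intro h0
    rw [IsLocalization.map_eq_zero_iff p.primeCompl] at h0
    obtain ⟨s, hs⟩ := h0
    have : (s : R) ∈ (Submodule.colon (⊥ : Submodule R R) {a} : Ideal R) := by
      rw [Submodule.mem_colon_singleton, Submodule.mem_bot, smul_eq_mul]
      exact hs
    exact s.2 (hp.1.2 this)
  have hu := h w hw _ hne0
  have hn : IsNilpotent (algebraMap R ((Spec R).presheaf.stalk w) a) := hnil.map _
  exact hn.not_isUnit hu |>.elim

end Groth.Agent.Helper2.RedBC

namespace Groth.Agent.Helper2.RedBC

open Groth.Agent.Helper4.AssSpec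

/-- reducedness of the structure module in terms of the local rings at the associated points. -/
theorem isReducedMod_structure_iff (Φ : Scheme.{u}) :
    AssSch.IsReducedMod (Coh.structureModule Φ) ↔
      AssSch.NoEmbedded (Coh.structureModule Φ) ∧
        ∀ w ∈ AssSch.Ass (Coh.structureModule Φ),
          ∀ x : Φ.presheaf.stalk w, x ≠ 0 → IsUnit x := by
  unfold AssSch.IsReducedMod
  refine and_congr Iff.rfl (forall_congr' fun w => forall_congr' fun hw => ?_)
  exact length_structure_stalk_eq_one_iff Φ w

/-- for an affine scheme without embedded components, the structure module is reduced iff the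
ring is reduced. -/
theorem isReducedMod_spec_iff (R : CommRingCat.{u})
    (hNE : AssSch.NoEmbedded (Coh.structureModule (Spec R))) :
    AssSch.IsReducedMod (Coh.structureModule (Spec R)) ↔ IsReduced R := by
  rw [isReducedMod_structure_iff]
  constructor
  · rintro ⟨-, h⟩
    exact isReduced_of_forall_isUnit R h
  · intro hR
    refine ⟨hNE, fun w hw x hx => ?_⟩
    haveI : _root_.IsReduced ((Spec R).presheaf.stalk w) := inferInstance
    rw [Groth.Agent.Helper3.AssBCC.mem_ass_iff] at hw
    exact isUnit_of_isAssociatedPrime_of_isReduced hw x hx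

/-- reducedness of the structure module transports along isomorphisms of schemes. -/
theorem isReducedMod_structure_of_iso {T T' : Scheme.{u}} (φ : T ≅ T')
    (h : AssSch.IsReducedMod (Coh.structureModule T')) :
    AssSch.IsReducedMod (Coh.structureModule T) := by
  rw [isReducedMod_structure_iff] at h ⊢
  refine ⟨Groth.Agent.Helper2.FieldTensNE.noEmbedded_structure_of_iso φ h.1, ?_⟩
  intro w hw x hx
  have hw' := (Groth.Agent.Helper2.AssTS.mem_ass_structure_iff_of_iso φ w).1 hw
  let e : T'.presheaf.stalk (φ.hom w) ≃+* T.presheaf.stalk w :=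
    (asIso (φ.hom.stalkMap w)).commRingCatIsoToRingEquiv
  have hx' : e.symm x ≠ 0 := fun h0 => hx (by simpa using congrArg e h0)
  have := h.2 _ hw' _ hx'
  have h2 := this.map e
  rwa [e.apply_symm_apply] at h2

theorem isReducedMod_structure_iff_of_iso {T T' : Scheme.{u}} (φ : T ≅ T') :
    AssSch.IsReducedMod (Coh.structureModule T) ↔ AssSch.IsReducedMod (Coh.structureModule T') :=
  ⟨isReducedMod_structure_of_iso φ.symm, isReducedMod_structure_of_iso φ⟩

end Groth.Agent.Helper2.RedBC
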