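import Mathlib
import Groth.Prelude
import Groth.Agent.Helper2.RedBC2
import Groth.Agent.S9634

set_option autoImplicit false
set_option linter.unusedVariables false
open CategoryTheory CategoryTheory.Limits AlgebraicGeometry TopologicalSpace Topology TensorProduct
open IsLocalRing
universe u

namespace Groth.Agent.Helper2.RedBC

section
variable {k : Type u} [Field k] {X : Scheme.{u}} (f : X ⟶ Spec (CommRingCat.of k))

/-- the structure map of the residue field of a point of a `k`-scheme. -/
noncomputable def resHom (x : X) : k →+* X.residueField x :=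
  (Spec.preimage (X.fromSpecResidueField x ≫ f)).hom

instance flat_specMap_field (K : Type u) [Field K] [Algebra k K] :
    Flat (Spec.map (CommRingCat.ofHom (algebraMap k K))) := by
  rw [Flat.SpecMap_iff]
  show (algebraMap k K).Flat
  exact RingHom.flat_algebraMap_iff.2 inferInstance

instance surjective_specMap_field (K : Type u) [Field K] [Algebra k K] :
    Surjective (Spec.map (CommRingCat.ofHom (algebraMap k K))) := by
  constructor
  intro y
  refine ⟨⟨⊥, Ideal.isPrime_bot⟩, Subsingleton.elim (α := PrimeSpectrum k) _ _⟩

instance flat_bcπ (K : Type u) [Field K] [Algebra k K] : Flat (FBase.bcπ f K) := by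
  haveI := flat_specMap_field (k := k) K
  exact inferInstanceAs (Flat (pullback.fst f (Spec.map (CommRingCat.ofHom (algebraMap k K)))))

instance surjective_bcπ (K : Type u) [Field K] [Algebra k K] : Surjective (FBase.bcπ f K) := by
  haveI := surjective_specMap_field (k := k) K
  exact inferInstanceAs (Surjective (pullback.fst f (Spec.map (CommRingCat.ofHom (algebraMap k K)))))

/-- the fibre of `X_K ⟶ X` over `x` is the spectrum of `κ(x) ⊗_k K`. -/
theorem nonempty_fiber_bcπ_iso (K : Type u) [Field K] [Algebra k K] (x : X) :
    letI := (resHom f x).toAlgebra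
    Nonempty ((FBase.bcπ f K).fiber x ≅ Spec (CommRingCat.of ((X.residueField x) ⊗[k] K))) := by
  letI algK : Algebra k (X.residueField x) := (resHom f x).toAlgebra
  have h : IsPullback (FBase.bcπ f K) (FBase.bcStr f K) f
      (Spec.map (CommRingCat.ofHom (algebraMap k K))) := IsPullback.of_hasPullback _ _
  have h1 : IsPullback ((FBase.bcπ f K).fiberToSpecResidueField x) ((FBase.bcπ f K).fiberι x)
      (X.fromSpecResidueField x) (FBase.bcπ f K) :=
    (IsPullback.of_hasPullback (FBase.bcπ f K) (X.fromSpecResidueField x)).flip
  have h2 := h1.paste_vert h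
  have hβ : Spec.map (Spec.preimage (X.fromSpecResidueField x ≫ f)) =
      X.fromSpecResidueField x ≫ f := Spec.map_preimage _
  rw [← hβ] at h2
  exact ⟨h2.isoPullback ≪≫ pullbackSpecIso k (X.residueField x) K⟩

/-- reducedness of `F ⊗_k K` in terms of the associated points of `F`. -/
theorem isReducedMod_bc_iff [IsLocallyNoetherian X] (F : X.Modules) (hF : Coh.IsCoh F)
    (K : Type u) [Field K] [Algebra k K] [IsLocallyNoetherian (FBase.bc f K)] :
    AssSch.IsReducedMod ((Scheme.Modules.pullback (FBase.bcπ f K)).obj F) ↔
      ∀ x ∈ AssSch.Ass F,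
        (∀ x1 ∈ AssSch.Ass F, x1 ⤳ x → x1 = x) ∧
          Module.length (X.presheaf.stalk x) (F.presheaf.stalk x) = 1 ∧
          (letI := (resHom f x).toAlgebra; IsReduced ((X.residueField x) ⊗[k] K)) := by
  rw [isReducedMod_pullback_iff_of_flat (FBase.bcπ f K) F hF]
  have hr : Set.range (FBase.bcπ f K) = Set.univ := Set.range_eq_univ.2 (FBase.bcπ f K).surjective
  rw [hr, Set.inter_univ]
  refine forall_congr' fun x => forall_congr' fun hx => and_congr Iff.rfl (and_congr Iff.rfl ?_)
  letI algK : Algebra k (X.residueField x) := (resHom f x).toAlgebra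
  obtain ⟨φ⟩ := nonempty_fiber_bcπ_iso f K x
  rw [isReducedMod_structure_iff_of_iso φ, isReducedMod_spec_iff _
    (Groth.Agent.Helper2.FieldTensNE.noEmbedded_spec_tensor k (X.residueField x) K)]

end

end Groth.Agent.Helper2.RedBC
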