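import Mathlib
import Groth.Prelude
import Groth.Agent.Helper2.RedBC3

set_option autoImplicit false
set_option linter.unusedVariables false
open CategoryTheory CategoryTheory.Limits AlgebraicGeometry TopologicalSpace Topology TensorProduct
open IsLocalRing
universe u

namespace Groth.Agent.Helper2.RedBC

section
variable {k : Type u} [Field k] {X : Scheme.{u}} (f : X ⟶ Spec (CommRingCat.of k))

instance isFinite_specMap_field (K : Type u) [Field K] [Algebra k K] [Module.Finite k K] :
    IsFinite (Spec.map (CommRingCat.ofHom (algebraMap k K))) := by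
  rw [IsFinite.SpecMap_iff]
  show (algebraMap k K).Finite
  exact RingHom.finite_algebraMap.2 inferInstance

instance isLocallyNoetherian_bc_of_finite [IsLocallyNoetherian X]
    (K : Type u) [Field K] [Algebra k K] [Module.Finite k K] :
    IsLocallyNoetherian (FBase.bc f K) := by
  haveI := isFinite_specMap_field (k := k) K
  exact inferInstanceAs (IsLocallyNoetherian
    (pullback f (Spec.map (CommRingCat.ofHom (algebraMap k K)))))

theorem isReduced_tensor_comm {A B : Type u} [CommRing A] [CommRing B] [Algebra k A] [Algebra k B]
    (h : IsReduced (A ⊗[k] B)) : IsReduced (B ⊗[k] A) :=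
  isReduced_of_injective (Algebra.TensorProduct.comm k B A).toRingHom
    (Algebra.TensorProduct.comm k B A).injective

theorem s4659 [IsLocallyNoetherian X] (F : X.Modules) (hF : Coh.IsCoh F) :
    (∀ (k' : Type u) [Field k'] [Algebra k k'] [FiniteDimensional k k'] [IsPurelyInseparable k k'],
        AssSch.IsReducedMod ((Scheme.Modules.pullback (FBase.bcπ f k')).obj F)) ↔
      ∀ (K : Type u) [Field K] [Algebra k K] [IsLocallyNoetherian (FBase.bc f K)],
        AssSch.IsReducedMod ((Scheme.Modules.pullback (FBase.bcπ f K)).obj F) := by
  constructor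
  · intro h K _ _ _
    rw [isReducedMod_bc_iff f F hF K]
    intro x hx
    have h0 := (isReducedMod_bc_iff f F hF k).1 (h k) x hx
    refine ⟨h0.1, h0.2.1, ?_⟩
    letI algK : Algebra k (X.residueField x) := (resHom f x).toAlgebra
    have h1 : ∀ (k' : Type u) [Field k'] [Algebra k k'] [Module.Finite k k']
        [IsPurelyInseparable k k'], IsReduced (k' ⊗[k] (X.residueField x)) := by
      intro k' _ _ _ _
      exact isReduced_tensor_comm (((isReducedMod_bc_iff f F hF k').1 (h k') x hx).2.2)
    have h2 : ∀ (K : Type u) [Field K] [Algebra k K], IsReduced (K ⊗[k] (X.residueField x)) :=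
      ((Groth.Agent.S9634.result (k := k) (S := X.residueField x)).out 0 2).1 h1
    exact isReduced_tensor_comm (h2 K)
  · intro h k' _ _ _ _
    exact h k'

end

end Groth.Agent.Helper2.RedBC
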