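import Mathlib
import Groth.Prelude
import Groth.Agent.Helper2.RedBC4
import Groth.Agent.Helper2.FibNoeth1
import Groth.Agent.Helper2.AssTS1
import Groth.Agent.Lead.FlatUnivJ

set_option autoImplicit false
set_option linter.unusedVariables false
open CategoryTheory CategoryTheory.Limits AlgebraicGeometry TopologicalSpace Topology TensorProduct
open IsLocalRing
universe u

namespace Groth.Agent.Helper2.RedBC

open Groth.Agent.Helper2.AssTens

theorem isField_stalk_spec_field (k : Type u) [Field k] (s : ↥(Spec (CommRingCat.of k))) :
    IsField ((Spec (CommRingCat.of k)).presheaf.stalk s) := by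
  let p : PrimeSpectrum k := s
  have hunits : p.asIdeal.primeCompl ≤ IsUnit.submonoid k := by
    intro a ha
    have ha0 : a ≠ 0 := by
      rintro rfl
      exact ha (Ideal.zero_mem _)
    exact ha0.isUnit
  let e : k ≃ₐ[k] ((AlgebraicGeometry.Spec.structureSheaf k).presheaf.stalk p) :=
    IsLocalization.atUnits k p.asIdeal.primeCompl hunits
  exact e.symm.toRingEquiv.toMulEquiv.isField (Field.toIsField k)

/-- every module on a scheme over a field is flat over the field. -/
theorem isFlatOver_field {k : Type u} [Field k] {Y : Scheme.{u}}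
    (g : Y ⟶ Spec (CommRingCat.of k)) (G : Y.Modules) : FlatMod.IsFlatOver g G := by
  intro y
  have hF := isField_stalk_spec_field k (g y)
  letI := FlatMod.moduleStalkOver g G y
  show Module.Flat ((Spec (CommRingCat.of k)).presheaf.stalk (g y)) (G.presheaf.stalk y)
  letI := hF.toField
  infer_instance

section
variable {k : Type u} [Field k] {K : Type u} [Field K] [Algebra k K] {W Y : Scheme.{u}}
  (g : Y ⟶ Spec (CommRingCat.of k)) (π : W ⟶ Y) (q : W ⟶ Spec (CommRingCat.of K))
  (hsq : IsPullback π q g (Spec.map (CommRingCat.ofHom (algebraMap k K))))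

include hsq in
theorem flat_of_isPullback_field : Flat π :=
  MorphismProperty.of_isPullback hsq.flip (flat_specMap_field (k := k) K)

include hsq in
theorem surjective_of_isPullback_field : Surjective π :=
  MorphismProperty.of_isPullback hsq.flip (surjective_specMap_field (k := k) K)

include hsq in
/-- the fibre of a base change `W ⟶ Y` to a field extension `K` over `y` is the spectrum of
`κ(y) ⊗_k K`. -/
theorem nonempty_fiber_iso_of_isPullback (y : Y) :
    letI := (resHom g y).toAlgebra
    Nonempty (π.fiber y ≅ Spec (CommRingCat.of ((Y.residueField y) ⊗[k] K))) := by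
  letI algK : Algebra k (Y.residueField y) := (resHom g y).toAlgebra
  have h1 : IsPullback (π.fiberToSpecResidueField y) (π.fiberι y)
      (Y.fromSpecResidueField y) π :=
    (IsPullback.of_hasPullback π (Y.fromSpecResidueField y)).flip
  have h2 := h1.paste_vert hsq
  have hβ : Spec.map (Spec.preimage (Y.fromSpecResidueField y ≫ g)) =
      Y.fromSpecResidueField y ≫ g := Spec.map_preimage _
  rw [← hβ] at h2
  exact ⟨h2.isoPullback ≪≫ pullbackSpecIso k (Y.residueField y) K⟩

include hsq in
theorem isReducedMod_pullback_iff_of_isPullback [IsLocallyNoetherian Y] [IsLocallyNoetherian W]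
    (G : Y.Modules) (hG : Coh.IsCoh G) :
    AssSch.IsReducedMod ((Scheme.Modules.pullback π).obj G) ↔
      ∀ y ∈ AssSch.Ass G,
        (∀ y1 ∈ AssSch.Ass G, y1 ⤳ y → y1 = y) ∧
          Module.length (Y.presheaf.stalk y) (G.presheaf.stalk y) = 1 ∧
          (letI := (resHom g y).toAlgebra; IsReduced ((Y.residueField y) ⊗[k] K)) := by
  haveI := flat_of_isPullback_field g π q hsq
  haveI := surjective_of_isPullback_field g π q hsq
  rw [isReducedMod_pullback_iff_of_flat π G hG]
  have hr : Set.range π = Set.univ := Set.range_eq_univ.2 π.surjective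
  rw [hr, Set.inter_univ]
  refine forall_congr' fun y => forall_congr' fun hy => and_congr Iff.rfl (and_congr Iff.rfl ?_)
  letI algK : Algebra k (Y.residueField y) := (resHom g y).toAlgebra
  obtain ⟨φ⟩ := nonempty_fiber_iso_of_isPullback g π q hsq y
  rw [isReducedMod_structure_iff_of_iso φ, isReducedMod_spec_iff _
    (Groth.Agent.Helper2.FieldTensNE.noEmbedded_spec_tensor k (Y.residueField y) K)]

end

end Groth.Agent.Helper2.RedBC
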