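import Mathlib
import Groth.Prelude
import Groth.Agent.Helper2.RedBC5

set_option autoImplicit false
set_option linter.unusedVariables false
open CategoryTheory CategoryTheory.Limits AlgebraicGeometry TopologicalSpace Topology TensorProduct
open IsLocalRing
universe u

namespace Groth.Agent.Helper2.RedBC

open Groth.Agent.Helper2.AssTens

theorem s4661 {k : Type u} [Field k] {X Y : Scheme.{u}}
    [IsLocallyNoetherian X] [IsLocallyNoetherian Y] (f : X ⟶ Spec (CommRingCat.of k))
    (g : Y ⟶ Spec (CommRingCat.of k))
    [IsLocallyNoetherian (pullback f g)] (F : X.Modules) (hF : Coh.IsCoh F) (G : Y.Modules)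
    (hG : Coh.IsCoh G)
    (hFgr : ∀ (k' : Type u) [Field k'] [Algebra k k'] [FiniteDimensional k k']
      [IsPurelyInseparable k k'],
      AssSch.IsReducedMod ((Scheme.Modules.pullback (FBase.bcπ f k')).obj F))
    (hGr : AssSch.IsReducedMod G) :
    AssSch.IsReducedMod (CohB1.tensorMod ((Scheme.Modules.pullback (pullback.fst f g)).obj F)
      ((Scheme.Modules.pullback (pullback.snd f g)).obj G)) := by
  have hcohG : Coh.IsCoh ((Scheme.Modules.pullback (pullback.snd f g)).obj G) :=
    Groth.Agent.Lead.FlatUnivJ.isCoh_pullback _ G hG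
  have hfl : FlatMod.IsFlatOver (pullback.fst f g)
      ((Scheme.Modules.pullback (pullback.snd f g)).obj G) :=
    Groth.Agent.Helper2.AssTS.isFlatOver_fst f g G hG.1 (isFlatOver_field g G)
  rw [s2546 (pullback.fst f g) F ((Scheme.Modules.pullback (pullback.snd f g)).obj G) hcohG hfl]
  rintro x ⟨hxF, -⟩
  have h0 := (isReducedMod_bc_iff f F hF k).1 (hFgr k) x hxF
  refine ⟨h0.1, h0.2.1, ?_⟩
  haveI := Groth.Agent.Helper2.FibNoeth.isLocallyNoetherian_fiber (pullback.fst f g) x
  have ε : (Scheme.Modules.pullback ((pullback.fst f g).fiberι x)).obj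
        ((Scheme.Modules.pullback (pullback.snd f g)).obj G) ≅
      (Scheme.Modules.pullback ((pullback.fst f g).fiberι x ≫ pullback.snd f g)).obj G :=
    (Scheme.Modules.pullbackComp _ _).app G
  rw [isReducedMod_iff_of_iso ε]
  letI algK : Algebra k (X.residueField x) := (resHom f x).toAlgebra
  have hsq : IsPullback ((pullback.fst f g).fiberι x ≫ pullback.snd f g)
      ((pullback.fst f g).fiberToSpecResidueField x) g
      (Spec.map (CommRingCat.ofHom (algebraMap k (X.residueField x)))) := by
    have s : IsPullback ((pullback.fst f g).fiberι x)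
        ((pullback.fst f g).fiberToSpecResidueField x) (pullback.fst f g)
        (X.fromSpecResidueField x) :=
      IsPullback.of_hasPullback (pullback.fst f g) (X.fromSpecResidueField x)
    have t : IsPullback (pullback.snd f g) (pullback.fst f g) g f :=
      (IsPullback.of_hasPullback f g).flip
    have h2 := s.paste_horiz t
    have hβ : Spec.map (CommRingCat.ofHom (algebraMap k (X.residueField x))) =
        X.fromSpecResidueField x ≫ f :=
      Spec.map_preimage (X.fromSpecResidueField x ≫ f)
    rw [← hβ] at h2
    exact h2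
  rw [isReducedMod_pullback_iff_of_isPullback (K := X.residueField x) g _ _ hsq G hG]
  intro y hy
  refine ⟨fun y1 hy1 h => (hGr.1 y hy y1 hy1 h).symm, hGr.2 y hy, ?_⟩
  have h1 : ∀ (k' : Type u) [Field k'] [Algebra k k'] [Module.Finite k k']
      [IsPurelyInseparable k k'], IsReduced (k' ⊗[k] (X.residueField x)) := by
    intro k' _ _ _ _
    exact isReduced_tensor_comm (((isReducedMod_bc_iff f F hF k').1 (hFgr k') x hxF).2.2)
  have h2 : ∀ (K : Type u) [Field K] [Algebra k K], IsReduced (K ⊗[k] (X.residueField x)) :=
    ((Groth.Agent.S9634.result (k := k) (S := X.residueField x)).out 0 2).1 h1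
  letI algK' : Algebra k (Y.residueField y) := (resHom g y).toAlgebra
  exact h2 (Y.residueField y)

end Groth.Agent.Helper2.RedBC
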