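import Mathlib
import Groth.Prelude
import Groth.Agent.Helper2.RedBC6
import Groth.Agent.Helper2.GeomInt

set_option autoImplicit false
set_option linter.unusedVariables false
open CategoryTheory CategoryTheory.Limits AlgebraicGeometry TopologicalSpace Topology TensorProduct
open IsLocalRing
universe u

namespace Groth.Agent.Helper2.RedBC

/-- integrality of `k' ⊗_k S` for finite extensions `k'` passes to the algebraic closure. -/
theorem isDomain_algebraicClosure_tensor {k : Type u} [Field k] (S : Type u) [CommRing S]
    [Algebra k S]
    (h : ∀ (k' : Type u) [Field k'] [Algebra k k'] [Module.Finite k k'], IsDomain (k' ⊗[k] S)) :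
    IsDomain (AlgebraicClosure k ⊗[k] S) := by
  have hinj : ∀ E : IntermediateField k (AlgebraicClosure k),
      Function.Injective (Algebra.TensorProduct.map E.val (AlgHom.id k S)) := fun E =>
    Module.Flat.rTensor_preserves_injective_linearMap (M := S) E.val.toLinearMap
      E.val.injective
  have key : ∀ a b : AlgebraicClosure k ⊗[k] S,
      ∃ (E : IntermediateField k (AlgebraicClosure k)) (_ : FiniteDimensional k E)
        (a' b' : E ⊗[k] S), Algebra.TensorProduct.map E.val (AlgHom.id k S) a' = a ∧
          Algebra.TensorProduct.map E.val (AlgHom.id k S) b' = b := by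
    intro a b
    obtain ⟨M', hfin, hsub⟩ := TensorProduct.exists_finite_submodule_left_of_setFinite
      ({a, b} : Set (AlgebraicClosure k ⊗[k] S)) (Set.toFinite _)
    obtain ⟨t, ht⟩ := Module.Finite.iff_fg.1 hfin
    let E : IntermediateField k (AlgebraicClosure k) :=
      IntermediateField.adjoin k (t : Set (AlgebraicClosure k))
    have hE : FiniteDimensional k E :=
      IntermediateField.finiteDimensional_adjoin
        (fun x _ => Algebra.IsIntegral.isIntegral x)
    have hle : M' ≤ E.toSubalgebra.toSubmodule := by
      rw [← ht, Submodule.span_le]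
      intro x hx
      exact IntermediateField.subset_adjoin k _ hx
    let j : M' →ₗ[k] E := Submodule.inclusion hle
    have hj : E.val.toLinearMap ∘ₗ j = M'.subtype := by
      ext x; rfl
    have hmem : ∀ c ∈ ({a, b} : Set (AlgebraicClosure k ⊗[k] S)),
        ∃ c' : E ⊗[k] S, Algebra.TensorProduct.map E.val (AlgHom.id k S) c' = c := by
      intro c hc
      obtain ⟨c0, hc0⟩ := hsub hc
      refine ⟨j.rTensor S c0, ?_⟩
      rw [← hc0, ← hj, LinearMap.rTensor_comp]
      rfl
    obtain ⟨a', ha'⟩ := hmem a (by simp)
    obtain ⟨b', hb'⟩ := hmem b (by simp)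
    exact ⟨E, hE, a', b', ha', hb'⟩
  haveI : Nontrivial (AlgebraicClosure k ⊗[k] S) := by
    haveI : IsDomain ((⊥ : IntermediateField k (AlgebraicClosure k)) ⊗[k] S) := h _
    exact (hinj ⊥).nontrivial
  haveI : NoZeroDivisors (AlgebraicClosure k ⊗[k] S) := by
    constructor
    intro a b hab
    obtain ⟨E, hE, a', b', rfl, rfl⟩ := key a b
    haveI : IsDomain (E ⊗[k] S) := h E
    rw [← map_mul, ← map_zero (Algebra.TensorProduct.map E.val (AlgHom.id k S))] at hab
    rcases mul_eq_zero.1 (hinj E hab) with h0 | h0
    · left; rw [h0, map_zero]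
    · right; rw [h0, map_zero]
  exact NoZeroDivisors.to_isDomain _

theorem isDomain_tensor_comm {k : Type u} [Field k] {A B : Type u} [CommRing A] [CommRing B]
    [Algebra k A] [Algebra k B]
    (h : IsDomain (A ⊗[k] B)) : IsDomain (B ⊗[k] A) :=
  (Algebra.TensorProduct.comm k B A).toRingEquiv.toMulEquiv.isDomain

/-- a `k`-algebra which stays integral after all finite extensions stays integral after all
field extensions. -/
theorem isDomain_tensor_of_forall_finite {k : Type u} [Field k] (S : Type u) [CommRing S]
    [Algebra k S]
    (h : ∀ (k' : Type u) [Field k'] [Algebra k k'] [Module.Finite k k'], IsDomain (S ⊗[k] k'))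
    (K : Type u) [Field K] [Algebra k K] : IsDomain (S ⊗[k] K) := by
  have h1 := isDomain_algebraicClosure_tensor S (fun k' _ _ _ => isDomain_tensor_comm (h k'))
  exact isDomain_tensor_comm
    (Groth.Agent.Helper2.GeomInt.isDomain_of_algebraicClosure k S h1 K)

end Groth.Agent.Helper2.RedBC
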