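import Mathlib
import Groth.Prelude
import Groth.Agent.Helper2.RedBC7

set_option autoImplicit false
set_option linter.unusedVariables false
open CategoryTheory CategoryTheory.Limits AlgebraicGeometry TopologicalSpace Topology TensorProduct
open IsLocalRing
universe u

namespace Groth.Agent.Helper2.RedBC

open Groth.Agent.Helper2.AssTens
open Groth.Agent.Helper4.AssSpec

/-- associated points of the structure sheaf of an affine scheme. -/
theorem mem_ass_spec_iff (R : CommRingCat.{u}) (w : PrimeSpectrum.Top R) :
    (show ↥(Spec R) from w) ∈ AssSch.Ass (Coh.structureModule (Spec R)) ↔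
      ∃ a : R, w.asIdeal ∈ (Submodule.colon (⊥ : Submodule R R) {a} : Ideal R).minimalPrimes := by
  haveI hloc : IsLocalization.AtPrime ((Spec R).presheaf.stalk w) w.asIdeal := isLocStalk R w
  rw [Groth.Agent.Helper3.AssBCC.mem_ass_iff]
  exact Groth.Agent.Helper4.AssAlg.isAssociatedPrime_maximalIdeal_iff w.asIdeal
    ((Spec R).presheaf.stalk w) (Algebra.linearMap R ((Spec R).presheaf.stalk w))

/-- the only associated point of the spectrum of a domain is the generic point. -/
theorem ass_spec_of_isDomain (R : CommRingCat.{u}) [IsDomain R] :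
    AssSch.Ass (Coh.structureModule (Spec R)) =
      {(show ↥(Spec R) from (⟨⊥, Ideal.isPrime_bot⟩ : PrimeSpectrum.Top R))} := by
  ext w0
  let w : PrimeSpectrum.Top R := w0
  show (show ↥(Spec R) from w) ∈ _ ↔ w = ⟨⊥, Ideal.isPrime_bot⟩
  rw [mem_ass_spec_iff]
  constructor
  · rintro ⟨a, ha⟩
    by_cases ha0 : a = 0
    · exfalso
      subst ha0
      have htop : (Submodule.colon (⊥ : Submodule R R) {(0 : R)} : Ideal R) = ⊤ := by
        rw [Ideal.eq_top_iff_one, Submodule.mem_colon_singleton, Submodule.mem_bot, smul_zero]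
      rw [htop, Ideal.minimalPrimes_top] at ha
      exact ha
    · have hbot : (Submodule.colon (⊥ : Submodule R R) {a} : Ideal R) = ⊥ := by
        rw [eq_bot_iff]
        intro r hr
        rw [Submodule.mem_colon_singleton, Submodule.mem_bot, smul_eq_mul] at hr
        rcases mul_eq_zero.1 hr with h | h
        · exact h
        · exact absurd h ha0
      rw [hbot] at ha
      have hle : w.asIdeal ≤ ⊥ := ha.2 ⟨Ideal.isPrime_bot, le_refl _⟩ bot_le
      exact PrimeSpectrum.ext (le_bot_iff.1 hle)
  · intro hw
    refine ⟨1, ?_⟩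
    have hbot : (Submodule.colon (⊥ : Submodule R R) {(1 : R)} : Ideal R) = ⊥ := by
      rw [eq_bot_iff]
      intro r hr
      rw [Submodule.mem_colon_singleton, Submodule.mem_bot, smul_eq_mul, mul_one] at hr
      exact hr
    rw [hbot]
    have hw' : w.asIdeal = ⊥ := by rw [hw]
    show w.asIdeal ∈ _
    rw [hw']
    exact ⟨⟨Ideal.isPrime_bot, le_refl _⟩, fun q hq _ => bot_le⟩

/-- a reduced ring whose spectrum has a single associated point is a domain. -/
theorem isDomain_of_ass_spec_singleton (R : CommRingCat.{u}) [IsReduced R] (w0 : ↥(Spec R))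
    (h : AssSch.Ass (Coh.structureModule (Spec R)) = {w0}) : IsDomain R := by
  let w : PrimeSpectrum.Top R := w0
  have hmin : ∀ p ∈ minimalPrimes R, p = w.asIdeal := by
    intro p hp
    haveI : p.IsPrime := hp.1.1
    have hbot : (Submodule.colon (⊥ : Submodule R R) {(1 : R)} : Ideal R) = ⊥ := by
      rw [eq_bot_iff]
      intro r hr
      rw [Submodule.mem_colon_singleton, Submodule.mem_bot, smul_eq_mul, mul_one] at hr
      exact hr
    have hmem : (show ↥(Spec R) from (⟨p, inferInstance⟩ : PrimeSpectrum.Top R)) ∈
        AssSch.Ass (Coh.structureModule (Spec R)) := by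
      rw [mem_ass_spec_iff]
      exact ⟨1, by rw [hbot]; exact hp⟩
    rw [h] at hmem
    have := congrArg PrimeSpectrum.asIdeal (show (⟨p, inferInstance⟩ : PrimeSpectrum.Top R) = w from hmem)
    exact this
  have hnil : nilradical R = w.asIdeal := by
    have h1 : sInf (minimalPrimes R) = nilradical R := by
      show sInf ((⊥ : Ideal R).minimalPrimes) = _
      rw [Ideal.sInf_minimalPrimes]
      rfl
    rw [← h1]
    apply le_antisymm
    · haveI : Nontrivial R := by
        by_contra hnt
        rw [not_nontrivial_iff_subsingleton] at hnt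
        exact w.isPrime.ne_top (Subsingleton.elim _ _)
      obtain ⟨p, hp⟩ := Ideal.nonempty_minimalPrimes (I := (⊥ : Ideal R)) bot_ne_top
      have : p = w.asIdeal := hmin p hp
      exact this ▸ sInf_le hp
    · exact le_sInf (fun p hp => (hmin p hp).ge)
  have hbot : w.asIdeal = ⊥ := by
    rw [← hnil]
    exact nilradical_eq_zero R
  have hprime : (⊥ : Ideal R).IsPrime := hbot ▸ w.isPrime
  haveI : Nontrivial R := by
    by_contra hnt
    rw [not_nontrivial_iff_subsingleton] at hnt
    exact w.isPrime.ne_top (Subsingleton.elim _ _)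
  haveI : NoZeroDivisors R := by
    constructor
    intro a b hab
    have : a * b ∈ (⊥ : Ideal R) := by rw [hab]; exact Ideal.zero_mem _
    rcases hprime.mem_or_mem this with h | h
    · left; exact h
    · right; exact h
  exact NoZeroDivisors.to_isDomain _

/-- associated points of the pullback of a module along a flat morphism, fibrewise. -/
theorem mem_ass_pullback_iff {X' X : Scheme.{u}} [IsLocallyNoetherian X'] [IsLocallyNoetherian X]
    (π : X' ⟶ X) [Flat π] (E : X.Modules) (s : X) (z : ↥(π.fiber s)) :
    π.fiberι s z ∈ AssSch.Ass ((Scheme.Modules.pullback π).obj E) ↔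
      s ∈ AssSch.Ass E ∧ z ∈ AssSch.Ass (Coh.structureModule (π.fiber s)) := by
  have hfl : FlatMod.IsFlatOver π (Coh.structureModule X') := isFlatOver_unit π
  have h := mem_ass_tensor_iff π E (Coh.structureModule X')
    (Groth.Agent.Lead.HomShH.isCoh_unit X') hfl s z
  rw [ass_eq_of_iso (SecTwist.unitorR ((Scheme.Modules.pullback π).obj E)),
    ass_eq_of_iso (Groth.Agent.Lead.PicCompl.pullbackUnitIso (π.fiberι s))] at h
  exact h

end Groth.Agent.Helper2.RedBC
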