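import Mathlib
import Groth.Prelude
import Groth.Agent.Helper2.RedBC8

set_option autoImplicit false
set_option linter.unusedVariables false
open CategoryTheory CategoryTheory.Limits AlgebraicGeometry TopologicalSpace Topology TensorProduct
open IsLocalRing
universe u

namespace Groth.Agent.Helper2.RedBC

open Groth.Agent.Helper2.AssTens

/-- a module with a single associated point of length one is reduced. -/
theorem isReducedMod_of_intMod {X : Scheme.{u}} (M : X.Modules) (x' : X)
    (h1 : AssSch.Ass M = {x'})
    (h2 : Module.length (X.presheaf.stalk x') (M.presheaf.stalk x') = 1) :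
    AssSch.IsReducedMod M := by
  refine ⟨?_, ?_⟩
  · intro x hx y hy _
    rw [h1] at hx hy
    rw [Set.mem_singleton_iff] at hx hy
    rw [hx, hy]
  · intro x hx
    rw [h1, Set.mem_singleton_iff] at hx
    rw [hx]; exact h2

/-- integrality of the pullback of a coherent module along a flat surjective morphism. -/
theorem intMod_pullback_iff {X' X : Scheme.{u}} [IsLocallyNoetherian X'] [IsLocallyNoetherian X]
    (π : X' ⟶ X) [Flat π] [Surjective π] (E : X.Modules) (hE : Coh.IsCoh E) :
    (∃ x' : X', AssSch.Ass ((Scheme.Modules.pullback π).obj E) = {x'} ∧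
        Module.length (X'.presheaf.stalk x')
          (((Scheme.Modules.pullback π).obj E).presheaf.stalk x') = 1) ↔
      ∃ x : X, AssSch.Ass E = {x} ∧ Module.length (X.presheaf.stalk x) (E.presheaf.stalk x) = 1 ∧
        AssSch.IsReducedMod (Coh.structureModule (π.fiber x)) ∧
        ∃ z : ↥(π.fiber x), AssSch.Ass (Coh.structureModule (π.fiber x)) = {z} := by
  have hr : Set.range π = Set.univ := Set.range_eq_univ.2 π.surjective
  constructor
  · rintro ⟨x', hA, hlen⟩
    have hred := isReducedMod_of_intMod _ x' hA hlen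
    rw [isReducedMod_pullback_iff_of_flat π E hE, hr] at hred
    obtain ⟨x, hx⟩ : ∃ x, x = π x' := ⟨_, rfl⟩
    have hxr : x' ∈ Set.range (π.fiberι x) := by
      rw [π.range_fiberι]; exact hx.symm
    obtain ⟨z', rfl⟩ := hxr
    have hmem : π.fiberι x z' ∈ AssSch.Ass ((Scheme.Modules.pullback π).obj E) := by
      rw [hA]; rfl
    obtain ⟨hxE, hz'⟩ := (mem_ass_pullback_iff π E x z').1 hmem
    have hAE : AssSch.Ass E = {x} := by
      ext x1
      rw [Set.mem_singleton_iff]
      constructor
      · intro hx1
        obtain ⟨x1', hx1'⟩ := π.surjective x1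
        have hx1r : x1' ∈ Set.range (π.fiberι x1) := by
          rw [π.range_fiberι]; exact hx1'
        obtain ⟨z1', rfl⟩ := hx1r
        haveI : (Coh.structureModule (π.fiber x1)).IsQuasicoherent :=
          (Groth.Agent.Lead.HomShH.isCoh_unit (π.fiber x1)).1
        have hnt : Nontrivial ((Coh.structureModule (π.fiber x1)).presheaf.stalk z1') :=
          (Groth.Agent.Lead.CartSec.unitStalkEquiv z1').symm.toEquiv.nontrivial
        obtain ⟨z1, hz1, -⟩ := Groth.Agent.Helper4.AssMax2.exists_isAssPoint_specializes
          (Coh.structureModule (π.fiber x1)) z1' hnt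
        have h1 : π.fiberι x1 z1 ∈ AssSch.Ass ((Scheme.Modules.pullback π).obj E) :=
          (mem_ass_pullback_iff π E x1 z1).2 ⟨hx1, hz1⟩
        rw [hA, Set.mem_singleton_iff] at h1
        have h2 := congrArg (fun t => π t) h1
        simp only [map_fiberι] at h2
        exact h2
      · rintro rfl; exact hxE
    refine ⟨x, hAE, (hred x ⟨hxE, Set.mem_univ _⟩).2.1, (hred x ⟨hxE, Set.mem_univ _⟩).2.2, z', ?_⟩
    ext z
    rw [Set.mem_singleton_iff]
    constructor
    · intro hz
      have h1 : π.fiberι x z ∈ AssSch.Ass ((Scheme.Modules.pullback π).obj E) :=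
        (mem_ass_pullback_iff π E x z).2 ⟨hxE, hz⟩
      rw [hA, Set.mem_singleton_iff] at h1
      exact (π.fiberι x).isEmbedding.injective h1
    · rintro rfl; exact hz'
  · rintro ⟨x, hAE, hlen, hredO, z, hAO⟩
    have hxE : x ∈ AssSch.Ass E := by rw [hAE]; rfl
    have hA : AssSch.Ass ((Scheme.Modules.pullback π).obj E) = {π.fiberι x z} := by
      ext y'
      rw [Set.mem_singleton_iff]
      constructor
      · intro hy'
        obtain ⟨s, hs⟩ : ∃ s, s = π y' := ⟨_, rfl⟩
        have hyr : y' ∈ Set.range (π.fiberι s) := by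
          rw [π.range_fiberι]; exact hs.symm
        obtain ⟨z1, rfl⟩ := hyr
        obtain ⟨hsE, hz1⟩ := (mem_ass_pullback_iff π E s z1).1 hy'
        rw [hAE, Set.mem_singleton_iff] at hsE
        subst hsE
        rw [hAO, Set.mem_singleton_iff] at hz1
        rw [hz1]
      · rintro rfl
        exact (mem_ass_pullback_iff π E x z).2 ⟨hxE, by rw [hAO]; rfl⟩
    refine ⟨π.fiberι x z, hA, ?_⟩
    have hred : AssSch.IsReducedMod ((Scheme.Modules.pullback π).obj E) := by
      rw [isReducedMod_pullback_iff_of_flat π E hE]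
      rintro x1 ⟨hx1, -⟩
      rw [hAE, Set.mem_singleton_iff] at hx1
      subst hx1
      refine ⟨fun x2 hx2 _ => ?_, hlen, hredO⟩
      rw [hAE, Set.mem_singleton_iff] at hx2
      exact hx2
    exact hred.2 _ (by rw [hA]; rfl)

end Groth.Agent.Helper2.RedBC
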