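import Mathlib
import Groth.Prelude
import Groth.Agent.Helper2.RedBC9

set_option autoImplicit false
set_option linter.unusedVariables false
open CategoryTheory CategoryTheory.Limits AlgebraicGeometry TopologicalSpace Topology TensorProduct
open IsLocalRing
universe u

namespace Groth.Agent.Helper2.RedBC

open Groth.Agent.Helper2.AssTens

/-- a singleton set of associated points of the structure sheaf transports along isomorphisms. -/
theorem ass_structure_singleton_of_iso {T T' : Scheme.{u}} (φ : T ≅ T') (z : T)
    (h : AssSch.Ass (Coh.structureModule T) = {z}) :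
    AssSch.Ass (Coh.structureModule T') = {φ.hom z} := by
  ext w'
  rw [Set.mem_singleton_iff]
  have hw : φ.hom (φ.inv w') = w' := by
    rw [← Scheme.Hom.comp_apply, φ.inv_hom_id]; rfl
  constructor
  · intro hw'
    have h1 : φ.inv w' ∈ AssSch.Ass (Coh.structureModule T) := by
      rw [Groth.Agent.Helper2.AssTS.mem_ass_structure_iff_of_iso φ, hw]; exact hw'
    rw [h, Set.mem_singleton_iff] at h1
    rw [← hw, h1]
  · rintro rfl
    rw [← Groth.Agent.Helper2.AssTS.mem_ass_structure_iff_of_iso φ, h]; rfl

section
variable {k : Type u} [Field k] {X : Scheme.{u}} (f : X ⟶ Spec (CommRingCat.of k))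

/-- integrality of `F ⊗_k K` in terms of the associated points of `F`. -/
theorem intMod_bc_iff [IsLocallyNoetherian X] (F : X.Modules) (hF : Coh.IsCoh F)
    (K : Type u) [Field K] [Algebra k K] [IsLocallyNoetherian (FBase.bc f K)] :
    (∃ x' : ↥(FBase.bc f K),
        AssSch.Ass ((Scheme.Modules.pullback (FBase.bcπ f K)).obj F) = {x'} ∧
        Module.length ((FBase.bc f K).presheaf.stalk x')
          (((Scheme.Modules.pullback (FBase.bcπ f K)).obj F).presheaf.stalk x') = 1) ↔
      ∃ x : X, AssSch.Ass F = {x} ∧ Module.length (X.presheaf.stalk x) (F.presheaf.stalk x) = 1 ∧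
        (letI := (resHom f x).toAlgebra; IsDomain ((X.residueField x) ⊗[k] K)) := by
  rw [intMod_pullback_iff (FBase.bcπ f K) F hF]
  refine exists_congr fun x => and_congr Iff.rfl (and_congr Iff.rfl ?_)
  letI algK : Algebra k (X.residueField x) := (resHom f x).toAlgebra
  obtain ⟨φ⟩ := nonempty_fiber_bcπ_iso f K x
  have hNE := Groth.Agent.Helper2.FieldTensNE.noEmbedded_spec_tensor k (X.residueField x) K
  rw [isReducedMod_structure_iff_of_iso φ, isReducedMod_spec_iff _ hNE]
  constructor
  · rintro ⟨hred, z, hz⟩
    haveI : IsReduced (CommRingCat.of ((X.residueField x) ⊗[k] K)) := hred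
    exact isDomain_of_ass_spec_singleton (CommRingCat.of ((X.residueField x) ⊗[k] K)) (φ.hom z)
      (ass_structure_singleton_of_iso φ z hz)
  · intro hdom
    haveI : IsDomain (CommRingCat.of ((X.residueField x) ⊗[k] K)) := hdom
    have h1 := ass_spec_of_isDomain (CommRingCat.of ((X.residueField x) ⊗[k] K))
    have h2 := ass_structure_singleton_of_iso φ.symm _ h1
    exact ⟨inferInstance, _, h2⟩

theorem s4660 [IsLocallyNoetherian X] (F : X.Modules) (hF : Coh.IsCoh F) :
    (∀ (k' : Type u) [Field k'] [Algebra k k'] [FiniteDimensional k k'],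
        ∃ x' : ↥(FBase.bc f k'),
          AssSch.Ass ((Scheme.Modules.pullback (FBase.bcπ f k')).obj F) = {x'} ∧
          Module.length ↑((FBase.bc f k').presheaf.stalk x')
            ↑(((Scheme.Modules.pullback (FBase.bcπ f k')).obj F).presheaf.stalk x') = 1) ↔
      ∀ (K : Type u) [Field K] [Algebra k K] [IsLocallyNoetherian (FBase.bc f K)],
        ∃ x' : ↥(FBase.bc f K),
          AssSch.Ass ((Scheme.Modules.pullback (FBase.bcπ f K)).obj F) = {x'} ∧
          Module.length ↑((FBase.bc f K).presheaf.stalk x')
            ↑(((Scheme.Modules.pullback (FBase.bcπ f K)).obj F).presheaf.stalk x') = 1 := by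
  constructor
  · intro h K _ _ _
    obtain ⟨x, hA, hlen, -⟩ := (intMod_bc_iff f F hF k).1 (h k)
    rw [intMod_bc_iff f F hF K]
    refine ⟨x, hA, hlen, ?_⟩
    letI algK : Algebra k (X.residueField x) := (resHom f x).toAlgebra
    have h1 : ∀ (k' : Type u) [Field k'] [Algebra k k'] [Module.Finite k k'],
        IsDomain ((X.residueField x) ⊗[k] k') := by
      intro k' _ _ _
      obtain ⟨x1, hA1, -, hd⟩ := (intMod_bc_iff f F hF k').1 (h k')
      have hx1 : x1 = x := by
        have : x1 ∈ AssSch.Ass F := by rw [hA1]; rfl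
        rw [hA, Set.mem_singleton_iff] at this
        exact this
      subst hx1
      exact hd
    exact isDomain_tensor_of_forall_finite (X.residueField x) h1 K
  · intro h k' _ _ _
    exact h k'

end

end Groth.Agent.Helper2.RedBC
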