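import Mathlib
import Groth.Agent.Helper2.EtApxG

set_option autoImplicit false
set_option linter.style.haveILetI false
set_option linter.unusedSectionVars false

namespace Groth.Agent.Helper2.RefCpl

open IsLocalRing Groth.Agent.Helper2.EtApx

universe u

set_option maxHeartbeats 1600000 in
/-- the algebraic core of the finite-type refinement controlling maps to the completion. -/
theorem refine_alg {R C : Type u} [CommRing R] [CommRing C] (φ : R →+* C) (hft : φ.FiniteType)
    (pS : Ideal R) [pS.IsPrime] (OS : Type u) [CommRing OS] [IsLocalRing OS] [IsNoetherianRing OS]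
    [Algebra R OS] [IsLocalization.AtPrime OS pS]
    (pT : Ideal C) [pT.IsPrime] (OT : Type u) [CommRing OT] [IsLocalRing OT] [Algebra C OT]
    [IsLocalization.AtPrime OT pT]
    (hmap : OS →+* OT) (hcompat : ∀ r, hmap (algebraMap R OS r) = algebraMap C OT (φ r))
    (σ : OT →+* AdicCompletion (maximalIdeal OS) OS)
    (hσ : σ.comp hmap = algebraMap OS (AdicCompletion (maximalIdeal OS) OS))
    (hloc : ∀ a ∈ maximalIdeal OT, σ a ∈ (maximalIdeal OS).map
      (algebraMap OS (AdicCompletion (maximalIdeal OS) OS))) (N : ℕ) :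
    ∃ (C' : Type u) (_ : CommRing C') (θ : C →+* C')
      (τ₀ : C' →+* AdicCompletion (maximalIdeal OS) OS) (𝔫 : Ideal C'), 𝔫.IsPrime ∧
      θ.FiniteType ∧ 𝔫.comap θ = pT ∧ (∀ c, τ₀ (θ c) = σ (algebraMap C OT c)) ∧
      (∀ x, x ∉ 𝔫 → IsUnit (τ₀ x)) ∧
      ∀ (σ' : OT →+* AdicCompletion (maximalIdeal OS) OS),
        σ'.comp hmap = algebraMap OS (AdicCompletion (maximalIdeal OS) OS) →
        ∀ τ'' : C' →+* AdicCompletion (maximalIdeal OS) OS,
          (∀ c, τ'' (θ c) = σ' (algebraMap C OT c)) →
        ∀ a : OT, σ a - σ' a ∈ (maximalIdeal OS ^ N).map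
          (algebraMap OS (AdicCompletion (maximalIdeal OS) OS)) := by
  classical
  set alg := algebraMap OS (AdicCompletion (maximalIdeal OS) OS) with halg
  set I := (maximalIdeal OS ^ N).map alg with hI
  letI algRC : Algebra R C := φ.toAlgebra
  haveI : Algebra.FiniteType R C := hft
  obtain ⟨s, hs⟩ := (Algebra.FiniteType.out : (⊤ : Subalgebra R C).FG)
  have hfg : (maximalIdeal OS).FG := Ideal.fg_of_isNoetherianRing _
  choose a ha using fun x : C =>
    exists_sub_mem' (maximalIdeal OS) hfg N (σ (algebraMap C OT x))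
  obtain ⟨m, π, hπ⟩ := Submodule.fg_iff_exists_fin_generating_family.mp
    (Ideal.fg_of_isNoetherianRing (maximalIdeal OS ^ N))
  have hIspan : I = Ideal.span (Set.range (fun j => alg (π j))) := by
    rw [hI, ← show Ideal.span (Set.range π) = maximalIdeal OS ^ N from hπ, Ideal.map_span,
      ← Set.range_comp]
    rfl
  have hz : ∀ x : C, ∃ z : Fin m → AdicCompletion (maximalIdeal OS) OS,
      ∑ j, z j * alg (π j) = σ (algebraMap C OT x) - alg (a x) := by
    intro x
    have := ha x
    rw [← hI, hIspan] at this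
    exact Ideal.mem_span_range_iff_exists_fun.mp this
  choose z hzz using hz
  -- common denominators
  obtain ⟨d, hd⟩ := IsLocalization.exist_integer_multiples_of_finset pS.primeCompl
    (s.image a ∪ Finset.univ.image π)
  have hdα : ∀ x ∈ s, ∃ α : R, algebraMap R OS α = algebraMap R OS d * a x := by
    intro x hx
    obtain ⟨α, hα⟩ := hd (a x) (Finset.mem_union_left _ (Finset.mem_image_of_mem a hx))
    exact ⟨α, by rw [hα, Algebra.smul_def]⟩
  have hdϖ : ∀ j, ∃ ϖ : R, algebraMap R OS ϖ = algebraMap R OS d * π j := by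
    intro j
    obtain ⟨ϖ, hϖ⟩ := hd (π j) (Finset.mem_union_right _
      (Finset.mem_image_of_mem π (Finset.mem_univ j)))
    exact ⟨ϖ, by rw [hϖ, Algebra.smul_def]⟩
  choose ϖ hϖ using hdϖ
  have hdunit : IsUnit (alg (algebraMap R OS d)) :=
    (IsLocalization.map_units OS d).map alg
  -- the algebra
  letI algCÔ : Algebra C (AdicCompletion (maximalIdeal OS) OS) :=
    (σ.comp (algebraMap C OT)).toAlgebra
  let Z : Set (AdicCompletion (maximalIdeal OS) OS) :=
    (fun p : C × Fin m => z p.1 p.2) '' ((s : Set C) ×ˢ Set.univ)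
  have hZfin : Z.Finite := Set.Finite.image _ (s.finite_toSet.prod Set.finite_univ)
  let C'sub : Subalgebra C (AdicCompletion (maximalIdeal OS) OS) := Algebra.adjoin C Z
  have hC'fg : C'sub.FG := Subalgebra.fg_def.mpr ⟨Z, hZfin, rfl⟩
  haveI : Algebra.FiniteType C C'sub := (Subalgebra.fg_iff_finiteType C'sub).mp hC'fg
  let θ : C →+* C'sub := algebraMap C C'sub
  let τ₀ : C'sub →+* AdicCompletion (maximalIdeal OS) OS := C'sub.val.toRingHom
  have hτθ : ∀ c, τ₀ (θ c) = σ (algebraMap C OT c) := fun c => rfl
  have hmaxeq := AdicCompletion.maximalIdeal_eq_map (R := OS)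
  have hcomapσ : (maximalIdeal (AdicCompletion (maximalIdeal OS) OS)).comap σ = maximalIdeal OT := by
    ext b
    rw [Ideal.mem_comap]
    constructor
    · intro hb
      by_contra hne
      have hu : IsUnit b := by
        by_contra hnu
        exact hne ((mem_maximalIdeal _).mpr hnu)
      exact ((mem_maximalIdeal _).mp hb) (hu.map σ)
    · intro hb
      rw [hmaxeq]
      exact hloc b hb
  have hσR : ∀ (σ' : OT →+* AdicCompletion (maximalIdeal OS) OS), σ'.comp hmap = alg →
      ∀ r : R, σ' (algebraMap C OT (φ r)) = alg (algebraMap R OS r) := by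
    intro σ' hσ' r
    rw [← hcompat, ← hσ']
    rfl
  refine ⟨C'sub, inferInstance, θ, τ₀, (maximalIdeal _).comap τ₀, Ideal.comap_isPrime _ _,
    RingHom.finiteType_algebraMap.mpr inferInstance, ?_, hτθ, ?_, ?_⟩
  · rw [Ideal.comap_comap]
    have : τ₀.comp θ = σ.comp (algebraMap C OT) := rfl
    rw [this, ← Ideal.comap_comap, hcomapσ]
    exact IsLocalization.AtPrime.comap_maximalIdeal OT pT
  · intro x hx
    by_contra hnu
    exact hx ((mem_maximalIdeal _).mpr hnu)
  · intro σ' hσ' τ'' hτ''
    -- the elements Z_{x j} of C'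
    have hZmem : ∀ x ∈ s, ∀ j, z x j ∈ C'sub := fun x hx j =>
      Algebra.subset_adjoin ⟨(x, j), ⟨hx, Set.mem_univ _⟩, rfl⟩
    -- claim 2
    have hclaim2 : ∀ x ∈ s, σ' (algebraMap C OT x) - alg (a x) ∈ I := by
      intro x hx
      obtain ⟨α, hα⟩ := hdα x hx
      -- the equation in C'
      have heq : θ (φ d) * θ x - θ (φ α) =
          ∑ j, θ (φ (ϖ j)) * (⟨z x j, hZmem x hx j⟩ : C'sub) := by
        have hinj : Function.Injective τ₀ := Subtype.val_injective
        apply hinj
        rw [map_sub, map_mul, map_sum]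
        simp only [map_mul, hτθ]
        rw [hσR σ hσ, hσR σ hσ, hα, map_mul]
        have h1 : ∀ j, σ (algebraMap C OT (φ (ϖ j))) = alg (algebraMap R OS d) * alg (π j) := by
          intro j
          rw [hσR σ hσ, hϖ, map_mul]
        simp only [h1]
        have h2 : ∀ j, τ₀ (⟨z x j, hZmem x hx j⟩ : C'sub) = z x j := fun j => rfl
        simp only [h2]
        rw [← mul_sub, ← hzz x, Finset.mul_sum]
        refine Finset.sum_congr rfl (fun j _ => ?_)
        ring
      have heq' := congrArg τ'' heq
      rw [map_sub, map_mul, map_sum] at heq'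
      simp only [map_mul, hτ''] at heq'
      rw [hσR σ' hσ', hσR σ' hσ', hα, map_mul] at heq'
      have h1 : ∀ j, σ' (algebraMap C OT (φ (ϖ j))) = alg (algebraMap R OS d) * alg (π j) := by
        intro j
        rw [hσR σ' hσ', hϖ, map_mul]
      simp only [h1] at heq'
      rw [← mul_sub] at heq'
      have h3 : alg (algebraMap R OS d) * (σ' (algebraMap C OT x) - alg (a x)) =
          alg (algebraMap R OS d) *
            ∑ j, τ'' (⟨z x j, hZmem x hx j⟩ : C'sub) * alg (π j) := by
        rw [heq', Finset.mul_sum]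
        refine Finset.sum_congr rfl (fun j _ => ?_)
        ring
      have h4 := hdunit.mul_left_cancel h3
      rw [h4, hIspan]
      exact Ideal.mem_span_range_iff_exists_fun.mpr ⟨_, rfl⟩
    have hclaim2σ : ∀ x, σ (algebraMap C OT x) - alg (a x) ∈ I := fun x => ha x
    -- claim 3
    have hclaim3 : ∀ c : C, σ (algebraMap C OT c) - σ' (algebraMap C OT c) ∈ I := by
      intro c
      have hc : c ∈ Algebra.adjoin R (s : Set C) := by rw [hs]; trivial
      induction hc using Algebra.adjoin_induction with
      | mem x hx =>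
        have := I.sub_mem (hclaim2σ x) (hclaim2 x hx)
        convert this using 1
        ring
      | algebraMap r =>
        have e1 : σ (algebraMap C OT (algebraMap R C r)) = alg (algebraMap R OS r) := hσR σ hσ r
        have e2 : σ' (algebraMap C OT (algebraMap R C r)) = alg (algebraMap R OS r) := hσR σ' hσ' r
        rw [e1, e2, sub_self]
        exact I.zero_mem
      | add x y _ _ hx hy =>
        have := I.add_mem hx hy
        convert this using 1
        simp only [map_add]
        ring
      | mul x y _ _ hx hy =>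
        have := I.add_mem (I.mul_mem_left (σ (algebraMap C OT x)) hy)
          (I.mul_mem_right (σ' (algebraMap C OT y)) hx)
        convert this using 1
        simp only [map_mul]
        ring
    -- claim 4
    intro b
    obtain ⟨c, e, hbe⟩ := IsLocalization.exists_mk'_eq pT.primeCompl b
    have hspec : b * algebraMap C OT (e : C) = algebraMap C OT c := by
      rw [← hbe]; exact IsLocalization.mk'_spec OT c e
    have hu : IsUnit (σ (algebraMap C OT (e : C))) := (IsLocalization.map_units OT e).map σ
    have h5 : (σ b - σ' b) * σ (algebraMap C OT (e : C)) ∈ I := by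
      have e1 : σ b * σ (algebraMap C OT (e : C)) = σ (algebraMap C OT c) := by
        rw [← map_mul, hspec]
      have e2 : σ' b * σ' (algebraMap C OT (e : C)) = σ' (algebraMap C OT c) := by
        rw [← map_mul, hspec]
      have e3 : (σ b - σ' b) * σ (algebraMap C OT (e : C)) =
          (σ (algebraMap C OT c) - σ' (algebraMap C OT c)) -
            σ' b * (σ (algebraMap C OT (e : C)) - σ' (algebraMap C OT (e : C))) := by
        rw [← e1, ← e2]; ring
      rw [e3]
      exact I.sub_mem (hclaim3 c) (I.mul_mem_left _ (hclaim3 _))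
    obtain ⟨v, hv⟩ := hu
    have h6 : σ b - σ' b = (σ b - σ' b) * σ (algebraMap C OT (e : C)) * (↑v⁻¹ : _) := by
      rw [← hv, mul_assoc, Units.mul_inv, mul_one]
    rw [h6]
    exact I.mul_mem_right _ h5

end Groth.Agent.Helper2.RefCpl
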