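import Mathlib
import Groth.Prelude.Def_Found
import Groth.Agent.Helper2.EtApxE
import Groth.Agent.Helper2.RefCplA

set_option autoImplicit false
set_option linter.style.haveILetI false

open AlgebraicGeometry CategoryTheory IsLocalRing

namespace Groth.Agent.Helper2.RefCpl

open Groth.Agent.Helper2.EtApx

universe u

set_option maxHeartbeats 3200000 in
theorem s7201 {T S : Scheme.{u}} [IsNoetherian T] [IsNoetherian S]
    (h : T ⟶ S) [LocallyOfFiniteType h] [QuasiCompact h] (t : T)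
    (σ : ↑(T.presheaf.stalk t) →+* (AdicCompletion (IsLocalRing.maximalIdeal ↑(S.presheaf.stalk (h t))) ↑(S.presheaf.stalk (h t))))
    (hσ : σ.comp (h.stalkMap t).hom = algebraMap ↑(S.presheaf.stalk (h t)) (AdicCompletion (IsLocalRing.maximalIdeal ↑(S.presheaf.stalk (h t))) ↑(S.presheaf.stalk (h t))))
    (hloc : ∀ a ∈ IsLocalRing.maximalIdeal ↑(T.presheaf.stalk t),
      σ a ∈ (IsLocalRing.maximalIdeal ↑(S.presheaf.stalk (h t))).map (algebraMap ↑(S.presheaf.stalk (h t)) (AdicCompletion (IsLocalRing.maximalIdeal ↑(S.presheaf.stalk (h t))) ↑(S.presheaf.stalk (h t)))))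
    (N : ℕ) (hN : 1 ≤ N) :
    ∃ (T' : Scheme.{u}) (g : T' ⟶ T) (t' : T') (hg : g t' = t) (τ : ↑(T'.presheaf.stalk t') →+* (AdicCompletion (IsLocalRing.maximalIdeal ↑(S.presheaf.stalk (h t))) ↑(S.presheaf.stalk (h t)))),
      LocallyOfFiniteType g ∧ QuasiCompact g ∧
      τ.comp ((g.stalkMap t').hom.comp (T.presheaf.stalkCongr (Inseparable.of_eq hg)).inv.hom) = σ ∧
      ∀ (σ' : ↑(T.presheaf.stalk t) →+* (AdicCompletion (IsLocalRing.maximalIdeal ↑(S.presheaf.stalk (h t))) ↑(S.presheaf.stalk (h t)))),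
        σ'.comp (h.stalkMap t).hom = algebraMap ↑(S.presheaf.stalk (h t)) (AdicCompletion (IsLocalRing.maximalIdeal ↑(S.presheaf.stalk (h t))) ↑(S.presheaf.stalk (h t))) →
        (∀ a ∈ IsLocalRing.maximalIdeal ↑(T.presheaf.stalk t),
          σ' a ∈ (IsLocalRing.maximalIdeal ↑(S.presheaf.stalk (h t))).map (algebraMap ↑(S.presheaf.stalk (h t)) (AdicCompletion (IsLocalRing.maximalIdeal ↑(S.presheaf.stalk (h t))) ↑(S.presheaf.stalk (h t))))) →
        (∃ τ' : ↑(T'.presheaf.stalk t') →+* (AdicCompletion (IsLocalRing.maximalIdeal ↑(S.presheaf.stalk (h t))) ↑(S.presheaf.stalk (h t))),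
          τ'.comp ((g.stalkMap t').hom.comp (T.presheaf.stalkCongr (Inseparable.of_eq hg)).inv.hom) = σ') →
        ∀ a : ↑(T.presheaf.stalk t), σ a - σ' a ∈ (IsLocalRing.maximalIdeal ↑(S.presheaf.stalk (h t)) ^ N).map (algebraMap ↑(S.presheaf.stalk (h t)) (AdicCompletion (IsLocalRing.maximalIdeal ↑(S.presheaf.stalk (h t))) ↑(S.presheaf.stalk (h t)))) := by
  classical
  obtain ⟨WS, hWS, hsWS, -⟩ := exists_isAffineOpen_mem_and_subset (x := h t) (U := ⊤) trivial
  have htU : t ∈ h ⁻¹ᵁ WS := hsWS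
  obtain ⟨WT, hWT, htWT, hWTle⟩ := exists_isAffineOpen_mem_and_subset htU
  let φ : Γ(S, WS) →+* Γ(T, WT) := (h.appLE WS WT hWTle).hom
  have hft : φ.FiniteType := LocallyOfFiniteType.finiteType_appLE h hWS hWT hWTle
  letI algOS : Algebra Γ(S, WS) (S.presheaf.stalk (h t)) :=
    TopCat.Presheaf.algebra_section_stalk S.presheaf ⟨h t, hsWS⟩
  haveI locOS : IsLocalization.AtPrime (S.presheaf.stalk (h t))
      (hWS.primeIdealOf ⟨h t, hsWS⟩).asIdeal := hWS.isLocalization_stalk ⟨h t, hsWS⟩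
  letI algOT : Algebra Γ(T, WT) (T.presheaf.stalk t) :=
    TopCat.Presheaf.algebra_section_stalk T.presheaf ⟨t, htWT⟩
  haveI locOT : IsLocalization.AtPrime (T.presheaf.stalk t)
      (hWT.primeIdealOf ⟨t, htWT⟩).asIdeal := hWT.isLocalization_stalk ⟨t, htWT⟩
  haveI : IsNoetherianRing (S.presheaf.stalk (h t)) := inferInstance
  have hcompat : ∀ r : Γ(S, WS), (h.stalkMap t).hom (algebraMap Γ(S, WS) (S.presheaf.stalk (h t)) r) =
      algebraMap Γ(T, WT) (T.presheaf.stalk t) (φ r) :=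
    fun r => germ_appLE h WS WT hWTle t htWT r
  obtain ⟨C', _, θ, τ₀, 𝔫, h𝔫p, hθft, hcomap, hτθ, hunit, hfinal⟩ :=
    refine_alg φ hft (hWS.primeIdealOf ⟨h t, hsWS⟩).asIdeal (S.presheaf.stalk (h t))
      (hWT.primeIdealOf ⟨t, htWT⟩).asIdeal (T.presheaf.stalk t) (h.stalkMap t).hom hcompat σ hσ
      hloc N
  haveI := h𝔫p
  let θc : Γ(T, WT) ⟶ CommRingCat.of C' := CommRingCat.ofHom θ
  let t' : Spec (CommRingCat.of C') := ⟨𝔫, h𝔫p⟩
  have hg : eOf hWT θc t' = t := eOf_eq hWT θc t' t htWT hcomap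
  letI algO₁ : Algebra C' ((Spec (CommRingCat.of C')).presheaf.stalk t') :=
    stalkAlg (A₁ := CommRingCat.of C') t'
  haveI locO₁ : IsLocalization.AtPrime ((Spec (CommRingCat.of C')).presheaf.stalk t') 𝔫 :=
    isLocalization_stalkAlg (A₁ := CommRingCat.of C') t'
  let τ : ((Spec (CommRingCat.of C')).presheaf.stalk t') →+*
      AdicCompletion (maximalIdeal (S.presheaf.stalk (h t))) (S.presheaf.stalk (h t)) :=
    IsLocalization.lift (M := 𝔫.primeCompl) (g := τ₀) (fun y => hunit y y.2)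
  have hτ : ∀ c' : C', τ (algebraMap C' _ c') = τ₀ c' := fun c' => IsLocalization.lift_eq _ _
  have hstalk : ∀ c : Γ(T, WT), ((eOf hWT θc).stalkMap t').hom
      ((T.presheaf.stalkCongr (Inseparable.of_eq hg)).inv.hom
        (algebraMap Γ(T, WT) (T.presheaf.stalk t) c)) =
      algebraMap C' ((Spec (CommRingCat.of C')).presheaf.stalk t') (θ c) :=
    fun c => eOf_stalk hWT θc t' t htWT hg c
  refine ⟨Spec (CommRingCat.of C'), eOf hWT θc, t', hg, τ, ?_, ?_, ?_, ?_⟩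
  · haveI : LocallyOfFiniteType (Spec.map θc) :=
      (HasRingHomProperty.Spec_iff (P := @LocallyOfFiniteType)).mpr hθft
    unfold eOf
    infer_instance
  · infer_instance
  · apply IsLocalization.ringHom_ext (hWT.primeIdealOf ⟨t, htWT⟩).asIdeal.primeCompl
    ext c
    simp only [RingHom.comp_apply]
    rw [hstalk, hτ, hτθ]
  · intro σ' hσ' _ ⟨τ', hτ'⟩ a
    refine hfinal σ' hσ' (τ'.comp (algebraMap C' _)) ?_ a
    intro c
    rw [RingHom.comp_apply, ← hstalk, ← hτ']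
    rfl

end Groth.Agent.Helper2.RefCpl
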