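import Mathlib
import Groth.Prelude.Def_CAlg
import Groth.Agent.Helper2.RegCM
import Groth.Agent.Helper2.Dim
set_option autoImplicit false
universe u
open Groth.Agent.Helper2 RingTheory.Sequence IsLocalRing Pointwise Module

namespace Groth.Agent.Helper2.RegFree

lemma ringKrullDim_regular_nat (A : Type u) [CommRing A] [IsRegularLocalRing A] :
    ringKrullDim A = ((maximalIdeal A).spanFinrank : WithBot ℕ∞) :=
  (IsRegularLocalRing.spanFinrank_maximalIdeal (R := A)).symm

/-- Over a regular local ring, a finite module of maximal depth is free. -/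
theorem free_of_depth_eq : ∀ (d : ℕ) (A : Type u) [CommRing A] [IsRegularLocalRing A],
    (maximalIdeal A).spanFinrank = d → ∀ (B : Type u) [AddCommGroup B] [Module A B]
    [Module.Finite A B] [Nontrivial B], LocCoh.depth A B = d → Module.Free A B := by
  intro d
  induction d with
  | zero =>
    intro A _ _ h B _ _ _ _ _
    have hbot : maximalIdeal A = ⊥ :=
      (Submodule.spanFinrank_eq_zero_iff_eq_bot (maximalIdeal A).fg_of_isNoetherianRing).mp h
    have hfield : IsField A := IsLocalRing.isField_iff_maximalIdeal_eq.mpr hbot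
    let _ := hfield.toField
    exact Module.Free.of_divisionRing A B
  | succ d ih =>
    intro A _ _ h B _ _ _ _ hdepth
    have hdimA : ringKrullDim A = ((d + 1 : ℕ) : WithBot ℕ∞) := by
      rw [ringKrullDim_regular_nat, h]
    have hdim : ¬ ringKrullDim A ≤ 0 := by
      rw [hdimA]
      intro hle
      have : ((d + 1 : ℕ) : WithBot ℕ∞) ≤ ((0 : ℕ) : WithBot ℕ∞) := hle
      have h' : d + 1 ≤ 0 := by exact_mod_cast this
      omega
    obtain ⟨x, hxm, hx2, -⟩ := Groth.Agent.Lead.RegLocal.exists_mem_notMem_sq_minimalPrimes hdim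
    obtain ⟨hR', hdimq, hl, hspan⟩ := Groth.Agent.Lead.RegLocal.quotient_isRegularLocalRing hxm hx2
    have hd : (maximalIdeal (A ⧸ Ideal.span {x})).spanFinrank = d := by omega
    have hdom : IsDomain A := Groth.Agent.Lead.RegLocal.isDomain_of_isRegularLocalRing A
    have hx0 : x ≠ 0 := by
      rintro rfl
      exact hx2 (Ideal.zero_mem _)
    -- B is a CM A-module of dimension d+1
    have hBdim : supportDim A B = ((d + 1 : ℕ) : WithBot ℕ∞) := by
      apply le_antisymm
      · rw [← hdimA]; exact supportDim_le_ringKrullDim A B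
      · have := DepthCM4.depth_le_supportDim (A := A) B
        rw [hdepth] at this
        exact this
    have hBcm : LocCoh.IsCohenMacaulayModule A B := by
      unfold LocCoh.IsCohenMacaulayModule
      rw [hBdim, hdepth]
      rfl
    -- x is regular on B
    have hxreg : IsSMulRegular B x := by
      by_contra hcon
      have hx' : x ∈ ({ r : A | IsSMulRegular B r }ᶜ : Set A) := hcon
      rw [← biUnion_associatedPrimes_eq_compl_regular A B] at hx'
      obtain ⟨p, hp, hxp⟩ := Set.mem_iUnion₂.1 hx'
      have hprime := hp.isPrime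
      have h1 := DepthCM2.cm_dim_quot_ass B hBcm p hp
      have hbotprime : (⊥ : Ideal A).IsPrime := Ideal.isPrime_bot
      have hlt : (⊥ : Ideal A) < p := by
        rw [bot_lt_iff_ne_bot]
        rintro rfl
        exact hx0 ((Ideal.mem_bot).1 hxp)
      have h2 := DepthCM.dim_quot_succ_le_of_lt hlt
      rw [ringKrullDim_eq_of_ringEquiv (RingEquiv.quotientBot A), h1, hBdim, hdimA] at h2
      have : ((d + 1 + 1 : ℕ) : WithBot ℕ∞) ≤ ((d + 1 : ℕ) : WithBot ℕ∞) := by
        push_cast; exact h2
      have h3 : d + 1 + 1 ≤ d + 1 := by exact_mod_cast this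
      omega
    -- pass to the quotient
    have hloc : IsLocalHom (algebraMap A (A ⧸ Ideal.span {x})) :=
      IsLocalHom.of_surjective _ Ideal.Quotient.mk_surjective
    have hnt' : Nontrivial (QuotSMulTop x B) := nontrivial_quotSMulTop_of_mem_maximalIdeal B hxm
    have hfin' : Module.Finite (A ⧸ Ideal.span {x}) (QuotSMulTop x B) :=
      Module.Finite.of_restrictScalars_finite A _ _
    have hd1 := DepthCM.idealDepth_quotSMulTop (maximalIdeal A) B (Depth.smul_top_ne_top A B) x hxm hxreg
    have hdA : LocCoh.depth A (QuotSMulTop x B) = d := by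
      have : LocCoh.idealDepth (maximalIdeal A) (QuotSMulTop x B) + 1 = (d : ℕ∞) + 1 := by
        rw [hd1]; exact_mod_cast hdepth
      exact ENat.add_left_injective_of_ne_top (by simp) this
    have hdA' : LocCoh.depth (A ⧸ Ideal.span {x}) (QuotSMulTop x B) = d := by
      rw [← RegCM.depth_eq_of_isLocalHom A (A ⧸ Ideal.span {x}) (QuotSMulTop x B)]
      exact hdA
    have hfree' := ih (A ⧸ Ideal.span {x}) hd (QuotSMulTop x B) hdA'
    have hfp : Module.FinitePresentation A B := Module.finitePresentation_of_finite A B
    exact (Module.free_quotSMulTop_iff_free A B (IsLocalRing.maximalIdeal_le_jacobson _ hxm) hxreg).1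
      hfree'

end Groth.Agent.Helper2.RegFree
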