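import Mathlib
import Groth.Agent.Helper2.Miracle
import Groth.Agent.Helper2.RegCM
import Groth.Agent.Helper2.RegDescent
import Groth.Agent.Lead.RegLocal

/-!
# Regular local homomorphisms: the equivalences of EGA 0_IV 17.3.3
-/

set_option autoImplicit false
universe u

namespace Groth.Agent.Helper2.RegHomTFAE

open IsLocalRing

section Gen

variable {R : Type u} [CommRing R] [IsNoetherianRing R]

/-- number of generators: `P ≤ J + lift of generators of P/J` -/
lemma spanFinrank_le_add_map (J P : Ideal R) (hJP : J ≤ P) :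
    P.spanFinrank ≤ J.spanFinrank + (P.map (Ideal.Quotient.mk J)).spanFinrank := by
  classical
  set mk := Ideal.Quotient.mk J with hmk
  set Q := P.map mk with hQ
  have hfgQ : Q.FG := Q.fg_of_isNoetherianRing
  have hfgJ : J.FG := J.fg_of_isNoetherianRing
  obtain ⟨s, hs1, hs2⟩ := Submodule.FG.exists_span_finset_card_eq_spanFinrank hfgJ
  obtain ⟨t, ht1, ht2⟩ := Submodule.FG.exists_span_finset_card_eq_spanFinrank hfgQ
  have hlift : ∀ g ∈ t, ∃ a ∈ P, mk a = g := by
    intro g hg
    have : g ∈ Q := by rw [← ht2]; exact Submodule.subset_span hg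
    exact (Ideal.mem_map_iff_of_surjective mk Ideal.Quotient.mk_surjective).mp this
  choose! l hlP hl using hlift
  set T : Finset R := s ∪ t.image l with hT
  have hTspan : Ideal.span (T : Set R) = P := by
    apply le_antisymm
    · rw [Ideal.span_le]
      intro x hx
      rw [hT, Finset.coe_union, Finset.coe_image] at hx
      rcases hx with hx | ⟨g, hg, rfl⟩
      · apply hJP
        rw [← hs2]; exact Submodule.subset_span hx
      · exact hlP g hg
    · intro b hb
      have h1 : mk b ∈ Ideal.map mk (Ideal.span ((t.image l : Finset R) : Set R)) := by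
        rw [Ideal.map_span, Finset.coe_image, ← Set.image_comp]
        have : (mk ∘ l) '' (t : Set (R ⧸ J)) = (t : Set (R ⧸ J)) := by
          ext g; constructor
          · rintro ⟨g', hg', rfl⟩
            simpa [hl g' hg'] using hg'
          · intro hg; exact ⟨g, hg, hl g hg⟩
        rw [this]
        show mk b ∈ Submodule.span _ _
        rw [ht2]; exact Ideal.mem_map_of_mem _ hb
      obtain ⟨c, hc, hcb⟩ :=
        (Ideal.mem_map_iff_of_surjective mk Ideal.Quotient.mk_surjective).mp h1
      have h2 : b - c ∈ J := by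
        rw [← Ideal.Quotient.eq]; exact hcb.symm
      have h3 : b = c + (b - c) := by ring
      rw [h3]
      refine Ideal.add_mem _ (Ideal.span_mono ?_ hc) ?_
      · rw [hT, Finset.coe_union]; exact Set.subset_union_right
      · rw [← hs2] at h2
        refine Ideal.span_mono ?_ h2
        rw [hT, Finset.coe_union]; exact Set.subset_union_left
  calc P.spanFinrank = (Submodule.span R (T : Set R)).spanFinrank := by rw [← hTspan]
    _ ≤ (T : Set R).ncard := Submodule.spanFinrank_span_le_ncard_of_finite T.finite_toSet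
    _ = T.card := Set.ncard_coe_finset T
    _ ≤ s.card + (t.image l).card := Finset.card_union_le _ _
    _ ≤ s.card + t.card := by gcongr; exact Finset.card_image_le
    _ = J.spanFinrank + Q.spanFinrank := by rw [hs1, ht1]

end Gen

section Main

variable {A B : Type u} [CommRing A] [IsLocalRing A] [IsNoetherianRing A] [CommRing B]
  [IsLocalRing B] [IsNoetherianRing B] [Algebra A B] [IsLocalHom (algebraMap A B)]

lemma mB_ne_top : (maximalIdeal A).map (algebraMap A B) ≠ ⊤ := by
  intro h
  have := IsLocalRing.map_maximalIdeal_le (algebraMap A B)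
  rw [h] at this
  exact (maximalIdeal.isMaximal B).ne_top (top_le_iff.mp this)

lemma map_mk_maximalIdeal [IsLocalRing (B ⧸ (maximalIdeal A).map (algebraMap A B))] :
    (maximalIdeal B).map (Ideal.Quotient.mk ((maximalIdeal A).map (algebraMap A B))) =
      maximalIdeal (B ⧸ (maximalIdeal A).map (algebraMap A B)) := by
  obtain ⟨_, h⟩ := Groth.Agent.Lead.RegLocal.quotient_local (mB_ne_top (A := A) (B := B))
  convert h

instance liesOver : (maximalIdeal B).LiesOver (maximalIdeal A) := by
  have h : (maximalIdeal B).comap (algebraMap A B) = maximalIdeal A :=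
    ((IsLocalRing.local_hom_TFAE (algebraMap A B)).out 0 4).mp
      (inferInstance : IsLocalHom (algebraMap A B))
  exact ⟨h.symm⟩

variable [IsLocalRing (B ⧸ (maximalIdeal A).map (algebraMap A B))]

lemma dim_le : ringKrullDim B ≤ ringKrullDim A +
    ringKrullDim (B ⧸ (maximalIdeal A).map (algebraMap A B)) := by
  have h := Ideal.height_le_height_add_of_liesOver (maximalIdeal A) (maximalIdeal B)
  rw [map_mk_maximalIdeal] at h
  rw [← IsLocalRing.maximalIdeal_height_eq_ringKrullDim,
    ← IsLocalRing.maximalIdeal_height_eq_ringKrullDim,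
    ← IsLocalRing.maximalIdeal_height_eq_ringKrullDim]
  exact_mod_cast h

lemma dim_eq_of_flat [Module.Flat A B] : ringKrullDim B = ringKrullDim A +
    ringKrullDim (B ⧸ (maximalIdeal A).map (algebraMap A B)) := by
  have h := Ideal.height_eq_height_add_of_liesOver_of_hasGoingDown (maximalIdeal A)
    (maximalIdeal B)
  rw [map_mk_maximalIdeal] at h
  rw [← IsLocalRing.maximalIdeal_height_eq_ringKrullDim,
    ← IsLocalRing.maximalIdeal_height_eq_ringKrullDim,
    ← IsLocalRing.maximalIdeal_height_eq_ringKrullDim]
  exact_mod_cast h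

lemma spanFinrank_mB_le :
    ((maximalIdeal A).map (algebraMap A B)).spanFinrank ≤ (maximalIdeal A).spanFinrank := by
  classical
  have hfg : (maximalIdeal A).FG := (maximalIdeal A).fg_of_isNoetherianRing
  obtain ⟨s, hs1, hs2⟩ := Submodule.FG.exists_span_finset_card_eq_spanFinrank hfg
  have : (maximalIdeal A).map (algebraMap A B) =
      Ideal.span ((s.image (algebraMap A B) : Finset B) : Set B) := by
    conv_lhs => rw [← hs2]
    rw [Finset.coe_image]
    exact Ideal.map_span _ _
  rw [this]
  calc (Ideal.span ((s.image (algebraMap A B) : Finset B) : Set B)).spanFinrank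
      ≤ ((s.image (algebraMap A B) : Finset B) : Set B).ncard :=
        Submodule.spanFinrank_span_le_ncard_of_finite (Finset.finite_toSet _)
    _ = (s.image (algebraMap A B)).card := Set.ncard_coe_finset _
    _ ≤ s.card := Finset.card_image_le
    _ = _ := hs1

lemma embdim_le : (maximalIdeal B).spanFinrank ≤ (maximalIdeal A).spanFinrank +
    (maximalIdeal (B ⧸ (maximalIdeal A).map (algebraMap A B))).spanFinrank := by
  have h := spanFinrank_le_add_map ((maximalIdeal A).map (algebraMap A B)) (maximalIdeal B)
    (IsLocalRing.map_maximalIdeal_le (algebraMap A B))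
  rw [map_mk_maximalIdeal] at h
  have h2 := spanFinrank_mB_le (A := A) (B := B)
  omega

lemma dim_le_quot_add : ringKrullDim B ≤
    ringKrullDim (B ⧸ (maximalIdeal A).map (algebraMap A B)) + (maximalIdeal A).spanFinrank := by
  have h := ringKrullDim_le_ringKrullDim_quotient_add_spanFinrank
    ((maximalIdeal A).map (algebraMap A B)) ?_
  · refine h.trans ?_
    gcongr
    exact_mod_cast spanFinrank_mB_le (A := A) (B := B)
  · rw [IsLocalRing.ringJacobson_eq_maximalIdeal]
    exact IsLocalRing.map_maximalIdeal_le (algebraMap A B)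

end Main

lemma exists_nat_dim (R : Type u) [CommRing R] [IsLocalRing R] [IsNoetherianRing R] :
    ∃ n : ℕ, ringKrullDim R = n ∧ n ≤ (maximalIdeal R).spanFinrank := by
  have h1 := ringKrullDim_le_spanFinrank_maximalIdeal R
  have h0 : (0 : WithBot ℕ∞) ≤ ringKrullDim R := ringKrullDim_nonneg_of_nontrivial
  obtain ⟨m, hm⟩ : ∃ m : ℕ∞, ringKrullDim R = m := by
    cases h : ringKrullDim R with
    | bot => rw [h] at h0; simp at h0
    | coe m => exact ⟨m, rfl⟩
  rw [hm] at h1
  have h2 : m ≤ ((maximalIdeal R).spanFinrank : ℕ∞) := by exact_mod_cast h1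
  obtain ⟨n, rfl⟩ : ∃ n : ℕ, m = n := by
    cases m with
    | top => simp at h2
    | coe n => exact ⟨n, rfl⟩
  exact ⟨n, hm, by exact_mod_cast h2⟩

theorem main {A B : Type u} [CommRing A] [IsLocalRing A] [IsNoetherianRing A] [CommRing B]
    [IsLocalRing B] [IsNoetherianRing B] [Algebra A B] [IsLocalHom (algebraMap A B)]
    [IsLocalRing (B ⧸ (maximalIdeal A).map (algebraMap A B))] :
    [IsRegularLocalRing B ∧
       Module.finrank (ResidueField B) (CotangentSpace B) =
         Module.finrank (ResidueField A) (CotangentSpace A) +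
           Module.finrank (ResidueField (B ⧸ (maximalIdeal A).map (algebraMap A B)))
             (CotangentSpace (B ⧸ (maximalIdeal A).map (algebraMap A B))),
     IsRegularLocalRing B ∧ IsRegularLocalRing (B ⧸ (maximalIdeal A).map (algebraMap A B)) ∧
       Module.Flat A B,
     IsRegularLocalRing A ∧ IsRegularLocalRing (B ⧸ (maximalIdeal A).map (algebraMap A B)) ∧
       Module.Flat A B,
     IsRegularLocalRing A ∧ IsRegularLocalRing (B ⧸ (maximalIdeal A).map (algebraMap A B)) ∧
       ringKrullDim B = ringKrullDim A +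
         ringKrullDim (B ⧸ (maximalIdeal A).map (algebraMap A B))].TFAE := by
  set B₀ := B ⧸ (maximalIdeal A).map (algebraMap A B) with hB₀
  haveI : IsNoetherianRing B₀ := inferInstance
  rw [← spanFinrank_maximalIdeal_eq_finrank_cotangentSpace (R := B),
    ← spanFinrank_maximalIdeal_eq_finrank_cotangentSpace (R := A),
    ← spanFinrank_maximalIdeal_eq_finrank_cotangentSpace (R := B₀)]
  obtain ⟨dA, hdA, hdA'⟩ := exists_nat_dim A
  obtain ⟨dB, hdB, hdB'⟩ := exists_nat_dim B
  obtain ⟨d0, hd0, hd0'⟩ := exists_nat_dim B₀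
  have hle : dB ≤ dA + d0 := by
    have := dim_le (A := A) (B := B)
    rw [hdA, hdB, hd0] at this
    exact_mod_cast this
  have hemb : (maximalIdeal B).spanFinrank ≤ (maximalIdeal A).spanFinrank +
      (maximalIdeal B₀).spanFinrank := embdim_le (A := A) (B := B)
  have hq : dB ≤ d0 + (maximalIdeal A).spanFinrank := by
    have := dim_le_quot_add (A := A) (B := B)
    rw [hdB, hd0] at this
    exact_mod_cast this
  have regA : IsRegularLocalRing A ↔ (maximalIdeal A).spanFinrank = dA := by
    rw [isRegularLocalRing_iff, hdA]; norm_cast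
  have regB : IsRegularLocalRing B ↔ (maximalIdeal B).spanFinrank = dB := by
    rw [isRegularLocalRing_iff, hdB]; norm_cast
  have reg0 : IsRegularLocalRing B₀ ↔ (maximalIdeal B₀).spanFinrank = d0 := by
    rw [isRegularLocalRing_iff, hd0]; norm_cast
  tfae_have 1 → 2 := by
    rintro ⟨hB, heq⟩
    have hB' := regB.mp hB
    have h0 : IsRegularLocalRing B₀ := reg0.mpr (by omega)
    have hA : IsRegularLocalRing A := regA.mpr (by omega)
    refine ⟨hB, h0, ?_⟩
    haveI : LocCoh.IsCohenMacaulayLocalRing B :=
      ⟨Groth.Agent.Helper2.RegCM.cm_of_isRegularLocalRing _⟩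
    apply Groth.Agent.Helper2.Miracle.flat_of_cm_ring
    rw [hdA, hdB, hd0]
    have h1 := regA.mp hA
    have h2 := reg0.mp h0
    have : dB = dA + d0 := by omega
    exact_mod_cast this
  tfae_have 2 → 3 := by
    rintro ⟨hB, h0, hfl⟩
    exact ⟨Groth.Agent.Helper2.RegDescent.isRegularLocalRing_of_flat A B, h0, hfl⟩
  tfae_have 3 → 4 := by
    rintro ⟨hA, h0, hfl⟩
    exact ⟨hA, h0, dim_eq_of_flat⟩
  tfae_have 4 → 1 := by
    rintro ⟨hA, h0, hdim⟩
    have h1 := regA.mp hA
    have h2 := reg0.mp h0
    have h3 : dB = dA + d0 := by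
      rw [hdA, hdB, hd0] at hdim
      exact_mod_cast hdim
    refine ⟨regB.mpr (by omega), by omega⟩
  tfae_finish

end Groth.Agent.Helper2.RegHomTFAE
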