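import Mathlib
import Groth.Agent.Helper2.RegSmoothLoc
import Groth.Agent.Helper2.ArtFinite
import Groth.Agent.Helper2.ArtPrin
import Groth.Agent.Helper1.FieldSmooth6

namespace Groth.Agent.Helper2.RegLift
open IsLocalRing Groth.Agent.Helper2.AdicJacArt Groth.Agent.Helper2.ArtPrin

universe u

/-- residue field `k` passes to Artinian test rings receiving a surjection -/
theorem res_of_surjective {k A E : Type*} [Field k] [CommRing A] [IsLocalRing A] [Algebra k A]
    [CommRing E] [IsLocalRing E] [Algebra k E]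
    (hres : Function.Surjective (algebraMap k (ResidueField A)))
    (N : Ideal E) (hN : N ≠ ⊤) (ψ : A →ₐ[k] E ⧸ N) (hψ : Function.Surjective ψ) (e : E) :
    ∃ c : k, e - algebraMap k E c ∈ maximalIdeal E := by
  haveI : Nontrivial (E ⧸ N) := Ideal.Quotient.nontrivial_iff.mpr hN
  haveI : IsLocalRing (E ⧸ N) :=
    IsLocalRing.of_surjective' (Ideal.Quotient.mk _) Ideal.Quotient.mk_surjective
  obtain ⟨a, ha⟩ := hψ (Ideal.Quotient.mk N e)
  obtain ⟨c, hc⟩ := hres (residue A a)
  refine ⟨c, ?_⟩
  have h1 : a - algebraMap k A c ∈ maximalIdeal A := by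
    rw [← residue_eq_zero_iff, map_sub, sub_eq_zero, ← hc]
    rfl
  have h2 : ψ (a - algebraMap k A c) ∈ maximalIdeal (E ⧸ N) :=
    map_mem_maximalIdeal_of_surjective ψ.toRingHom hψ _ h1
  rw [map_sub, ha, AlgHom.commutes] at h2
  have h3 : Ideal.Quotient.mk N (e - algebraMap k E c) ∈ maximalIdeal (E ⧸ N) := by
    rw [map_sub]; exact h2
  rw [IsLocalRing.mem_maximalIdeal, mem_nonunits_iff] at h3 ⊢
  exact fun hu => h3 (hu.map _)

theorem isRegularLocalRing_iff_lift (k : Type u) [Field k] [IsAlgClosed k]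
    (A : Type u) [CommRing A] [IsLocalRing A] [Algebra k A] [Algebra.EssFiniteType k A]
    (hres : Function.Surjective (algebraMap k (IsLocalRing.ResidueField A))) :
    IsRegularLocalRing A ↔
      ∀ (B' : Type u) [CommRing B'] [IsLocalRing B'] [Algebra k B'] [Module.Finite k B']
        (J : Ideal B'), J ^ 2 = ⊥ → ∀ f : A →ₐ[k] B' ⧸ J,
          ∃ g : A →ₐ[k] B', (Ideal.Quotient.mkₐ k J).comp g = f := by
  haveI : Algebra.IsGeometricallyReduced k (ResidueField A) :=
    Groth.Agent.Helper1.FieldSmooth.isGeometricallyReduced_of_perfectField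
  rw [← Groth.Agent.Helper2.RegSmoothLoc.formallySmooth_iff_isRegularLocalRing k A]
  constructor
  · intro hfs B' _ _ _ _ J hJ f
    exact Algebra.FormallySmooth.exists_lift J ⟨2, hJ⟩ f
  · intro h
    apply Groth.Agent.Helper2.ArtStalk.formallySmooth_of_artLiftS
    intro E _ _ _ _ N hN hNm ψ hψ
    have hEres := res_of_surjective hres N hN ψ hψ
    haveI : Module.Finite k E := Groth.Agent.Helper2.ArtFinite.finite_of_artinian_residue hEres
    have hle : N ≤ maximalIdeal E := IsLocalRing.le_maximalIdeal hN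
    have hN2 : N ^ 2 = ⊥ := by
      rw [eq_bot_iff, pow_two, ← hNm]
      exact Ideal.mul_mono_right hle
    exact h E N hN2 ψ

end Groth.Agent.Helper2.RegLift
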