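import Groth.Prelude.Def_Curv2
import Groth.Agent.Helper2.StalkDict2
import Groth.Agent.Helper2.GeomReg
import Groth.Agent.Helper2.SerreLoc
import Mathlib

set_option autoImplicit false
universe u
open CategoryTheory CategoryTheory.Limits AlgebraicGeometry Opposite TensorProduct

namespace Groth.Agent.Helper2.RegSch

open Groth.Agent.Helper2.StalkDict Groth.Agent.Helper2.StalkDict2

variable (k : Type u) [Field k] (X : Scheme.{u}) [X.Over (Spec (CommRingCat.of k))]

attribute [local instance] Curv2.stalkAlgebra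

theorem p2_to_p3 (x : X)
    (h : ∀ (k' : Type u) [Field k'] [Algebra k k'] [FiniteDimensional k k'] [IsPurelyInseparable k k'] (x' : ↥(Curv2.bc k X k')),
        Curv2.bcFst k X k' x' = x → IsRegularLocalRing ↥((Curv2.bc k X k').presheaf.stalk x')) :
    CAlg.IsGeometricallyRegular k ↥(X.presheaf.stalk x) := by
  refine (Groth.Agent.Helper2.GeomReg.geomRegular_iff k _).1.mpr ?_
  intro k'' _ _ hfin hpi
  haveI := hfin
  haveI := hpi
  obtain ⟨q, hqP, hq⟩ := exists_prime_over k X x k''
  obtain ⟨x', ⟨e⟩, hx'⟩ := exists_point_of_prime k X x k'' q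
  haveI hreg : IsRegularLocalRing ((Curv2.bc k X k'').presheaf.stalk x') := h k'' x' (hx' hq)
  obtain ⟨e2⟩ := nonempty_equiv_localization_of_pi (X.presheaf.stalk x) k'' q hq
  haveI : IsRegularLocalRing (X.presheaf.stalk x ⊗[k] k'') :=
    IsRegularLocalRing.of_ringEquiv (e.trans e2.symm)
  haveI := Groth.Agent.Helper2.SerreLoc.isRegularRing_of_isRegularLocalRing
    (X.presheaf.stalk x ⊗[k] k'')
  exact IsRegularRing.of_ringEquiv (Algebra.TensorProduct.comm k _ _).toRingEquiv

theorem p3_to_p1 (x : X) (h : CAlg.IsGeometricallyRegular k ↥(X.presheaf.stalk x)) :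
    Curv2.IsGeomRegularAt k X x := by
  intro k' _ _ hfg x' hx'
  haveI : Algebra.EssFiniteType k k' := IntermediateField.fg_top_iff.mp hfg
  haveI h1 : IsRegularRing (k' ⊗[k] X.presheaf.stalk x) :=
    Groth.Agent.Helper2.GeomReg.regular_of_geomRegular k _ h k'
  haveI h2 : IsRegularRing (X.presheaf.stalk x ⊗[k] k') :=
    IsRegularRing.of_ringEquiv (Algebra.TensorProduct.comm k _ _).toRingEquiv
  obtain ⟨q, hqP, hq, ⟨e⟩⟩ := exists_prime_of_point k X x k' x' hx'
  exact IsRegularLocalRing.of_ringEquiv e.symm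

theorem s7606 (x : X) :
    (Curv2.IsGeomRegularAt k X x ↔
      ∀ (k' : Type u) [Field k'] [Algebra k k'] [FiniteDimensional k k'] [IsPurelyInseparable k k'] (x' : ↥(Curv2.bc k X k')),
        Curv2.bcFst k X k' x' = x → IsRegularLocalRing ↥((Curv2.bc k X k').presheaf.stalk x')) ∧
    ((∀ (k' : Type u) [Field k'] [Algebra k k'] [FiniteDimensional k k'] [IsPurelyInseparable k k'] (x' : ↥(Curv2.bc k X k')),
        Curv2.bcFst k X k' x' = x → IsRegularLocalRing ↥((Curv2.bc k X k').presheaf.stalk x')) ↔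
      CAlg.IsGeometricallyRegular k ↥(X.presheaf.stalk x)) := by
  have h12 : Curv2.IsGeomRegularAt k X x →
      ∀ (k' : Type u) [Field k'] [Algebra k k'] [FiniteDimensional k k'] [IsPurelyInseparable k k'] (x' : ↥(Curv2.bc k X k')),
        Curv2.bcFst k X k' x' = x → IsRegularLocalRing ↥((Curv2.bc k X k').presheaf.stalk x') := by
    intro h k' _ _ _ _ x' hx'
    exact h k' (IntermediateField.fg_top_iff.mpr inferInstance) x' hx'
  exact ⟨⟨h12, fun h => p3_to_p1 k X x (p2_to_p3 k X x h)⟩,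
    ⟨p2_to_p3 k X x, fun h => h12 (p3_to_p1 k X x h)⟩⟩

end Groth.Agent.Helper2.RegSch
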