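import Groth.Prelude.Def_Curv2
import Groth.Agent.Helper2.RegSch
import Groth.Agent.Helper2.RegDescent
import Groth.Agent.Helper4.GeomRedPt
import Mathlib

set_option autoImplicit false
universe u
open CategoryTheory CategoryTheory.Limits AlgebraicGeometry Opposite TensorProduct

namespace Groth.Agent.Helper2.RegSch2

/-- geometric regularity descends along faithfully flat algebra maps -/
theorem geomRegular_of_faithfullyFlat (k A B : Type u) [Field k] [CommRing A] [CommRing B]
    [Algebra k A] [Algebra k B] [Algebra A B] [IsScalarTower k A B] [Module.FaithfullyFlat A B]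
    (h : CAlg.IsGeometricallyRegular k B) : CAlg.IsGeometricallyRegular k A := by
  intro k' _ _ hfin
  have h1 : IsRegularRing (k' ⊗[k] B) := h k' hfin
  -- `(A ⊗[k] k') ⊗[A] B ≃ B ⊗[k] k'`
  let e1 : (A ⊗[k] k') ⊗[A] B ≃ₐ[A] B ⊗[A] (A ⊗[k] k') := Algebra.TensorProduct.comm A _ _
  let e2 : B ⊗[A] (A ⊗[k] k') ≃ₐ[B] B ⊗[k] k' := Algebra.TensorProduct.cancelBaseChange k A B B k'
  let e3 : B ⊗[k] k' ≃ₐ[k] k' ⊗[k] B := Algebra.TensorProduct.comm k _ _
  haveI h2 : IsRegularRing ((A ⊗[k] k') ⊗[A] B) :=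
    IsRegularRing.of_ringEquiv ((e1.toRingEquiv.trans e2.toRingEquiv).trans e3.toRingEquiv).symm
  haveI : Module.FaithfullyFlat (A ⊗[k] k') ((A ⊗[k] k') ⊗[A] B) := inferInstance
  haveI h3 : IsRegularRing (A ⊗[k] k') :=
    Groth.Agent.Helper2.RegDescent.isRegularRing_of_faithfullyFlat (A ⊗[k] k') ((A ⊗[k] k') ⊗[A] B)
  exact IsRegularRing.of_ringEquiv (Algebra.TensorProduct.comm k A k').toRingEquiv

variable (k : Type u) [Field k] (X Y : Scheme.{u}) [X.Over (Spec (CommRingCat.of k))]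
  [Y.Over (Spec (CommRingCat.of k))]

theorem stalkMap_comp (f : X ⟶ Y)
    (hf : f ≫ (Y ↘ (Spec (CommRingCat.of k))) = X ↘ (Spec (CommRingCat.of k))) (x : X) :
    (f.stalkMap x).hom.comp (Curv2.stalkMap k Y (f.base x)) = Curv2.stalkMap k X x := by
  have h1 := Groth.Agent.Helper4.GeomRedPt.specMap_stalkMap (k := k) (X := X) x
  have h2 := Groth.Agent.Helper4.GeomRedPt.specMap_stalkMap (k := k) (X := Y) (f.base x)
  have h3 : Spec.map (CommRingCat.ofHom (Curv2.stalkMap k Y (f.base x)) ≫ f.stalkMap x) =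
      Spec.map (CommRingCat.ofHom (Curv2.stalkMap k X x)) := by
    rw [Spec.map_comp, h1, h2, ← Category.assoc, Scheme.SpecMap_stalkMap_fromSpecStalk,
      Category.assoc, hf]
  have h4 := Spec.map_injective h3
  have h5 := congrArg CommRingCat.Hom.hom h4
  exact h5

attribute [local instance] Curv2.stalkAlgebra

theorem s1563 [IsLocallyNoetherian X] [IsLocallyNoetherian Y] (f : X ⟶ Y)
    (hf : f ≫ (Y ↘ (Spec (CommRingCat.of k))) = X ↘ (Spec (CommRingCat.of k)))
    (x : X) (hflat : (f.stalkMap x).hom.Flat) (hx : Curv2.IsGeomRegularAt k X x) :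
    Curv2.IsGeomRegularAt k Y (f.base x) := by
  have hX := Groth.Agent.Helper2.RegSch.s7606 k X x
  have hY := Groth.Agent.Helper2.RegSch.s7606 k Y (f.base x)
  have h1 : CAlg.IsGeometricallyRegular k ↥(X.presheaf.stalk x) := hX.2.1 (hX.1.1 hx)
  refine hY.1.2 (hY.2.2 ?_)
  letI : Algebra (Y.presheaf.stalk (f.base x)) (X.presheaf.stalk x) :=
    (f.stalkMap x).hom.toAlgebra
  haveI : IsScalarTower k (Y.presheaf.stalk (f.base x)) (X.presheaf.stalk x) :=
    IsScalarTower.of_algebraMap_eq fun a => by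
      have := RingHom.congr_fun (stalkMap_comp k X Y f hf x) a
      exact this.symm
  haveI : Module.Flat (Y.presheaf.stalk (f.base x)) (X.presheaf.stalk x) := hflat
  haveI : IsLocalHom (algebraMap (Y.presheaf.stalk (f.base x)) (X.presheaf.stalk x)) :=
    inferInstanceAs (IsLocalHom (f.stalkMap x).hom)
  haveI : Module.FaithfullyFlat (Y.presheaf.stalk (f.base x)) (X.presheaf.stalk x) :=
    Module.FaithfullyFlat.of_flat_of_isLocalHom
  exact geomRegular_of_faithfullyFlat k _ _ h1

end Groth.Agent.Helper2.RegSch2
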