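import Groth.Prelude.Def_Curv2
import Groth.Agent.Helper2.RegSch
import Groth.Agent.Helper2.GeomRegSmooth
import Groth.Agent.Helper2.SepTensorReg
import Groth.Agent.Helper2.PtDesc
import Groth.Agent.Helper2.RegSmooth
import Groth.Agent.Helper2.HensTensBij
import Mathlib

set_option autoImplicit false
universe u
open CategoryTheory CategoryTheory.Limits AlgebraicGeometry Opposite TensorProduct

namespace Groth.Agent.Helper2.RegSch3

section Ring

variable (k A : Type u) [Field k] [CommRing A] [Algebra k A] [Algebra.FinitePresentation k A]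
  (q : Ideal A) [q.IsPrime]

/-- smooth at `q` implies geometrically regular local ring -/
theorem geomRegular_of_isSmoothAt (h : Algebra.IsSmoothAt k q) :
    CAlg.IsGeometricallyRegular k (Localization.AtPrime q) := by
  intro k' _ _ hfin
  haveI : Algebra.FormallySmooth k (Localization.AtPrime q) := h
  haveI : Algebra.EssFiniteType A (Localization.AtPrime q) :=
    Algebra.EssFiniteType.of_isLocalization _ q.primeCompl
  haveI : Algebra.EssFiniteType k (Localization.AtPrime q) :=
    Algebra.EssFiniteType.comp k A _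
  exact Groth.Agent.Helper2.SepTensorReg.isRegularRing_of_formallySmooth k' _

attribute [local instance] Algebra.TensorProduct.rightAlgebra in
/-- geometrically regular local ring implies smooth at `q` -/
theorem isSmoothAt_of_geomRegular (h : CAlg.IsGeometricallyRegular k (Localization.AtPrime q)) :
    Algebra.IsSmoothAt k q := by
  let K := AlgebraicClosure k
  let Aq := Localization.AtPrime q
  haveI : Algebra.EssFiniteType A Aq := Algebra.EssFiniteType.of_isLocalization _ q.primeCompl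
  haveI : Algebra.EssFiniteType k Aq := Algebra.EssFiniteType.comp k A _
  haveI hnoe : IsNoetherianRing (K ⊗[k] Aq) :=
    Groth.Agent.Helper2.SepTensorReg.isNoetherianRing_of_essFiniteType K _
  -- a maximal ideal of `K ⊗ Aq`
  haveI : Nontrivial (K ⊗[k] Aq) := inferInstance
  obtain ⟨Q2, hQ2⟩ := Ideal.exists_maximal (K ⊗[k] Aq)
  haveI := hQ2.isPrime
  -- `(K ⊗ Aq)_{Q2}` is regular
  have hreg : IsRegularLocalRing (Localization.AtPrime Q2) := by
    obtain ⟨s, hs⟩ := (isNoetherianRing_iff_ideal_fg _).1 hnoe Q2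
    obtain ⟨k', hfd, hk'⟩ := Groth.Agent.Helper2.GeomRegSmooth.exists_intermediateField k Aq K
      (s : Set (K ⊗[k] Aq)) s.finite_toSet
    haveI : IsRegularRing (k' ⊗[k] Aq) := h k' hfd
    exact Groth.Agent.Helper2.GeomRegSmooth.regular_at k Aq K k' Q2 (s : Set (K ⊗[k] Aq)) hs hk'
  -- `K ⊗ Aq` is a localization of `K ⊗ A`
  let φ : K ⊗[k] A →ₐ[K] K ⊗[k] Aq :=
    Algebra.TensorProduct.map (AlgHom.id K K) (IsScalarTower.toAlgHom k A Aq)
  letI algφ : Algebra (K ⊗[k] A) (K ⊗[k] Aq) := φ.toRingHom.toAlgebra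
  haveI : IsScalarTower K (K ⊗[k] A) (K ⊗[k] Aq) :=
    IsScalarTower.of_algebraMap_eq fun x => (φ.commutes x).symm
  have H : (algebraMap (K ⊗[k] A) (K ⊗[k] Aq)).comp
      (Algebra.TensorProduct.includeRight : A →ₐ[k] K ⊗[k] A).toRingHom =
      (Algebra.TensorProduct.includeRight : Aq →ₐ[k] K ⊗[k] Aq).toRingHom.comp
        (algebraMap A Aq) := by
    ext a
    show φ ((1 : K) ⊗ₜ[k] a) = (1 : K) ⊗ₜ[k] (algebraMap A Aq a)
    simp [φ]
  haveI hloc : IsLocalization
      (q.primeCompl.map (Algebra.TensorProduct.includeRight (R := k) (A := K))) (K ⊗[k] Aq) :=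
    IsLocalization.tensorProduct_tensorProduct_right k K q.primeCompl Aq H
  haveI : IsScalarTower (K ⊗[k] A) (K ⊗[k] Aq) (Localization.AtPrime Q2) := inferInstance
  let Q1 : Ideal (K ⊗[k] A) := Q2.comap (algebraMap (K ⊗[k] A) (K ⊗[k] Aq))
  haveI : Q1.IsPrime := Ideal.comap_isPrime _ _
  haveI hloc1 : IsLocalization.AtPrime (Localization.AtPrime Q2) Q1 :=
    IsLocalization.isLocalization_isLocalization_atPrime_isLocalization
      (q.primeCompl.map (Algebra.TensorProduct.includeRight (R := k) (A := K)))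
      (Localization.AtPrime Q2) Q2
  let e0 : Localization.AtPrime Q2 ≃+* Localization.AtPrime Q1 :=
    (IsLocalization.algEquiv Q1.primeCompl (Localization.AtPrime Q2)
        (Localization.AtPrime Q1)).toRingEquiv
  have hreg1 : IsRegularLocalRing (Localization.AtPrime Q1) :=
    IsRegularLocalRing.of_ringEquiv (R := Localization.AtPrime Q2) e0
  haveI : Algebra.IsGeometricallyReduced K Q1.ResidueField :=
    Groth.Agent.Helper1.FieldSmooth.isGeometricallyReduced_of_perfectField
  have hsm1 : Algebra.IsSmoothAt K Q1 :=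
    (Groth.Agent.Helper2.RegSmooth.isSmoothAt_iff_isRegularLocalRing K (K ⊗[k] A) Q1).2 hreg1
  have hmem : (⟨Q1, inferInstance⟩ : PrimeSpectrum (K ⊗[k] A)) ∈
      Algebra.smoothLocus K (K ⊗[k] A) := hsm1
  have h2 := Groth.Agent.Helper2.PtDesc.smoothLocus_comap k K A _ hmem
  -- the contraction is `q`
  haveI : Algebra.IsIntegral k K := Algebra.IsAlgebraic.isIntegral
  haveI : Algebra.IsIntegral Aq (K ⊗[k] Aq) :=
    Groth.Agent.Helper2.HensTensBij.isIntegral_right' k K Aq
  have hmax : (Q2.comap (algebraMap Aq (K ⊗[k] Aq))).IsMaximal :=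
    Ideal.isMaximal_comap_of_isIntegral_of_isMaximal Q2
  have hq2 : Q2.comap (algebraMap Aq (K ⊗[k] Aq)) = IsLocalRing.maximalIdeal Aq :=
    IsLocalRing.eq_maximalIdeal hmax
  have hq : Q1.comap (algebraMap A (K ⊗[k] A)) = q := by
    have e1 : Q1.comap (algebraMap A (K ⊗[k] A)) =
        (Q2.comap (algebraMap Aq (K ⊗[k] Aq))).comap (algebraMap A Aq) := by
      ext a
      simp only [Q1, Ideal.mem_comap]
      have := RingHom.congr_fun H a
      simp only [RingHom.comp_apply] at this
      show algebraMap (K ⊗[k] A) (K ⊗[k] Aq) ((1 : K) ⊗ₜ[k] a) ∈ Q2 ↔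
        ((1 : K) ⊗ₜ[k] (algebraMap A Aq a) : K ⊗[k] Aq) ∈ Q2
      rw [show algebraMap (K ⊗[k] A) (K ⊗[k] Aq) ((1 : K) ⊗ₜ[k] a) =
        (1 : K) ⊗ₜ[k] (algebraMap A Aq a) from this]
    rw [e1, hq2]
    exact IsLocalization.AtPrime.comap_maximalIdeal Aq q
  have h3 : (PrimeSpectrum.comap (algebraMap A (K ⊗[k] A))
      (⟨Q1, inferInstance⟩ : PrimeSpectrum (K ⊗[k] A))) = ⟨q, inferInstance⟩ :=
    PrimeSpectrum.ext hq
  rw [h3] at h2
  exact h2

end Ring

section Sch

variable (k : Type u) [Field k] (X : Scheme.{u}) [X.Over (Spec (CommRingCat.of k))]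
  [LocallyOfFinitePresentation (X ↘ (Spec (CommRingCat.of k)))]

attribute [local instance] Curv2.stalkAlgebra

theorem exists_algebra_stalk (x : X) :
    ∃ (A : Type u) (_ : CommRing A) (_ : Algebra k A) (_ : Algebra.FinitePresentation k A)
      (q : Ideal A) (_ : q.IsPrime),
      Nonempty (X.presheaf.stalk x ≃ₐ[k] Localization.AtPrime q) ∧
      (x ∈ (X ↘ (Spec (CommRingCat.of k))).smoothLocus ↔ Algebra.IsSmoothAt k q) := by
  set f := (X ↘ (Spec (CommRingCat.of k))) with hf
  obtain ⟨_, ⟨V, hV, rfl⟩, hxV, -⟩ :=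
    X.isBasis_affineOpens.exists_subset_of_mem_open (Set.mem_univ x) isOpen_univ
  have hU : IsAffineOpen (⊤ : (Spec (CommRingCat.of k)).Opens) := isAffineOpen_top _
  have hVU : V ≤ f ⁻¹ᵁ ⊤ := le_top
  let ψ : CommRingCat.of k ⟶ Γ(Spec (CommRingCat.of k), ⊤) := (Scheme.ΓSpecIso (CommRingCat.of k)).inv
  have hψ : Function.Bijective ψ.hom :=
    ConcreteCategory.bijective_of_isIso (Scheme.ΓSpecIso (CommRingCat.of k)).inv
  letI : Algebra k Γ(Spec (CommRingCat.of k), ⊤) := ψ.hom.toAlgebra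
  letI : Algebra Γ(Spec (CommRingCat.of k), ⊤) Γ(X, V) := (f.appLE ⊤ V hVU).hom.toAlgebra
  letI : Algebra k Γ(X, V) := ((f.appLE ⊤ V hVU).hom.comp ψ.hom).toAlgebra
  haveI : IsScalarTower k Γ(Spec (CommRingCat.of k), ⊤) Γ(X, V) :=
    IsScalarTower.of_algebraMap_eq' rfl
  have hfp : (f.appLE ⊤ V hVU).hom.FinitePresentation := f.finitePresentation_appLE hU hV hVU
  haveI : Algebra.FinitePresentation Γ(Spec (CommRingCat.of k), ⊤) Γ(X, V) := hfp
  let e : k ≃ₐ[k] Γ(Spec (CommRingCat.of k), ⊤) :=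
    AlgEquiv.ofBijective (Algebra.ofId k _) hψ
  haveI : Algebra.FormallyEtale k Γ(Spec (CommRingCat.of k), ⊤) := .of_equiv e
  haveI : Algebra.FinitePresentation k Γ(Spec (CommRingCat.of k), ⊤) :=
    Algebra.FinitePresentation.equiv e
  haveI : Algebra.FinitePresentation k Γ(X, V) :=
    Algebra.FinitePresentation.trans k Γ(Spec (CommRingCat.of k), ⊤) Γ(X, V)
  let q := (hV.primeIdealOf ⟨x, hxV⟩).asIdeal
  letI := X.presheaf.algebra_section_stalk ⟨x, hxV⟩
  haveI : IsLocalization.AtPrime (X.presheaf.stalk x) q := hV.isLocalization_stalk ⟨x, hxV⟩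
  let e1 := IsLocalization.algEquiv q.primeCompl (X.presheaf.stalk x) (Localization.AtPrime q)
  have hcomm : ∀ c : k, e1 (algebraMap k (X.presheaf.stalk x) c) =
      algebraMap k (Localization.AtPrime q) c := by
    intro c
    have h1 : algebraMap k (X.presheaf.stalk x) c =
        algebraMap Γ(X, V) (X.presheaf.stalk x) (algebraMap k Γ(X, V) c) := by
      show (X.presheaf.germ ⊤ x trivial).hom ((f.appTop).hom (ψ.hom c)) =
        (X.presheaf.germ V x hxV).hom ((f.appLE ⊤ V hVU).hom (ψ.hom c))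
      rw [Scheme.Hom.appLE]
      simp only [CommRingCat.hom_comp, RingHom.comp_apply]
      erw [TopCat.Presheaf.germ_res_apply]
      rfl
    rw [h1, e1.commutes]
    exact (IsScalarTower.algebraMap_apply k Γ(X, V) (Localization.AtPrime q) c).symm
  refine ⟨Γ(X, V), inferInstance, inferInstance, inferInstance, q, inferInstance,
    ⟨AlgEquiv.ofRingEquiv (f := e1.toRingEquiv) hcomm⟩, ?_⟩
  rw [Scheme.Hom.mem_smoothLocus, formallySmooth_stalkMap_iff ⊤ hU V hV hVU hxV]
  change Algebra.FormallySmooth Γ(Spec (CommRingCat.of k), ⊤) (Localization.AtPrime q) ↔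
    Algebra.FormallySmooth k (Localization.AtPrime q)
  exact (Algebra.FormallySmooth.iff_restrictScalars (R := k)
    (A := Γ(Spec (CommRingCat.of k), ⊤)) (B := Localization.AtPrime q)).symm

theorem geomRegular_congr {A B : Type u} [CommRing A] [CommRing B] [Algebra k A] [Algebra k B]
    (e : A ≃ₐ[k] B) (h : CAlg.IsGeometricallyRegular k A) : CAlg.IsGeometricallyRegular k B := by
  intro k' _ _ hfin
  haveI := h k' hfin
  exact IsRegularRing.of_ringEquiv
    (Algebra.TensorProduct.congr (AlgEquiv.refl (R := k) (A₁ := k')) e).toRingEquiv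

theorem s1562 (x : X) :
    Curv2.IsGeomRegularAt k X x ↔ x ∈ (X ↘ (Spec (CommRingCat.of k))).smoothLocus := by
  have hX := Groth.Agent.Helper2.RegSch.s7606 k X x
  obtain ⟨A, _, _, _, q, _, ⟨e⟩, hiff⟩ := exists_algebra_stalk k X x
  rw [hiff]
  constructor
  · intro h
    have h1 : CAlg.IsGeometricallyRegular k ↥(X.presheaf.stalk x) := hX.2.1 (hX.1.1 h)
    exact isSmoothAt_of_geomRegular k A q (geomRegular_congr k e h1)
  · intro h
    have h1 := geomRegular_of_isSmoothAt k A q h
    exact hX.1.2 (hX.2.2 (geomRegular_congr k e.symm h1))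

end Sch

end Groth.Agent.Helper2.RegSch3
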