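import Mathlib
set_option autoImplicit false
universe u
open scoped Pointwise

namespace Groth.Agent.Helper2.Regular

theorem fwd (A : Type u) [CommRing A] (M : Type u)
    [AddCommGroup M] [Module A M] (f : A) (h : IsSMulRegular M f) :
        ∀ (k : ℕ) (x : M), f ^ k • x ∈ f ^ (k + 1) • (⊤ : Submodule A M) → x ∈ f • (⊤ : Submodule A M) := by
  intro k x hx
  rw [Submodule.mem_smul_pointwise_iff_exists] at hx ⊢
  obtain ⟨y, -, hy⟩ := hx
  refine ⟨y, trivial, ?_⟩
  have : IsSMulRegular M (f ^ k) := h.pow k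
  apply this
  simp only
  rw [← hy, pow_succ, mul_smul]

theorem all_pow (A : Type u) [CommRing A] (M : Type u)
    [AddCommGroup M] [Module A M] (f : A)
    (h : ∀ (k : ℕ) (x : M), f ^ k • x ∈ f ^ (k + 1) • (⊤ : Submodule A M) → x ∈ f • (⊤ : Submodule A M))
    (x : M) (hx : f • x = 0) : ∀ n : ℕ, ∃ y : M, x = f ^ n • y := by
  intro n
  induction n with
  | zero => exact ⟨x, by simp⟩
  | succ n ih =>
    obtain ⟨y, hy⟩ := ih
    have h1 : f ^ (n + 1) • y ∈ f ^ (n + 1 + 1) • (⊤ : Submodule A M) := by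
      have : f ^ (n + 1) • y = 0 := by
        rw [pow_succ', mul_smul, ← hy, hx]
      rw [this]; exact Submodule.zero_mem _
    have h2 := h (n + 1) y h1
    rw [Submodule.mem_smul_pointwise_iff_exists] at h2
    obtain ⟨z, -, hz⟩ := h2
    refine ⟨z, ?_⟩
    rw [hy, ← hz, pow_succ, mul_smul]

theorem bwd (A : Type u) [CommRing A] (M : Type u)
    [AddCommGroup M] [Module A M] (f : A) (hsep : (⨅ k : ℕ, f ^ k • (⊤ : Submodule A M)) = ⊥)
    (h : ∀ (k : ℕ) (x : M), f ^ k • x ∈ f ^ (k + 1) • (⊤ : Submodule A M) → x ∈ f • (⊤ : Submodule A M)) :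
    IsSMulRegular M f := by
  rw [isSMulRegular_iff_right_eq_zero_of_smul]
  intro x hx
  have h1 := all_pow A M f h x hx
  have : x ∈ (⨅ k : ℕ, f ^ k • (⊤ : Submodule A M)) := by
    rw [Submodule.mem_iInf]
    intro n
    obtain ⟨y, hy⟩ := h1 n
    rw [Submodule.mem_smul_pointwise_iff_exists]
    exact ⟨y, trivial, hy.symm⟩
  rw [hsep] at this
  simpa using this

theorem bwd_noeth (A : Type u) [CommRing A] [IsNoetherianRing A] (M : Type u)
    [AddCommGroup M] [Module A M] [Module.Finite A M] (f : A)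
    (h : ∀ (k : ℕ) (x : M), f ^ k • x ∈ f ^ (k + 1) • (⊤ : Submodule A M) → x ∈ f • (⊤ : Submodule A M)) :
    IsSMulRegular M f := by
  rw [isSMulRegular_iff_right_eq_zero_of_smul]
  intro x hx
  have h1 := all_pow A M f h x hx
  have : x ∈ (⨅ i : ℕ, (Ideal.span {f}) ^ i • ⊤ : Submodule A M) := by
    rw [Submodule.mem_iInf]
    intro n
    obtain ⟨y, hy⟩ := h1 n
    rw [hy]
    exact Submodule.smul_mem_smul (Ideal.pow_mem_pow (Ideal.mem_span_singleton_self f) n) trivial
  rw [Ideal.mem_iInf_smul_pow_eq_bot_iff] at this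
  obtain ⟨⟨r, hr⟩, hrx⟩ := this
  rw [Ideal.mem_span_singleton'] at hr
  obtain ⟨a, rfl⟩ := hr
  simp only at hrx
  rw [← hrx, mul_smul, hx, smul_zero]

end Groth.Agent.Helper2.Regular
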