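import Mathlib
import Groth.Prelude
import Groth.Agent.Helper2.AssRel3
import Groth.Agent.Helper2.GenStalk1
import Groth.Agent.Helper5.FibStalk

set_option autoImplicit false
set_option linter.unusedVariables false
open CategoryTheory CategoryTheory.Limits AlgebraicGeometry TopologicalSpace Topology TensorProduct
open IsLocalRing Submodule
universe u

namespace Groth.Agent.Helper2.RelAssD

/-- associated-ness of the maximal ideal along a surjection of local rings (no Noetherian
hypothesis). -/
theorem isAssociatedPrime_maximalIdeal_iff_of_surjective' {B B' P : Type u} [CommRing B]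
    [CommRing B'] [IsLocalRing B] [IsLocalRing B'] [Algebra B B']
    (hπ : Function.Surjective (algebraMap B B'))
    [AddCommGroup P] [Module B P] [Module B' P] [IsScalarTower B B' P] :
    IsAssociatedPrime (maximalIdeal B') P ↔ IsAssociatedPrime (maximalIdeal B) P := by
  haveI : IsLocalHom (algebraMap B B') := IsLocalHom.of_surjective _ hπ
  have hmax : (maximalIdeal B').comap (algebraMap B B') = maximalIdeal B :=
    IsLocalRing.maximalIdeal_comap (algebraMap B B')
  have hcolon : ∀ x : P, (colon (⊥ : Submodule B P) {x} : Ideal B) =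
      (colon (⊥ : Submodule B' P) {x} : Ideal B').comap (algebraMap B B') := by
    intro x
    ext b
    rw [Ideal.mem_comap, mem_colon_singleton, mem_colon_singleton, mem_bot, mem_bot,
      algebraMap_smul]
  unfold IsAssociatedPrime
  rw [Submodule.isAssociatedPrime_def, Submodule.isAssociatedPrime_def]
  constructor
  · rintro ⟨-, x, hx⟩
    refine ⟨inferInstance, x, ?_⟩
    rw [hcolon x, ← Ideal.comap_radical, ← hx, hmax]
  · rintro ⟨-, x, hx⟩
    refine ⟨inferInstance, x, ?_⟩
    apply Ideal.comap_injective_of_surjective (algebraMap B B') hπ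
    rw [hmax, Ideal.comap_radical, ← hcolon x]
    exact hx

/-- a point of a fibre is an associated point of the restriction of `F` to the fibre iff it lies
in the relative assassin. -/
theorem isAssPoint_fibre_iff_mem_relAss {X S : Scheme.{u}} (f : X ⟶ S) (F : X.Modules) (s : S)
    (y : ↥(f.fiber s)) :
    Curv2.IsAssPoint ((Scheme.Modules.pullback (f.fiberι s)).obj F) y ↔
      f.fiberι s y ∈ MoreMor.relAss f F := by
  let x : X := f.fiberι s y
  letI algBB' : Algebra (X.presheaf.stalk x) ((f.fiber s).presheaf.stalk y) :=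
    ((f.fiberι s).stalkMap y).hom.toAlgebra
  obtain ⟨E⟩ := Groth.Agent.Helper2.GenStalk.nonempty_stalk_pullback_equiv (f.fiberι s) F y
  have hX := Groth.Agent.Helper5.FibStalk.s9501 f s y
  have hπ : Function.Surjective (algebraMap (X.presheaf.stalk x) ((f.fiber s).presheaf.stalk y)) :=
    hX.1
  let K' : Ideal (X.presheaf.stalk x) := Ideal.map (f.stalkMap x).hom
    (maximalIdeal (S.presheaf.stalk (f x)))
  have hK : RingHom.ker (algebraMap (X.presheaf.stalk x) ((f.fiber s).presheaf.stalk y)) = K' :=
    hX.2
  let e0 : (X.presheaf.stalk x ⧸ K') ≃ₐ[X.presheaf.stalk x] ((f.fiber s).presheaf.stalk y) :=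
    (Ideal.quotientEquivAlgOfEq (X.presheaf.stalk x) hK.symm).trans
      (Ideal.quotientKerAlgEquivOfSurjective
        (f := Algebra.ofId (X.presheaf.stalk x) ((f.fiber s).presheaf.stalk y)) hπ)
  let e1 : ((f.fiber s).presheaf.stalk y) ⊗[X.presheaf.stalk x] (F.presheaf.stalk x)
      ≃ₗ[X.presheaf.stalk x] (F.presheaf.stalk x) ⧸
        (K' • (⊤ : Submodule (X.presheaf.stalk x) (F.presheaf.stalk x))) :=
    TensorProduct.congr e0.symm.toLinearEquiv (LinearEquiv.refl _ _) ≪≫ₗ
      TensorProduct.quotTensorEquivQuotSMul (F.presheaf.stalk x) K'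
  show IsAssociatedPrime (maximalIdeal ((f.fiber s).presheaf.stalk y))
      (((Scheme.Modules.pullback (f.fiberι s)).obj F).presheaf.stalk y) ↔
    IsAssociatedPrime (maximalIdeal (X.presheaf.stalk x))
      ((F.presheaf.stalk x) ⧸ (K' • (⊤ : Submodule (X.presheaf.stalk x) (F.presheaf.stalk x))))
  rw [E.isAssociatedPrime_iff, isAssociatedPrime_maximalIdeal_iff_of_surjective' hπ,
    e1.isAssociatedPrime_iff]

/-- the relative assassin in terms of associated points of the fibres. -/
theorem mem_relAss_iff {X S : Scheme.{u}} (f : X ⟶ S) (F : X.Modules) (x : X) :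
    x ∈ MoreMor.relAss f F ↔
      Curv2.IsAssPoint ((Scheme.Modules.pullback (f.fiberι (f x))).obj F) (f.asFiber x) := by
  rw [isAssPoint_fibre_iff_mem_relAss, Scheme.Hom.fiberι_asFiber]

end Groth.Agent.Helper2.RelAssD
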