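import Mathlib
import Groth.Prelude
import Groth.Agent.Helper2.RelAssD1

set_option autoImplicit false
set_option linter.unusedVariables false
open CategoryTheory CategoryTheory.Limits AlgebraicGeometry TopologicalSpace Topology TensorProduct
open IsLocalRing
universe u

namespace Groth.Agent.Helper2.RelAssD

open Groth.Agent.Helper2.AssTens Groth.Agent.Helper2.AssTS Groth.Agent.Helper2.AssRel

section
variable {X S X' S' : Scheme.{u}} {f : X ⟶ S} {g : S' ⟶ S} {f' : X' ⟶ S'} {g' : X' ⟶ X}
  (hc : IsPullback g' f' f g)

/-- the comparison morphism from the fibre of `f'` over `s'` to the fibre of `f` over `g s'`. -/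
noncomputable def fibMapG (s' : S') : f'.fiber s' ⟶ f.fiber (g s') :=
  pullback.map _ _ _ _ g' (Spec.map (g.residueFieldMap s')) g hc.w.symm (by simp)

theorem isPullback_fibMapG (s' : S') :
    IsPullback (fibMapG hc s') (f'.fiberToSpecResidueField s')
      (f.fiberToSpecResidueField (g s')) (Spec.map (g.residueFieldMap s')) :=
  isPullback_fiberToSpecResidueField_of_isPullback hc s'

theorem fibMapG_fiberι (s' : S') :
    fibMapG hc s' ≫ f.fiberι (g s') = f'.fiberι s' ≫ g' := by
  unfold fibMapG Scheme.Hom.fiberι
  exact pullback.lift_fst _ _ _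

theorem flat_fibMapG (s' : S') : Flat (fibMapG hc s') := by
  haveI : Flat (Spec.map (g.residueFieldMap s')) := by
    rw [Flat.SpecMap_iff]
    letI : Algebra (S.residueField (g s')) (S'.residueField s') :=
      (g.residueFieldMap s').hom.toAlgebra
    exact (inferInstance : Module.Flat (S.residueField (g s')) (S'.residueField s'))
  exact MorphismProperty.of_isPullback (isPullback_fibMapG hc s').flip inferInstance

/-- the restriction of the pullback of `F` to the fibre over `s'` is the pullback of the
restriction of `F` to the fibre over `g s'`. -/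
noncomputable def fibModIsoG (s' : S') (F : X.Modules) :
    (Scheme.Modules.pullback (f'.fiberι s')).obj ((Scheme.Modules.pullback g').obj F) ≅
      (Scheme.Modules.pullback (fibMapG hc s')).obj
        ((Scheme.Modules.pullback (f.fiberι (g s'))).obj F) :=
  (Scheme.Modules.pullbackComp _ _).app F ≪≫
    (Scheme.Modules.pullbackCongr (fibMapG_fiberι hc s').symm).app F ≪≫
    ((Scheme.Modules.pullbackComp _ _).app F).symm

theorem hfstG (s' : S') (t : ↥(f'.fiber s')) :
    f.fiberι (g s') (fibMapG hc s' t) = g' (f'.fiberι s' t) := by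
  have := congrArg (fun φ : f'.fiber s' ⟶ X => φ t) (fibMapG_fiberι hc s')
  exact this

include hc in
/-- the general form of the base change criterion for relative associated points. -/
theorem s8885G [LocallyOfFiniteType f] (F : X.Modules) (hF : Coh.IsQCoh F) (x' : X') :
    Curv2.IsAssPoint
        ((Scheme.Modules.pullback (f'.fiberι (f' x'))).obj ((Scheme.Modules.pullback g').obj F))
        (f'.asFiber x') ↔
      Curv2.IsAssPoint ((Scheme.Modules.pullback (f.fiberι (f (g' x')))).obj F)
          (f.asFiber (g' x')) ∧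
        ∀ x'' : X', f' x'' = f' x' → g' x'' = g' x' → x'' ⤳ x' → x'' = x' := by
  let s' : S' := f' x'
  let zb' : ↥(f'.fiber s') := f'.asFiber x'
  have hzb' : f'.fiberι s' zb' = x' := f'.fiberι_asFiber x'
  let r := fibMapG hc s'
  haveI : Flat r := flat_fibMapG hc s'
  haveI : LocallyOfFiniteType f' := MorphismProperty.of_isPullback hc inferInstance
  haveI hW : IsLocallyNoetherian (f'.fiber s') := isLocallyNoetherian_fiber f' s'
  haveI hV : IsLocallyNoetherian (f.fiber (g s')) := isLocallyNoetherian_fiber f (g s')
  have step2 := Groth.Agent.Lead.AssRestr.isAssPoint_iff_of_iso (fibModIsoG hc s' F) zb'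
  have step3 := isAssPoint_pullback_iff_of_flat r
    ((Scheme.Modules.pullback (f.fiberι (g s'))).obj F) zb'
  have hfst := hfstG hc s'
  have hC1 : Curv2.IsAssPoint ((Scheme.Modules.pullback (f.fiberι (g s'))).obj F) (r zb') ↔
      Curv2.IsAssPoint ((Scheme.Modules.pullback (f.fiberι (f (g' x')))).obj F)
          (f.asFiber (g' x')) := by
    apply isAssPoint_fibre_congr
    rw [hfst, hzb', Scheme.Hom.fiberι_asFiber]
  let w : ↥(r.fiber (r zb')) := r.asFiber zb'
  have hw : r.fiberι (r zb') w = zb' := r.fiberι_asFiber zb'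
  have h4 := isAssociatedPrime_fibre_iff' r (r zb') w
  rw [hw] at h4
  have hne : AssSch.NoEmbedded (Coh.structureModule (r.fiber (r zb'))) := by
    obtain ⟨k, K, L, _, _, _, _, _, ⟨φ⟩⟩ := nonempty_fiber_iso_spec
      (S'.residueField s') (S.residueField (g s')) r
      (f'.fiberToSpecResidueField s') (f.fiberToSpecResidueField (g s'))
      (g.residueFieldMap s').hom (isPullback_fibMapG hc s') (r zb')
    exact Groth.Agent.Helper2.FieldTensNE.noEmbedded_structure_of_iso φ
      (Groth.Agent.Helper2.FieldTensNE.noEmbedded_spec_tensor k K L)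
  have h5 := mem_ass_structure_iff_maximal hne w
  have hC2 : (∀ w'' : ↥(r.fiber (r zb')), w'' ⤳ w → w'' = w) ↔
      ∀ x'' : X', f' x'' = f' x' → g' x'' = g' x' → x'' ⤳ x' → x'' = x' := by
    constructor
    · intro hmax x'' h1 h2 hsp
      have hr1 : x'' ∈ Set.range (f'.fiberι s') := by
        rw [Scheme.Hom.range_fiberι]; exact h1
      obtain ⟨zb'', rfl⟩ := hr1
      have hrr : r zb'' = r zb' := by
        apply (f.fiberι (g s')).isEmbedding.injective
        rw [hfst, hfst, hzb']
        exact h2
      have hr2 : zb'' ∈ Set.range (r.fiberι (r zb')) := by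
        rw [Scheme.Hom.range_fiberι]; exact hrr
      obtain ⟨w'', rfl⟩ := hr2
      have hsp1 : r.fiberι (r zb') w'' ⤳ zb' := by
        rw [← (f'.fiberι s').isEmbedding.isInducing.specializes_iff, hzb']
        exact hsp
      have hsp2 : w'' ⤳ w := by
        rw [← (r.fiberι (r zb')).isEmbedding.isInducing.specializes_iff, hw]
        exact hsp1
      rw [hmax w'' hsp2, hw, hzb']
    · intro hmax w'' hsp
      have hsp1 : r.fiberι (r zb') w'' ⤳ zb' := by
        have := hsp.map (r.fiberι (r zb')).continuous
        rwa [hw] at this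
      have hsp2 : f'.fiberι s' (r.fiberι (r zb') w'') ⤳ x' := by
        have := hsp1.map (f'.fiberι s').continuous
        rwa [hzb'] at this
      have h1 : f' (f'.fiberι s' (r.fiberι (r zb') w'')) = f' x' := map_fiberι' f' s' _
      have h2 : g' (f'.fiberι s' (r.fiberι (r zb') w'')) = g' x' := by
        rw [← hfst, map_fiberι' r (r zb') w'', hfst, hzb']
      have h3 := hmax _ h1 h2 hsp2
      have e1 : f'.fiberι s' (r.fiberι (r zb') w'') = f'.fiberι s' zb' := h3.trans hzb'.symm
      have e2 : r.fiberι (r zb') w'' = r.fiberι (r zb') w :=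
        ((f'.fiberι s').isEmbedding.injective e1).trans hw.symm
      exact (r.fiberι (r zb')).isEmbedding.injective e2
  rw [step2, step3, hC1, h4, h5, hC2]

include hc in
/-- relative associated points of a base change. -/
theorem mem_relAss_baseChange_iff [LocallyOfFiniteType f] (F : X.Modules) (hF : Coh.IsQCoh F)
    (x' : X') :
    x' ∈ MoreMor.relAss f' ((Scheme.Modules.pullback g').obj F) ↔
      g' x' ∈ MoreMor.relAss f F ∧
        ∀ x'' : X', f' x'' = f' x' → g' x'' = g' x' → x'' ⤳ x' → x'' = x' := by
  rw [mem_relAss_iff, mem_relAss_iff]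
  exact s8885G hc F hF x'

end

end Groth.Agent.Helper2.RelAssD
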