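import Mathlib
import Groth.Prelude
import Groth.Agent.Helper2.RelAssD2

set_option autoImplicit false
set_option linter.unusedVariables false
open CategoryTheory CategoryTheory.Limits AlgebraicGeometry TopologicalSpace Topology TensorProduct
open IsLocalRing
universe u

namespace Groth.Agent.Helper2.RelAssD

open Groth.Agent.Helper2.AssTens Groth.Agent.Helper2.AssTS Groth.Agent.Helper2.AssRel

theorem exists_maximal_point_spec (R : Type u) [CommRing R] [Nontrivial R] :
    ∃ P : PrimeSpectrum R, ∀ Q : PrimeSpectrum R, Q ⤳ P → Q = P := by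
  obtain ⟨p, hp⟩ := Ideal.nonempty_minimalPrimes (bot_ne_top : (⊥ : Ideal R) ≠ ⊤)
  refine ⟨⟨p, hp.1.1⟩, fun Q hQ => ?_⟩
  rw [← PrimeSpectrum.le_iff_specializes] at hQ
  exact PrimeSpectrum.ext (le_antisymm hQ (hp.2 ⟨Q.isPrime, bot_le⟩ hQ))

theorem exists_maximal_point_of_iso {T : Scheme.{u}} (R : Type u) [CommRing R] [Nontrivial R]
    (φ : T ≅ Spec (CommRingCat.of R)) :
    ∃ w : T, ∀ w'' : T, w'' ⤳ w → w'' = w := by
  obtain ⟨P, hP⟩ := exists_maximal_point_spec R
  have hinv : ∀ t : T, φ.inv (φ.hom t) = t := fun t => by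
    have := congrArg (fun ψ : T ⟶ T => ψ t) φ.hom_inv_id
    simpa using this
  have hhom : ∀ q : ↥(Spec (CommRingCat.of R)), φ.hom (φ.inv q) = q := fun q => by
    have := congrArg (fun ψ : Spec (CommRingCat.of R) ⟶ Spec (CommRingCat.of R) => ψ q)
      φ.inv_hom_id
    simpa using this
  refine ⟨φ.inv P, fun w'' hsp => ?_⟩
  have h1 : φ.hom w'' ⤳ φ.hom (φ.inv P) := hsp.map φ.hom.continuous
  rw [hhom] at h1
  have h3 : φ.hom w'' = P := hP _ h1
  rw [← h3, hinv]

section
variable {X S X' S' : Scheme.{u}} {f : X ⟶ S} {g : S' ⟶ S} {f' : X' ⟶ S'} {g' : X' ⟶ X}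
  (hc : IsPullback g' f' f g)

include hc in
/-- over a pair of compatible points there is a point of the fibre product which is maximal under
generization among such points. -/
theorem exists_maximal_over (x : X) (s' : S') (h : f x = g s') :
    ∃ x' : X', g' x' = x ∧ f' x' = s' ∧
      ∀ x'' : X', f' x'' = s' → g' x'' = x → x'' ⤳ x' → x'' = x' := by
  let r := fibMapG hc s'
  have hfst := hfstG hc s'
  have hxr : x ∈ Set.range (f.fiberι (g s')) := by
    rw [Scheme.Hom.range_fiberι]; exact h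
  obtain ⟨z, hz⟩ := hxr
  obtain ⟨k, K, L, _, _, _, _, _, ⟨φ⟩⟩ := nonempty_fiber_iso_spec
    (S'.residueField s') (S.residueField (g s')) r
    (f'.fiberToSpecResidueField s') (f.fiberToSpecResidueField (g s'))
    (g.residueFieldMap s').hom (isPullback_fibMapG hc s') z
  haveI : Nontrivial (K ⊗[k] L) :=
    Algebra.TensorProduct.nontrivial_of_algebraMap_injective_of_flat_left (R := k) K L
      (algebraMap k L).injective
  obtain ⟨w, hw⟩ := exists_maximal_point_of_iso (K ⊗[k] L) φ
  let zb' : ↥(f'.fiber s') := r.fiberι z w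
  have hrz : r zb' = z := map_fiberι' r z w
  refine ⟨f'.fiberι s' zb', ?_, map_fiberι' f' s' zb', ?_⟩
  · rw [← hfst, hrz, hz]
  · intro x'' h1 h2 hsp
    have hr1 : x'' ∈ Set.range (f'.fiberι s') := by
      rw [Scheme.Hom.range_fiberι]; exact h1
    obtain ⟨zb'', rfl⟩ := hr1
    have hrr : r zb'' = z := by
      apply (f.fiberι (g s')).isEmbedding.injective
      rw [hfst, hz]
      exact h2
    have hr2 : zb'' ∈ Set.range (r.fiberι z) := by
      rw [Scheme.Hom.range_fiberι]; exact hrr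
    obtain ⟨w'', rfl⟩ := hr2
    have hsp1 : r.fiberι z w'' ⤳ zb' := by
      rw [← (f'.fiberι s').isEmbedding.isInducing.specializes_iff]
      exact hsp
    have hsp2 : w'' ⤳ w := by
      rw [← (r.fiberι z).isEmbedding.isInducing.specializes_iff]
      exact hsp1
    rw [hw w'' hsp2]

include hc in
theorem s9780 [LocallyOfFiniteType f] (F : X.Modules) (hF : Coh.IsQCoh F) (U : X.Opens)
    (s' : S') :
    {x : ↑X | x ∈ MoreMor.relAss f F ∧ f x = g s'} ⊆ (U : Set ↑X) ↔
      {x' : ↑X' | x' ∈ MoreMor.relAss f' ((Scheme.Modules.pullback g').obj F) ∧ f' x' = s'} ⊆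
        (g' ⁻¹ᵁ U : Set ↑X') := by
  have hw : ∀ x' : X', f (g' x') = g (f' x') := fun x' => by
    have := congrArg (fun ψ : X' ⟶ S => ψ x') hc.w
    simpa using this
  constructor
  · rintro h x' ⟨hx', hs⟩
    have h1 := (mem_relAss_baseChange_iff hc F hF x').1 hx'
    have h2 : g' x' ∈ (U : Set X) := h ⟨h1.1, by rw [hw, hs]⟩
    exact h2
  · rintro h x ⟨hx, hs⟩
    obtain ⟨x', hx'1, hx'2, hmax⟩ := exists_maximal_over hc x s' hs
    have h1 : x' ∈ MoreMor.relAss f' ((Scheme.Modules.pullback g').obj F) := by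
      rw [mem_relAss_baseChange_iff hc F hF x']
      refine ⟨by rw [hx'1]; exact hx, fun x'' h1 h2 h3 => ?_⟩
      exact hmax x'' (h1.trans hx'2) (h2.trans hx'1) h3
    have h2 : x' ∈ (g' ⁻¹ᵁ U : Set ↑X') := h ⟨h1, hx'2⟩
    have h3 : g' x' ∈ (U : Set X) := h2
    rw [hx'1] at h3
    exact h3

end

end Groth.Agent.Helper2.RelAssD
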