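import Mathlib
import Groth.Agent.Helper2.PairHensCRT0

set_option autoImplicit false

namespace Groth.Agent.Helper2.RigCl

open IsLocalRing

universe u

/-- Adic completeness only depends on the topology. -/
theorem isAdicComplete_of_le_of_pow_le {R : Type*} [CommRing R] (I J : Ideal R) (k : ℕ)
    (hIJ : I ≤ J) (hJI : J ^ k ≤ I) [IsAdicComplete I R] : IsAdicComplete J R := by
  have hk : ∀ n, J ^ ((k + 1) * n) ≤ I ^ n := by
    intro n
    rw [pow_mul]
    exact Ideal.pow_right_mono ((Ideal.pow_le_pow_right (Nat.le_succ k)).trans hJI) n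
  have hIJn : ∀ n, I ^ n ≤ J ^ n := fun n => Ideal.pow_right_mono hIJ n
  haveI : IsHausdorff J R := by
    refine ⟨fun x hx => ?_⟩
    apply IsHausdorff.haus (inferInstance : IsHausdorff I R)
    intro n
    exact (hx ((k + 1) * n)).mono (Submodule.smul_mono_left (hk n))
  haveI : IsPrecomplete J R := by
    refine ⟨fun f hf => ?_⟩
    obtain ⟨L, hL⟩ := IsPrecomplete.prec (inferInstance : IsPrecomplete I R)
      (f := fun n => f ((k + 1) * n)) (by
        intro m n hmn
        exact (hf (Nat.mul_le_mul_left _ hmn)).mono (Submodule.smul_mono_left (hk m)))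
    refine ⟨L, fun n => ?_⟩
    have h1 : f n ≡ f ((k + 1) * n) [SMOD (J ^ n • ⊤ : Submodule R R)] :=
      hf (Nat.le_mul_of_pos_left n (Nat.succ_pos k))
    have h2 : f ((k + 1) * n) ≡ L [SMOD (J ^ n • ⊤ : Submodule R R)] :=
      (hL n).mono (Submodule.smul_mono_left (hIJn n))
    exact h1.trans h2
  exact { toIsHausdorff := inferInstance, toIsPrecomplete := inferInstance }

variable {D : Type u} [CommRing D] [IsDomain D] [IsNoetherianRing D]

/-- In a Noetherian domain in which all nonzero primes contain a fixed nonzero ideal,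
all nonzero primes are maximal. -/
theorem isMaximal_of_prime_ne_bot (K : Ideal D) (hK0 : K ≠ ⊥)
    (hstar : ∀ q : Ideal D, q.IsPrime → q ≠ ⊥ → K ≤ q) (q : Ideal D) [hq : q.IsPrime]
    (hq0 : q ≠ ⊥) : q.IsMaximal := by
  classical
  obtain ⟨f, hfK, hf0⟩ := Submodule.exists_mem_ne_zero_of_ne_bot hK0
  have hfin : (Ideal.span {f}).minimalPrimes.Finite :=
    Ideal.finite_minimalPrimes_of_isNoetherianRing D _
  -- every nonzero prime is minimal over `f`
  have hF : ∀ q : Ideal D, q.IsPrime → q ≠ ⊥ → q ∈ (Ideal.span {f}).minimalPrimes := by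
    intro q hq hq0
    have hfq : Ideal.span {f} ≤ q :=
      (Ideal.span_singleton_le_iff_mem _).2 (hstar q hq hq0 hfK)
    have hcover : (q : Set D) ⊆ ⋃ q' ∈ (hfin.toFinset : Set (Ideal D)), ((id q' : Ideal D) : Set D) := by
      intro x hx
      by_cases hx0 : x = 0
      · obtain ⟨q', hq', -⟩ := Ideal.exists_minimalPrimes_le hfq
        refine Set.mem_biUnion (x := q') ?_ ?_
        · simpa using hq'
        · rw [hx0]; exact q'.zero_mem
      · obtain ⟨q', hq', hq'q⟩ := Ideal.exists_minimalPrimes_le
          (I := Ideal.span {x}) (J := q) ((Ideal.span_singleton_le_iff_mem _).2 hx)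
        haveI hq'prime : q'.IsPrime := hq'.1.1
        have hht : q'.height ≤ 1 :=
          Ideal.height_le_one_of_isPrincipal_of_mem_minimalPrimes _ q' hq'
        have hxq' : x ∈ q' := hq'.1.2 (Ideal.mem_span_singleton_self x)
        have hq'0 : q' ≠ ⊥ := by
          rintro rfl
          exact hx0 ((Submodule.mem_bot D).1 hxq')
        have hfq' : Ideal.span {f} ≤ q' :=
          (Ideal.span_singleton_le_iff_mem _).2 (hstar q' hq'prime hq'0 hfK)
        have h1 : 1 ≤ (Ideal.span {f}).height :=
          Ideal.one_le_height_span_singleton_of_mem_nonZeroDivisors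
            (mem_nonZeroDivisors_of_ne_zero hf0)
        have hq'F : q' ∈ (Ideal.span {f}).minimalPrimes :=
          Ideal.mem_minimalPrimes_of_height_le hfq' (hht.trans h1)
        refine Set.mem_biUnion (x := q') ?_ hxq'
        simpa using hq'F
    obtain ⟨q', hq'mem, hqq'⟩ := (Ideal.subset_union_prime (s := hfin.toFinset) (f := id)
      ⊥ ⊥ (fun i hi _ _ => by
        have : i ∈ (Ideal.span {f}).minimalPrimes := by simpa using hi
        exact this.1.1)).1 hcover
    have hq'F : q' ∈ (Ideal.span {f}).minimalPrimes := by simpa using hq'mem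
    have : q' ≤ q := hq'F.2 ⟨hq, hfq⟩ hqq'
    have heq : q = q' := le_antisymm hqq' this
    rw [heq]
    exact hq'F
  obtain ⟨m, hm, hqm⟩ := Ideal.exists_le_maximal q hq.ne_top
  have hm0 : m ≠ ⊥ := by
    rintro rfl
    exact hq0 (le_bot_iff.1 hqm)
  have hmF := hF m hm.isPrime hm0
  have hqF := hF q hq hq0
  have hmq : m ≤ q := hmF.2 hqF.1 hqm
  have : q = m := le_antisymm hqm hmq
  rw [this]
  exact hm

end Groth.Agent.Helper2.RigCl
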