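import Mathlib
import Groth.Agent.Helper2.RigClA

set_option autoImplicit false

namespace Groth.Agent.Helper2.RigCl

open IsLocalRing

universe u

variable {D : Type u} [CommRing D] [IsDomain D] [IsNoetherianRing D]

set_option maxHeartbeats 800000 in
/-- A Noetherian domain complete with respect to a nonzero proper ideal `K` contained in all
nonzero primes is local. -/
theorem isLocalRing_of_complete (K : Ideal D) [IsAdicComplete K D] (hK0 : K ≠ ⊥) (hK1 : K ≠ ⊤)
    (hstar : ∀ q : Ideal D, q.IsPrime → q ≠ ⊥ → K ≤ q) : IsLocalRing D := by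
  classical
  -- the radical
  obtain ⟨k, hk⟩ := Ideal.exists_radical_pow_le_of_fg K (IsNoetherian.noetherian _)
  haveI : IsAdicComplete K.radical D :=
    isAdicComplete_of_le_of_pow_le K K.radical k Ideal.le_radical hk
  haveI : HenselianRing D K.radical := inferInstance
  have hrad0 : K.radical ≠ ⊥ := fun h => hK0 (le_bot_iff.1 (h ▸ Ideal.le_radical))
  have hrad1 : K.radical ≠ ⊤ := fun h => hK1 (Ideal.radical_eq_top.1 h)
  have hstar' : ∀ q : Ideal D, q.IsPrime → q ≠ ⊥ → K.radical ≤ q := fun q hq hq0 =>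
    hq.radical_le_iff.2 (hstar q hq hq0)
  -- maximal ideals contain the radical
  have hmax : ∀ m : Ideal D, m.IsMaximal → K.radical ≤ m := by
    intro m hm
    apply hstar' m hm.isPrime
    rintro rfl
    obtain ⟨m', hm', hKm'⟩ := Ideal.exists_le_maximal K.radical hrad1
    have : m' = ⊥ := (hm.eq_of_le hm'.ne_top bot_le).symm
    exact hrad0 (le_bot_iff.1 (this ▸ hKm'))
  haveI hred : IsReduced (D ⧸ K.radical) :=
    (Ideal.isRadical_iff_quotient_reduced _).1 (Ideal.radical_isRadical K)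
  haveI hdim : Ring.KrullDimLE 0 (D ⧸ K.radical) := by
    rw [Ring.krullDimLE_zero_iff]
    intro P hP
    haveI : (P.comap (Ideal.Quotient.mk K.radical)).IsPrime := Ideal.comap_isPrime _ _
    have hle : K.radical ≤ P.comap (Ideal.Quotient.mk K.radical) := by
      intro x hx
      rw [Ideal.mem_comap, Ideal.Quotient.eq_zero_iff_mem.2 hx]
      exact P.zero_mem
    have h0 : P.comap (Ideal.Quotient.mk K.radical) ≠ ⊥ := fun h =>
      hrad0 (le_bot_iff.1 (h ▸ hle))
    haveI := isMaximal_of_prime_ne_bot K hK0 hstar (P.comap (Ideal.Quotient.mk K.radical)) h0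
    have := Ideal.IsMaximal.map_of_surjective_of_ker_le (f := Ideal.Quotient.mk K.radical)
      Ideal.Quotient.mk_surjective (m := P.comap (Ideal.Quotient.mk K.radical))
      (by rw [Ideal.mk_ker]; exact hle)
    rwa [Ideal.map_comap_of_surjective _ Ideal.Quotient.mk_surjective] at this
  haveI hart : IsArtinianRing (D ⧸ K.radical) :=
    isArtinianRing_iff_isNoetherianRing_krullDimLE_zero.2 ⟨inferInstance, inferInstance⟩
  apply IsLocalRing.of_unique_max_ideal
  obtain ⟨m₀, hm₀⟩ := Ideal.exists_maximal D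
  refine ⟨m₀, hm₀, ?_⟩
  intro m₁ hm₁
  by_contra hne
  -- the two maximal ideals of the quotient
  have hM : ∀ m : Ideal D, m.IsMaximal → (m.map (Ideal.Quotient.mk K.radical)).IsMaximal := by
    intro m hm
    haveI := hm
    exact Ideal.IsMaximal.map_of_surjective_of_ker_le Ideal.Quotient.mk_surjective
      (by rw [Ideal.mk_ker]; exact hmax m hm)
  have hcomap : ∀ m : Ideal D, m.IsMaximal →
      (m.map (Ideal.Quotient.mk K.radical)).comap (Ideal.Quotient.mk K.radical) = m := by
    intro m hm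
    rw [Ideal.comap_map_of_surjective _ Ideal.Quotient.mk_surjective, ← RingHom.ker_eq_comap_bot,
      Ideal.mk_ker, sup_of_le_left (hmax m hm)]
  let M₀ : MaximalSpectrum (D ⧸ K.radical) := ⟨_, hM m₀ hm₀⟩
  let M₁ : MaximalSpectrum (D ⧸ K.radical) := ⟨_, hM m₁ hm₁⟩
  have hM01 : M₁ ≠ M₀ := by
    intro h
    apply hne
    have h' : m₁.map (Ideal.Quotient.mk K.radical) = m₀.map (Ideal.Quotient.mk K.radical) :=
      congrArg MaximalSpectrum.asIdeal h
    rw [← hcomap m₁ hm₁, h', hcomap m₀ hm₀]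
  -- the idempotent
  let E := IsArtinianRing.equivPi (D ⧸ K.radical)
  let s : ∀ I : MaximalSpectrum (D ⧸ K.radical), (D ⧸ K.radical) ⧸ I.asIdeal := Pi.single M₀ 1
  have hs : s * s = s := by
    funext j
    by_cases hj : j = M₀
    · subst hj
      simp [s]
    · simp [s, Pi.single_apply, hj]
  obtain ⟨x, hx⟩ := Ideal.Quotient.mk_surjective (E.symm s)
  have hxx : x ^ 2 - x ∈ K.radical := by
    rw [← Ideal.Quotient.eq_zero_iff_mem, map_sub, map_pow, hx, sub_eq_zero, pow_two,
      ← map_mul, hs]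
  obtain ⟨ε, hε, hεx⟩ := Groth.Agent.Helper2.PairHens.exists_idem_lift K.radical x hxx
  have hmkε : Ideal.Quotient.mk K.radical ε = E.symm s := by
    rw [← hx]
    exact Ideal.Quotient.eq.2 hεx
  have hEs : E (Ideal.Quotient.mk K.radical ε) = s := by
    rw [hmkε, AlgEquiv.apply_symm_apply]
  rcases IsIdempotentElem.iff_eq_zero_or_one.1 hε with h0 | h1
  · rw [h0, map_zero, map_zero] at hEs
    have heq := congrFun hEs M₀
    simp only [s, Pi.zero_apply, Pi.single_eq_same] at heq
    haveI : Nontrivial ((D ⧸ K.radical) ⧸ M₀.asIdeal) :=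
      Ideal.Quotient.nontrivial_iff.2 M₀.isMaximal.ne_top
    exact zero_ne_one heq
  · rw [h1, map_one, map_one] at hEs
    have heq := congrFun hEs M₁
    simp only [s, Pi.one_apply] at heq
    rw [Pi.single_eq_of_ne hM01] at heq
    haveI : Nontrivial ((D ⧸ K.radical) ⧸ M₁.asIdeal) :=
      Ideal.Quotient.nontrivial_iff.2 M₁.isMaximal.ne_top
    exact one_ne_zero heq

/-- some power of the maximal ideal lies in `K`. -/
theorem exists_pow_maximalIdeal_le [IsLocalRing D] (K : Ideal D) (hK0 : K ≠ ⊥) (hK1 : K ≠ ⊤)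
    (hstar : ∀ q : Ideal D, q.IsPrime → q ≠ ⊥ → K ≤ q) : ∃ k, maximalIdeal D ^ k ≤ K := by
  have hrad : K.radical = maximalIdeal D := by
    apply le_antisymm
    · exact (maximalIdeal.isMaximal D).isPrime.radical_le_iff.2 (IsLocalRing.le_maximalIdeal hK1)
    · rw [Ideal.radical_eq_sInf]
      refine le_sInf ?_
      rintro q ⟨hKq, hq⟩
      have hq0 : q ≠ ⊥ := fun h => hK0 (le_bot_iff.1 (h ▸ hKq))
      haveI := isMaximal_of_prime_ne_bot K hK0 hstar q hq0
      rw [IsLocalRing.eq_maximalIdeal ‹q.IsMaximal›]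
  obtain ⟨k, hk⟩ := Ideal.exists_radical_pow_le_of_fg K (IsNoetherian.noetherian _)
  exact ⟨k, hrad ▸ hk⟩

end Groth.Agent.Helper2.RigCl
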