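import Mathlib
import Groth.Prelude.Def_Smoothing
import Groth.Agent.Helper2.RigClB
import Groth.Agent.Helper2.ArtApxB
import Groth.Agent.Helper2.RegComp
import Groth.Agent.Helper2.RegBC
import Groth.Agent.S0598
import Groth.Agent.S0599
import Groth.Agent.S19379

set_option autoImplicit false

namespace Groth.Agent.Helper2.RigCl

open IsLocalRing

universe u

section finite
variable {R : Type*} [CommRing R] (I : Ideal R) (N : Type*) [AddCommGroup N] [Module R N]

/-- a finite module over a Noetherian adically complete ring is adically complete -/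
theorem isAdicComplete_of_finite'' [IsNoetherianRing R] [IsAdicComplete I R] [Module.Finite R N] :
    IsAdicComplete I N := by
  haveI : IsHausdorff I N := IsHausdorff.of_le_jacobson I N (IsAdicComplete.le_jacobson_bot I)
  rw [isAdicComplete_iff]
  refine ⟨inferInstance, ?_⟩
  rw [← AdicCompletion.of_surjective_iff]
  intro y
  obtain ⟨t, rfl⟩ := AdicCompletion.ofTensorProduct_surjective_of_finite I N y
  induction t using TensorProduct.induction_on with
  | zero => exact ⟨0, by simp⟩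
  | tmul r x =>
    obtain ⟨a, rfl⟩ := AdicCompletion.of_surjective I R r
    refine ⟨a • x, ?_⟩
    rw [AdicCompletion.ofTensorProduct_tmul]
    ext n
    rw [AdicCompletion.smul_eval]
    rfl
  | add s t hs ht =>
    obtain ⟨a, ha⟩ := hs
    obtain ⟨b, hb⟩ := ht
    exact ⟨a + b, by rw [map_add, map_add, ha, hb]⟩

end finite

/-- The quotient of a complete Noetherian ring by a rig-closed prime is a G-ring. -/
theorem isGRing_quotient_rigClosed (A : Type u) [CommRing A] [IsNoetherianRing A] (I : Ideal A)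
    [IsAdicComplete I A] (p : PrimeSpectrum A)
    (hp : ¬ I ≤ p.asIdeal ∧ ∀ q : PrimeSpectrum A, p ≤ q → ¬ I ≤ q.asIdeal → q = p) :
    CAlg.IsGRing (A ⧸ p.asIdeal) := by
  classical
  haveI : p.asIdeal.IsPrime := p.isPrime
  haveI : IsDomain (A ⧸ p.asIdeal) := Ideal.Quotient.isDomain _
  -- completeness
  haveI : IsAdicComplete I (A ⧸ p.asIdeal) := isAdicComplete_of_finite'' I (A ⧸ p.asIdeal)
  haveI hcomp : IsAdicComplete (I.map (algebraMap A (A ⧸ p.asIdeal))) (A ⧸ p.asIdeal) :=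
    (IsAdicComplete.map_algebraMap_iff _ _).2 inferInstance
  have hK0 : I.map (algebraMap A (A ⧸ p.asIdeal)) ≠ ⊥ := by
    intro h
    apply hp.1
    intro a ha
    have : algebraMap A (A ⧸ p.asIdeal) a ∈ I.map (algebraMap A (A ⧸ p.asIdeal)) :=
      Ideal.mem_map_of_mem _ ha
    rw [h, Ideal.mem_bot, Ideal.Quotient.algebraMap_eq, Ideal.Quotient.eq_zero_iff_mem] at this
    exact this
  have hK1 : I.map (algebraMap A (A ⧸ p.asIdeal)) ≠ ⊤ := by
    intro h
    have h1 : (1 : A ⧸ p.asIdeal) ∈ I.map (algebraMap A (A ⧸ p.asIdeal)) := h ▸ Submodule.mem_top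
    rw [Ideal.Quotient.algebraMap_eq,
      Ideal.mem_map_iff_of_surjective _ Ideal.Quotient.mk_surjective] at h1
    obtain ⟨a, haI, ha1⟩ := h1
    have hjac := IsAdicComplete.le_jacobson_bot I haI
    have hu : IsUnit (1 - a) := by
      have := (Ideal.mem_jacobson_bot.mp hjac) (-1)
      rw [mul_neg, mul_one, neg_add_eq_sub] at this
      exact this
    have hmem : 1 - a ∈ p.asIdeal := by
      rw [← Ideal.Quotient.eq_zero_iff_mem, map_sub, map_one, ha1, sub_self]
    exact p.isPrime.ne_top (Ideal.eq_top_of_isUnit_mem _ hmem hu)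
  have hstar : ∀ q : Ideal (A ⧸ p.asIdeal), q.IsPrime → q ≠ ⊥ →
      I.map (algebraMap A (A ⧸ p.asIdeal)) ≤ q := by
    intro q hq hq0
    rw [Ideal.map_le_iff_le_comap]
    by_contra hI
    haveI : (q.comap (algebraMap A (A ⧸ p.asIdeal))).IsPrime := Ideal.comap_isPrime _ _
    have hpq : p ≤ ⟨q.comap (algebraMap A (A ⧸ p.asIdeal)), inferInstance⟩ := by
      rw [← PrimeSpectrum.asIdeal_le_asIdeal]
      intro x hx
      show algebraMap A (A ⧸ p.asIdeal) x ∈ q
      rw [Ideal.Quotient.algebraMap_eq, Ideal.Quotient.eq_zero_iff_mem.2 hx]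
      exact q.zero_mem
    have := hp.2 ⟨q.comap (algebraMap A (A ⧸ p.asIdeal)), inferInstance⟩ hpq hI
    apply hq0
    rw [eq_bot_iff]
    intro y hy
    obtain ⟨x, rfl⟩ := Ideal.Quotient.mk_surjective y
    have hx : x ∈ q.comap (algebraMap A (A ⧸ p.asIdeal)) := hy
    have hxp : x ∈ p.asIdeal := by
      rw [← this]
      exact hx
    rw [Ideal.mem_bot]
    exact Ideal.Quotient.eq_zero_iff_mem.2 hxp
  haveI hloc : IsLocalRing (A ⧸ p.asIdeal) :=
    isLocalRing_of_complete (I.map (algebraMap A (A ⧸ p.asIdeal))) hK0 hK1 hstar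
  obtain ⟨k, hk⟩ := exists_pow_maximalIdeal_le (I.map (algebraMap A (A ⧸ p.asIdeal))) hK0 hK1 hstar
  haveI : IsAdicComplete (maximalIdeal (A ⧸ p.asIdeal)) (A ⧸ p.asIdeal) :=
    isAdicComplete_of_le_of_pow_le (I.map (algebraMap A (A ⧸ p.asIdeal))) _ k
      (IsLocalRing.le_maximalIdeal hK1) hk
  exact Groth.Agent.S0598.result (A ⧸ p.asIdeal)

/-- S8825 -/
theorem s8825 (A : Type u) [CommRing A] [IsNoetherianRing A] (I : Ideal A) [IsAdicComplete I A]
    (p : PrimeSpectrum A)
    (hp : ¬ I ≤ p.asIdeal ∧ ∀ q : PrimeSpectrum A, p ≤ q → ¬ I ≤ q.asIdeal → q = p) (n : ℕ) :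
    CAlg.IsRegularHom (A ⧸ p.asIdeal)
      (AdicCompletion (I.map (algebraMap A (MvPolynomial (Fin n) (A ⧸ p.asIdeal))))
        (MvPolynomial (Fin n) (A ⧸ p.asIdeal))) := by
  have hGD := isGRing_quotient_rigClosed A I p hp
  have hGP : CAlg.IsGRing (MvPolynomial (Fin n) (A ⧸ p.asIdeal)) :=
    Groth.Agent.S0599.result (A ⧸ p.asIdeal) hGD _
  haveI : IsNoetherianRing (MvPolynomial (Fin n) (A ⧸ p.asIdeal)) := hGP.1
  haveI : IsNoetherianRing (AdicCompletion
      (I.map (algebraMap A (MvPolynomial (Fin n) (A ⧸ p.asIdeal))))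
      (MvPolynomial (Fin n) (A ⧸ p.asIdeal))) := Groth.Agent.S0543.result _ _
  have hreg2 := Groth.Agent.Helper2.ArtApx.isRegularHom_adic_of_isGRing
    (MvPolynomial (Fin n) (A ⧸ p.asIdeal)) hGP
    (I.map (algebraMap A (MvPolynomial (Fin n) (A ⧸ p.asIdeal))))
  have hreg1 : CAlg.IsRegularHom (A ⧸ p.asIdeal) (MvPolynomial (Fin n) (A ⧸ p.asIdeal)) :=
    Groth.Agent.S19379.result _ _
  haveI : IsScalarTower (A ⧸ p.asIdeal) (MvPolynomial (Fin n) (A ⧸ p.asIdeal))
      (AdicCompletion (I.map (algebraMap A (MvPolynomial (Fin n) (A ⧸ p.asIdeal))))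
        (MvPolynomial (Fin n) (A ⧸ p.asIdeal))) := by
    refine IsScalarTower.of_algebraMap_eq (R := A ⧸ p.asIdeal)
      (S := MvPolynomial (Fin n) (A ⧸ p.asIdeal))
      (A := AdicCompletion (I.map (algebraMap A (MvPolynomial (Fin n) (A ⧸ p.asIdeal))))
        (MvPolynomial (Fin n) (A ⧸ p.asIdeal))) (fun x => ?_)
    rfl
  exact Groth.Agent.Helper2.RegComp.isRegularHom_comp _ _ _ hreg1 hreg2
    (fun q _ => Groth.Agent.Helper2.RegBC.isNoetherianRing_fiber _ _ q)

end Groth.Agent.Helper2.RigCl
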