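import Mathlib
import Groth.Prelude

namespace Groth.Agent.Helper2.RigidA

open Function TensorProduct Algebra

universe u

/-- unbundled derivation -/
structure IsDer (R : Type*) {S M : Type*} [CommRing R] [CommRing S] [Algebra R S]
    [AddCommGroup M] [Module S M] (D : S → M) : Prop where
  map_add : ∀ x y, D (x + y) = D x + D y
  leibniz : ∀ x y, D (x * y) = x • D y + y • D x
  map_algebraMap : ∀ r : R, D (algebraMap R S r) = 0

namespace IsDer

variable {R S M : Type*} [CommRing R] [CommRing S] [Algebra R S]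
    [AddCommGroup M] [Module S M] {D : S → M}

theorem map_zero (h : IsDer R D) : D 0 = 0 := by
  have := h.map_add 0 0
  rw [add_zero] at this
  exact left_eq_add.mp this

theorem map_neg (h : IsDer R D) (x : S) : D (-x) = - D x := by
  have := h.map_add x (-x)
  rw [add_neg_cancel, h.map_zero] at this
  exact eq_neg_of_add_eq_zero_right this.symm

theorem map_sub (h : IsDer R D) (x y : S) : D (x - y) = D x - D y := by
  rw [sub_eq_add_neg, h.map_add, h.map_neg, sub_eq_add_neg]

theorem map_one (h : IsDer R D) : D 1 = 0 := by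
  have := h.map_algebraMap 1
  rwa [_root_.map_one] at this

theorem map_smul (h : IsDer R D) (r : R) (x : S) : D (r • x) = algebraMap R S r • D x := by
  rw [Algebra.smul_def, h.leibniz, h.map_algebraMap, smul_zero, add_zero]

theorem restrict {R₀ : Type*} [CommRing R₀] [Algebra R₀ R] [Algebra R₀ S] [IsScalarTower R₀ R S]
    (h : IsDer R D) : IsDer R₀ D where
  map_add := h.map_add
  leibniz := h.leibniz
  map_algebraMap r := by
    rw [IsScalarTower.algebraMap_apply R₀ R S, h.map_algebraMap]

end IsDer

/-- `c` times every `S`-linear `I → M` extends to an `R`-derivation. -/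
def KillsFor (R : Type*) {S : Type*} [CommRing R] [CommRing S] [Algebra R S] (I : Ideal S)
    (c : S) (M : Type*) [AddCommGroup M] [Module S M] : Prop :=
  ∀ φ : I →ₗ[S] M, ∃ D : S → M, IsDer R D ∧ ∀ i : I, D i = c • φ i

section Bridge

variable {A B : Type u} [CommRing A] [CommRing B] [Algebra A B] (Pe : Algebra.Extension.{u} A B)

/-- from a `c`-retraction of the cotangent complex to derivations. -/
theorem killsFor_of_extension (M : Type u) [AddCommGroup M] [Module Pe.Ring M]
    (hM : ∀ i ∈ Pe.ker, ∀ m : M, i • m = 0) (c : Pe.Ring)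
    (ψ : Pe.CotangentSpace →ₗ[B] Pe.Cotangent)
    (hψ : ψ ∘ₗ Pe.cotangentComplex = (algebraMap Pe.Ring B c) • LinearMap.id) :
    KillsFor A Pe.ker c M := by
  intro φ
  have h2 : LinearMap.ker (Extension.Cotangent.mk (P := Pe)) ≤ LinearMap.ker φ := by
    rw [Extension.Cotangent.ker_mk]
    refine Submodule.smul_le.2 fun i hi x _ => ?_
    rw [LinearMap.mem_ker, map_smul]
    exact hM i hi _
  let e := LinearMap.quotKerEquivOfSurjective (Extension.Cotangent.mk (P := Pe))
    Extension.Cotangent.mk_surjective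
  let φb : Pe.Cotangent →ₗ[Pe.Ring] M := (Submodule.liftQ _ φ h2) ∘ₗ e.symm.toLinearMap
  have hφb : ∀ i : Pe.ker, φb (Extension.Cotangent.mk i) = φ i := by
    intro i
    change (Submodule.liftQ _ φ h2) (e.symm (Extension.Cotangent.mk i)) = _
    have : e.symm (Extension.Cotangent.mk i) = Submodule.Quotient.mk i := by
      rw [LinearEquiv.symm_apply_eq]; rfl
    rw [this, Submodule.liftQ_apply]
  refine ⟨fun p => φb (ψ ((1 : B) ⊗ₜ[Pe.Ring] KaehlerDifferential.D A Pe.Ring p)), ⟨?_, ?_, ?_⟩, ?_⟩
  · intro x y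
    rw [map_add, TensorProduct.tmul_add, map_add, map_add]
  · intro x y
    have hs : ∀ (p : Pe.Ring) (z : Pe.CotangentSpace), φb (ψ (p • z)) = p • φb (ψ z) := by
      intro p z
      rw [LinearMap.map_smul_of_tower ψ p z, φb.map_smul]
    rw [Derivation.leibniz, TensorProduct.tmul_add, TensorProduct.tmul_smul,
      TensorProduct.tmul_smul, map_add, map_add, hs, hs]
  · intro r
    rw [Derivation.map_algebraMap, TensorProduct.tmul_zero, map_zero, map_zero]
  · intro i
    have h1 : ψ ((1 : B) ⊗ₜ[Pe.Ring] KaehlerDifferential.D A Pe.Ring (i : Pe.Ring)) =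
        c • Extension.Cotangent.mk i := by
      have := congrFun (congrArg DFunLike.coe hψ) (Extension.Cotangent.mk i)
      rw [LinearMap.comp_apply, Extension.cotangentComplex_mk, LinearMap.smul_apply,
        LinearMap.id_apply, algebraMap_smul] at this
      exact this
    change φb (ψ _) = _
    rw [h1, map_smul, hφb]

/-- a retraction on the nose gives formal smoothness. -/
theorem formallySmooth_of_killsFor [Algebra.FormallySmooth A Pe.Ring]
    (h : KillsFor A Pe.ker 1 Pe.Cotangent) : Algebra.FormallySmooth A B := by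
  obtain ⟨D, hD, hDi⟩ := h Extension.Cotangent.mk
  let Dl : Pe.Ring →ₗ[A] Pe.Cotangent :=
    { toFun := D
      map_add' := hD.map_add
      map_smul' := fun r x => by
        rw [hD.map_smul, RingHom.id_apply, algebraMap_smul] }
  let D' : Derivation A Pe.Ring Pe.Cotangent := Derivation.mk' Dl hD.leibniz
  have hD' : ∀ x, D' x = D x := fun x => rfl
  let l : Pe.CotangentSpace →ₗ[B] Pe.Cotangent :=
    LinearMap.liftBaseChange B D'.liftKaehlerDifferential
  refine (Pe.formallySmooth_iff_split_injection).2 ⟨l, ?_⟩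
  refine LinearMap.ext fun x => ?_
  obtain ⟨i, rfl⟩ := Extension.Cotangent.mk_surjective x
  rw [LinearMap.comp_apply, Extension.cotangentComplex_mk, LinearMap.id_apply]
  change LinearMap.liftBaseChange B D'.liftKaehlerDifferential _ = _
  rw [LinearMap.liftBaseChange_tmul, Derivation.liftKaehlerDifferential_comp_D, one_smul, hD', hDi,
    one_smul]

end Bridge

section Transfer

variable {A P Q : Type u} [CommRing A] [CommRing P] [CommRing Q] [Algebra A P] [Algebra A Q]

/-- total extension of a linear map on an ideal. -/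
noncomputable def ext0 {S M : Type*} [CommRing S] [AddCommGroup M] [Module S M] {J : Ideal S}
    (φ : J →ₗ[S] M) (q : S) : M := by
  classical
  exact if h : q ∈ J then φ ⟨q, h⟩ else 0

section Ext0

variable {S M : Type*} [CommRing S] [AddCommGroup M] [Module S M] {J : Ideal S} (φ : J →ₗ[S] M)

theorem ext0_mem {q : S} (h : q ∈ J) : ext0 φ q = φ ⟨q, h⟩ := by
  unfold ext0
  rw [dif_pos h]

theorem ext0_coe (j : J) : ext0 φ (j : S) = φ j := by
  rw [ext0_mem φ j.2]

theorem ext0_zero : ext0 φ 0 = 0 := by
  rw [ext0_mem φ J.zero_mem]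
  exact map_zero φ

theorem ext0_add {x y : S} (hx : x ∈ J) (hy : y ∈ J) : ext0 φ (x + y) = ext0 φ x + ext0 φ y := by
  rw [ext0_mem φ hx, ext0_mem φ hy, ext0_mem φ (J.add_mem hx hy), ← map_add]
  rfl

theorem ext0_sub {x y : S} (hx : x ∈ J) (hy : y ∈ J) : ext0 φ (x - y) = ext0 φ x - ext0 φ y := by
  rw [ext0_mem φ hx, ext0_mem φ hy, ext0_mem φ (J.sub_mem hx hy), ← map_sub]
  rfl

theorem ext0_mul (s : S) {x : S} (hx : x ∈ J) : ext0 φ (s * x) = s • ext0 φ x := by
  rw [ext0_mem φ hx, ext0_mem φ (J.mul_mem_left s hx), ← map_smul]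
  rfl

end Ext0

theorem transfer (I : Ideal P) (J : Ideal Q) (α : P →ₐ[A] Q) (hαI : ∀ p ∈ I, α p ∈ J)
    (hsurj : ∀ q : Q, ∃ p : P, q - α p ∈ J)
    (a : A) (ha : algebraMap A Q a = 0) (hker : ∀ p : P, α p ∈ J → ∃ p₁ : P, p - a • p₁ ∈ I)
    (c : A)
    (h : ∀ (M : Type u) [AddCommGroup M] [Module P M], (∀ i ∈ I, ∀ m : M, i • m = 0) →
      KillsFor A I (algebraMap A P c) M)
    (M : Type u) [AddCommGroup M] [Module Q M] (hM : ∀ j ∈ J, ∀ m : M, j • m = 0) :
    KillsFor A J (algebraMap A Q c) M := by
  intro φ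
  letI : Module P M := Module.compHom M α.toRingHom
  have hsm : ∀ (p : P) (m : M), p • m = α p • m := fun p m => rfl
  have hMP : ∀ i ∈ I, ∀ m : M, i • m = 0 := fun i hi m => by
    rw [hsm]; exact hM _ (hαI i hi) m
  let φ' : I →ₗ[P] M :=
    { toFun := fun i => ext0 φ (α i)
      map_add' := fun x y => by
        change ext0 φ (α ((x : P) + (y : P))) = _
        rw [map_add, ext0_add φ (hαI _ x.2) (hαI _ y.2)]
      map_smul' := fun p x => by
        change ext0 φ (α (p * (x : P))) = p • ext0 φ (α x)
        rw [map_mul, ext0_mul φ _ (hαI _ x.2), hsm] }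
  obtain ⟨D, hD, hDi⟩ := h M hMP φ'
  have hDi' : ∀ i ∈ I, D i = algebraMap A Q c • ext0 φ (α i) := by
    intro i hi
    have := hDi ⟨i, hi⟩
    rw [hsm, AlgHom.commutes] at this
    exact this
  -- the key independence statement
  have hakill : ∀ m : M, algebraMap A P a • m = 0 := by
    intro m
    rw [hsm, AlgHom.commutes, ha, zero_smul]
  have key : ∀ (p : P), α p ∈ J → D p = algebraMap A Q c • ext0 φ (α p) := by
    intro p hp
    obtain ⟨p₁, hp₁⟩ := hker p hp
    have h1 : p = (p - a • p₁) + a • p₁ := by ring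
    have h2 : α (p - a • p₁) = α p := by
      rw [map_sub, map_smul, Algebra.smul_def, ha, zero_mul, sub_zero]
    rw [h1, hD.map_add, hD.map_smul, hakill, add_zero, hDi' _ hp₁, h2, ← h1]
  choose rep hrep using hsurj
  let D' : Q → M := fun q => D (rep q) + algebraMap A Q c • ext0 φ (q - α (rep q))
  have hD' : ∀ (q : Q) (p : P), q - α p ∈ J →
      D' q = D p + algebraMap A Q c • ext0 φ (q - α p) := by
    intro q p hp
    have h3 : α (p - rep q) ∈ J := by
      have : α (p - rep q) = (q - α (rep q)) - (q - α p) := by rw [map_sub]; ring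
      rw [this]
      exact J.sub_mem (hrep q) hp
    have h4 := key _ h3
    rw [hD.map_sub] at h4
    have h5 : α (p - rep q) = (q - α (rep q)) - (q - α p) := by rw [map_sub]; ring
    rw [h5, ext0_sub φ (hrep q) hp, smul_sub] at h4
    change D (rep q) + algebraMap A Q c • ext0 φ (q - α (rep q)) = _
    have h6 : D p = D (rep q) + (algebraMap A Q c • ext0 φ (q - α (rep q)) -
        algebraMap A Q c • ext0 φ (q - α p)) := by
      rw [← h4]; abel
    rw [h6]; abel
  refine ⟨D', ⟨?_, ?_, ?_⟩, ?_⟩
  · intro x y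
    have hx := hrep x
    have hy := hrep y
    have hxy : (x + y) - α (rep x + rep y) ∈ J := by
      have : (x + y) - α (rep x + rep y) = (x - α (rep x)) + (y - α (rep y)) := by
        rw [map_add]; ring
      rw [this]
      exact J.add_mem hx hy
    rw [hD' _ _ hxy, hD' x _ hx, hD' y _ hy, hD.map_add]
    have : (x + y) - α (rep x + rep y) = (x - α (rep x)) + (y - α (rep y)) := by
      rw [map_add]; ring
    rw [this, ext0_add φ hx hy, smul_add]
    abel
  · intro x y
    have hx := hrep x
    have hy := hrep y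
    have e1 : (x * y) - α (rep x * rep y) = x * (y - α (rep y)) + α (rep y) * (x - α (rep x)) := by
      rw [map_mul]; ring
    have hxy : (x * y) - α (rep x * rep y) ∈ J := by
      rw [e1]
      exact J.add_mem (J.mul_mem_left _ hy) (J.mul_mem_left _ hx)
    rw [hD' _ _ hxy, hD' x _ hx, hD' y _ hy, hD.leibniz, e1,
      ext0_add φ (J.mul_mem_left _ hy) (J.mul_mem_left _ hx), ext0_mul φ _ hy, ext0_mul φ _ hx,
      hsm, hsm]
    have k1 : ∀ m : M, α (rep x) • m = x • m := by
      intro m
      have := hM _ hx m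
      rw [sub_smul, sub_eq_zero] at this
      exact this.symm
    have k2 : ∀ m : M, α (rep y) • m = y • m := by
      intro m
      have := hM _ hy m
      rw [sub_smul, sub_eq_zero] at this
      exact this.symm
    rw [k1, k2, k2, smul_add, smul_add, smul_add, smul_comm (algebraMap A Q c) x,
      smul_comm (algebraMap A Q c) y]
    abel
  · intro r
    have h0 : algebraMap A Q r - α (algebraMap A P r) ∈ J := by
      rw [AlgHom.commutes, sub_self]; exact J.zero_mem
    rw [hD' _ _ h0, hD.map_algebraMap, AlgHom.commutes, sub_self, ext0_zero, smul_zero, add_zero]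
  · intro j
    have h0 : (j : Q) - α 0 ∈ J := by rw [map_zero, sub_zero]; exact j.2
    rw [hD' _ _ h0, hD.map_zero, zero_add, map_zero, sub_zero, ext0_coe]

end Transfer

end Groth.Agent.Helper2.RigidA
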