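import Mathlib
import Groth.Prelude
import Groth.Agent.Helper2.RigidA

namespace Groth.Agent.Helper2.RigidB

open Function TensorProduct Algebra Groth.Agent.Helper2.RigidA

universe u

section CoInd

/-- coinduced module: `S`-linear maps `T → N` with `T` acting on the source. -/
def CoInd (S T N : Type*) [CommRing S] [CommRing T] [Algebra S T] [AddCommGroup N] [Module S N] :
    Type _ := T →ₗ[S] N

variable {S T N : Type*} [CommRing S] [CommRing T] [Algebra S T] [AddCommGroup N] [Module S N]

instance : AddCommGroup (CoInd S T N) := inferInstanceAs (AddCommGroup (T →ₗ[S] N))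

/-- view as a linear map -/
def CoInd.toLin (h : CoInd S T N) : T →ₗ[S] N := h

/-- from a linear map -/
def CoInd.ofLin (h : T →ₗ[S] N) : CoInd S T N := h

@[ext] theorem CoInd.ext {h h' : CoInd S T N} (e : ∀ x, h.toLin x = h'.toLin x) : h = h' :=
  LinearMap.ext e

theorem CoInd.toLin_add (h h' : CoInd S T N) (x : T) : (h + h').toLin x = h.toLin x + h'.toLin x :=
  rfl

theorem CoInd.toLin_zero (x : T) : (0 : CoInd S T N).toLin x = 0 := rfl

instance : Module T (CoInd S T N) where
  smul t h := CoInd.ofLin (h.toLin.comp (LinearMap.mulLeft S t))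
  one_smul h := by
    ext x
    change h.toLin (1 * x) = _
    rw [one_mul]
  mul_smul t t' h := by
    ext x
    change h.toLin (t * t' * x) = h.toLin (t' * (t * x))
    congr 1; ring
  smul_zero t := by
    ext x; rfl
  smul_add t h h' := by
    ext x; rfl
  add_smul t t' h := by
    ext x
    change h.toLin ((t + t') * x) = h.toLin (t * x) + h.toLin (t' * x)
    rw [add_mul, map_add]
  zero_smul h := by
    ext x
    change h.toLin (0 * x) = 0
    rw [zero_mul, map_zero]

theorem CoInd.smul_apply (t : T) (h : CoInd S T N) (x : T) : (t • h).toLin x = h.toLin (t * x) := rfl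

end CoInd

section Lam

variable {k A' : Type u} [CommRing k] [CommRing A'] [Algebra k A'] {σ : Type*}

/-- the coefficientwise map. -/
noncomputable def Lam (lam : A' →ₗ[k] k) (q : MvPolynomial σ A') : MvPolynomial σ k :=
  AddMonoidAlgebra.map (lam : A' →+ k) q

theorem coeff_Lam (lam : A' →ₗ[k] k) (q : MvPolynomial σ A') (m : σ →₀ ℕ) :
    MvPolynomial.coeff m (Lam lam q) = lam (MvPolynomial.coeff m q) := rfl

theorem Lam_add (lam : A' →ₗ[k] k) (q q' : MvPolynomial σ A') :
    Lam lam (q + q') = Lam lam q + Lam lam q' := by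
  ext m
  rw [coeff_Lam, MvPolynomial.coeff_add, MvPolynomial.coeff_add, map_add, coeff_Lam, coeff_Lam]

theorem Lam_map_mul (lam : A' →ₗ[k] k) (p : MvPolynomial σ k) (q : MvPolynomial σ A') :
    Lam lam (MvPolynomial.map (algebraMap k A') p * q) = p * Lam lam q := by
  classical
  ext m
  rw [coeff_Lam, MvPolynomial.coeff_mul, MvPolynomial.coeff_mul, map_sum]
  refine Finset.sum_congr rfl fun x _ => ?_
  rw [MvPolynomial.coeff_map, coeff_Lam, ← Algebra.smul_def, map_smul, smul_eq_mul]

theorem Lam_C (lam : A' →ₗ[k] k) (c : A') :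
    Lam lam (MvPolynomial.C c : MvPolynomial σ A') = MvPolynomial.C (lam c) := by
  classical
  ext m
  rw [coeff_Lam, MvPolynomial.coeff_C, MvPolynomial.coeff_C]
  split_ifs
  · rfl
  · exact map_zero lam

theorem Lam_mem (lam : A' →ₗ[k] k) (I₀ : Ideal (MvPolynomial σ k)) (x : MvPolynomial σ A')
    (hx : x ∈ I₀.map (MvPolynomial.map (algebraMap k A'))) :
    ∀ q : MvPolynomial σ A', Lam lam (q * x) ∈ I₀ := by
  unfold Ideal.map at hx
  induction hx using Submodule.span_induction with
  | mem x hx =>
    obtain ⟨i, hi, rfl⟩ := hx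
    intro q
    rw [mul_comm, Lam_map_mul]
    exact I₀.mul_mem_right _ hi
  | zero =>
    intro q
    rw [mul_zero]
    have : Lam lam (0 : MvPolynomial σ A') = 0 := by
      ext m; rw [coeff_Lam, MvPolynomial.coeff_zero, map_zero, MvPolynomial.coeff_zero]
    rw [this]; exact I₀.zero_mem
  | add x y _ _ hx hy =>
    intro q
    rw [mul_add, Lam_add]
    exact I₀.add_mem (hx q) (hy q)
  | smul a x _ hx =>
    intro q
    rw [smul_eq_mul, ← mul_assoc]
    exact hx (q * a)

end Lam

section Descend

variable {k A' : Type u} [CommRing k] [CommRing A'] [Algebra k A'] {r : ℕ}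

theorem descend (I₀ : Ideal (MvPolynomial (Fin r) k)) (lam : A' →ₗ[k] k) (c : A')
    (hc : lam c = 1)
    (h : ∀ (M : Type u) [AddCommGroup M] [Module (MvPolynomial (Fin r) A') M],
      (∀ j ∈ I₀.map (MvPolynomial.map (algebraMap k A')), ∀ m : M, j • m = 0) →
      KillsFor k (I₀.map (MvPolynomial.map (algebraMap k A'))) (MvPolynomial.C c) M)
    (M₀ : Type u) [AddCommGroup M₀] [Module (MvPolynomial (Fin r) k) M₀]
    (hM₀ : ∀ i ∈ I₀, ∀ m : M₀, i • m = 0) :
    KillsFor k I₀ 1 M₀ := by
  intro φ₀
  let ι : MvPolynomial (Fin r) k →+* MvPolynomial (Fin r) A' := MvPolynomial.map (algebraMap k A')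
  letI : Algebra (MvPolynomial (Fin r) k) (MvPolynomial (Fin r) A') := ι.toAlgebra
  have hsm : ∀ (p : MvPolynomial (Fin r) k) (x : MvPolynomial (Fin r) A'), p • x = ι p * x :=
    fun p x => rfl
  let J := I₀.map ι
  have hLJ : ∀ x ∈ J, ∀ q, Lam lam (q * x) ∈ I₀ := fun x hx => Lam_mem lam I₀ x hx
  let M := CoInd (MvPolynomial (Fin r) k) (MvPolynomial (Fin r) A') M₀
  have hM : ∀ j ∈ J, ∀ m : M, j • m = 0 := by
    intro j hj m
    -- it suffices to treat generators
    have : ∀ j ∈ J, ∀ (m : M) (x : MvPolynomial (Fin r) A'), m.toLin (j * x) = 0 := by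
      intro j hj
      change j ∈ Ideal.map ι I₀ at hj
      unfold Ideal.map at hj
      induction hj using Submodule.span_induction with
      | mem x hx =>
        obtain ⟨i, hi, rfl⟩ := hx
        intro m x
        rw [← hsm, map_smul]
        exact hM₀ i hi _
      | zero => intro m x; rw [zero_mul, map_zero]
      | add x y _ _ hx hy => intro m x'; rw [add_mul, map_add, hx, hy, add_zero]
      | smul a x _ hx =>
        intro m x'
        rw [smul_eq_mul, mul_assoc, mul_comm a, mul_assoc]
        exact hx m _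
    ext x
    rw [CoInd.smul_apply, this j hj, CoInd.toLin_zero]
  let φ : J →ₗ[MvPolynomial (Fin r) A'] M :=
    { toFun := fun j => CoInd.ofLin
        { toFun := fun x => ext0 φ₀ (Lam lam (x * (j : MvPolynomial (Fin r) A')))
          map_add' := fun x y => by
            rw [add_mul, Lam_add, ext0_add φ₀ (hLJ _ j.2 x) (hLJ _ j.2 y)]
          map_smul' := fun p x => by
            rw [hsm, mul_assoc, Lam_map_mul, ext0_mul φ₀ _ (hLJ _ j.2 x), RingHom.id_apply] }
      map_add' := fun j j' => by
        ext x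
        change ext0 φ₀ (Lam lam (x * ((j : MvPolynomial (Fin r) A') + j'))) =
          ext0 φ₀ (Lam lam (x * j)) + ext0 φ₀ (Lam lam (x * j'))
        rw [mul_add, Lam_add, ext0_add φ₀ (hLJ _ j.2 x) (hLJ _ j'.2 x)]
      map_smul' := fun q j => by
        ext x
        change ext0 φ₀ (Lam lam (x * (q * (j : MvPolynomial (Fin r) A')))) =
          ext0 φ₀ (Lam lam (q * x * j))
        congr 2; ring }
  have hφ : ∀ (j : J) (x : MvPolynomial (Fin r) A'),
      (φ j).toLin x = ext0 φ₀ (Lam lam (x * (j : MvPolynomial (Fin r) A'))) := fun j x => rfl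
  obtain ⟨D, hD, hDj⟩ := h M hM φ
  refine ⟨fun p => (D (ι p)).toLin 1, ⟨?_, ?_, ?_⟩, ?_⟩
  · intro x y
    rw [map_add, hD.map_add, CoInd.toLin_add]
  · intro x y
    rw [map_mul, hD.leibniz, CoInd.toLin_add, CoInd.smul_apply, CoInd.smul_apply, ← hsm, ← hsm,
      map_smul, map_smul]
  · intro c'
    have : ι (algebraMap k (MvPolynomial (Fin r) k) c') =
        algebraMap k (MvPolynomial (Fin r) A') c' := by
      rw [MvPolynomial.algebraMap_apply, MvPolynomial.algebraMap_apply]
      change MvPolynomial.map (algebraMap k A') (MvPolynomial.C (algebraMap k k c')) = _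
      rw [MvPolynomial.map_C]
      rfl
    rw [this, hD.map_algebraMap, CoInd.toLin_zero]
  · intro i
    have hi : ι (i : MvPolynomial (Fin r) k) ∈ J := Ideal.mem_map_of_mem ι i.2
    have := hDj ⟨ι i, hi⟩
    change D (ι i) = _ at this
    change (D (ι i)).toLin 1 = _
    rw [this, CoInd.smul_apply, hφ, one_smul, mul_one]
    change ext0 φ₀ (Lam lam (MvPolynomial.C c * ι (i : MvPolynomial (Fin r) k))) = _
    rw [mul_comm, Lam_map_mul, Lam_C, hc, MvPolynomial.C_1, mul_one, ext0_coe]

end Descend

end Groth.Agent.Helper2.RigidB
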