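import Mathlib
import Groth.Prelude
import Groth.Agent.Helper2.RigidA

namespace Groth.Agent.Helper2.RigidC

open Function Algebra Groth.Agent.Helper2.RigidA

universe u

section LiftStep

variable {k : Type u} [CommRing k] {P₀ B₀ C Cbar : Type u} [CommRing P₀] [CommRing B₀] [CommRing C]
  [CommRing Cbar] [Algebra k P₀] [Algebra k B₀] [Algebra k C] [Algebra k Cbar] [Algebra P₀ B₀]
  [IsScalarTower k P₀ B₀]

theorem lift_step (hπ₀ : Surjective (algebraMap P₀ B₀))
    (f : C →ₐ[k] Cbar) (ρ : C →ₐ[k] B₀) (ρbar : Cbar →ₐ[k] B₀)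
    (hρ : ∀ x, ρbar (f x) = ρ x) (hρsurj : Surjective ρ)
    (μ : B₀ → C) (τ : C) (hμ : ∀ x : C, μ (ρ x) = τ * x) (hμinj : Injective μ)
    (hμrange : ∀ y, f y = 0 → ∃ b, μ b = y) (hμker : ∀ b, f (μ b) = 0)
    (hsq : ∀ b b', μ b * μ b' = 0)
    (hrig : KillsFor k (RingHom.ker (algebraMap P₀ B₀)) 1 B₀)
    (σbar : B₀ →ₐ[k] Cbar) (hσ : ∀ b, ρbar (σbar b) = b)
    (G : P₀ →ₐ[k] C) (hG : ∀ p, f (G p) = σbar (algebraMap P₀ B₀ p)) :
    ∃ σ : B₀ →ₐ[k] C, ∀ b, f (σ b) = σbar b := by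
  have hρG : ∀ p, ρ (G p) = algebraMap P₀ B₀ p := fun p => by rw [← hρ, hG, hσ]
  have hμadd : ∀ b b', μ (b + b') = μ b + μ b' := by
    intro b b'
    obtain ⟨x, rfl⟩ := hρsurj b
    obtain ⟨y, rfl⟩ := hρsurj b'
    rw [← map_add, hμ, hμ, hμ, mul_add]
  have hμzero : μ 0 = 0 := by
    have := hμ 0
    rwa [map_zero, mul_zero] at this
  have hμneg : ∀ b, μ (-b) = - μ b := by
    intro b
    have := hμadd b (-b)
    rw [add_neg_cancel, hμzero] at this
    exact eq_neg_of_add_eq_zero_right this.symm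
  have hμmul : ∀ (p : P₀) (b : B₀), μ (algebraMap P₀ B₀ p * b) = G p * μ b := by
    intro p b
    obtain ⟨x, rfl⟩ := hρsurj b
    rw [← hρG, ← map_mul, hμ, hμ]; ring
  have hGI : ∀ i : RingHom.ker (algebraMap P₀ B₀), ∃ b, μ b = G i := by
    intro i
    refine hμrange _ ?_
    rw [hG, (RingHom.mem_ker).1 i.2, map_zero]
  choose φf hφf using hGI
  let φ : RingHom.ker (algebraMap P₀ B₀) →ₗ[P₀] B₀ :=
    { toFun := φf
      map_add' := fun x y => by
        apply hμinj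
        rw [hμadd, hφf, hφf, hφf]
        exact map_add G _ _
      map_smul' := fun p x => by
        apply hμinj
        rw [RingHom.id_apply, Algebra.smul_def, hμmul, hφf, hφf]
        exact map_mul G _ _ }
  obtain ⟨D, hD, hDi⟩ := hrig φ
  have hDi' : ∀ i : RingHom.ker (algebraMap P₀ B₀), μ (D i) = G i := by
    intro i
    rw [hDi, one_smul]
    exact hφf i
  let σ' : P₀ →ₐ[k] C :=
    { toFun := fun p => G p - μ (D p)
      map_one' := by rw [map_one, hD.map_one, hμzero, sub_zero]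
      map_mul' := fun p q => by
        rw [map_mul, hD.leibniz, hμadd, Algebra.smul_def, Algebra.smul_def, hμmul, hμmul]
        have := hsq (D p) (D q)
        linear_combination -this
      map_zero' := by rw [map_zero, hD.map_zero, hμzero, sub_zero]
      map_add' := fun p q => by
        rw [map_add, hD.map_add, hμadd]; ring
      commutes' := fun c => by
        rw [hD.map_algebraMap, hμzero, sub_zero, AlgHom.commutes] }
  have hσ' : ∀ p, σ' p = G p - μ (D p) := fun p => rfl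
  have hker : ∀ p : P₀, algebraMap P₀ B₀ p = 0 → σ' p = 0 := by
    intro p hp
    rw [hσ', hDi' ⟨p, hp⟩, sub_self]
  let π₀ : P₀ →ₐ[k] B₀ := IsScalarTower.toAlgHom k P₀ B₀
  have hπ₀' : Surjective π₀ := hπ₀
  let e := Ideal.quotientKerAlgEquivOfSurjective hπ₀'
  let σq : (P₀ ⧸ RingHom.ker π₀) →ₐ[k] C := Ideal.Quotient.liftₐ (RingHom.ker π₀) σ' (by
    intro p hp
    exact hker p hp)
  refine ⟨σq.comp e.symm.toAlgHom, fun b => ?_⟩
  obtain ⟨p, rfl⟩ := hπ₀ b
  have h1 : e.symm (algebraMap P₀ B₀ p) = Ideal.Quotient.mk _ p := by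
    rw [AlgEquiv.symm_apply_eq]
    rfl
  change f (σq (e.symm (algebraMap P₀ B₀ p))) = _
  rw [h1]
  change f (σ' p) = _
  rw [hσ', map_sub, hμker, sub_zero, hG]

end LiftStep

section Sections

variable {k : Type u} [CommRing k] {B B₀ : Type u} [CommRing B] [CommRing B₀] [Algebra k B]
  [Algebra k B₀] (tB : B)

/-- the truncations `B / t^(m+1)`. -/
abbrev Cq (m : ℕ) : Type u := B ⧸ Ideal.span {tB ^ (m + 1)}

theorem span_le (m : ℕ) : Ideal.span {tB ^ (m + 1 + 1)} ≤ Ideal.span {tB ^ (m + 1)} := by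
  rw [Ideal.span_singleton_le_span_singleton]
  exact pow_dvd_pow tB (Nat.le_succ _)

theorem span_le_one (m : ℕ) : Ideal.span {tB ^ (m + 1)} ≤ Ideal.span {tB} := by
  rw [Ideal.span_singleton_le_span_singleton]
  exact dvd_pow_self tB (Nat.succ_ne_zero m)

/-- transition maps. -/
noncomputable def fac (m : ℕ) : Cq tB (m + 1) →ₐ[k] Cq tB m :=
  Ideal.Quotient.factorₐ k (span_le tB m)

theorem fac_mk (m : ℕ) (b : B) :
    fac (k := k) tB m (Ideal.Quotient.mk _ b) = Ideal.Quotient.mk _ b := rfl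

variable (e : (B ⧸ Ideal.span {tB}) ≃ₐ[k] B₀)

/-- projection to the special fibre. -/
noncomputable def rho (m : ℕ) : Cq tB m →ₐ[k] B₀ :=
  e.toAlgHom.comp (Ideal.Quotient.factorₐ k (span_le_one tB m))

theorem rho_mk (m : ℕ) (b : B) :
    rho tB e m (Ideal.Quotient.mk _ b) = e (Ideal.Quotient.mk _ b) := rfl

theorem rho_fac (m : ℕ) (x : Cq tB (m + 1)) :
    rho tB e m (fac (k := k) tB m x) = rho tB e (m + 1) x := by
  obtain ⟨b, rfl⟩ := Ideal.Quotient.mk_surjective x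
  rfl

theorem rho_surjective (m : ℕ) : Surjective (rho tB e m) := by
  intro b₀
  obtain ⟨x, rfl⟩ := e.surjective b₀
  obtain ⟨b, rfl⟩ := Ideal.Quotient.mk_surjective x
  exact ⟨Ideal.Quotient.mk _ b, rfl⟩

theorem rho_t (m : ℕ) : rho tB e m (Ideal.Quotient.mk _ tB) = 0 := by
  rw [rho_mk]
  have : (Ideal.Quotient.mk (Ideal.span {tB})) tB = 0 :=
    Ideal.Quotient.eq_zero_iff_mem.2 (Ideal.subset_span rfl)
  rw [this, map_zero]

theorem rho_eq_zero (m : ℕ) (x : Cq tB m) (hx : rho tB e m x = 0) :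
    ∃ y : Cq tB m, x = Ideal.Quotient.mk _ tB * y := by
  obtain ⟨b, rfl⟩ := Ideal.Quotient.mk_surjective x
  rw [rho_mk, map_eq_zero_iff e e.injective, Ideal.Quotient.eq_zero_iff_mem,
    Ideal.mem_span_singleton'] at hx
  obtain ⟨a, rfl⟩ := hx
  exact ⟨Ideal.Quotient.mk _ a, by rw [← map_mul, mul_comm]⟩

/-- a set-theoretic lift. -/
noncomputable def sec (b₀ : B₀) : B :=
  Classical.choose (Ideal.Quotient.mk_surjective (e.symm b₀))

theorem sec_spec (b₀ : B₀) : e (Ideal.Quotient.mk _ (sec tB e b₀)) = b₀ := by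
  unfold sec
  rw [Classical.choose_spec (Ideal.Quotient.mk_surjective (e.symm b₀)), AlgEquiv.apply_symm_apply]

/-- the identification of `B₀` with the kernel of the transition map. -/
noncomputable def mu (m : ℕ) (b₀ : B₀) : Cq tB (m + 1) :=
  Ideal.Quotient.mk _ (tB ^ (m + 1) * sec tB e b₀)

theorem mu_rho (m : ℕ) (x : Cq tB (m + 1)) :
    mu tB e m (rho tB e (m + 1) x) = Ideal.Quotient.mk _ (tB ^ (m + 1)) * x := by
  obtain ⟨b, rfl⟩ := Ideal.Quotient.mk_surjective x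
  unfold mu
  rw [← map_mul, Ideal.Quotient.eq, ← mul_sub]
  have h1 : e (Ideal.Quotient.mk _ (sec tB e (rho tB e (m + 1) (Ideal.Quotient.mk _ b)))) =
      e (Ideal.Quotient.mk _ b) := sec_spec tB e (rho tB e (m + 1) (Ideal.Quotient.mk _ b))
  have h2 := e.injective h1
  rw [Ideal.Quotient.eq, Ideal.mem_span_singleton'] at h2
  obtain ⟨a, ha⟩ := h2
  rw [← ha, Ideal.mem_span_singleton']
  exact ⟨a, by ring⟩

theorem mu_injective (hreg : tB ∈ nonZeroDivisors B) (m : ℕ) : Injective (mu tB e m) := by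
  intro b b' h
  unfold mu at h
  rw [Ideal.Quotient.eq, ← mul_sub, Ideal.mem_span_singleton'] at h
  obtain ⟨a, ha⟩ := h
  have h1 : tB ^ (m + 1) * (sec tB e b - sec tB e b' - a * tB) = 0 := by
    rw [mul_sub, ← ha]; ring
  have h2 := (mul_left_mem_nonZeroDivisors_eq_zero_iff (pow_mem hreg (m + 1))).1 h1
  have h3 : (Ideal.Quotient.mk (Ideal.span {tB})) (sec tB e b) =
      (Ideal.Quotient.mk (Ideal.span {tB})) (sec tB e b') := by
    rw [Ideal.Quotient.eq, Ideal.mem_span_singleton']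
    exact ⟨a, (sub_eq_zero.1 h2).symm⟩
  rw [← sec_spec tB e b, ← sec_spec tB e b', h3]

theorem mu_range (m : ℕ) (y : Cq tB (m + 1)) (hy : fac (k := k) tB m y = 0) :
    ∃ b, mu tB e m b = y := by
  obtain ⟨b, rfl⟩ := Ideal.Quotient.mk_surjective y
  rw [fac_mk, Ideal.Quotient.eq_zero_iff_mem, Ideal.mem_span_singleton'] at hy
  obtain ⟨a, rfl⟩ := hy
  refine ⟨rho tB e (m + 1) (Ideal.Quotient.mk _ a), ?_⟩
  rw [mu_rho, ← map_mul, mul_comm]

theorem fac_mu (m : ℕ) (b : B₀) : fac (k := k) tB m (mu tB e m b) = 0 := by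
  unfold mu
  rw [fac_mk, Ideal.Quotient.eq_zero_iff_mem]
  exact Ideal.mul_mem_right _ _ (Ideal.subset_span rfl)

theorem mu_mul_mu (m : ℕ) (b b' : B₀) : mu tB e m b * mu tB e m b' = 0 := by
  unfold mu
  rw [← map_mul, Ideal.Quotient.eq_zero_iff_mem, Ideal.mem_span_singleton']
  exact ⟨tB ^ m * sec tB e b * sec tB e b', by ring⟩

variable {P₀ : Type u} [CommRing P₀] [Algebra k P₀] [Algebra P₀ B₀] [IsScalarTower k P₀ B₀]

theorem exists_section (hreg : tB ∈ nonZeroDivisors B) (hπ₀ : Surjective (algebraMap P₀ B₀))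
    (hrig : KillsFor k (RingHom.ker (algebraMap P₀ B₀)) 1 B₀)
    (hlift : ∀ (C Cbar : Type u) [CommRing C] [CommRing Cbar] [Algebra k C] [Algebra k Cbar]
      (f : C →ₐ[k] Cbar), Surjective f → ∀ g : P₀ →ₐ[k] Cbar, ∃ G : P₀ →ₐ[k] C, ∀ p, f (G p) = g p)
    (m : ℕ) : ∃ σ : B₀ →ₐ[k] Cq tB m, ∀ b, rho tB e m (σ b) = b := by
  induction m with
  | zero =>
    have h0 : Ideal.span {tB} = Ideal.span {tB ^ (0 + 1)} := by rw [zero_add, pow_one]
    refine ⟨(Ideal.quotientEquivAlgOfEq k h0).toAlgHom.comp e.symm.toAlgHom, fun b => ?_⟩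
    obtain ⟨x, rfl⟩ := e.surjective b
    obtain ⟨y, rfl⟩ := Ideal.Quotient.mk_surjective x
    change rho tB e 0 ((Ideal.quotientEquivAlgOfEq k h0) (e.symm (e (Ideal.Quotient.mk _ y)))) = _
    rw [AlgEquiv.symm_apply_apply]
    rfl
  | succ m ih =>
    obtain ⟨σbar, hσbar⟩ := ih
    have hfsurj : Surjective (fac (k := k) tB m) := by
      intro x
      obtain ⟨b, rfl⟩ := Ideal.Quotient.mk_surjective x
      exact ⟨Ideal.Quotient.mk _ b, rfl⟩
    obtain ⟨G, hG⟩ := hlift _ _ (fac (k := k) tB m) hfsurj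
      (σbar.comp (IsScalarTower.toAlgHom k P₀ B₀))
    obtain ⟨σ, hσ⟩ := lift_step hπ₀ (fac (k := k) tB m) (rho tB e (m + 1)) (rho tB e m)
      (rho_fac tB e m) (rho_surjective tB e (m + 1)) (mu tB e m)
      (Ideal.Quotient.mk _ (tB ^ (m + 1))) (mu_rho tB e m) (mu_injective tB e hreg m)
      (mu_range tB e m) (fac_mu tB e m) (mu_mul_mu tB e m) hrig σbar hσbar G hG
    refine ⟨σ, fun b => ?_⟩
    rw [← rho_fac, hσ, hσbar]

end Sections

end Groth.Agent.Helper2.RigidC
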