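import Mathlib
import Groth.Prelude
import Groth.Agent.Helper2.RigidA
import Groth.Agent.Helper2.RigidB
import Groth.Agent.Helper2.RigidC

namespace Groth.Agent.Helper2.RigidD

open Function Algebra Groth.Agent.Helper2.RigidA Groth.Agent.Helper2.RigidB
  Groth.Agent.Helper2.RigidC

universe u

section Iso

variable {k A B B₀ : Type u} [CommRing k] [CommRing A] [CommRing B] [CommRing B₀] [Algebra k A]
  [Algebra A B] [Algebra k B] [IsScalarTower k A B] [Algebra k B₀]
  (t : A) (e : (B ⧸ Ideal.span {algebraMap A B t}) ≃ₐ[k] B₀) (m : ℕ) {r : ℕ}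
  (π₀ : MvPolynomial (Fin r) k →ₐ[k] B₀) (σ : B₀ →ₐ[k] Cq (algebraMap A B t) m)

/-- the truncated base. -/
abbrev A' : Type u := A ⧸ Ideal.span {t ^ (m + 1)}

/-- the structure map of the truncation. -/
noncomputable def gam : A' t m →+* Cq (algebraMap A B t) m :=
  Ideal.Quotient.lift _ (algebraMap A (Cq (algebraMap A B t) m)) (by
    intro a ha
    rw [Ideal.mem_span_singleton'] at ha
    obtain ⟨x, rfl⟩ := ha
    change Ideal.Quotient.mk _ (algebraMap A B (x * t ^ (m + 1))) = 0
    rw [Ideal.Quotient.eq_zero_iff_mem, map_mul, map_pow]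
    exact Ideal.mul_mem_left _ _ (Ideal.subset_span rfl))

theorem gam_mk (a : A) : gam (B := B) t m (Ideal.Quotient.mk _ a) =
    Ideal.Quotient.mk _ (algebraMap A B a) := rfl

/-- the comparison map. -/
noncomputable def pi' : MvPolynomial (Fin r) (A' t m) →+* Cq (algebraMap A B t) m :=
  MvPolynomial.eval₂Hom (gam t m) (fun i => σ (π₀ (MvPolynomial.X i)))

theorem pi'_C (a : A' t m) : pi' t m π₀ σ (MvPolynomial.C a) = gam t m a := by
  unfold pi'
  rw [MvPolynomial.coe_eval₂Hom, MvPolynomial.eval₂_C]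

theorem pi'_X (i : Fin r) : pi' t m π₀ σ (MvPolynomial.X i) = σ (π₀ (MvPolynomial.X i)) := by
  unfold pi'
  rw [MvPolynomial.coe_eval₂Hom, MvPolynomial.eval₂_X]

theorem pi'_map (p : MvPolynomial (Fin r) k) :
    pi' t m π₀ σ (MvPolynomial.map (algebraMap k (A' t m)) p) = σ (π₀ p) := by
  induction p using MvPolynomial.induction_on with
  | C c =>
    rw [MvPolynomial.map_C, pi'_C, ← MvPolynomial.algebraMap_eq, AlgHom.commutes, AlgHom.commutes]
    rw [IsScalarTower.algebraMap_apply k A (A' t m)]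
    change gam t m (Ideal.Quotient.mk _ (algebraMap k A c)) = _
    rw [gam_mk, ← IsScalarTower.algebraMap_apply]
    rfl
  | add p q hp hq => rw [map_add, map_add, hp, hq, map_add, map_add]
  | mul_X p i hp => rw [map_mul, map_mul, hp, MvPolynomial.map_X, pi'_X, map_mul, map_mul]

/-- the constant polynomial `t`. -/
noncomputable def TT : MvPolynomial (Fin r) (A' t m) := MvPolynomial.C (Ideal.Quotient.mk _ t)

theorem pi'_TT : pi' t m π₀ σ (TT t m) = Ideal.Quotient.mk _ (algebraMap A B t) := by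
  unfold TT
  rw [pi'_C, gam_mk]

theorem TT_pow : (TT t m : MvPolynomial (Fin r) (A' t m)) ^ (m + 1) = 0 := by
  unfold TT
  rw [← map_pow, ← map_pow]
  have : (Ideal.Quotient.mk (Ideal.span {t ^ (m + 1)})) (t ^ (m + 1)) = 0 :=
    Ideal.Quotient.eq_zero_iff_mem.2 (Ideal.subset_span rfl)
  rw [this, map_zero]

variable (hσ : ∀ b, rho (algebraMap A B t) e m (σ b) = b) (hπ₀ : Surjective π₀)

include hσ hπ₀ in
theorem pi'_surjective : Surjective (pi' t m π₀ σ) := by
  have key : ∀ (j : ℕ) (y : Cq (algebraMap A B t) m), ∃ q z,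
      y - pi' t m π₀ σ q = (Ideal.Quotient.mk _ (algebraMap A B t)) ^ j * z := by
    intro j
    induction j with
    | zero => intro y; exact ⟨0, y, by rw [map_zero, sub_zero, pow_zero, one_mul]⟩
    | succ j ih =>
      intro y
      obtain ⟨q, z, hq⟩ := ih y
      obtain ⟨p₀, hp₀⟩ := hπ₀ (rho (algebraMap A B t) e m z)
      have h1 : rho (algebraMap A B t) e m (z - σ (π₀ p₀)) = 0 := by
        rw [map_sub, hσ, hp₀, sub_self]
      obtain ⟨z', hz'⟩ := rho_eq_zero (algebraMap A B t) e m _ h1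
      refine ⟨q + TT t m ^ j * MvPolynomial.map (algebraMap k (A' t m)) p₀, z', ?_⟩
      rw [map_add, map_mul, map_pow, pi'_TT, pi'_map]
      generalize (Ideal.Quotient.mk (Ideal.span {algebraMap A B t ^ (m + 1)})) (algebraMap A B t) = τ
        at hq hz' ⊢
      rw [pow_succ τ j, mul_assoc, ← hz', mul_sub, ← hq]
      ring
  intro y
  obtain ⟨q, z, hq⟩ := key (m + 1) y
  refine ⟨q, ?_⟩
  have h0 : (Ideal.Quotient.mk (Ideal.span {algebraMap A B t ^ (m + 1)})) (algebraMap A B t) ^ (m + 1)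
      = 0 :=
    (map_pow (Ideal.Quotient.mk (Ideal.span {algebraMap A B t ^ (m + 1)})) (algebraMap A B t)
      (m + 1)).symm.trans (Ideal.Quotient.eq_zero_iff_mem.2 (Ideal.subset_span rfl))
  rw [h0, zero_mul, sub_eq_zero] at hq
  exact hq.symm

theorem exists_decomp (hk : ∀ a : A, ∃ c : k, a - algebraMap k A c ∈ Ideal.span {t})
    (q : MvPolynomial (Fin r) (A' t m)) :
    ∃ (p : MvPolynomial (Fin r) k) (q' : MvPolynomial (Fin r) (A' t m)),
      q = MvPolynomial.map (algebraMap k (A' t m)) p + TT t m * q' := by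
  induction q using MvPolynomial.induction_on with
  | C a' =>
    obtain ⟨a, rfl⟩ := Ideal.Quotient.mk_surjective a'
    obtain ⟨c, hc⟩ := hk a
    rw [Ideal.mem_span_singleton'] at hc
    obtain ⟨a₁, ha₁⟩ := hc
    refine ⟨MvPolynomial.C c, MvPolynomial.C (Ideal.Quotient.mk _ a₁), ?_⟩
    unfold TT
    rw [MvPolynomial.map_C, ← map_mul, ← map_add, ← map_mul]
    congr 1
    rw [IsScalarTower.algebraMap_apply k A (A' t m)]
    change _ = Ideal.Quotient.mk _ (algebraMap k A c) + _
    rw [← map_add]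
    congr 1
    rw [mul_comm, ha₁]; ring
  | add p q hp hq =>
    obtain ⟨p₁, q₁, rfl⟩ := hp
    obtain ⟨p₂, q₂, rfl⟩ := hq
    exact ⟨p₁ + p₂, q₁ + q₂, by rw [map_add]; ring⟩
  | mul_X p i hp =>
    obtain ⟨p₁, q₁, rfl⟩ := hp
    exact ⟨p₁ * MvPolynomial.X i, q₁ * MvPolynomial.X i, by
      rw [map_mul, MvPolynomial.map_X]; ring⟩

include hσ in
theorem ker_pi' (hreg : algebraMap A B t ∈ nonZeroDivisors B)
    (hk : ∀ a : A, ∃ c : k, a - algebraMap k A c ∈ Ideal.span {t}) :
    RingHom.ker (pi' t m π₀ σ) =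
      (RingHom.ker π₀.toRingHom).map (MvPolynomial.map (algebraMap k (A' t m))) := by
  set J := (RingHom.ker π₀.toRingHom).map (MvPolynomial.map (algebraMap k (A' t m))) with hJ
  have hJle : J ≤ RingHom.ker (pi' t m π₀ σ) := by
    rw [hJ, Ideal.map_le_iff_le_comap]
    intro p hp
    rw [Ideal.mem_comap, RingHom.mem_ker, pi'_map]
    have : π₀ p = 0 := hp
    rw [this, map_zero]
  refine le_antisymm ?_ hJle
  intro q hq
  rw [RingHom.mem_ker] at hq
  have key : ∀ j : ℕ, j ≤ m + 1 → ∃ qj, q - TT t m ^ j * qj ∈ J := by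
    intro j
    induction j with
    | zero => intro _; exact ⟨q, by rw [pow_zero, one_mul, sub_self]; exact J.zero_mem⟩
    | succ j ih =>
      intro hj
      obtain ⟨qj, hqj⟩ := ih (Nat.le_of_succ_le hj)
      have h1 : pi' t m π₀ σ (TT t m ^ j * qj) = 0 := by
        have := hJle hqj
        rw [RingHom.mem_ker, map_sub, hq, zero_sub, neg_eq_zero] at this
        exact this
      rw [map_mul, map_pow, pi'_TT] at h1
      obtain ⟨b, hb⟩ := Ideal.Quotient.mk_surjective (pi' t m π₀ σ qj)
      have h1' : (Ideal.Quotient.mk (Ideal.span {algebraMap A B t ^ (m + 1)}))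
          (algebraMap A B t ^ j * b) = 0 := by
        rw [map_mul (Ideal.Quotient.mk (Ideal.span {algebraMap A B t ^ (m + 1)})),
          map_pow (Ideal.Quotient.mk (Ideal.span {algebraMap A B t ^ (m + 1)})), hb]
        exact h1
      rw [Ideal.Quotient.eq_zero_iff_mem, Ideal.mem_span_singleton'] at h1'
      obtain ⟨a, ha⟩ := h1'
      have h2 : algebraMap A B t ^ j * (b - a * algebraMap A B t ^ (m + 1 - j)) = 0 := by
        have : algebraMap A B t ^ (m + 1) = algebraMap A B t ^ j * algebraMap A B t ^ (m + 1 - j) := by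
          rw [← pow_add]; congr 1; omega
        rw [mul_sub, ← ha, this]; ring
      have h3 := (mul_left_mem_nonZeroDivisors_eq_zero_iff (pow_mem hreg j)).1 h2
      have h4 : rho (algebraMap A B t) e m (pi' t m π₀ σ qj) = 0 := by
        rw [← hb, sub_eq_zero.1 h3]
        have : m + 1 - j = (m - j) + 1 := by omega
        rw [this, pow_succ (algebraMap A B t) (m - j), ← mul_assoc,
          map_mul (Ideal.Quotient.mk (Ideal.span {algebraMap A B t ^ (m + 1)})), map_mul, rho_t,
          mul_zero]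
      obtain ⟨p, q', hpq⟩ := exists_decomp t m hk qj
      rw [hpq, map_add, map_mul, pi'_TT, pi'_map, map_add, map_mul, rho_t, zero_mul, add_zero,
        hσ] at h4
      refine ⟨q', ?_⟩
      have h5 : q - TT t m ^ (j + 1) * q' = (q - TT t m ^ j * qj) +
          TT t m ^ j * MvPolynomial.map (algebraMap k (A' t m)) p := by
        rw [hpq]; ring
      rw [h5]
      refine J.add_mem hqj (J.mul_mem_left _ ?_)
      exact Ideal.mem_map_of_mem _ h4
  obtain ⟨q', hq'⟩ := key (m + 1) le_rfl
  rw [TT_pow, zero_mul, sub_zero] at hq'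
  exact hq'

end Iso

end Groth.Agent.Helper2.RigidD
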