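import Mathlib
import Groth.Agent.Helper2.SplitLoc

namespace Groth.Agent.Helper2.SplitLoc

open Function

noncomputable section

variable {B : Type*} [CommRing B] {b : B} {C F Ω : Type*} [AddCommGroup C] [Module B C]
  [AddCommGroup F] [Module B F] [AddCommGroup Ω] [Module B Ω]
  {d : C →ₗ[B] F} {π : F →ₗ[B] Ω}

theorem powSplit_of_localized (hex : Exact d π) (hπ : Surjective π) [Module.Projective B F]
    [Module.FinitePresentation B Ω]
    (hK : ∃ n : ℕ, ∀ x ∈ LinearMap.ker d, b ^ n • x = 0)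
    (hΩ : Module.Projective (Localization.Away b) (LocalizedModule.Away b Ω)) :
    PowSplit b d := by
  obtain ⟨n1, hn1⟩ := hK
  let S := Submonoid.powers b
  have hπd : ∀ c, π (d c) = 0 := fun c => (hex (d c)).2 ⟨c, rfl⟩
  -- 1. split the localized surjection
  obtain ⟨σ, hσ⟩ := Module.projective_lifting_property (LocalizedModule.map S π)
    (LinearMap.id : LocalizedModule S Ω →ₗ[Localization S] LocalizedModule S Ω)
    (LocalizedModule.map_surjective S π hπ)
  have hσ' : ∀ y, LocalizedModule.map S π (σ y) = y := fun y =>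
    congrFun (congrArg DFunLike.coe hσ) y
  -- 2. descend
  let g : Ω →ₗ[B] LocalizedModule S F :=
    (σ.restrictScalars B) ∘ₗ LocalizedModule.mkLinearMap S Ω
  obtain ⟨h, s, hs⟩ := Module.FinitePresentation.exists_lift_of_isLocalizedModule S
    (LocalizedModule.mkLinearMap S F) g
  -- 3.
  have h3 : (LocalizedModule.mkLinearMap S Ω).comp (π ∘ₗ h) =
      (LocalizedModule.mkLinearMap S Ω).comp ((s : B) • LinearMap.id) := by
    refine LinearMap.ext fun ω => ?_
    have h4 : LocalizedModule.mkLinearMap S F (h ω) = s • g ω :=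
      congrFun (congrArg DFunLike.coe hs) ω
    change LocalizedModule.mkLinearMap S Ω (π (h ω)) = LocalizedModule.mkLinearMap S Ω ((s : B) • ω)
    rw [LocalizedModule.mkLinearMap_apply, LocalizedModule.mkLinearMap_apply,
      ← LocalizedModule.map_mk S π, ← LocalizedModule.mkLinearMap_apply, h4]
    change LocalizedModule.map S π ((s : B) • σ (LocalizedModule.mkLinearMap S Ω ω)) = _
    rw [← algebraMap_smul (Localization S) (s : B), map_smul, hσ', algebraMap_smul,
      LocalizedModule.mkLinearMap_apply, LocalizedModule.smul'_mk]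
  obtain ⟨s', hs'⟩ := Module.Finite.exists_smul_of_comp_eq_of_isLocalizedModule S
    (LocalizedModule.mkLinearMap S Ω) _ _ h3
  obtain ⟨m, hm⟩ := s.2
  obtain ⟨m', hm'⟩ := s'.2
  -- 4.
  let h' : Ω →ₗ[B] F := (s' : B) • h
  have h4 : ∀ ω, π (h' ω) = b ^ (m' + m) • ω := by
    intro ω
    have := congrFun (congrArg DFunLike.coe hs') ω
    change (s' : B) • π (h ω) = (s' : B) • ((s : B) • ω) at this
    change π ((s' : B) • h ω) = _
    rw [map_smul, this, smul_smul, ← hm, ← hm', pow_add]
  -- 5.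
  let e : F →ₗ[B] F := b ^ (m' + m) • LinearMap.id - h' ∘ₗ π
  have he_apply : ∀ x, e x = b ^ (m' + m) • x - h' (π x) := fun x => rfl
  have he : ∀ x, e x ∈ LinearMap.ker π := by
    intro x
    rw [LinearMap.mem_ker, he_apply, map_sub, h4, map_smul, sub_self]
  have hd : ∀ c, d c ∈ LinearMap.ker π := fun c => hπd c
  have hdsurj : Surjective (d.codRestrict (LinearMap.ker π) hd) := by
    rintro ⟨y, hy⟩
    obtain ⟨c, rfl⟩ := (hex y).1 hy
    exact ⟨c, rfl⟩
  obtain ⟨ψ₀, hψ₀⟩ := Module.projective_lifting_property (d.codRestrict (LinearMap.ker π) hd)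
    (e.codRestrict (LinearMap.ker π) he) hdsurj
  have hψ₀' : ∀ x, d (ψ₀ x) = e x := fun x =>
    congrArg Subtype.val (congrFun (congrArg DFunLike.coe hψ₀) x)
  -- 6.
  refine ⟨n1 + (m' + m), b ^ n1 • ψ₀, ?_⟩
  refine LinearMap.ext fun c => ?_
  change b ^ n1 • ψ₀ (d c) = b ^ (n1 + (m' + m)) • c
  have hmem : ψ₀ (d c) - b ^ (m' + m) • c ∈ LinearMap.ker d := by
    rw [LinearMap.mem_ker, map_sub, hψ₀', he_apply, hπd, map_zero, sub_zero, map_smul, sub_self]
  have := hn1 _ hmem
  rw [smul_sub, sub_eq_zero] at this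
  rw [this, smul_smul, ← pow_add]

end

end Groth.Agent.Helper2.SplitLoc
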