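import Mathlib
import Groth.Prelude
import Groth.Agent.Helper2.CotTIndep01
import Groth.Agent.Helper2.SplitLoc2

namespace Groth.Agent.Helper2.T1Loc

open CotT Function TensorProduct Algebra
open Groth.Agent.Helper2.CotTIndep01 Groth.Agent.Helper2.SplitLoc

noncomputable section

universe u

variable {A B : Type u} [CommRing A] [CommRing B] [Algebra A B]

section Bridge

variable {n m : ℕ} (P₀ : Algebra.Presentation A B (Fin n) (Fin m)) (b : B)

/-- (ii) in terms of a finite presentation. -/
theorem uniform_kill_iff_powSplit [IsNoetherianRing B] :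
    (∃ n₀ : ℕ, ∀ (M : Type u) [AddCommGroup M] [Module B M] [Module.Finite B M],
      ∀ x : CotT.T1 (CotT.canon A B) M, b ^ n₀ • x = 0) ↔
    PowSplit b P₀.toExtension.cotangentComplex := by
  have key : ∀ (M : Type u) [AddCommGroup M] [Module B M],
      Nonempty (E1 M P₀.toExtension ≃ₗ[B] CotT.T1 (CotT.canon A B) M) := by
    intro M _ _
    obtain ⟨e⟩ := nonempty_T1_equiv P₀ M (CotT.canon A B)
    exact ⟨(E1EquivT1 P₀ M).trans e⟩
  constructor
  · rintro ⟨n₀, h⟩
    haveI : Module.Finite B P₀.toExtension.Cotangent :=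
      Algebra.Extension.Cotangent.finite P₀.fg_ker
    obtain ⟨Φ⟩ := key P₀.toExtension.Cotangent
    have h1 := h P₀.toExtension.Cotangent (Φ (Submodule.Quotient.mk LinearMap.id))
    rw [← map_smul, LinearEquiv.map_eq_zero_iff, ← Submodule.Quotient.mk_smul,
      Submodule.Quotient.mk_eq_zero] at h1
    obtain ⟨ψ, hψ⟩ := h1
    exact ⟨n₀, ψ, hψ⟩
  · rintro ⟨n₀, ψ, hψ⟩
    refine ⟨n₀, fun M _ _ _ x => ?_⟩
    obtain ⟨Φ⟩ := key M
    obtain ⟨y, rfl⟩ := Φ.surjective x
    obtain ⟨φ, rfl⟩ := Submodule.Quotient.mk_surjective _ y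
    rw [← map_smul, LinearEquiv.map_eq_zero_iff, ← Submodule.Quotient.mk_smul,
      Submodule.Quotient.mk_eq_zero]
    refine ⟨φ ∘ₗ ψ, ?_⟩
    rw [LinearMap.lcomp_apply', LinearMap.comp_assoc, hψ, LinearMap.comp_smul, LinearMap.comp_id]

end Bridge

section Bridge2

variable {n m : ℕ} (P₀ : Algebra.Presentation A B (Fin n) (Fin m)) (b : B)

theorem smooth_away_iff_powSplit [Algebra.FinitePresentation A B] [IsNoetherianRing B] :
    (∀ q : PrimeSpectrum B, b ∉ q.asIdeal → q ∈ Algebra.smoothLocus A B) ↔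
      PowSplit b P₀.toExtension.cotangentComplex := by
  haveI : Module.Projective B P₀.toExtension.CotangentSpace :=
    Module.Projective.of_basis P₀.cotangentSpaceBasis
  have h1 : (∀ q : PrimeSpectrum B, b ∉ q.asIdeal → q ∈ Algebra.smoothLocus A B) ↔
      (↑(PrimeSpectrum.basicOpen b) : Set (PrimeSpectrum B)) ⊆ Algebra.smoothLocus A B := Iff.rfl
  rw [h1, Algebra.smoothLocus_eq_compl_support_inter, Set.subset_inter_iff, Set.subset_compl_comm,
    PrimeSpectrum.basicOpen_eq_zeroLocus_compl, compl_compl,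
    ← LocalizedModule.subsingleton_iff_support_subset, ← PrimeSpectrum.basicOpen_eq_zeroLocus_compl,
    Module.basicOpen_subset_freeLocus_iff]
  haveI : Module.Finite B P₀.toExtension.Cotangent :=
    Algebra.Extension.Cotangent.finite P₀.fg_ker
  haveI : IsNoetherian B P₀.toExtension.Cotangent := isNoetherian_of_isNoetherianRing_of_finite _ _
  haveI : Module.Finite B P₀.toExtension.H1Cotangent :=
    Module.IsNoetherian.finite B (LinearMap.ker P₀.toExtension.cotangentComplex)
  haveI : Module.Finite B (H1Cotangent A B) :=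
    Module.Finite.of_surjective P₀.equivH1Cotangent.toLinearMap P₀.equivH1Cotangent.surjective
  constructor
  · rintro ⟨hK, hΩ⟩
    refine powSplit_of_localized P₀.toExtension.exact_cotangentComplex_toKaehler
      P₀.toExtension.toKaehler_surjective ?_ hΩ
    obtain ⟨s, hs⟩ := Module.Finite.exists_smul_of_comp_eq_of_isLocalizedModule
      (Submonoid.powers b) (LocalizedModule.mkLinearMap (Submonoid.powers b) (H1Cotangent A B))
      (LinearMap.id : H1Cotangent A B →ₗ[B] H1Cotangent A B) 0
      (LinearMap.ext fun x => Subsingleton.elim _ _)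
    obtain ⟨k, hk⟩ := s.2
    refine ⟨k, fun x hx => ?_⟩
    let y : P₀.toExtension.H1Cotangent := ⟨x, hx⟩
    have h2 : (s : B) • P₀.equivH1Cotangent y = 0 := by
      have := congrFun (congrArg DFunLike.coe hs) (P₀.equivH1Cotangent y)
      change s • P₀.equivH1Cotangent y = s • (0 : H1Cotangent A B) at this
      rw [smul_zero] at this
      exact this
    rw [← map_smul, LinearEquiv.map_eq_zero_iff] at h2
    have h3 := congrArg Subtype.val h2
    have hk' : b ^ k = (s : B) := hk
    rw [hk']
    exact h3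
  · intro h
    refine ⟨?_, projective_localized P₀.toExtension.exact_cotangentComplex_toKaehler
      P₀.toExtension.toKaehler_surjective h⟩
    obtain ⟨k, hk⟩ := ker_killed h
    rw [LocalizedModule.subsingleton_iff]
    intro x
    obtain ⟨y, rfl⟩ := P₀.equivH1Cotangent.surjective x
    refine ⟨b ^ k, ⟨k, rfl⟩, ?_⟩
    rw [← map_smul, LinearEquiv.map_eq_zero_iff]
    exact Subtype.ext (hk y.1 y.2)

end Bridge2

/-- **S12305**. -/
theorem s12305 {k : Type u} [Field k] [Algebra k A] [Algebra.FiniteType k A]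
    [Algebra.FiniteType A B] (t : A) :
    (∀ q : PrimeSpectrum B, algebraMap A B t ∉ q.asIdeal → q ∈ Algebra.smoothLocus A B) ↔
    ∃ n₀ : ℕ, ∀ (M : Type u) [AddCommGroup M] [Module B M] [Module.Finite B M],
      ∀ x : CotT.T1 (CotT.canon A B) M, (algebraMap A B t) ^ n₀ • x = 0 := by
  haveI : IsNoetherianRing A := Algebra.FiniteType.isNoetherianRing k A
  haveI : Algebra.FinitePresentation A B := Algebra.FinitePresentation.of_finiteType.1 inferInstance
  haveI : IsNoetherianRing B := Algebra.FiniteType.isNoetherianRing A B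
  obtain ⟨n, m, ⟨P₀⟩⟩ := Algebra.Presentation.exists_presentation_fin A B
  rw [smooth_away_iff_powSplit P₀, uniform_kill_iff_powSplit P₀]

end

end Groth.Agent.Helper2.T1Loc
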