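import Mathlib
import Groth.Prelude
import Groth.Agent.Helper2.RigidD
import Groth.Agent.Helper2.T1Loc

namespace Groth.Agent.Helper2.RigidE

open Function Algebra TensorProduct Groth.Agent.Helper2.RigidA Groth.Agent.Helper2.RigidB
  Groth.Agent.Helper2.RigidC Groth.Agent.Helper2.RigidD Groth.Agent.Helper2.CotTIndep01
  Groth.Agent.Helper2.SplitLoc

universe u

section Bridge

variable {A B : Type u} [CommRing A] [CommRing B] [Algebra A B] (Pe : Algebra.Extension.{u} A B)

/-- vanishing of `E¹` gives extension of linear maps to derivations. -/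
theorem killsFor_of_subsingleton_E1 (M : Type u) [AddCommGroup M] [Module B M] [Module Pe.Ring M]
    [IsScalarTower Pe.Ring B M] (h : Subsingleton (E1 M Pe)) : KillsFor A Pe.ker 1 M := by
  intro φ
  have hM : ∀ i ∈ Pe.ker, ∀ m : M, i • m = 0 := by
    intro i hi m
    rw [← algebraMap_smul B i m, (RingHom.mem_ker).1 hi, zero_smul]
  have h2 : LinearMap.ker (Extension.Cotangent.mk (P := Pe)) ≤ LinearMap.ker φ := by
    rw [Extension.Cotangent.ker_mk]
    refine Submodule.smul_le.2 fun i hi x _ => ?_
    rw [LinearMap.mem_ker, map_smul]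
    exact hM i hi _
  let e := LinearMap.quotKerEquivOfSurjective (Extension.Cotangent.mk (P := Pe))
    Extension.Cotangent.mk_surjective
  let φb : Pe.Cotangent →ₗ[Pe.Ring] M := (Submodule.liftQ _ φ h2) ∘ₗ e.symm.toLinearMap
  have hφb : ∀ i : Pe.ker, φb (Extension.Cotangent.mk i) = φ i := by
    intro i
    change (Submodule.liftQ _ φ h2) (e.symm (Extension.Cotangent.mk i)) = _
    have : e.symm (Extension.Cotangent.mk i) = Submodule.Quotient.mk i := by
      rw [LinearEquiv.symm_apply_eq]; rfl
    rw [this, Submodule.liftQ_apply]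
  let φB : Pe.Cotangent →ₗ[B] M := φb.extendScalarsOfSurjective Pe.algebraMap_surjective
  have hφB : ∀ x, φB x = φb x := fun x => rfl
  have h0 : (Submodule.Quotient.mk φB : E1 M Pe) = 0 := Subsingleton.elim _ _
  rw [Submodule.Quotient.mk_eq_zero] at h0
  obtain ⟨ψ, hψ⟩ := h0
  rw [LinearMap.lcomp_apply'] at hψ
  refine ⟨fun p => ψ ((1 : B) ⊗ₜ[Pe.Ring] KaehlerDifferential.D A Pe.Ring p), ⟨?_, ?_, ?_⟩, ?_⟩
  · intro x y
    rw [map_add, TensorProduct.tmul_add, map_add]
  · intro x y
    rw [Derivation.leibniz, TensorProduct.tmul_add, TensorProduct.tmul_smul,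
      TensorProduct.tmul_smul, map_add, LinearMap.map_smul_of_tower ψ,
      LinearMap.map_smul_of_tower ψ]
  · intro r
    rw [Derivation.map_algebraMap, TensorProduct.tmul_zero, map_zero]
  · intro i
    have := congrFun (congrArg DFunLike.coe hψ) (Extension.Cotangent.mk i)
    rw [LinearMap.comp_apply, Extension.cotangentComplex_mk, hφB, hφb] at this
    rw [one_smul]
    exact this

end Bridge

noncomputable section Main

variable {k : Type u} [Field k] [IsAlgClosed k]

theorem s12306 (B₀ : Type u) [CommRing B₀] [Algebra k B₀] [Algebra.FiniteType k B₀]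
    (hsing : ¬ Algebra.Smooth k B₀) (hrigid : Subsingleton (CotT.T1 (CotT.canon k B₀) B₀))
    (A B : Type u) [CommRing A] [CommRing B] [IsDomain A] [Algebra k A] [Algebra.FiniteType k A]
    (hdim : ringKrullDim A = 1) (t : A) (ht : (Ideal.span {t}).IsMaximal)
    [Algebra A B] [Algebra.FiniteType A B] [Module.Flat A B] [Algebra k B] [IsScalarTower k A B]
    (e : (B ⧸ Ideal.span {algebraMap A B t}) ≃ₐ[k] B₀) :
    ∃ q : PrimeSpectrum B, algebraMap A B t ∉ q.asIdeal ∧ q ∉ Algebra.smoothLocus A B := by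
  by_contra hcon
  push Not at hcon
  haveI : IsNoetherianRing A := Algebra.FiniteType.isNoetherianRing k A
  haveI : Algebra.FinitePresentation A B := Algebra.FinitePresentation.of_finiteType.1 inferInstance
  haveI : IsNoetherianRing B := Algebra.FiniteType.isNoetherianRing A B
  haveI : Algebra.FinitePresentation k B₀ := Algebra.FinitePresentation.of_finiteType.1 inferInstance
  -- basic facts
  have ht0 : t ≠ 0 := by
    rintro rfl
    have h1 : (⊥ : Ideal A).IsMaximal := by
      have : Ideal.span {(0 : A)} = ⊥ := by simp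
      rwa [this] at ht
    have h2 := ringKrullDim_eq_zero_of_isField (Ring.isField_iff_maximal_bot.2 h1)
    rw [hdim] at h2
    exact one_ne_zero h2
  have hreg : algebraMap A B t ∈ nonZeroDivisors B := by
    have h1 : IsSMulRegular B t :=
      Module.Flat.isSMulRegular_of_nonZeroDivisors (mem_nonZeroDivisors_of_ne_zero ht0)
    rw [mem_nonZeroDivisors_iff_right]
    intro x hx
    apply h1
    change t • x = t • (0 : B)
    rw [smul_zero, Algebra.smul_def, mul_comm]
    exact hx
  have hk : ∀ a : A, ∃ c : k, a - algebraMap k A c ∈ Ideal.span {t} := by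
    letI : Field (A ⧸ Ideal.span {t}) := Ideal.Quotient.field _
    haveI : Module.Finite k (A ⧸ Ideal.span {t}) := finite_of_finite_type_of_isJacobsonRing k _
    haveI : Algebra.IsIntegral k (A ⧸ Ideal.span {t}) := Algebra.IsIntegral.of_finite k _
    intro a
    obtain ⟨c, hc⟩ := (IsAlgClosed.algebraMap_bijective_of_isIntegral (k := k)
      (K := A ⧸ Ideal.span {t})).2 (Ideal.Quotient.mk _ a)
    refine ⟨c, ?_⟩
    rw [← Ideal.Quotient.eq_zero_iff_mem, map_sub, sub_eq_zero, ← hc]
    rfl
  -- the power splitting over `A`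
  obtain ⟨r', m', ⟨PB⟩⟩ := Algebra.Presentation.exists_presentation_fin A B
  obtain ⟨n, ψ, hψ⟩ := (T1Loc.smooth_away_iff_powSplit PB (algebraMap A B t)).1 hcon
  -- presentation of the special fibre
  obtain ⟨r, m₀, ⟨Pres₀⟩⟩ := Algebra.Presentation.exists_presentation_fin k B₀
  have hE1 : Subsingleton (E1 B₀ Pres₀.toExtension) := by
    obtain ⟨Φ⟩ := nonempty_T1_equiv Pres₀ B₀ (CotT.canon k B₀)
    exact ((E1EquivT1 Pres₀ B₀).trans Φ).toEquiv.subsingleton
  have hrig : KillsFor k Pres₀.toExtension.ker 1 B₀ :=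
    killsFor_of_subsingleton_E1 Pres₀.toExtension B₀ hE1
  have hlift : ∀ (C Cbar : Type u) [CommRing C] [CommRing Cbar] [Algebra k C] [Algebra k Cbar]
      (f : C →ₐ[k] Cbar), Surjective f → ∀ g : Pres₀.toExtension.Ring →ₐ[k] Cbar,
      ∃ G : Pres₀.toExtension.Ring →ₐ[k] C, ∀ p, f (G p) = g p := by
    intro C Cbar _ _ _ _ f hf g
    choose y hy using hf
    refine ⟨MvPolynomial.aeval (fun i => y (g (MvPolynomial.X i))), fun p => ?_⟩
    have : f.comp (MvPolynomial.aeval (fun i => y (g (MvPolynomial.X i)))) = g := by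
      refine MvPolynomial.algHom_ext fun i => ?_
      rw [AlgHom.comp_apply, MvPolynomial.aeval_X, hy]
      rfl
    exact congrFun (congrArg DFunLike.coe this) p
  obtain ⟨σ, hσ⟩ := exists_section (algebraMap A B t) e hreg
    Pres₀.toExtension.algebraMap_surjective hrig hlift n
  let π₀ : MvPolynomial (Fin r) k →ₐ[k] B₀ := IsScalarTower.toAlgHom k Pres₀.toExtension.Ring B₀
  have hπ₀ : Surjective π₀ := Pres₀.toExtension.algebraMap_surjective
  have hsurj' := pi'_surjective t e n π₀ σ hσ hπ₀
  have hker' := ker_pi' t e n π₀ σ hσ hreg hk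
  set J := (RingHom.ker π₀.toRingHom).map (MvPolynomial.map (algebraMap k (A' t n))) with hJ
  -- the comparison of presentations
  choose qv hqv using fun i : Fin r' => hsurj' (Ideal.Quotient.mk _ (PB.val i))
  let α : PB.toExtension.Ring →ₐ[A] MvPolynomial (Fin r) (A' t n) := MvPolynomial.aeval qv
  have hα : ∀ p, pi' t n π₀ σ (α p) =
      Ideal.Quotient.mk _ (algebraMap PB.toExtension.Ring B p) := by
    have : (pi' t n π₀ σ).comp α.toRingHom =
        (Ideal.Quotient.mk (Ideal.span {algebraMap A B t ^ (n + 1)})).comp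
          (algebraMap PB.toExtension.Ring B) := by
      refine MvPolynomial.ringHom_ext (fun a => ?_) (fun i => ?_)
      · change pi' t n π₀ σ (MvPolynomial.aeval qv (MvPolynomial.C a)) =
          Ideal.Quotient.mk _ (algebraMap PB.Ring B (MvPolynomial.C a))
        rw [MvPolynomial.aeval_C, MvPolynomial.algebraMap_apply, pi'_C,
          Algebra.Generators.algebraMap_apply, MvPolynomial.aeval_C]
        rfl
      · change pi' t n π₀ σ (MvPolynomial.aeval qv (MvPolynomial.X i)) =
          Ideal.Quotient.mk _ (algebraMap PB.Ring B (MvPolynomial.X i))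
        rw [MvPolynomial.aeval_X, hqv, Algebra.Generators.algebraMap_apply, MvPolynomial.aeval_X]
    exact fun p => congrFun (congrArg DFunLike.coe this) p
  have hαI : ∀ p ∈ PB.toExtension.ker, α p ∈ J := by
    intro p hp
    rw [← hker', RingHom.mem_ker, hα, (RingHom.mem_ker).1 hp, map_zero]
  have hsurjQ : ∀ q : MvPolynomial (Fin r) (A' t n), ∃ p : PB.toExtension.Ring, q - α p ∈ J := by
    intro q
    obtain ⟨b, hb⟩ := Ideal.Quotient.mk_surjective (pi' t n π₀ σ q)
    obtain ⟨p, rfl⟩ := PB.toExtension.algebraMap_surjective b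
    refine ⟨p, ?_⟩
    rw [← hker', RingHom.mem_ker, map_sub, hα, hb, sub_self]
  have ha : algebraMap A (MvPolynomial (Fin r) (A' t n)) (t ^ (n + 1)) = 0 := by
    rw [MvPolynomial.algebraMap_apply]
    have : algebraMap A (A' t n) (t ^ (n + 1)) = 0 :=
      Ideal.Quotient.eq_zero_iff_mem.2 (Ideal.subset_span rfl)
    rw [this, map_zero]
  have hkerQ : ∀ p : PB.toExtension.Ring, α p ∈ J →
      ∃ p₁ : PB.toExtension.Ring, p - (t ^ (n + 1)) • p₁ ∈ PB.toExtension.ker := by
    intro p hp
    rw [← hker', RingHom.mem_ker, hα, Ideal.Quotient.eq_zero_iff_mem,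
      Ideal.mem_span_singleton'] at hp
    obtain ⟨x, hx⟩ := hp
    obtain ⟨p₁, rfl⟩ := PB.toExtension.algebraMap_surjective x
    refine ⟨p₁, ?_⟩
    change algebraMap PB.toExtension.Ring B _ = 0
    rw [map_sub, Algebra.smul_def, map_mul, ← IsScalarTower.algebraMap_apply, map_pow, ← hx]
    ring
  have hkillP : ∀ (M : Type u) [AddCommGroup M] [Module PB.toExtension.Ring M],
      (∀ i ∈ PB.toExtension.ker, ∀ m : M, i • m = 0) →
      KillsFor A PB.toExtension.ker (algebraMap A PB.toExtension.Ring (t ^ n)) M := by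
    intro M _ _ hM
    refine killsFor_of_extension PB.toExtension M hM _ ψ ?_
    rw [hψ, ← IsScalarTower.algebraMap_apply, map_pow]
  have hT : ∀ (M : Type u) [AddCommGroup M] [Module (MvPolynomial (Fin r) (A' t n)) M],
      (∀ j ∈ J, ∀ m : M, j • m = 0) →
      KillsFor A J (algebraMap A (MvPolynomial (Fin r) (A' t n)) (t ^ n)) M := by
    intro M _ _ hM
    exact transfer PB.toExtension.ker J α hαI hsurjQ (t ^ (n + 1)) ha hkerQ (t ^ n) hkillP M hM
  -- the functional
  have hc0 : (Ideal.Quotient.mk (Ideal.span {t ^ (n + 1)}) (t ^ n) : A' t n) ≠ 0 := by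
    intro h0
    rw [Ideal.Quotient.eq_zero_iff_mem, Ideal.mem_span_singleton'] at h0
    obtain ⟨x, hx⟩ := h0
    have h1 : t ^ n * (x * t - 1) = 0 := by linear_combination hx
    rcases mul_eq_zero.1 h1 with h2 | h2
    · exact pow_ne_zero n ht0 h2
    · have h3 : (1 : A) ∈ Ideal.span {t} := by
        rw [Ideal.mem_span_singleton']
        exact ⟨x, sub_eq_zero.1 h2⟩
      exact ht.ne_top ((Ideal.eq_top_iff_one _).2 h3)
  obtain ⟨lam, hlam⟩ := Module.Projective.exists_dual_eq_one k hc0
  have hdesc : ∀ (M : Type u) [AddCommGroup M] [Module (MvPolynomial (Fin r) (A' t n)) M],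
      (∀ j ∈ J, ∀ m : M, j • m = 0) →
      KillsFor k J (MvPolynomial.C (Ideal.Quotient.mk (Ideal.span {t ^ (n + 1)}) (t ^ n))) M := by
    intro M _ _ hM φ
    obtain ⟨D, hD, hDj⟩ := hT M hM φ
    refine ⟨D, hD.restrict, fun j => ?_⟩
    rw [hDj, MvPolynomial.algebraMap_apply]
    rfl
  have hfin := descend (RingHom.ker π₀.toRingHom) lam _ hlam hdesc
  -- conclude
  have hcot : KillsFor k Pres₀.toExtension.ker 1 Pres₀.toExtension.Cotangent := by
    refine @hfin Pres₀.toExtension.Cotangent _
      (inferInstanceAs (Module Pres₀.toExtension.Ring Pres₀.toExtension.Cotangent)) ?_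
    intro i hi m
    apply Extension.Cotangent.ext
    exact (Extension.Cotangent.val_smul' (P := Pres₀.toExtension) i m).trans
      (Extension.Cotangent.smul_eq_zero_of_mem (P := Pres₀.toExtension) i hi _)
  haveI : Algebra.FormallySmooth k Pres₀.toExtension.Ring :=
    inferInstanceAs (Algebra.FormallySmooth k (MvPolynomial (Fin r) k))
  haveI : Algebra.FormallySmooth k B₀ := formallySmooth_of_killsFor Pres₀.toExtension hcot
  exact hsing ⟨inferInstance, inferInstance⟩

end Main

end Groth.Agent.Helper2.RigidE
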