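import Mathlib
import Groth.Prelude.Def_W4sga3xxiRoot
set_option autoImplicit false
open Set RootPairing Module

namespace Groth.Agent.Helper2.RD
variable {ι M N : Type*} [AddCommGroup M] [AddCommGroup N] (P : RootPairing ι ℤ M N)

include P in
lemma torsionFreeM : IsAddTorsionFree M := by
  have : Module.IsReflexive ℤ M := .of_isPerfPair P.toLinearMap
  exact .of_isTorsionFree ℤ M

include P in
lemma torsionFreeN : IsAddTorsionFree N := by
  have : Module.IsReflexive ℤ N := .of_isPerfPair P.flip.toLinearMap
  exact .of_isTorsionFree ℤ N

lemma root_neg (i : ι) : P.root (P.reflectionPerm i i) = - P.root i := by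
  rw [P.root_reflectionPerm, P.reflection_apply_self]

lemma aut_pairing (u : P.Aut) (x : M) (i : ι) :
    P.toLinearMap (u • x) (P.coroot (u • i)) = P.toLinearMap x (P.coroot i) := by
  have h1 := Hom.weight_coweight_transpose_apply P P (P.coroot (u • i)) u.toHom
  have h2 := Hom.coroot_coweightMap_apply P P (u • i) u.toHom
  have h3 := LinearMap.congr_fun h1 x
  simp only [LinearMap.dualMap_apply] at h3
  rw [h2] at h3
  have h4 : u.toHom.indexEquiv.symm (u • i) = i := u.toHom.indexEquiv.symm_apply_apply i
  rw [h4] at h3
  exact h3

lemma aut_conj_reflection (u : P.Aut) (i : ι) :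
    u * Equiv.reflection P i * u⁻¹ = Equiv.reflection P (u • i) := by
  apply Equiv.weightHom_injective P
  ext x
  show (u * Equiv.reflection P i * u⁻¹) • x = Equiv.reflection P (u • i) • x
  rw [mul_smul, mul_smul, Equiv.reflection_smul, Equiv.reflection_smul, P.reflection_apply, P.reflection_apply,
    smul_sub, smul_inv_smul, smul_comm]
  congr 2
  · have := aut_pairing P u (u⁻¹ • x) i
    rw [smul_inv_smul] at this
    exact this.symm
  · exact (Equiv.root_indexEquiv_eq_smul P i u).symm

lemma reflection_eq_of_root_eq_smul [Finite ι] (i j : ι) (t : ℤ) (h : P.root i = t • P.root j) :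
    P.reflection i = P.reflection j := by
  have := torsionFreeN P
  have hc : t • P.coroot i = P.coroot j := smul_coroot_eq_of_root_eq_smul j i t h
  ext x
  rw [P.reflection_apply, P.reflection_apply, h]
  have : (P.coroot' j) x = t * (P.coroot' i) x := by
    simp only [coroot', ← hc, map_smul, LinearMap.smul_apply, smul_eq_mul]
  rw [this, smul_smul, mul_comm]

end Groth.Agent.Helper2.RD
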