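import Mathlib
import Groth.Prelude.Def_W4sga3xxiRoot
import Groth.Agent.Helper2.RootD
set_option autoImplicit false
open Set RootPairing Module RootD

namespace Groth.Agent.Helper2.RD1
variable {ι M N : Type*} [AddCommGroup M] [AddCommGroup N] (P : RootPairing ι ℤ M N)

lemma pairingIn_eq (i j : ι) : P.pairingIn ℤ i j = P.pairing i j := by
  have := P.algebraMap_pairingIn ℤ i j
  simpa using this

lemma pairing_pos_iff [Finite ι] (i j : ι) : 0 < P.pairing i j ↔ 0 < P.pairing j i := by
  have := P.zero_lt_pairingIn_iff' ℤ (i := i) (j := j)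
  rwa [pairingIn_eq, pairingIn_eq] at this

lemma pairing_neg_iff [Finite ι] (i j : ι) : P.pairing i j < 0 ↔ P.pairing j i < 0 := by
  have := P.pairingIn_lt_zero_iff ℤ (i := i) (j := j)
  rwa [pairingIn_eq, pairingIn_eq] at this

lemma root_sub_mem [Finite ι] {i j : ι} (h : 0 < P.pairing i j) (hne : i ≠ j) :
    ∃ k, P.root k = P.root i - P.root j := by
  have := P.root_sub_root_mem_of_pairingIn_pos (i := i) (j := j) (by rwa [pairingIn_eq]) hne
  exact this

lemma root_add_mem [Finite ι] {i j : ι} (h : P.pairing i j < 0) (hne : P.root i ≠ - P.root j) :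
    ∃ k, P.root k = P.root i + P.root j := by
  have := P.root_add_root_mem_of_pairingIn_neg (i := i) (j := j) (by rwa [pairingIn_eq]) hne
  exact this

/-- membership in `natSpan` via multisets of indices -/
lemma mem_natSpan_iff {S : Set ι} {x : M} :
    x ∈ natSpan P S ↔ ∃ l : Multiset ι, (∀ a ∈ l, a ∈ S) ∧ (l.map P.root).sum = x := by
  constructor
  · intro hx
    refine AddSubmonoid.closure_induction ?_ ?_ ?_ hx
    · rintro _ ⟨i, hi, rfl⟩
      exact ⟨{i}, by simpa using hi, by simp⟩
    · exact ⟨0, by simp, by simp⟩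
    · rintro a b _ _ ⟨l1, h1, rfl⟩ ⟨l2, h2, rfl⟩
      refine ⟨l1 + l2, ?_, by simp⟩
      intro a ha
      rcases Multiset.mem_add.mp ha with h | h
      · exact h1 a h
      · exact h2 a h
  · rintro ⟨l, hl, rfl⟩
    refine AddSubmonoid.multiset_sum_mem _ _ ?_
    intro y hy
    obtain ⟨a, ha, rfl⟩ := Multiset.mem_map.mp hy
    exact AddSubmonoid.subset_closure ⟨a, hl a ha, rfl⟩

lemma natSpan_mono {S T : Set ι} (h : S ⊆ T) : natSpan P S ≤ natSpan P T :=
  AddSubmonoid.closure_mono (Set.image_mono h)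

lemma root_mem_natSpan {S : Set ι} {i : ι} (h : i ∈ S) : P.root i ∈ natSpan P S :=
  AddSubmonoid.subset_closure ⟨i, h, rfl⟩

/-- key lemma: a root which is a positive rational combination of other roots -/
lemma exists_sub_of_sum [Finite ι] (l : Multiset ι) (k : ι) (n : ℕ) (hn : 0 < n)
    (hk : n • P.root k = (l.map P.root).sum) (hne : k ∉ l) :
    ∃ a ∈ l, 0 < P.pairing a k ∧ ∃ j, P.root j = P.root k - P.root a := by
  have h1 : (n : ℤ) * 2 = (l.map (fun a => P.pairing a k)).sum := by
    have := congrArg (P.coroot' k) hk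
    rw [map_nsmul, map_multiset_sum, Multiset.map_map] at this
    simp only [root_coroot'_eq_pairing, pairing_same, Function.comp_def] at this
    rw [← this]; simp
  by_contra hcon
  push Not at hcon
  have h2 : ∀ a ∈ l, P.pairing a k ≤ 0 := by
    intro a ha
    by_contra hpos
    push Not at hpos
    have hak : a ≠ k := by rintro rfl; exact hne ha
    have hpos' : 0 < P.pairing k a := (pairing_pos_iff P a k).mp hpos
    obtain ⟨j, hj⟩ := root_sub_mem P hpos' (Ne.symm hak)
    exact hcon a ha hpos j hj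
  have h3 : (l.map (fun a => P.pairing a k)).sum ≤ 0 := by
    have := Multiset.sum_le_card_nsmul (l.map (fun a => P.pairing a k)) 0 (by
      intro x hx
      obtain ⟨a, ha, rfl⟩ := Multiset.mem_map.mp hx
      exact h2 a ha)
    simpa using this
  have : (0 : ℤ) < (n : ℤ) * 2 := by positivity
  omega

/-- a closed set contains every root in its `natSpan` -/
lemma mem_of_closed_of_mem_natSpan [Finite ι] {S : Set ι} (hcl : IsClosedSub P S) (k : ι)
    (hk : P.root k ∈ natSpan P S) : k ∈ S := by
  classical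
  obtain ⟨l, hl, hsum⟩ := (mem_natSpan_iff P).mp hk
  induction' hn : Multiset.card l using Nat.strong_induction_on with n ih generalizing l k
  by_cases hkl : k ∈ l
  · exact hl k hkl
  obtain ⟨a, ha, -, j, hj⟩ := exists_sub_of_sum P l k 1 one_pos (by rw [one_smul]; exact hsum.symm) hkl
  have hsum' : ((l.erase a).map P.root).sum = P.root j := by
    have := Multiset.sum_map_erase (f := ⇑P.root) ha
    rw [hj, ← hsum, ← this]; abel
  have hj' : j ∈ S := by
    refine ih (Multiset.card (l.erase a)) ?_ j ?_ (l.erase a) ?_ hsum' rfl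
    · rw [← hn]; exact Multiset.card_erase_lt_of_mem ha
    · exact (mem_natSpan_iff P).mpr ⟨l.erase a, fun b hb => hl b (Multiset.mem_of_mem_erase hb), hsum'⟩
    · exact fun b hb => hl b (Multiset.mem_of_mem_erase hb)
  exact hcl hj' (hl a ha) (by rw [hj]; abel)

/-- in a closed set with (P1), no nonempty sum of roots vanishes -/
lemma sum_ne_zero_of_closed [Finite ι] {S : Set ι} (hcl : IsClosedSub P S)
    (h1 : ∀ i ∈ S, P.reflectionPerm i i ∉ S) (l : Multiset ι) (hl : ∀ a ∈ l, a ∈ S)
    (hne : l ≠ 0) : (l.map P.root).sum ≠ 0 := by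
  classical
  intro hsum
  obtain ⟨a, ha⟩ := Multiset.exists_mem_of_ne_zero hne
  have h2 := Multiset.sum_map_erase (f := ⇑P.root) ha
  rw [hsum] at h2
  have h3 : P.root (P.reflectionPerm a a) = ((l.erase a).map P.root).sum := by
    rw [RD.root_neg]; exact (eq_neg_of_add_eq_zero_right h2).symm
  have h4 : P.reflectionPerm a a ∈ S := by
    apply mem_of_closed_of_mem_natSpan P hcl
    rw [h3]
    exact (mem_natSpan_iff P).mpr ⟨l.erase a, fun b hb => hl b (Multiset.mem_of_mem_erase hb), rfl⟩
  exact h1 a (hl a ha) h4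

lemma isClosedSub_of_isPosSys {S : Set ι} (h : IsPosSys P S) : IsClosedSub P S := by
  intro i j k hi hj hk
  apply h.sat 1 one_pos
  rw [one_smul, hk]
  exact add_mem (root_mem_natSpan P hi) (root_mem_natSpan P hj)

lemma reflectionPerm_self_self (i : ι) : P.reflectionPerm (P.reflectionPerm i i) (P.reflectionPerm i i) = i := by
  apply P.root.injective
  rw [RD.root_neg, RD.root_neg, neg_neg]

lemma pairing_neg_left (i j : ι) : P.pairing (P.reflectionPerm i i) j = - P.pairing i j := by
  rw [← root_coroot'_eq_pairing, RD.root_neg, map_neg, root_coroot'_eq_pairing]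

lemma pairing_eq_zero_iff [Finite ι] (i j : ι) : P.pairing i j = 0 ↔ P.pairing j i = 0 :=
  P.pairing_eq_zero_iff' (i := i) (j := j)

lemma not_isOrthogonal_iff [Finite ι] (i j : ι) : ¬ P.IsOrthogonal i j ↔ P.pairing i j ≠ 0 := by
  unfold RootPairing.IsOrthogonal
  rw [pairing_eq_zero_iff P j i, and_self]

lemma not_isOrthogonal_symm [Finite ι] {i j : ι} (h : ¬ P.IsOrthogonal i j) : ¬ P.IsOrthogonal j i := by
  rw [not_isOrthogonal_iff] at h ⊢
  rwa [Ne, pairing_eq_zero_iff P j i]

/-- for a partition into closed symmetric parts, `i`, `j`, `i+j` lie in the same part -/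
lemma same_part [Finite ι] (R' : Set ι) (hc : RootD.IsClosedSub P R')
    (hs : RootD.IsSymmSub P R') (hc' : RootD.IsClosedSub P R'ᶜ) (hs' : RootD.IsSymmSub P R'ᶜ)
    (i j k : ι) (h : P.root k = P.root i + P.root j) : (i ∈ R' ↔ j ∈ R') ∧ (i ∈ R' ↔ k ∈ R') := by
  have hj : P.root j = P.root k + P.root (P.reflectionPerm i i) := by
    rw [RD.root_neg, h]; abel
  have hi : P.root i = P.root k + P.root (P.reflectionPerm j j) := by
    rw [RD.root_neg, h]; abel
  by_cases hi' : i ∈ R' <;> by_cases hj' : j ∈ R'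
  · have := hc hi' hj' h
    tauto
  · exfalso
    by_cases hk : k ∈ R'
    · exact hj' (hc hk (hs hi') hj)
    · exact (hc' hk (hs' hj') hi) hi'
  · exfalso
    by_cases hk : k ∈ R'
    · exact hi' (hc hk (hs hj') hi)
    · exact (hc' hk (hs' hi') hj) hj'
  · have := hc' hi' hj' h
    simp only [mem_compl_iff] at this
    tauto

end Groth.Agent.Helper2.RD1
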