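import Mathlib
import Groth.Prelude.Def_W4sga3xxiRoot
import Groth.Agent.Helper2.RootD1
set_option autoImplicit false
open Set RootPairing Module RootD

namespace Groth.Agent.Helper2.RD2
variable {ι M N : Type*} [AddCommGroup M] [AddCommGroup N] (P : RootPairing ι ℤ M N)

/-- abbreviation for the linear combination map -/
noncomputable abbrev LC : (ι →₀ ℤ) →ₗ[ℤ] M := Finsupp.linearCombination ℤ P.root

lemma lc_mem_natSpan {S : Set ι} (c : ι →₀ ℤ) (hc : ↑c.support ⊆ S) (h0 : ∀ a, 0 ≤ c a) :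
    LC P c ∈ natSpan P S := by
  rw [LC, Finsupp.linearCombination_apply, Finsupp.sum]
  refine AddSubmonoid.sum_mem _ ?_
  intro a ha
  have : c a • P.root a = (c a).toNat • P.root a := by
    rw [← natCast_zsmul, Int.toNat_of_nonneg (h0 a)]
  rw [this]
  exact AddSubmonoid.nsmul_mem _ (RD1.root_mem_natSpan P (hc ha)) _

lemma exists_lc_of_mem_natSpan {S : Set ι} {x : M} (hx : x ∈ natSpan P S) :
    ∃ c : ι →₀ ℤ, ↑c.support ⊆ S ∧ (∀ a, 0 ≤ c a) ∧ LC P c = x := by
  classical
  refine AddSubmonoid.closure_induction ?_ ?_ ?_ hx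
  · rintro _ ⟨i, hi, rfl⟩
    refine ⟨Finsupp.single i 1, ?_, ?_, by simp [LC]⟩
    · intro a ha
      have := Finsupp.support_single_subset ha
      simp only [Finset.mem_singleton] at this
      rw [this]; exact hi
    · intro a
      rw [Finsupp.single_apply]; split_ifs <;> norm_num
  · exact ⟨0, by simp, by simp, by simp⟩
  · rintro a b _ _ ⟨c1, h1, h1', rfl⟩ ⟨c2, h2, h2', rfl⟩
    refine ⟨c1 + c2, ?_, ?_, by simp⟩
    · intro a ha
      have := Finsupp.support_add ha
      rcases Finset.mem_union.mp this with h | h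
      · exact h1 h
      · exact h2 h
    · intro a
      rw [Finsupp.add_apply]; exact add_nonneg (h1' a) (h2' a)

lemma mem_natSpan_iff_lc {S : Set ι} {x : M} :
    x ∈ natSpan P S ↔ ∃ c : ι →₀ ℤ, ↑c.support ⊆ S ∧ (∀ a, 0 ≤ c a) ∧ LC P c = x :=
  ⟨exists_lc_of_mem_natSpan P, fun ⟨c, h1, h2, h3⟩ => h3 ▸ lc_mem_natSpan P c h1 h2⟩

lemma lc_unique {Δ : Set ι} (hli : LinearIndepOn ℤ P.root Δ) {c c' : ι →₀ ℤ}
    (hc : ↑c.support ⊆ Δ) (hc' : ↑c'.support ⊆ Δ) (h : LC P c = LC P c') : c = c' :=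
  linearIndepOn_iffₛ.mp hli c ((Finsupp.mem_supported _ _).mpr hc) c' ((Finsupp.mem_supported _ _).mpr hc') h

variable {P} {Δ : Set ι} (hΔ : IsSimpleSys P Δ)

include hΔ in
lemma exists_coef (k : ι) : ∃ c : ι →₀ ℤ, ↑c.support ⊆ Δ ∧ LC P c = P.root k ∧
    ((∀ a, 0 ≤ c a) ∨ (∀ a, c a ≤ 0)) := by
  rcases hΔ.mem_or_neg_mem k with h | h
  · obtain ⟨c, h1, h2, h3⟩ := exists_lc_of_mem_natSpan P h
    exact ⟨c, h1, h3, Or.inl h2⟩
  · obtain ⟨c, h1, h2, h3⟩ := exists_lc_of_mem_natSpan P h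
    refine ⟨-c, by simpa using h1, by simp [h3], Or.inr ?_⟩
    intro a; simpa using h2 a

/-- the coefficient vector of the root `k` along the simple system -/
noncomputable def coef (k : ι) : ι →₀ ℤ := Classical.choose (exists_coef hΔ k)

lemma coef_supp (k : ι) : ↑(coef hΔ k).support ⊆ Δ := (Classical.choose_spec (exists_coef hΔ k)).1
lemma coef_lc (k : ι) : LC P (coef hΔ k) = P.root k := (Classical.choose_spec (exists_coef hΔ k)).2.1
lemma coef_sign (k : ι) : (∀ a, 0 ≤ coef hΔ k a) ∨ (∀ a, coef hΔ k a ≤ 0) :=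
  (Classical.choose_spec (exists_coef hΔ k)).2.2

lemma coef_unique {k : ι} {c : ι →₀ ℤ} (hc : ↑c.support ⊆ Δ) (h : LC P c = P.root k) :
    c = coef hΔ k :=
  lc_unique P hΔ.linInd hc (coef_supp hΔ k) (h.trans (coef_lc hΔ k).symm)

lemma coef_ne_zero (k : ι) : coef hΔ k ≠ 0 := by
  intro h
  have := coef_lc hΔ k
  rw [h, map_zero] at this
  exact P.ne_zero k this.symm

lemma coef_eq_zero_of_notMem (k : ι) {a : ι} (ha : a ∉ Δ) : coef hΔ k a = 0 := by
  by_contra h
  exact ha (coef_supp hΔ k (Finsupp.mem_support_iff.mpr h))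

lemma mem_posOf_iff (k : ι) : k ∈ posOf P Δ ↔ ∀ a, 0 ≤ coef hΔ k a := by
  constructor
  · intro hk
    obtain ⟨c, h1, h2, h3⟩ := exists_lc_of_mem_natSpan P hk
    rw [← coef_unique hΔ h1 h3]; exact h2
  · intro h
    show P.root k ∈ natSpan P Δ
    rw [← coef_lc hΔ k]
    exact lc_mem_natSpan P _ (coef_supp hΔ k) h

lemma neg_mem_natSpan_iff (k : ι) : -P.root k ∈ natSpan P Δ ↔ ∀ a, coef hΔ k a ≤ 0 := by
  constructor
  · intro hk
    obtain ⟨c, h1, h2, h3⟩ := exists_lc_of_mem_natSpan P hk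
    have : -c = coef hΔ k := coef_unique hΔ (by simpa using h1) (by simp [h3])
    rw [← this]; intro a; simpa using h2 a
  · intro h
    have : -P.root k = LC P (-coef hΔ k) := by rw [map_neg, coef_lc]
    rw [this]
    exact lc_mem_natSpan P _ (by simpa using coef_supp hΔ k) (by intro a; simpa using h a)

lemma exists_pos_of_mem_posOf {k : ι} (hk : k ∈ posOf P Δ) : ∃ a ∈ Δ, 0 < coef hΔ k a := by
  have h0 := (mem_posOf_iff hΔ k).mp hk
  obtain ⟨a, ha⟩ := Finsupp.ne_iff.mp (coef_ne_zero hΔ k)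
  refine ⟨a, ?_, lt_of_le_of_ne (h0 a) (Ne.symm ha)⟩
  by_contra haΔ
  exact ha (coef_eq_zero_of_notMem hΔ k haΔ)

lemma mem_posOf_of_coef_pos {k a : ι} (h : 0 < coef hΔ k a) : k ∈ posOf P Δ := by
  rw [mem_posOf_iff hΔ]
  rcases coef_sign hΔ k with h' | h'
  · exact h'
  · exact absurd (h' a) (not_le.mpr h)

lemma notMem_posOf_iff (k : ι) : k ∉ posOf P Δ ↔ ∀ a, coef hΔ k a ≤ 0 := by
  constructor
  · intro hk
    rcases coef_sign hΔ k with h' | h'
    · exact absurd ((mem_posOf_iff hΔ k).mpr h') hk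
    · exact h'
  · intro h hk
    obtain ⟨a, -, ha⟩ := exists_pos_of_mem_posOf hΔ hk
    exact absurd (h a) (not_le.mpr ha)

lemma coef_simple {a : ι} (ha : a ∈ Δ) : coef hΔ a = Finsupp.single a 1 := by
  classical
  symm
  apply coef_unique
  · intro b hb
    have := Finsupp.support_single_subset hb
    simp only [Finset.mem_singleton] at this
    rw [this]; exact ha
  · simp [LC]

lemma coef_neg (k : ι) : coef hΔ (P.reflectionPerm k k) = - coef hΔ k := by
  symm
  apply coef_unique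
  · simpa using coef_supp hΔ k
  · rw [map_neg, coef_lc, RD.root_neg]

lemma coef_add {i j k : ι} (h : P.root k = P.root i + P.root j) :
    coef hΔ k = coef hΔ i + coef hΔ j := by
  classical
  symm
  apply coef_unique
  · intro a ha
    rcases Finset.mem_union.mp (Finsupp.support_add ha) with h | h
    · exact coef_supp hΔ i h
    · exact coef_supp hΔ j h
  · rw [map_add, coef_lc, coef_lc, h]

lemma coef_reflection {i : ι} (hi : i ∈ Δ) (k : ι) :
    coef hΔ (P.reflectionPerm i k) = coef hΔ k - Finsupp.single i (P.pairing k i) := by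
  classical
  symm
  apply coef_unique
  · intro a ha
    rcases Finset.mem_union.mp (Finsupp.support_sub ha) with h | h
    · exact coef_supp hΔ k h
    · have := Finsupp.support_single_subset h
      simp only [Finset.mem_singleton] at this
      rw [this]; exact hi
  · rw [map_sub, coef_lc, P.root_reflectionPerm, P.reflection_apply_root]
    simp [LC]

lemma natSpan_posOf_le (P : RootPairing ι ℤ M N) (Δ : Set ι) : natSpan P (posOf P Δ) ≤ natSpan P Δ := by
  apply AddSubmonoid.closure_le.mpr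
  rintro _ ⟨k, hk, rfl⟩
  exact hk

include hΔ in
lemma posOf_isPosSys : IsPosSys P (posOf P Δ) := by
  refine ⟨?_, ?_, ?_⟩
  · intro i hi hi'
    rw [mem_posOf_iff hΔ] at hi hi'
    rw [coef_neg] at hi'
    apply coef_ne_zero hΔ i
    ext a
    have h1 := hi a
    have h2 := hi' a
    simp only [Finsupp.coe_neg, Pi.neg_apply, Left.nonneg_neg_iff] at h2
    simp only [Finsupp.coe_zero, Pi.zero_apply]
    omega
  · intro i
    rcases coef_sign hΔ i with h | h
    · exact Or.inl ((mem_posOf_iff hΔ i).mpr h)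
    · right
      rw [mem_posOf_iff hΔ, coef_neg]
      intro a
      simpa using h a
  · intro k n hn hmem
    obtain ⟨c, h1, h2, h3⟩ := exists_lc_of_mem_natSpan P (natSpan_posOf_le P Δ hmem)
    have h4 : c = (n : ℤ) • coef hΔ k := by
      apply lc_unique P hΔ.linInd h1
      · intro a ha
        apply coef_supp hΔ k
        simp only [Finset.mem_coe, Finsupp.mem_support_iff, Finsupp.coe_smul, Pi.smul_apply, smul_eq_mul, ne_eq,
          mul_eq_zero, not_or] at ha ⊢
        exact ha.2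
      · rw [h3, map_smul, coef_lc, natCast_zsmul]
    rw [mem_posOf_iff hΔ]
    intro a
    have := h2 a
    rw [h4] at this
    simp only [Finsupp.coe_smul, Pi.smul_apply, smul_eq_mul] at this
    have hn' : (0 : ℤ) < n := by exact_mod_cast hn
    exact nonneg_of_mul_nonneg_right this hn'

lemma subset_posOf : Δ ⊆ posOf P Δ := fun _ ha => RD1.root_mem_natSpan P ha

/-- two positive systems, one included in the other, are equal -/
lemma posSys_eq_of_subset {S S' : Set ι} (hS : IsPosSys P S) (hS' : IsPosSys P S') (h : S ⊆ S') :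
    S = S' := by
  apply Set.Subset.antisymm h
  intro k hk
  by_contra hk'
  have := (hS.cover k).resolve_left hk'
  exact hS'.disjoint hk (h this)


lemma sum_coef_mul_pairing (k j : ι) :
    (coef hΔ k).sum (fun a z => z * P.pairing a j) = P.pairing k j := by
  have := congrArg (P.coroot' j) (coef_lc hΔ k)
  rw [LC, Finsupp.linearCombination_apply, map_finsuppSum] at this
  simpa [root_coroot'_eq_pairing] using this

lemma exists_coef_pos_pairing_pos [Finite ι] {k : ι} (hk : k ∈ posOf P Δ) :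
    ∃ a ∈ Δ, 0 < coef hΔ k a ∧ 0 < P.pairing a k := by
  have h1 := sum_coef_mul_pairing hΔ k k
  rw [pairing_same] at h1
  have h0 := (mem_posOf_iff hΔ k).mp hk
  by_contra hcon
  push Not at hcon
  have : (coef hΔ k).sum (fun a z => z * P.pairing a k) ≤ 0 := by
    apply Finset.sum_nonpos
    intro a ha
    have haΔ : a ∈ Δ := coef_supp hΔ k ha
    have hpos : 0 < coef hΔ k a := lt_of_le_of_ne (h0 a) (Ne.symm (Finsupp.mem_support_iff.mp ha))
    exact mul_nonpos_of_nonneg_of_nonpos (h0 a) (hcon a haΔ hpos)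
  omega

lemma reflection_mem_posOf {i k a : ι} (hi : i ∈ Δ) (hk : k ∈ posOf P Δ) (ha : a ≠ i)
    (hka : coef hΔ k a ≠ 0) : P.reflectionPerm i k ∈ posOf P Δ := by
  apply mem_posOf_of_coef_pos hΔ (a := a)
  rw [coef_reflection hΔ hi, Finsupp.sub_apply, Finsupp.single_eq_of_ne ha, sub_zero]
  exact lt_of_le_of_ne ((mem_posOf_iff hΔ k).mp hk a) (Ne.symm hka)

lemma coef_eq_single_of_forall {i k : ι} (h : ∀ a, a ≠ i → coef hΔ k a = 0) :
    coef hΔ k = Finsupp.single i (coef hΔ k i) := by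
  ext a
  by_cases ha : a = i
  · rw [ha, Finsupp.single_eq_same]
  · rw [h a ha, Finsupp.single_eq_of_ne ha]

lemma root_eq_smul_of_forall {i k : ι} (h : ∀ a, a ≠ i → coef hΔ k a = 0) :
    P.root k = coef hΔ k i • P.root i := by
  have := coef_lc hΔ k
  rw [coef_eq_single_of_forall hΔ h] at this
  rw [← this]
  simp [LC]

lemma exists_simple_sub [Finite ι] {k : ι} (hk : k ∈ posOf P Δ) (hkΔ : k ∉ Δ) :
    ∃ a ∈ Δ, 0 < coef hΔ k a ∧ 0 < P.pairing k a ∧ ∃ j ∈ posOf P Δ, P.root k = P.root j + P.root a := by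
  obtain ⟨a, haΔ, hca, hpa⟩ := exists_coef_pos_pairing_pos hΔ hk
  have hpa' : 0 < P.pairing k a := (RD1.pairing_pos_iff P a k).mp hpa
  have hne : k ≠ a := by rintro rfl; exact hkΔ haΔ
  obtain ⟨j, hj⟩ := RD1.root_sub_mem P hpa' hne
  have hj' : P.root k = P.root j + P.root a := by rw [hj]; abel
  refine ⟨a, haΔ, hca, hpa', j, ?_, hj'⟩
  rw [mem_posOf_iff hΔ]
  intro b
  have h1 := coef_add hΔ hj'
  rw [coef_simple hΔ haΔ] at h1
  have h2 := DFunLike.congr_fun h1 b
  rw [Finsupp.add_apply] at h2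
  have h0 := (mem_posOf_iff hΔ k).mp hk b
  by_cases hb : b = a
  · subst hb
    rw [Finsupp.single_eq_same] at h2
    omega
  · rw [Finsupp.single_eq_of_ne hb] at h2
    omega



lemma reflection_smul_idx (i k : ι) : (Equiv.reflection P i) • k = P.reflectionPerm i k := rfl

lemma lc_mem_span {S : Set ι} (c : ι →₀ ℤ) (hc : ↑c.support ⊆ S) :
    LC P c ∈ Submodule.span ℤ (P.root '' S) := by
  rw [LC, Finsupp.linearCombination_apply, Finsupp.sum]
  refine Submodule.sum_mem _ ?_
  intro a ha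
  exact Submodule.smul_mem _ _ (Submodule.subset_span ⟨a, hc ha, rfl⟩)

lemma exists_notMem_of_notMem_inSpan {Δ' : Set ι} {k : ι} (hk : k ∉ inSpan P Δ') :
    ∃ a, a ∉ Δ' ∧ coef hΔ k a ≠ 0 := by
  by_contra hcon
  push Not at hcon
  apply hk
  show P.root k ∈ Submodule.span ℤ (P.root '' Δ')
  rw [← coef_lc hΔ k]
  apply lc_mem_span
  intro a ha
  by_contra haΔ
  exact (Finsupp.mem_support_iff.mp ha) (hcon a haΔ)

lemma reflection_mem_inSpan_iff {Δ' : Set ι} {i : ι} (hi : i ∈ Δ') (k : ι) :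
    P.reflectionPerm i k ∈ inSpan P Δ' ↔ k ∈ inSpan P Δ' := by
  have hi' : P.root i ∈ Submodule.span ℤ (P.root '' Δ') := Submodule.subset_span ⟨i, hi, rfl⟩
  show P.root (P.reflectionPerm i k) ∈ Submodule.span ℤ (P.root '' Δ') ↔ P.root k ∈ Submodule.span ℤ (P.root '' Δ')
  rw [P.root_reflectionPerm, P.reflection_apply_root]
  constructor
  · intro h
    have := Submodule.add_mem _ h (Submodule.smul_mem _ (P.pairing k i) hi')
    simpa using this
  · intro h
    exact Submodule.sub_mem _ h (Submodule.smul_mem _ _ hi')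


end Groth.Agent.Helper2.RD2
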