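import Mathlib
import Groth.Prelude.Def_W4sga3xxiRoot
import Groth.Agent.Helper2.RootD2
set_option autoImplicit false
open Set RootPairing Module RootD
open scoped Pointwise

namespace Groth.Agent.Helper2.RD3
variable {ι M N : Type*} [AddCommGroup M] [AddCommGroup N] (P : RootPairing ι ℤ M N)

/-- a coweight which is not orthogonal to any root -/
lemma exists_generic [Finite ι] : ∃ x : N, ∀ i, P.root' i x ≠ 0 := by
  classical
  have : Fintype ι := Fintype.ofFinite ι
  suffices h : ∀ s : Finset ι, ∃ x : N, ∀ i ∈ s, P.root' i x ≠ 0 by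
    obtain ⟨x, hx⟩ := h Finset.univ
    exact ⟨x, fun i => hx i (Finset.mem_univ i)⟩
  intro s
  induction s using Finset.induction_on with
  | empty => exact ⟨0, by simp⟩
  | insert j s hj ih =>
    obtain ⟨x, hx⟩ := ih
    set y := P.coroot j with hy
    set t : ℤ := 1 + ∑ i ∈ insert j s, |P.root' i y| with ht
    refine ⟨t • x + y, ?_⟩
    intro i hi
    rw [map_add, map_smul, smul_eq_mul]
    have hb : |P.root' i y| < t := by
      have := Finset.single_le_sum (f := fun i => |P.root' i y|) (fun i _ => abs_nonneg _) hi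
      omega
    have ht0 : 0 < t := lt_of_le_of_lt (abs_nonneg _) hb
    by_cases ha : P.root' i x = 0
    · rw [ha, mul_zero, zero_add]
      have : i = j := by
        rcases Finset.mem_insert.mp hi with h | h
        · exact h
        · exact absurd ha (hx i h)
      rw [this, hy]
      simp
    · intro h0
      have h1 : t * P.root' i x = - P.root' i y := by omega
      have h2 : |t * P.root' i x| = |P.root' i y| := by rw [h1, abs_neg]
      rw [abs_mul, abs_of_pos ht0] at h2
      have h3 : 1 ≤ |P.root' i x| := Int.one_le_abs ha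
      nlinarith

lemma exists_simpleSys [Finite ι] : ∃ Δ : Set ι, IsSimpleSys P Δ := by
  obtain ⟨x, hx⟩ := exists_generic P
  let f : Module.Dual ℤ M := P.toLinearMap.flip x
  have hf : ∀ i, f (P.root i) ≠ 0 := fun i => hx i
  let _i := P.indexNeg
  refine ⟨IsAddIndecomposable.baseOf P.root (f : M →+ ℤ), ?_, ?_⟩
  · exact P.linearIndepOn_root_baseOf' f hf
  · intro i
    exact IsAddIndecomposable.mem_or_neg_mem_closure_baseOf P.root (f : M →+ ℤ) i (hf i) (by simp)

lemma root_smul (g : P.Aut) (i : ι) : P.root (g • i) = g • P.root i :=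
  Equiv.root_indexEquiv_eq_smul P i g

lemma neg_smul_idx (g : P.Aut) (i : ι) :
    P.reflectionPerm (g • i) (g • i) = g • (P.reflectionPerm i i) := by
  apply P.root.injective
  rw [RD.root_neg, root_smul, root_smul, RD.root_neg, smul_neg]

lemma smul_mem_natSpan (g : P.Aut) {S : Set ι} {x : M} (hx : x ∈ natSpan P S) :
    g • x ∈ natSpan P (g • S) := by
  refine AddSubmonoid.closure_induction ?_ ?_ ?_ hx
  · rintro _ ⟨i, hi, rfl⟩
    rw [← root_smul]
    exact RD1.root_mem_natSpan P (Set.smul_mem_smul_set hi)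
  · rw [smul_zero]; exact zero_mem _
  · intro a b _ _ ha hb
    rw [smul_add]; exact add_mem ha hb

lemma smul_mem_natSpan_iff (g : P.Aut) {S : Set ι} {x : M} :
    g • x ∈ natSpan P (g • S) ↔ x ∈ natSpan P S := by
  refine ⟨fun h => ?_, smul_mem_natSpan P g⟩
  have := smul_mem_natSpan P g⁻¹ h
  rwa [inv_smul_smul, inv_smul_smul] at this

lemma posOf_smul (g : P.Aut) (Δ : Set ι) : posOf P (g • Δ) = g • posOf P Δ := by
  ext k
  rw [Set.mem_smul_set_iff_inv_smul_mem]
  show P.root k ∈ natSpan P (g • Δ) ↔ P.root (g⁻¹ • k) ∈ natSpan P Δ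
  rw [root_smul]
  conv_rhs => rw [← smul_mem_natSpan_iff P g, smul_inv_smul]

lemma simpleSys_smul (g : P.Aut) {Δ : Set ι} (hΔ : IsSimpleSys P Δ) : IsSimpleSys P (g • Δ) := by
  refine ⟨?_, ?_⟩
  · rw [← Set.image_smul]
    apply LinearIndepOn.image_of_comp
    have : (P.root ∘ fun i => g • i) = (Equiv.weightHom P g).toLinearMap ∘ P.root := by
      funext i
      exact root_smul P g i
    rw [this]
    apply hΔ.linInd.map_injOn
    exact (Equiv.weightHom P g).injective.injOn
  · intro k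
    rcases hΔ.mem_or_neg_mem (g⁻¹ • k) with h | h
    · left
      have := smul_mem_natSpan P g h
      rwa [← root_smul, smul_inv_smul] at this
    · right
      have := smul_mem_natSpan P g h
      rwa [smul_neg, ← root_smul, smul_inv_smul] at this

lemma posSys_smul (g : P.Aut) {S : Set ι} (hS : IsPosSys P S) : IsPosSys P (g • S) := by
  refine ⟨?_, ?_, ?_⟩
  · intro i hi hi'
    rw [Set.mem_smul_set_iff_inv_smul_mem] at hi hi'
    have h1 : g⁻¹ • P.reflectionPerm i i = P.reflectionPerm (g⁻¹ • i) (g⁻¹ • i) := (neg_smul_idx P g⁻¹ i).symm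
    rw [h1] at hi'
    exact hS.disjoint hi hi'
  · intro i
    rw [Set.mem_smul_set_iff_inv_smul_mem, Set.mem_smul_set_iff_inv_smul_mem]
    have h1 : g⁻¹ • P.reflectionPerm i i = P.reflectionPerm (g⁻¹ • i) (g⁻¹ • i) := (neg_smul_idx P g⁻¹ i).symm
    rw [h1]
    exact hS.cover _
  · intro k n hn hmem
    rw [Set.mem_smul_set_iff_inv_smul_mem]
    apply hS.sat n hn
    have := smul_mem_natSpan P g⁻¹ hmem
    rwa [inv_smul_smul, smul_comm, ← root_smul] at this

end Groth.Agent.Helper2.RD3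

namespace Groth.Agent.Helper2.RD3
variable {ι M N : Type*} [AddCommGroup M] [AddCommGroup N] (P : RootPairing ι ℤ M N)

lemma reflection_smul_set (i : ι) (S : Set ι) :
    Equiv.reflection P i • (Equiv.reflection P i • S) = S := by
  rw [← mul_smul]
  have : Equiv.reflection P i * Equiv.reflection P i = 1 := by
    have := Equiv.reflection_inv P i
    nth_rewrite 1 [← this]
    exact inv_mul_cancel _
  rw [this, one_smul]

/-- Lemma T: a closed set satisfying (P2) contains a Weyl conjugate of `posOf Δ`.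
The element is taken in the subgroup generated by all reflections (= the Weyl group). -/
lemma exists_weyl_subset [Finite ι] (P' : Set ι) (hP2 : ∀ i : ι, i ∈ P' ∨ P.reflectionPerm i i ∈ P')
    (hcl : IsClosedSub P P') :
    ∀ (n : ℕ) (Δ : Set ι), IsSimpleSys P Δ → (posOf P Δ \ P').ncard = n →
      ∃ g : P.Aut, g ∈ P.weylGroup ∧ g • posOf P Δ ⊆ P' := by
  intro n
  induction n using Nat.strong_induction_on with
  | _ n ih =>
  intro Δ hΔ hn
  by_cases hsub : Δ ⊆ P'
  · refine ⟨1, one_mem _, ?_⟩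
    rw [one_smul]
    intro k hk
    exact RD1.mem_of_closed_of_mem_natSpan P hcl k (RD1.natSpan_mono P hsub hk)
  · obtain ⟨α, hαΔ, hαP⟩ := Set.not_subset.mp hsub
    set s := Equiv.reflection P α with hs
    have hnegα : P.reflectionPerm α α ∈ P' := (hP2 α).resolve_left hαP
    have hΔ₁ : IsSimpleSys P (s • Δ) := simpleSys_smul P s hΔ
    have hss : posOf P (s • Δ) \ P' ⊆ (posOf P Δ \ P') \ {α} := by
      rintro k ⟨hk1, hk2⟩
      rw [posOf_smul, Set.mem_smul_set_iff_inv_smul_mem, hs, Equiv.reflection_inv] at hk1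
      set j := Equiv.reflection P α • k with hj
      have hkj : k = P.reflectionPerm α j := by
        rw [hj]; exact (P.reflectionPerm_self α k).symm
      by_cases h : ∀ a, a ≠ α → RD2.coef hΔ j a = 0
      · exfalso
        have h1 := RD2.root_eq_smul_of_forall hΔ h
        have hc0 : 0 ≤ RD2.coef hΔ j α := (RD2.mem_posOf_iff hΔ j).mp hk1 α
        have h2 : P.root k = (RD2.coef hΔ j α).toNat • P.root (P.reflectionPerm α α) := by
          rw [hkj, P.root_reflectionPerm, h1, map_smul, P.reflection_apply_self, RD.root_neg,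
            ← natCast_zsmul, Int.toNat_of_nonneg hc0]
        apply hk2
        apply RD1.mem_of_closed_of_mem_natSpan P hcl
        rw [h2]
        exact AddSubmonoid.nsmul_mem _ (RD1.root_mem_natSpan P hnegα) _
      · push Not at h
        obtain ⟨a, ha, hja⟩ := h
        have hkpos : k ∈ posOf P Δ := by
          rw [hkj]; exact RD2.reflection_mem_posOf hΔ hαΔ hk1 ha hja
        refine ⟨⟨hkpos, hk2⟩, ?_⟩
        rintro (rfl : k = α)
        have : j = P.reflectionPerm k k := rfl
        rw [this] at hk1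
        exact (RD2.posOf_isPosSys hΔ).disjoint (RD2.subset_posOf hαΔ) hk1
    have hlt : (posOf P (s • Δ) \ P').ncard < n := by
      rw [← hn]
      apply Set.ncard_lt_ncard _ (Set.toFinite _)
      refine ⟨hss.trans Set.sdiff_subset, ?_⟩
      intro hcon
      have : α ∈ posOf P (s • Δ) \ P' := hcon ⟨RD2.subset_posOf hαΔ, hαP⟩
      exact (hss this).2 rfl
    obtain ⟨g, hg, hgsub⟩ := ih _ hlt (s • Δ) hΔ₁ rfl
    refine ⟨g * s, mul_mem hg (P.reflection_mem_weylGroup α), ?_⟩
    rw [mul_smul, ← posOf_smul]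
    exact hgsub

lemma exists_weyl_posOf_eq [Finite ι] {S : Set ι} (hS : IsPosSys P S) {Δ : Set ι} (hΔ : IsSimpleSys P Δ) :
    ∃ g : P.Aut, g ∈ P.weylGroup ∧ g • posOf P Δ = S := by
  obtain ⟨g, hg, hsub⟩ := exists_weyl_subset P S hS.cover (RD1.isClosedSub_of_isPosSys P hS) _ Δ hΔ rfl
  exact ⟨g, hg, RD2.posSys_eq_of_subset (posSys_smul P g (RD2.posOf_isPosSys hΔ)) hS hsub⟩

lemma exists_simpleSys_subset [Finite ι] {S : Set ι} (hS : IsPosSys P S) :
    ∃ Δ : Set ι, IsSimpleSys P Δ ∧ Δ ⊆ S ∧ S = posOf P Δ := by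
  obtain ⟨Δ₀, hΔ₀⟩ := exists_simpleSys P
  obtain ⟨g, -, hg⟩ := exists_weyl_posOf_eq P hS hΔ₀
  refine ⟨g • Δ₀, simpleSys_smul P g hΔ₀, ?_, ?_⟩
  · rw [← hg]
    exact Set.smul_set_mono RD2.subset_posOf
  · rw [posOf_smul, hg]

/-- a simple system is determined by its positive system -/
lemma simpleSys_eq_of_posOf_eq [Finite ι] {Δ Δ' : Set ι} (hΔ : IsSimpleSys P Δ) (hΔ' : IsSimpleSys P Δ')
    (h : posOf P Δ = posOf P Δ') : Δ = Δ' := by
  have key : ∀ {Δ₁ Δ₂ : Set ι}, IsSimpleSys P Δ₁ → IsSimpleSys P Δ₂ → posOf P Δ₁ = posOf P Δ₂ → Δ₁ ⊆ Δ₂ := by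
    intro Δ₁ Δ₂ h1 h2 h12 k hk
    by_contra hk2
    have hkpos : k ∈ posOf P Δ₂ := h12 ▸ RD2.subset_posOf hk
    obtain ⟨a, haΔ, -, -, j, hj, hsum⟩ := RD2.exists_simple_sub h2 hkpos hk2
    -- k = j + a with j, a positive for Δ₂ hence for Δ₁; contradiction with k ∈ Δ₁
    have hj1 : j ∈ posOf P Δ₁ := h12 ▸ hj
    have ha1 : a ∈ posOf P Δ₁ := h12 ▸ RD2.subset_posOf haΔ
    have h3 := RD2.coef_add h1 hsum
    rw [RD2.coef_simple h1 hk] at h3
    obtain ⟨b, -, hb⟩ := RD2.exists_pos_of_mem_posOf h1 hj1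
    obtain ⟨c, -, hc⟩ := RD2.exists_pos_of_mem_posOf h1 ha1
    have hj0 := (RD2.mem_posOf_iff h1 j).mp hj1
    have ha0 := (RD2.mem_posOf_iff h1 a).mp ha1
    have hb' := DFunLike.congr_fun h3 b
    have hc' := DFunLike.congr_fun h3 c
    rw [Finsupp.add_apply] at hb' hc'
    have hbk : b = k := by
      by_contra hne
      rw [Finsupp.single_eq_of_ne hne] at hb'
      have := ha0 b; omega
    have hck : c = k := by
      by_contra hne
      rw [Finsupp.single_eq_of_ne hne] at hc'
      have := hj0 c; omega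
    subst hbk
    subst hck
    rw [Finsupp.single_eq_same] at hb'
    omega
  exact Set.Subset.antisymm (key hΔ hΔ' h) (key hΔ' hΔ h.symm)

end Groth.Agent.Helper2.RD3

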