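import Mathlib
import Groth.Prelude.Def_W4sga3xxiRoot
import Groth.Agent.Helper2.RootD3
set_option autoImplicit false
open Set RootPairing Module RootD
open scoped Pointwise

namespace Groth.Agent.Helper2.RD4
variable {ι M N : Type*} [AddCommGroup M] [AddCommGroup N] (P : RootPairing ι ℤ M N)

/-- the sum-of-coefficients functional -/
noncomputable def htL : (ι →₀ ℤ) →ₗ[ℤ] ℤ := Finsupp.linearCombination ℤ (fun _ : ι => (1 : ℤ))

omit [AddCommGroup M] [AddCommGroup N] in
lemma htL_apply (c : ι →₀ ℤ) : htL (ι := ι) c = c.sum (fun _ a => a) := by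
  simp [htL, Finsupp.linearCombination_apply]

lemma htL_single (i : ι) (z : ℤ) : htL (Finsupp.single i z) = z := by
  simp [htL]

lemma htL_nonneg {c : ι →₀ ℤ} (h : ∀ a, 0 ≤ c a) : 0 ≤ htL c := by
  rw [htL_apply]
  exact Finset.sum_nonneg (fun a _ => h a)

lemma htL_pos {c : ι →₀ ℤ} (h : ∀ a, 0 ≤ c a) {a : ι} (ha : 0 < c a) : 0 < htL c := by
  rw [htL_apply]
  apply Finset.sum_pos'
  · exact fun a _ => h a
  · exact ⟨a, Finsupp.mem_support_iff.mpr ha.ne', ha⟩

lemma equiv_reflection_eq_of_root_eq_smul [Finite ι] (i j : ι) (t : ℤ) (h : P.root i = t • P.root j) :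
    Equiv.reflection P i = Equiv.reflection P j := by
  apply Equiv.weightHom_injective P
  ext x
  show Equiv.reflection P i • x = Equiv.reflection P j • x
  rw [Equiv.reflection_smul, Equiv.reflection_smul, RD.reflection_eq_of_root_eq_smul P i j t h]

lemma equiv_reflection_neg [Finite ι] (i : ι) :
    Equiv.reflection P (P.reflectionPerm i i) = Equiv.reflection P i :=
  equiv_reflection_eq_of_root_eq_smul P _ i (-1) (by rw [RD.root_neg, neg_smul, one_smul])

lemma reflection_mul_self (i : ι) : Equiv.reflection P i * Equiv.reflection P i = 1 := by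
  have := Equiv.reflection_inv P i
  nth_rewrite 1 [← this]
  exact inv_mul_cancel _

variable {P} {Δ : Set ι} (hΔ : IsSimpleSys P Δ)

/-- height of a root -/
noncomputable def ht (k : ι) : ℤ := htL (RD2.coef hΔ k)

lemma ht_reflection {i : ι} (hi : i ∈ Δ) (k : ι) :
    ht hΔ (P.reflectionPerm i k) = ht hΔ k - P.pairing k i := by
  unfold ht
  rw [RD2.coef_reflection hΔ hi, map_sub, htL_single]

lemma ht_pos {k : ι} (hk : k ∈ posOf P Δ) : 0 < ht hΔ k := by
  obtain ⟨a, -, ha⟩ := RD2.exists_pos_of_mem_posOf hΔ hk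
  exact htL_pos ((RD2.mem_posOf_iff hΔ k).mp hk) ha

lemma ht_simple {a : ι} (ha : a ∈ Δ) : ht hΔ a = 1 := by
  unfold ht
  rw [RD2.coef_simple hΔ ha, htL_single]

lemma ht_neg (k : ι) : ht hΔ (P.reflectionPerm k k) = - ht hΔ k := by
  unfold ht
  rw [RD2.coef_neg, map_neg]

lemma ht_add {i j k : ι} (h : P.root k = P.root i + P.root j) : ht hΔ k = ht hΔ i + ht hΔ j := by
  unfold ht
  rw [RD2.coef_add hΔ h, map_add]

/-- the subgroup generated by simple reflections -/
noncomputable def WΔ (P : RootPairing ι ℤ M N) (Δ : Set ι) : Subgroup P.Aut :=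
  Subgroup.closure ((fun i : ι => Equiv.reflection P i) '' Δ)

lemma WΔ_le (P : RootPairing ι ℤ M N) (Δ : Set ι) : WΔ P Δ ≤ P.weylGroup := by
  apply Subgroup.closure_mono
  rintro _ ⟨i, -, rfl⟩
  exact ⟨i, rfl⟩

lemma simple_reflection_mem {a : ι} (ha : a ∈ Δ) : Equiv.reflection P a ∈ WΔ P Δ :=
  Subgroup.subset_closure ⟨a, ha, rfl⟩

include hΔ in
/-- main induction: for positive `k`, the reflection in `k` lies in `WΔ`, and if `k` is indivisible then
`k` is `WΔ`-conjugate to a simple root -/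
lemma pos_induction [Finite ι] : ∀ (n : ℕ) (k : ι), k ∈ posOf P Δ → (ht hΔ k).toNat = n →
    Equiv.reflection P k ∈ WΔ P Δ ∧ (IsIndiv P k → ∃ g ∈ WΔ P Δ, ∃ i ∈ Δ, g • i = k) := by
  intro n
  induction n using Nat.strong_induction_on with
  | _ n ih =>
  intro k hk hn
  by_cases hkΔ : k ∈ Δ
  · exact ⟨simple_reflection_mem hkΔ, fun _ => ⟨1, one_mem _, k, hkΔ, one_smul _ _⟩⟩
  obtain ⟨a, haΔ, hca, hpa⟩ := RD2.exists_coef_pos_pairing_pos hΔ hk
  have hpa' : 0 < P.pairing k a := (RD1.pairing_pos_iff P a k).mp hpa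
  by_cases h : ∀ b, b ≠ a → RD2.coef hΔ k b = 0
  · have h1 := RD2.root_eq_smul_of_forall hΔ h
    refine ⟨?_, ?_⟩
    · rw [equiv_reflection_eq_of_root_eq_smul P k a _ h1]
      exact simple_reflection_mem haΔ
    · intro hind
      exfalso
      set c := RD2.coef hΔ k a with hc
      have h2 : (2 : ℤ) = c * P.pairing a k := by
        have := congrArg (P.coroot' k) h1
        simpa [root_coroot'_eq_pairing] using this
      have hc2 : c = 1 ∨ c = 2 := by
        have hdvd : c ∣ 2 := ⟨_, h2⟩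
        have hle : c ≤ 2 := Int.le_of_dvd (by norm_num) hdvd
        omega
      rcases hc2 with h3 | h3
      · rw [h3, one_smul] at h1
        exact hkΔ (P.root.injective h1 ▸ haΔ)
      · rw [h3] at h1
        exact hind a h1.symm
  · push Not at h
    obtain ⟨b, hb, hkb⟩ := h
    set k' := P.reflectionPerm a k with hk'
    have hk'pos : k' ∈ posOf P Δ := RD2.reflection_mem_posOf hΔ haΔ hk hb hkb
    have hht : ht hΔ k' = ht hΔ k - P.pairing k a := ht_reflection hΔ haΔ k
    have hlt : (ht hΔ k').toNat < n := by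
      have h1 := ht_pos hΔ hk
      have h2 := ht_pos hΔ hk'pos
      omega
    obtain ⟨ih1, ih2⟩ := ih _ hlt k' hk'pos rfl
    have hsk : Equiv.reflection P a • k' = k := P.reflectionPerm_self a k
    refine ⟨?_, ?_⟩
    · have := RD.aut_conj_reflection P (Equiv.reflection P a) k'
      rw [hsk] at this
      rw [← this]
      exact mul_mem (mul_mem (simple_reflection_mem haΔ) ih1) (inv_mem (simple_reflection_mem haΔ))
    · intro hind
      have hind' : IsIndiv P k' := by
        intro j hj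
        apply hind (P.reflectionPerm a j)
        rw [P.root_reflectionPerm, ← map_smul, hj, hk', P.root_reflectionPerm]
        simp
      obtain ⟨g, hg, i, hi, hgi⟩ := ih2 hind'
      exact ⟨Equiv.reflection P a * g, mul_mem (simple_reflection_mem haΔ) hg, i, hi, by
        rw [mul_smul, hgi, hsk]⟩


lemma isIndiv_neg {k : ι} (h : IsIndiv P k) : IsIndiv P (P.reflectionPerm k k) := by
  intro j hj
  apply h (P.reflectionPerm j j)
  rw [RD.root_neg, smul_neg, hj, RD.root_neg, neg_neg]

include hΔ in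
lemma reflection_mem_WΔ [Finite ι] (k : ι) : Equiv.reflection P k ∈ WΔ P Δ := by
  rcases (RD2.posOf_isPosSys hΔ).cover k with h | h
  · exact (pos_induction hΔ _ k h rfl).1
  · rw [← equiv_reflection_neg P k]
    exact (pos_induction hΔ _ _ h rfl).1

include hΔ in
lemma WΔ_eq [Finite ι] : WΔ P Δ = P.weylGroup := by
  apply le_antisymm (WΔ_le P Δ)
  apply (Subgroup.closure_le _).mpr
  rintro _ ⟨k, rfl⟩
  exact reflection_mem_WΔ hΔ k

include hΔ in
lemma exists_conj_simple [Finite ι] {k : ι} (hk : IsIndiv P k) : ∃ g ∈ WΔ P Δ, ∃ i ∈ Δ, g • i = k := by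
  rcases (RD2.posOf_isPosSys hΔ).cover k with h | h
  · exact (pos_induction hΔ _ k h rfl).2 hk
  · obtain ⟨g, hg, i, hi, hgi⟩ := (pos_induction hΔ _ _ h rfl).2 (isIndiv_neg hk)
    refine ⟨g * Equiv.reflection P i, mul_mem hg (simple_reflection_mem hi), i, hi, ?_⟩
    rw [mul_smul]
    have h1 : Equiv.reflection P i • i = P.reflectionPerm i i := rfl
    rw [h1, ← RD3.neg_smul_idx, hgi, RD1.reflectionPerm_self_self]


end Groth.Agent.Helper2.RD4
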