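import Mathlib
import Groth.Prelude.Def_W4sga3xxiRoot
import Groth.Agent.Helper2.RootD4
set_option autoImplicit false
open Set RootPairing Module RootD
open scoped Pointwise

namespace Groth.Agent.Helper2.RD5
variable {ι M N : Type*} [AddCommGroup M] [AddCommGroup N] (P : RootPairing ι ℤ M N)

/-- the root lattice -/
abbrev Q : Submodule ℤ M := Submodule.span ℤ (Set.range P.root)

lemma root_mem_Q (i : ι) : P.root i ∈ Q P := Submodule.subset_span ⟨i, rfl⟩

lemma smul_mem_Q (g : P.Aut) {x : M} (hx : x ∈ Q P) : g • x ∈ Q P := by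
  refine Submodule.span_induction ?_ ?_ ?_ ?_ hx
  · rintro _ ⟨i, rfl⟩
    rw [← RD3.root_smul]; exact root_mem_Q P _
  · rw [smul_zero]; exact zero_mem _
  · intro a b _ _ ha hb; rw [smul_add]; exact add_mem ha hb
  · intro t a _ ha; rw [smul_comm]; exact Submodule.smul_mem _ _ ha

lemma eq_zero_of_forall_coroot [Finite ι] {x : M} (hx : x ∈ Q P) (h : ∀ i, P.coroot' i x = 0) : x = 0 := by
  have : Fintype ι := Fintype.ofFinite ι
  apply P.eq_zero_of_mem_rootSpan_of_rootForm_self_eq_zero hx
  rw [P.rootForm_apply_apply]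
  apply Finset.sum_eq_zero
  intro i _
  rw [h i, mul_zero]

lemma sub_mem_Q_of_mem_weylGroup {g : P.Aut} (hg : g ∈ P.weylGroup) (x : M) : g • x - x ∈ Q P := by
  induction hg using weylGroup.induction generalizing x with
  | mem i =>
    rw [Equiv.reflection_smul, P.reflection_apply]
    have : x - (P.coroot' i) x • P.root i - x = -((P.coroot' i) x • P.root i) := by abel
    rw [this]
    exact neg_mem (Submodule.smul_mem _ _ (root_mem_Q P i))
  | one => rw [one_smul, sub_self]; exact zero_mem _
  | mul g h _ _ hg hh =>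
    have : (g * h) • x - x = g • (h • x - x) + (g • x - x) := by
      rw [mul_smul, smul_sub]; abel
    rw [this]
    exact add_mem (smul_mem_Q P g (hh x)) (hg x)

/-- an automorphism acting trivially modulo the (saturated) root lattice and fixing all roots is trivial -/
lemma aut_eq_one [Finite ι] (u : P.Aut)
    (hs : ∀ m : M, ∃ n : ℕ, 0 < n ∧ n • (u • m - m) ∈ Q P)
    (hfix : ∀ i : ι, u • i = i) : u = 1 := by
  have hM := RD.torsionFreeM P
  apply Equiv.weightHom_injective P
  ext m
  show u • m = m
  obtain ⟨n, hn, hmem⟩ := hs m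
  have h0 : n • (u • m - m) = 0 := by
    apply eq_zero_of_forall_coroot P hmem
    intro i
    rw [map_nsmul, map_sub]
    have h1 := RD.aut_pairing P u m i
    rw [hfix i] at h1
    have h2 : (P.coroot' i) (u • m) = (P.coroot' i) m := h1
    rw [h2, sub_self, smul_zero]
  have h1 : u • m - m = 0 := by
    have : n • (u • m - m) = n • (0 : M) := by rw [h0, smul_zero]
    exact nsmul_right_injective hn.ne' this
  exact sub_eq_zero.mp h1

end Groth.Agent.Helper2.RD5

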