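import Mathlib
import Groth.Prelude.Def_W4sga3xxiRoot
import Groth.Agent.Helper2.RootD5
set_option autoImplicit false
open Set RootPairing Module RootD
open scoped Pointwise

namespace Groth.Agent.Helper2.RD6
variable {ι M N : Type*} [AddCommGroup M] [AddCommGroup N] (P : RootPairing ι ℤ M N) [Fintype ι]

/-- squared length of a root -/
noncomputable abbrev len (i : ι) : ℤ := P.RootForm (P.root i) (P.root i)

lemma two_mul_rootForm (i j : ι) :
    2 * P.RootForm (P.root i) (P.root j) = P.pairing i j * P.RootForm (P.root j) (P.root j) :=
  P.toInvariantForm.two_mul_apply_root_root i j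

lemma pairing_mul_swap (i j : ι) :
    P.pairing j i * P.RootForm (P.root i) (P.root i) = P.pairing i j * P.RootForm (P.root j) (P.root j) :=
  P.toInvariantForm.pairing_mul_eq_pairing_mul_swap i j

lemma len_pos (i : ι) : 0 < P.RootForm (P.root i) (P.root i) :=
  P.rootForm_pos_of_ne_zero (Submodule.subset_span ⟨i, rfl⟩) (P.ne_zero i)

lemma rootForm_sub_self (x y : M) :
    P.RootForm (x - y) (x - y) = P.RootForm x x - 2 * P.RootForm x y + P.RootForm y y := by
  have := P.rootForm_symmetric.eq y x
  simp only [RingHom.id_apply] at this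
  simp only [map_sub, LinearMap.sub_apply]
  rw [this]; ring

end Groth.Agent.Helper2.RD6

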