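import Mathlib
import Groth.Prelude.Def_W4sga3xxiRoot
import Groth.Agent.Helper2.RootD6
set_option autoImplicit false
open Set RootPairing Module RootD
open scoped Pointwise

namespace Groth.Agent.Helper2.RD7
variable {ι M N : Type*} [AddCommGroup M] [AddCommGroup N] (P : RootPairing ι ℤ M N)

/-- the vector with coordinates `x` along the roots of `s` -/
noncomputable def vec (s : Finset ι) (x : ↥s → ℤ) : M := ∑ a : ↥s, x a • P.root a

lemma vec_mem (s : Finset ι) (x : ↥s → ℤ) : vec P s x ∈ P.rootSpan ℤ :=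
  Submodule.sum_mem _ (fun a _ => Submodule.smul_mem _ _ (Submodule.subset_span ⟨a, rfl⟩))

lemma vec_ne_zero (s : Finset ι) (hli : LinearIndepOn ℤ P.root (↑s : Set ι)) (x : ↥s → ℤ) (hx : x ≠ 0) :
    vec P s x ≠ 0 := by
  classical
  intro h0
  apply hx
  rw [linearIndepOn_finset_iff] at hli
  have := hli (fun i => if h : i ∈ s then x ⟨i, h⟩ else 0) (by
    rw [← Finset.sum_attach]
    simp only [Finset.coe_mem, dite_true]
    unfold vec at h0
    rw [← h0]
    rfl)
  funext a
  have h1 := this a a.2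
  simpa using h1

lemma coroot'_vec (s : Finset ι) (x : ↥s → ℤ) (k : ι) :
    P.coroot' k (vec P s x) = ∑ a : ↥s, x a * P.pairing a k := by
  unfold vec
  rw [map_sum]
  simp

variable [Fintype ι]

lemma rootForm_vec (s : Finset ι) (x : ↥s → ℤ) :
    P.RootForm (vec P s x) (vec P s x) = ∑ a : ↥s, ∑ b : ↥s, x a * x b * P.RootForm (P.root a) (P.root b) := by
  unfold vec
  simp only [map_sum, LinearMap.sum_apply, map_smul, LinearMap.smul_apply, smul_eq_mul]
  rw [Finset.sum_comm]
  apply Finset.sum_congr rfl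
  intro a _
  rw [Finset.mul_sum]
  apply Finset.sum_congr rfl
  intro b _
  ring

lemma gram_pos (s : Finset ι) (hli : LinearIndepOn ℤ P.root (↑s : Set ι)) (x : ↥s → ℤ) (hx : x ≠ 0) :
    0 < ∑ a : ↥s, ∑ b : ↥s, x a * x b * P.RootForm (P.root a) (P.root b) := by
  rw [← rootForm_vec]
  exact P.rootForm_pos_of_ne_zero (vec_mem P s x) (vec_ne_zero P s hli x hx)

end Groth.Agent.Helper2.RD7

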