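import Mathlib
import Groth.Prelude.Def_W4sga3xxiRoot
import Groth.Agent.Helper2.RootD7
set_option autoImplicit false
open Set RootPairing Module RootD
open scoped Pointwise

namespace Groth.Agent.Helper2.RD8
variable {ι M N : Type*} [AddCommGroup M] [AddCommGroup N] {P : RootPairing ι ℤ M N}
variable {Δ : Set ι} (hΔ : IsSimpleSys P Δ)

include hΔ in
/-- induction on positive roots along `k = j + a` with `a` simple -/
lemma pos_induction_on [Finite ι] {Q : ι → Prop} (h0 : ∀ a ∈ Δ, Q a)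
    (hstep : ∀ k j a : ι, k ∈ posOf P Δ → j ∈ posOf P Δ → a ∈ Δ → P.root k = P.root j + P.root a → Q j → Q k) :
    ∀ k ∈ posOf P Δ, Q k := by
  suffices h : ∀ (n : ℕ) (k : ι), k ∈ posOf P Δ → (RD4.ht hΔ k).toNat = n → Q k from
    fun k hk => h _ k hk rfl
  intro n
  induction n using Nat.strong_induction_on with
  | _ n ih =>
  intro k hk hn
  by_cases hkΔ : k ∈ Δ
  · exact h0 k hkΔ
  obtain ⟨a, haΔ, -, -, j, hj, hsum⟩ := RD2.exists_simple_sub hΔ hk hkΔ
  have h1 := RD4.ht_add hΔ hsum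
  rw [RD4.ht_simple hΔ haΔ] at h1
  have h2 := RD4.ht_pos hΔ hj
  have h3 := RD4.ht_pos hΔ hk
  exact hstep k j a hk hj haΔ hsum (ih _ (by omega) j hj rfl)

lemma mem_inSpan_iff {T : Set ι} (hsub : T ⊆ Δ) (k : ι) :
    k ∈ inSpan P T ↔ ∀ a, RD2.coef hΔ k a ≠ 0 → a ∈ T := by
  constructor
  · intro hk a ha
    have hk' : P.root k ∈ Submodule.span ℤ (P.root '' T) := hk
    rw [Finsupp.mem_span_image_iff_linearCombination] at hk'
    obtain ⟨c, hc, hlc⟩ := hk'
    have hc' : ↑c.support ⊆ T := (Finsupp.mem_supported _ _).mp hc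
    have : c = RD2.coef hΔ k := RD2.coef_unique hΔ (hc'.trans hsub) hlc
    rw [← this] at ha
    exact hc' (Finsupp.mem_support_iff.mpr ha)
  · intro h
    show P.root k ∈ Submodule.span ℤ (P.root '' T)
    rw [← RD2.coef_lc hΔ k]
    apply RD2.lc_mem_span
    intro a ha
    exact h a (Finsupp.mem_support_iff.mp ha)

lemma supp_neg (k : ι) (a : ι) : RD2.coef hΔ (P.reflectionPerm k k) a ≠ 0 ↔ RD2.coef hΔ k a ≠ 0 := by
  rw [RD2.coef_neg]; simp

end Groth.Agent.Helper2.RD8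

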