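import Mathlib
import Groth.Prelude.Def_W4sga3xxiRoot
import Groth.Agent.Helper2.RootD8
set_option autoImplicit false
open Set RootPairing Module RootD
open scoped Pointwise

namespace Groth.Agent.Helper2.RD9
variable {ι M N : Type*} [AddCommGroup M] [AddCommGroup N] {P : RootPairing ι ℤ M N}
variable {Δ : Set ι} (hΔ : IsSimpleSys P Δ)

include hΔ in
lemma exists_lc_of_mem_Q {x : M} (hx : x ∈ RD5.Q P) : ∃ c : ι →₀ ℤ, ↑c.support ⊆ Δ ∧ RD2.LC P c = x := by
  classical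
  refine Submodule.span_induction ?_ ?_ ?_ ?_ hx
  · rintro _ ⟨i, rfl⟩
    exact ⟨RD2.coef hΔ i, RD2.coef_supp hΔ i, RD2.coef_lc hΔ i⟩
  · exact ⟨0, by simp, by simp⟩
  · rintro a b _ _ ⟨c1, h1, rfl⟩ ⟨c2, h2, rfl⟩
    refine ⟨c1 + c2, ?_, by simp⟩
    intro a ha
    rcases Finset.mem_union.mp (Finsupp.support_add ha) with h | h
    · exact h1 h
    · exact h2 h
  · rintro t a _ ⟨c, h, rfl⟩
    refine ⟨t • c, ?_, by simp⟩
    intro a ha
    exact h (Finsupp.support_smul ha)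

end Groth.Agent.Helper2.RD9

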