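import Mathlib
import Groth.Prelude.Def_W4sga3xxiRoot
import Groth.Agent.Helper2.RootD9
set_option autoImplicit false
open Set RootPairing Module RootD
open scoped Pointwise

namespace Groth.Agent.Helper2.RD11
variable {ι M N : Type*} [AddCommGroup M] [AddCommGroup N] (P : RootPairing ι ℤ M N)

/-- if `x` and `-x` both lie in `natSpan Δ` and there is no nontrivial nonnegative relation on `Δ`,
then `x = 0` -/
lemma eq_zero_of_mem_of_neg_mem {Δ : Set ι}
    (hN : ∀ d : ι →₀ ℤ, ↑d.support ⊆ Δ → (∀ a, 0 ≤ d a) → RD2.LC P d = 0 → d = 0)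
    {x : M} (hx : x ∈ natSpan P Δ) (hx' : -x ∈ natSpan P Δ) : x = 0 := by
  classical
  obtain ⟨c, h1, h2, h3⟩ := RD2.exists_lc_of_mem_natSpan P hx
  obtain ⟨c', h1', h2', h3'⟩ := RD2.exists_lc_of_mem_natSpan P hx'
  have h0 : c + c' = 0 := by
    apply hN
    · intro a ha
      rcases Finset.mem_union.mp (Finsupp.support_add ha) with h | h
      · exact h1 h
      · exact h1' h
    · intro a; rw [Finsupp.add_apply]; exact add_nonneg (h2 a) (h2' a)
    · rw [map_add, h3, h3', add_neg_cancel]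
  have hc : c = 0 := by
    ext a
    have := DFunLike.congr_fun h0 a
    simp only [Finsupp.coe_add, Pi.add_apply, Finsupp.coe_zero, Pi.zero_apply] at this ⊢
    have := h2 a; have := h2' a; omega
  rw [← h3, hc, map_zero]

/-- the rational cone of `Δ` -/
def coneSet (Δ : Set ι) : AddSubmonoid M where
  carrier := {x | ∃ n : ℕ, 0 < n ∧ n • x ∈ natSpan P Δ}
  zero_mem' := ⟨1, one_pos, by simp⟩
  add_mem' := by
    rintro x y ⟨n, hn, hx⟩ ⟨n', hn', hy⟩
    refine ⟨n * n', Nat.mul_pos hn hn', ?_⟩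
    rw [smul_add]
    apply add_mem
    · rw [mul_comm, mul_smul]; exact nsmul_mem hx _
    · rw [mul_smul]; exact nsmul_mem hy _

lemma natSpan_le_coneSet {Δ S : Set ι} (h : ∀ k ∈ S, P.root k ∈ coneSet P Δ) : natSpan P S ≤ coneSet P Δ := by
  apply AddSubmonoid.closure_le.mpr
  rintro _ ⟨k, hk, rfl⟩
  exact h k hk

end Groth.Agent.Helper2.RD11

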