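import Mathlib
import Groth.Prelude.Def_W4sga3xxiRoot
import Groth.Agent.Helper2.RootD11
set_option autoImplicit false
open Set RootPairing Module RootD
open scoped Pointwise

namespace Groth.Agent.Helper2.RD13
variable {ι M N : Type*} [AddCommGroup M] [AddCommGroup N] {P : RootPairing ι ℤ M N}
variable {Δ : Set ι} (hΔ : IsSimpleSys P Δ)

lemma isIndiv_smul (g : P.Aut) {k : ι} (h : IsIndiv P k) : IsIndiv P (g • k) := by
  intro j hj
  apply h (g⁻¹ • j)
  rw [RD3.root_smul, ← smul_comm, hj, RD3.root_smul, inv_smul_smul]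

/-- word product -/
noncomputable def wprod (P : RootPairing ι ℤ M N) (l : List ι) : P.Aut :=
  (l.map fun a => Equiv.reflection P a).prod

lemma wprod_nil : wprod P [] = 1 := rfl
lemma wprod_cons (a : ι) (l : List ι) : wprod P (a :: l) = Equiv.reflection P a * wprod P l := by
  simp [wprod]
lemma wprod_append (l1 l2 : List ι) : wprod P (l1 ++ l2) = wprod P l1 * wprod P l2 := by
  simp [wprod]

include hΔ in
/-- a positive indivisible root sent to a negative root by a simple reflection is that simple root -/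
lemma eq_of_pos_of_reflection_neg [Finite ι] {β c : ι} (hβ : β ∈ posOf P Δ) (hind : IsIndiv P β) (hc : c ∈ Δ)
    (hneg : P.reflectionPerm c β ∉ posOf P Δ) : β = c := by
  have h : ∀ a, a ≠ c → RD2.coef hΔ β a = 0 := by
    intro a ha
    by_contra hne
    exact hneg (RD2.reflection_mem_posOf hΔ hc hβ ha hne)
  have h1 := RD2.root_eq_smul_of_forall hΔ h
  set t := RD2.coef hΔ β c with ht
  have ht0 : 0 ≤ t := (RD2.mem_posOf_iff hΔ β).mp hβ c
  have h2 : (2 : ℤ) = t * P.pairing c β := by
    have := congrArg (P.coroot' β) h1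
    simpa [root_coroot'_eq_pairing] using this
  have ht2 : t = 1 ∨ t = 2 := by
    have hdvd : t ∣ 2 := ⟨_, h2⟩
    have hle : t ≤ 2 := Int.le_of_dvd (by norm_num) hdvd
    have hne : t ≠ 0 := by rintro h; rw [h] at h2; simp at h2
    omega
  rcases ht2 with h3 | h3
  · rw [h3, one_smul] at h1
    exact P.root.injective h1
  · rw [h3] at h1
    exact absurd h1.symm (hind c)

include hΔ in
/-- the deletion lemma -/
lemma exists_split [Finite ι] {α : ι} (hα : α ∈ Δ) :
    ∀ l₀ : List ι, (∀ a ∈ l₀, a ∈ Δ) → wprod P l₀ • α ∉ posOf P Δ →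
      ∃ pre c suf, l₀ = pre ++ c :: suf ∧ wprod P suf • α = c := by
  intro l₀
  induction l₀ with
  | nil =>
    intro _ hneg
    exfalso
    apply hneg
    rw [wprod_nil, one_smul]
    exact RD2.subset_posOf hα
  | cons c t ih =>
    intro hl hneg
    have ht : ∀ a ∈ t, a ∈ Δ := fun a ha => hl a (List.mem_cons_of_mem _ ha)
    have hc : c ∈ Δ := hl c List.mem_cons_self
    by_cases hβ : wprod P t • α ∈ posOf P Δ
    · refine ⟨[], c, t, rfl, ?_⟩
      apply eq_of_pos_of_reflection_neg hΔ hβ (isIndiv_smul _ (by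
        intro j hj
        have h1 : (2 : ℤ) • RD2.coef hΔ j = RD2.coef hΔ α := by
          apply RD2.coef_unique
          · intro a ha
            exact RD2.coef_supp hΔ j (Finsupp.support_smul ha)
          · rw [map_smul, RD2.coef_lc, hj]
        rw [RD2.coef_simple hΔ hα] at h1
        have := DFunLike.congr_fun h1 α
        simp only [Finsupp.coe_smul, Pi.smul_apply, smul_eq_mul, Finsupp.single_eq_same] at this
        omega)) hc
      rw [wprod_cons, mul_smul] at hneg
      exact hneg
    · obtain ⟨pre, c', suf, h1, h2⟩ := ih ht hβ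
      exact ⟨c :: pre, c', suf, by rw [h1]; rfl, h2⟩

end Groth.Agent.Helper2.RD13

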