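import Mathlib
import Groth.Prelude.Def_W4sga3xxiRoot
import Groth.Agent.Helper2.RootD13
import Groth.Agent.S5504
set_option autoImplicit false
open Set RootPairing Module RootD
open scoped Pointwise

namespace Groth.Agent.Helper2.RD13b
variable {ι M N : Type*} [AddCommGroup M] [AddCommGroup N] {P : RootPairing ι ℤ M N}
variable {Δ : Set ι} (hΔ : IsSimpleSys P Δ)

lemma wprod_reverse (l : List ι) : RD13.wprod P l.reverse = (RD13.wprod P l)⁻¹ := by
  induction l with
  | nil => simp [RD13.wprod_nil]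
  | cons a t ih =>
    rw [List.reverse_cons, RD13.wprod_append, RD13.wprod_cons, RD13.wprod_nil, mul_one, RD13.wprod_cons,
      mul_inv_rev, Equiv.reflection_inv, ih]

lemma exists_word {g : P.Aut} (hg : g ∈ RD4.WΔ P Δ) : ∃ l : List ι, (∀ a ∈ l, a ∈ Δ) ∧ RD13.wprod P l = g := by
  refine Subgroup.closure_induction (p := fun g _ => ∃ l : List ι, (∀ a ∈ l, a ∈ Δ) ∧ RD13.wprod P l = g)
    ?_ ?_ ?_ ?_ hg
  · rintro _ ⟨a, ha, rfl⟩
    exact ⟨[a], by simpa using ha, by rw [RD13.wprod_cons, RD13.wprod_nil, mul_one]⟩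
  · exact ⟨[], by simp, RD13.wprod_nil⟩
  · rintro x y _ _ ⟨l1, h1, rfl⟩ ⟨l2, h2, rfl⟩
    refine ⟨l1 ++ l2, ?_, RD13.wprod_append l1 l2⟩
    intro a ha
    rcases List.mem_append.mp ha with h | h
    · exact h1 a h
    · exact h2 a h
  · rintro x _ ⟨l, h1, rfl⟩
    exact ⟨l.reverse, fun a ha => h1 a (List.mem_reverse.mp ha), wprod_reverse l⟩

include hΔ in
/-- the Weyl group acts freely on simple systems -/
lemma eq_one_of_smul_eq [Finite ι] {g : P.Aut} (hg : g ∈ P.weylGroup) (h : g • Δ = Δ) : g = 1 := by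
  classical
  rw [← RD4.WΔ_eq hΔ] at hg
  have hex : ∃ n : ℕ, ∃ l : List ι, (∀ a ∈ l, a ∈ Δ) ∧ RD13.wprod P l = g ∧ l.length = n := by
    obtain ⟨l, h1, h2⟩ := exists_word hg
    exact ⟨l.length, l, h1, h2, rfl⟩
  obtain ⟨l, hl, hprod, hlen⟩ := Nat.find_spec hex
  have hmin : ∀ l' : List ι, (∀ a ∈ l', a ∈ Δ) → RD13.wprod P l' = RD13.wprod P l → l.length ≤ l'.length := by
    intro l' hl' hp
    rw [hlen]
    exact Nat.find_min' hex ⟨l', hl', hp.trans hprod, rfl⟩
  by_cases hne : l = []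
  · rw [← hprod, hne, RD13.wprod_nil]
  · exfalso
    have h1 := Groth.Agent.S5504.result P Δ hΔ l hl hne hmin
    change -P.root (RD13.wprod P l • l.getLast hne) ∈ natSpan P Δ at h1
    rw [hprod] at h1
    have hlast : l.getLast hne ∈ Δ := hl _ (List.getLast_mem hne)
    have h2 : g • l.getLast hne ∈ Δ := by
      rw [← h]; exact Set.smul_mem_smul_set hlast
    have h3 : g • l.getLast hne ∈ posOf P Δ := RD2.subset_posOf h2
    have h4 : P.reflectionPerm (g • l.getLast hne) (g • l.getLast hne) ∈ posOf P Δ := by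
      show P.root _ ∈ natSpan P Δ
      rw [RD.root_neg]; exact h1
    exact (RD2.posOf_isPosSys hΔ).disjoint h3 h4

end Groth.Agent.Helper2.RD13b

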