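import Mathlib
import Groth.Prelude.Def_W4sga3xxiRoot
import Groth.Agent.Helper2.RootD13b
import Groth.Agent.S5506
import Groth.Agent.S5469
import Groth.Agent.S5487
import Groth.Agent.S5505
set_option autoImplicit false
open Set RootPairing Module RootD
open scoped Pointwise

namespace Groth.Agent.Helper2.RD14
variable {ι M N : Type*} [AddCommGroup M] [AddCommGroup N] (P : RootPairing ι ℤ M N)

/-- the irreducibility hypothesis used in the statements -/
def Irr : Prop := ∀ R' : Set ι, RootD.IsClosedSub P R' → RootD.IsSymmSub P R' → RootD.IsClosedSub P R'ᶜ →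
      RootD.IsSymmSub P R'ᶜ → R' = ∅ ∨ R' = Set.univ

lemma chain_of_irr [Finite ι] (hirr : Irr P) (i j : ι) :
    Relation.ReflTransGen (fun a b : ι => ¬ P.IsOrthogonal a b) i j := by
  obtain ⟨h1, h2, h3, h4⟩ := Groth.Agent.S5506.result P i
  rcases hirr _ h1 h2 h3 h4 with h | h
  · exfalso
    have : i ∈ {j : ι | Relation.ReflTransGen (fun a b : ι => ¬ P.IsOrthogonal a b) i j} :=
      Relation.ReflTransGen.refl
    rw [h] at this
    exact this
  · have : j ∈ (Set.univ : Set ι) := Set.mem_univ j
    rw [← h] at this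
    exact this

/-- a set of roots stable under non-orthogonal neighbours is empty or everything -/
lemma eq_univ_of_stable [Finite ι] (hirr : Irr P) (T : Set ι)
    (hT : ∀ k k', k ∈ T → ¬ P.IsOrthogonal k k' → k' ∈ T) {i : ι} (hi : i ∈ T) (j : ι) : j ∈ T := by
  have := chain_of_irr P hirr i j
  induction this with
  | refl => exact hi
  | tail _ hbc ih => exact hT _ _ ih hbc

/-- in an irreducible datum, every root is non-orthogonal to some Weyl conjugate of any given root -/
lemma exists_weyl_not_orthogonal [Finite ι] (hirr : Irr P) (i j : ι) :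
    ∃ g : P.Aut, g ∈ P.weylGroup ∧ P.pairing j (g • i) ≠ 0 := by
  by_contra hcon
  push Not at hcon
  set T : Set ι := {k | ∀ g : P.Aut, g ∈ P.weylGroup → P.pairing k (g • i) = 0} with hTdef
  have hjT : j ∈ T := hcon
  have hstable : ∀ k k', k ∈ T → ¬ P.IsOrthogonal k k' → k' ∈ T := by
    intro k k' hk hkk'
    rw [RD1.not_isOrthogonal_iff] at hkk'
    by_contra hk'
    simp only [hTdef, mem_ofPred_eq, not_forall] at hk'
    obtain ⟨g, hg, hp⟩ := hk'
    obtain ⟨o, ho⟩ : ∃ o, o = g • i := ⟨_, rfl⟩
    rw [← ho] at hp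
    have h1 : P.pairing k o = 0 := by rw [ho]; exact hk g hg
    have h1' : P.pairing o k = 0 := (RD1.pairing_eq_zero_iff P k o).mp h1
    have h2 : P.pairing o k' ≠ 0 := by rwa [Ne, RD1.pairing_eq_zero_iff P o k']
    have h3 : P.pairing k' k ≠ 0 := by rwa [Ne, RD1.pairing_eq_zero_iff P k' k]
    have h4 := hk (Equiv.reflection P k' * g) (mul_mem (P.reflection_mem_weylGroup k') hg)
    rw [mul_smul, ← ho] at h4
    have h5 : P.pairing (Equiv.reflection P k' • o) k = 0 := (RD1.pairing_eq_zero_iff P k _).mp h4
    have h6 : P.pairing (Equiv.reflection P k' • o) k = P.pairing o k - P.pairing o k' * P.pairing k' k := by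
      rw [← root_coroot'_eq_pairing, RD3.root_smul P (Equiv.reflection P k') o, Equiv.reflection_smul,
        P.reflection_apply_root, map_sub, LinearMap.map_smul, root_coroot'_eq_pairing, root_coroot'_eq_pairing,
        smul_eq_mul]
    rw [h6, h1', zero_sub, neg_eq_zero] at h5
    rcases mul_eq_zero.mp h5 with h | h
    · exact h2 h
    · exact h3 h
  have hiT : i ∈ T := eq_univ_of_stable P hirr T hstable hjT i
  have := hiT 1 (one_mem _)
  rw [one_smul, pairing_same] at this
  norm_num at this

end Groth.Agent.Helper2.RD14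

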