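import Mathlib
import Groth.Prelude.Def_W4sga3xxiRoot
import Groth.Agent.Helper2.RootD14
import Groth.Agent.S5465
set_option autoImplicit false
open Set RootPairing Module RootD
open scoped Pointwise

namespace Groth.Agent.Helper2.RD15
variable {ι M N : Type*} [AddCommGroup M] [AddCommGroup N] (P : RootPairing ι ℤ M N)

/-- pairs of pairings of two non-orthogonal roots -/
lemma pairing_cases [Finite ι] (i o : ι) (h : P.pairing i o ≠ 0) :
    ∃ c : ℤ, (c = 1 ∨ c = 2 ∨ c = 3 ∨ c = 4) ∧ P.pairing i o * P.pairing o i = c := by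
  have hcw := P.coxeterWeightIn_mem_set_of_isCrystallographic i o
  rw [coxeterWeightIn, RD1.pairingIn_eq, RD1.pairingIn_eq] at hcw
  simp only [mem_insert_iff, mem_singleton_iff] at hcw
  have h' : P.pairing o i ≠ 0 := by rwa [Ne, RD1.pairing_eq_zero_iff P o i]
  rcases hcw with h0 | h1 | h1 | h1 | h1
  · exact absurd h0 (mul_ne_zero h h')
  · exact ⟨1, by tauto, h1⟩
  · exact ⟨2, by tauto, h1⟩
  · exact ⟨3, by tauto, h1⟩
  · exact ⟨4, by tauto, h1⟩

lemma int_aux (p q a b c : ℤ) (hc : c = 1 ∨ c = 2 ∨ c = 3 ∨ c = 4) (hpq : p * q = c) (hswap : q * a = p * b)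
    (ha : 0 < a) (hb : 0 < b) (hle : b ≤ a) :
    a = b ∨ a = 2 * b ∨ a = 3 * b ∨ (a = 4 * b ∧ p * q = 4) := by
  have hpd : p ∣ c := ⟨q, hpq.symm⟩
  have hqd : q ∣ c := ⟨p, by rw [← hpq, mul_comm]⟩
  have hc4 : c ≤ 4 := by rcases hc with h | h | h | h <;> omega
  have hc1 : 1 ≤ c := by rcases hc with h | h | h | h <;> omega
  have hple : p ≤ 4 := le_trans (Int.le_of_dvd (by omega) hpd) hc4
  have hpge : -4 ≤ p := by
    have : -p ∣ c := (neg_dvd).mpr hpd
    have := Int.le_of_dvd (by omega) this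
    omega
  have hqle : q ≤ 4 := le_trans (Int.le_of_dvd (by omega) hqd) hc4
  have hqge : -4 ≤ q := by
    have : -q ∣ c := (neg_dvd).mpr hqd
    have := Int.le_of_dvd (by omega) this
    omega
  rcases hc with rfl | rfl | rfl | rfl <;> interval_cases p <;> interval_cases q <;> omega

variable [Fintype ι]

/-- ratio of squared lengths of two non-orthogonal roots -/
lemma len_ratio (i o : ι) (h : P.pairing i o ≠ 0)
    (hle : P.RootForm (P.root o) (P.root o) ≤ P.RootForm (P.root i) (P.root i)) :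
    ∃ c : ℤ, (c = 1 ∨ c = 2 ∨ c = 3 ∨ (c = 4 ∧ P.pairing i o * P.pairing o i = 4)) ∧
      P.RootForm (P.root i) (P.root i) = c * P.RootForm (P.root o) (P.root o) := by
  obtain ⟨c, hc, hpq⟩ := pairing_cases P i o h
  have hswap := RD6.pairing_mul_swap P i o
  have hi := RD6.len_pos P i
  have ho := RD6.len_pos P o
  rcases int_aux _ _ _ _ c hc hpq hswap hi ho hle with h1 | h1 | h1 | ⟨h1, h2⟩
  · exact ⟨1, by tauto, by rw [one_mul]; exact h1⟩
  · exact ⟨2, by tauto, h1⟩
  · exact ⟨3, by tauto, h1⟩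
  · exact ⟨4, Or.inr (Or.inr (Or.inr ⟨rfl, h2⟩)), h1⟩

end Groth.Agent.Helper2.RD15
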