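import Mathlib
import Groth.Prelude.Def_W4sga3xxiRoot
import Groth.Agent.Helper2.RootD15
set_option autoImplicit false
open Set RootPairing Module RootD
open scoped Pointwise

namespace Groth.Agent.Helper2.RD18
variable {ι M N : Type*} [AddCommGroup M] [AddCommGroup N] {P : RootPairing ι ℤ M N}
variable {Δ : Set ι} (hΔ : IsSimpleSys P Δ)

/-- the span of the roots indexed by `T` -/
abbrev V (P : RootPairing ι ℤ M N) (T : Set ι) : Submodule ℤ M := Submodule.span ℤ (P.root '' T)

lemma sub_mem_V_of_mem_WΔ {Δ' : Set ι} {g : P.Aut} (hg : g ∈ RD4.WΔ P Δ') : ∀ x : M, g • x - x ∈ V P Δ' := by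
  refine Subgroup.closure_induction (p := fun g _ => ∀ x : M, g • x - x ∈ V P Δ') ?_ ?_ ?_ ?_ hg
  · rintro _ ⟨a, ha, rfl⟩ x
    rw [Equiv.reflection_smul, P.reflection_apply]
    have : x - (P.coroot' a) x • P.root a - x = -((P.coroot' a) x • P.root a) := by abel
    rw [this]
    exact neg_mem (Submodule.smul_mem _ _ (Submodule.subset_span ⟨a, ha, rfl⟩))
  · intro x; rw [one_smul, sub_self]; exact zero_mem _
  · intro g h _ _ hg hh x
    have : (g * h) • x - x = (g • (h • x) - h • x) + (h • x - x) := by rw [mul_smul]; abel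
    rw [this]
    exact add_mem (hg _) (hh x)
  · intro g _ hg x
    have : g⁻¹ • x - x = -(g • (g⁻¹ • x) - g⁻¹ • x) := by rw [smul_inv_smul]; abel
    rw [this]
    exact neg_mem (hg _)

include hΔ in
/-- coordinates of an element of `V Δ'` are supported in `Δ'` -/
lemma supp_subset_of_lc_mem_V {Δ' : Set ι} (hsub : Δ' ⊆ Δ) (c : ι →₀ ℤ) (hc : ↑c.support ⊆ Δ)
    (h : RD2.LC P c ∈ V P Δ') : ↑c.support ⊆ Δ' := by
  rw [V, Finsupp.mem_span_image_iff_linearCombination] at h
  obtain ⟨d, hd, hlc⟩ := h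
  have hd' : ↑d.support ⊆ Δ' := (Finsupp.mem_supported _ _).mp hd
  have : d = c := RD2.lc_unique P hΔ.linInd (hd'.trans hsub) hc hlc
  rw [← this]; exact hd'

end Groth.Agent.Helper2.RD18
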