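import Mathlib
import Groth.Prelude.Def_W4sga3xxiRoot
import Groth.Agent.Helper2.RootD18
set_option autoImplicit false
open Set RootPairing Module RootD
open scoped Pointwise

namespace Groth.Agent.Helper2.RD19
variable {ι M N ι' M' N' : Type*} [AddCommGroup M] [AddCommGroup N] [AddCommGroup M'] [AddCommGroup N']

section Reduced
variable (P : RootPairing ι ℤ M N) [P.IsReduced]

lemma indiv (i : ι) : IsIndiv P i := by
  intro j hj
  have hM := RD.torsionFreeM P
  have hdep : ¬ LinearIndependent ℤ ![P.root i, P.root j] := by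
    rw [LinearIndependent.pair_iff]
    push Not
    refine ⟨1, -2, ?_, by norm_num⟩
    rw [← hj]; module
  rcases IsReduced.eq_or_eq_neg (P := P) i j hdep with h | h
  · rw [h] at hj
    have : P.root j = 0 := by
      have : (2 : ℤ) • P.root j - P.root j = 0 := by rw [hj, sub_self]
      rw [two_smul, add_sub_cancel_right] at this; exact this
    exact P.ne_zero j this
  · rw [h] at hj
    have h3 : (3 : ℤ) • P.root j = 0 := by
      have : (2 : ℤ) • P.root j + P.root j = 0 := by rw [hj]; abel
      rw [← this]; module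
    have := (smul_eq_zero_iff_right (by norm_num : (3 : ℤ) ≠ 0)).mp h3
    exact P.ne_zero j this

/-- positive multiples of roots agree only if the roots and multiples agree -/
lemma eq_of_smul_eq {k j : ι} {a b : ℕ} (ha : 0 < a) (hb : 0 < b)
    (h : (a : ℤ) • P.root k = (b : ℤ) • P.root j) : k = j ∧ a = b := by
  have hM := RD.torsionFreeM P
  have hdep : ¬ LinearIndependent ℤ ![P.root k, P.root j] := by
    rw [LinearIndependent.pair_iff]
    push Not
    refine ⟨a, -b, ?_, by intro h; omega⟩
    rw [h]; module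
  rcases IsReduced.eq_or_eq_neg (P := P) k j hdep with h' | h'
  · have hkj : k = j := P.root.injective h'
    refine ⟨hkj, ?_⟩
    rw [h'] at h
    have : ((a : ℤ) - b) • P.root j = 0 := by rw [sub_smul, h, sub_self]
    have := (smul_eq_zero_iff_left (P.ne_zero j)).mp this
    omega
  · exfalso
    rw [h'] at h
    have : ((a : ℤ) + b) • P.root j = 0 := by rw [add_smul, ← h]; module
    have := (smul_eq_zero_iff_left (P.ne_zero j)).mp this
    omega

end Reduced

section PM
variable (P : RootPairing ι ℤ M N) (P' : RootPairing ι' ℤ M' N') [Finite ι] [Finite ι']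
    (f : M' →ₗ[ℤ] M) (g : N →ₗ[ℤ] N')
    (hfg : ∀ (m' : M') (n : N), P.toLinearMap (f m') n = P'.toLinearMap m' (g n))
    (u : ι ≃ ι') (q : ι → ℕ) (hq : ∀ i, 0 < q i)
    (hroot : ∀ i : ι, f (P'.root (u i)) = (q i : ℤ) • P.root i)
    (hcoroot : ∀ i : ι, g (P.coroot i) = (q i : ℤ) • P'.coroot (u i))

include hfg hroot hcoroot in
lemma pm_pairing (i j : ι) : (q i : ℤ) * P'.pairing (u j) (u i) = (q j : ℤ) * P.pairing j i := by
  have h1 := hfg (P'.root (u j)) (P.coroot i)
  rw [hroot, hcoroot, map_smul, map_smul] at h1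
  simp only [LinearMap.smul_apply, smul_eq_mul] at h1
  rw [P.root_coroot_eq_pairing, P'.root_coroot_eq_pairing] at h1
  exact h1.symm

include hfg hroot hcoroot hq in
lemma pm_reflection [P.IsReduced] (i j : ι) :
    q (P.reflectionPerm i j) = q j ∧ u (P.reflectionPerm i j) = P'.reflectionPerm (u i) (u j) := by
  obtain ⟨k, hk⟩ := u.surjective (P'.reflectionPerm (u i) (u j))
  have h1 : f (P'.root (u k)) = (q j : ℤ) • P.root (P.reflectionPerm i j) := by
    rw [hk, P'.root_reflectionPerm, P'.reflection_apply_root, map_sub, map_smul, hroot, hroot,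
      P.root_reflectionPerm, P.reflection_apply_root, smul_sub, smul_smul, smul_smul,
      mul_comm, pm_pairing P P' f g hfg u q hroot hcoroot i j]
  rw [hroot] at h1
  obtain ⟨h2, h3⟩ := eq_of_smul_eq P (hq k) (hq j) h1
  rw [← h2]
  exact ⟨h3, hk⟩

include hfg hroot hcoroot hq in
lemma pm_neg [P.IsReduced] (i : ι) : u (P.reflectionPerm i i) = P'.reflectionPerm (u i) (u i) :=
  (pm_reflection P P' f g hfg u q hq hroot hcoroot i i).2

include hfg hcoroot hq in
lemma pm_inj {x : M'} (hx : x ∈ RD5.Q P') (h : f x = 0) : x = 0 := by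
  have hN' := RD.torsionFreeN P'
  apply RD5.eq_zero_of_forall_coroot P' hx
  intro j
  obtain ⟨i, rfl⟩ := u.surjective j
  have h1 := hfg x (P.coroot i)
  rw [h, map_zero, hcoroot, map_smul] at h1
  simp only [LinearMap.zero_apply, smul_eq_mul] at h1
  have h2 : (q i : ℤ) ≠ 0 := by have := hq i; omega
  rcases mul_eq_zero.mp h1.symm with h3 | h3
  · exact absurd h3 h2
  · exact h3

include hroot in
lemma pm_natSpan_map {S : Set ι} {x : M'} (hx : x ∈ natSpan P' (u '' S)) : f x ∈ natSpan P S := by
  induction hx using AddSubmonoid.closure_induction with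
  | mem x hx =>
    obtain ⟨_, ⟨i, hi, rfl⟩, rfl⟩ := hx
    rw [hroot, natCast_zsmul]
    exact nsmul_mem (RD1.root_mem_natSpan P hi) _
  | zero => rw [map_zero]; exact zero_mem _
  | add x y _ _ hx hy => rw [map_add]; exact add_mem hx hy

include hroot in
lemma pm_natSpan_lift {S : Set ι} {x : M} (hx : x ∈ natSpan P S) :
    ∃ x' ∈ natSpan P' (u '' S), f x' = (∏ᶠ i, q i) • x := by
  have : Fintype ι := Fintype.ofFinite ι
  induction hx using AddSubmonoid.closure_induction with
  | mem x hx =>
    obtain ⟨i, hi, rfl⟩ := hx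
    have hdvd : q i ∣ ∏ᶠ i, q i := by
      rw [finprod_eq_prod_of_fintype]
      exact Finset.dvd_prod_of_mem q (Finset.mem_univ i)
    obtain ⟨c, hc⟩ := hdvd
    have hmem : u i ∈ u '' S := ⟨i, hi, rfl⟩
    refine ⟨c • P'.root (u i), nsmul_mem (RD1.root_mem_natSpan P' hmem) _, ?_⟩
    rw [map_nsmul, hroot, hc, natCast_zsmul, smul_smul, mul_comm]
  | zero => exact ⟨0, zero_mem _, by rw [map_zero, smul_zero]⟩
  | add x y _ _ hx hy =>
    obtain ⟨x', hx', hx''⟩ := hx
    obtain ⟨y', hy', hy''⟩ := hy
    refine ⟨x' + y', add_mem hx' hy', ?_⟩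
    rw [map_add, hx'', hy'', smul_add]

lemma natSpan_le_Q (S : Set ι) {x : M} (hx : x ∈ natSpan P S) : x ∈ RD5.Q P := by
  induction hx using AddSubmonoid.closure_induction with
  | mem x hx =>
    obtain ⟨i, hi, rfl⟩ := hx
    exact RD5.root_mem_Q P i
  | zero => exact zero_mem _
  | add x y _ _ hx hy => exact add_mem hx hy

end PM

end Groth.Agent.Helper2.RD19
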