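import Mathlib
import Groth.Prelude.Def_W4sga3xxiRoot
import Groth.Agent.Helper2.RootD19
set_option autoImplicit false
open Set RootPairing Module RootD
open scoped Pointwise

namespace Groth.Agent.Helper2.RD20
variable {ι M N : Type*} [AddCommGroup M] [AddCommGroup N]

/-- weights killed by all coroots -/
abbrev K (P : RootPairing ι ℤ M N) : Submodule ℤ M := ⨅ i : ι, LinearMap.ker (P.coroot' i)

lemma K_eq_ker_pol (P : RootPairing ι ℤ M N) [Fintype ι] : K P = LinearMap.ker P.Polarization := by
  ext x
  simp only [Submodule.mem_iInf, LinearMap.mem_ker]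
  constructor
  · intro h
    rw [P.Polarization_apply]
    apply Finset.sum_eq_zero
    intro i _
    rw [h i, zero_smul]
  · intro h i
    have h1 : P.RootForm x x = 0 := by
      have : x ∈ LinearMap.ker P.RootForm := by
        rw [← P.ker_polarization_eq_ker_rootForm]; exact h
      rw [LinearMap.mem_ker] at this
      rw [this]; rfl
    rw [P.rootForm_apply_apply] at h1
    have h2 := (Finset.sum_eq_zero_iff_of_nonneg (fun j _ => mul_self_nonneg _)).mp h1 i (Finset.mem_univ i)
    exact mul_self_eq_zero.mp h2

lemma finrank_K_add (P : RootPairing ι ℤ M N) [Finite ι] [Module.Finite ℤ M] :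
    Module.finrank ℤ (K P) + Module.finrank ℤ (Submodule.span ℤ (Set.range P.root)) = Module.finrank ℤ M := by
  have : Fintype ι := Fintype.ofFinite ι
  have hM := RD.torsionFreeM P
  have hN := RD.torsionFreeN P
  rw [K_eq_ker_pol]
  have h1 := (LinearMap.ker P.Polarization).finrank_quotient_add_finrank
  rw [LinearEquiv.finrank_eq P.Polarization.quotKerEquivRange] at h1
  rw [← h1, add_comm]
  congr 1
  have h2 := P.finrank_rootSpan_map_polarization_eq_finrank_corootSpan
  have h3 := P.finrank_corootSpan_eq'
  have h4 : (P.rootSpan ℤ).map P.Polarization ≤ LinearMap.range P.Polarization := by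
    rintro _ ⟨x, _, rfl⟩; exact ⟨x, rfl⟩
  have h5 : LinearMap.range P.Polarization ≤ P.corootSpan ℤ := by
    rintro _ ⟨x, rfl⟩
    rw [P.Polarization_apply]
    exact Submodule.sum_mem _ (fun i _ => Submodule.smul_mem _ _ (Submodule.subset_span ⟨i, rfl⟩))
  have h6 := Submodule.finrank_mono h4
  have h7 := Submodule.finrank_mono h5
  show Module.finrank ℤ (P.rootSpan ℤ) = _
  omega

end Groth.Agent.Helper2.RD20
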