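import Mathlib
import Groth.Prelude.Def_W4sga3xxiRoot
import Groth.Agent.Helper2.RootD20
set_option autoImplicit false
open Set RootPairing Module RootD
open scoped Pointwise

namespace Groth.Agent.Helper2.RD21
variable {ι M N ι' M' N' : Type*} [AddCommGroup M] [AddCommGroup N] [AddCommGroup M'] [AddCommGroup N']

/-- pairing compatibility of a morphism -/
lemma hom_pairing (P : RootPairing ι ℤ M N) (P' : RootPairing ι' ℤ M' N') (f : RootPairing.Hom P' P)
    (x : M') (i : ι') : P.toLinearMap (f.weightMap x) (P.coroot (f.indexEquiv i)) = P'.toLinearMap x (P'.coroot i) := by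
  have h1 := Hom.weight_coweight_transpose_apply P' P (P.coroot (f.indexEquiv i)) f
  have h2 := Hom.coroot_coweightMap_apply P' P (f.indexEquiv i) f
  have h3 := LinearMap.congr_fun h1 x
  simp only [LinearMap.dualMap_apply] at h3
  rw [h2, Equiv.symm_apply_apply] at h3
  exact h3

end Groth.Agent.Helper2.RD21
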