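import Mathlib
import Groth.Prelude.Def_W4sga3xxiRoot
import Groth.Agent.Helper2.RootD21
set_option autoImplicit false
open Set RootPairing Module RootD
open scoped Pointwise

namespace Groth.Agent.Helper2.RD22
variable {ι M N : Type*} [AddCommGroup M] [AddCommGroup N]

lemma coroot_restrict_injective (P : RootPairing ι ℤ M N) [Finite ι] :
    Function.Injective (fun i : ι => (P.coroot' i).domRestrict (RD5.Q P)) := by
  intro i j hij
  apply P.coroot.injective
  rw [← sub_eq_zero]
  apply RD5.eq_zero_of_forall_coroot P.flip
  · exact sub_mem (RD5.root_mem_Q P.flip i) (RD5.root_mem_Q P.flip j)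
  · intro k
    have h1 := LinearMap.congr_fun hij ⟨P.root k, RD5.root_mem_Q P k⟩
    simp only [LinearMap.domRestrict_apply] at h1
    show P.flip.coroot' k (P.coroot i - P.coroot j) = 0
    rw [map_sub, sub_eq_zero]
    exact h1

/-- the adjoint quotient datum: weight lattice = root lattice -/
noncomputable def adj (P : RootPairing ι ℤ M N) [Finite ι] [Module.Finite ℤ M] :
    RootPairing ι ℤ (RD5.Q P) (Dual ℤ (RD5.Q P)) :=
  haveI := RD.torsionFreeM P
  { toLinearMap := Dual.eval ℤ (RD5.Q P)
    isPerfPair_toLinearMap := LinearMap.IsPerfPair.dualEval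
    root := ⟨fun i => ⟨P.root i, RD5.root_mem_Q P i⟩, fun i j h => P.root.injective (congrArg Subtype.val h)⟩
    coroot := ⟨fun i => (P.coroot' i).domRestrict (RD5.Q P), coroot_restrict_injective P⟩
    root_coroot_two := fun i => P.root_coroot_two i
    reflectionPerm := P.reflectionPerm
    reflectionPerm_root := fun i j => Subtype.ext (P.reflectionPerm_root i j)
    reflectionPerm_coroot := fun i j => by
      ext x
      have := congrArg (fun n => P.toLinearMap (x : M) n) (P.reflectionPerm_coroot i j)
      simp only [map_sub, map_smul] at this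
      exact this }

noncomputable def adjHom (P : RootPairing ι ℤ M N) [Finite ι] [Module.Finite ℤ M] :
    RootPairing.Hom (adj P) P where
  weightMap := (RD5.Q P).subtype
  coweightMap := (RD5.Q P).subtype.dualMap ∘ₗ (P.flip.toPerfPair : N →ₗ[ℤ] Dual ℤ M)
  indexEquiv := Equiv.refl ι
  weight_coweight_transpose := by
    ext n x
    rfl
  root_weightMap := rfl
  coroot_coweightMap := by
    ext i x
    rfl

end Groth.Agent.Helper2.RD22
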