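import Mathlib
import Groth.Prelude.Def_W4sga3xxiRoot
import Groth.Agent.Helper2.RootD22
set_option autoImplicit false
open Set RootPairing Module RootD
open scoped Pointwise

namespace Groth.Agent.Helper2.RD23
variable {ι M N : Type*} [AddCommGroup M] [AddCommGroup N] (P : RootPairing ι ℤ M N)

lemma pol_injOn_Q [Fintype ι] {x : M} (hx : x ∈ RD5.Q P) (h : P.Polarization x = 0) : x = 0 := by
  apply RD5.eq_zero_of_forall_coroot P hx
  have : x ∈ RD20.K P := by rw [RD20.K_eq_ker_pol]; exact h
  intro i
  have := (Submodule.mem_iInf _).mp this i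
  exact this

/-- the coroot side: image of `ℕΔ` under `2·Pol` lands in the cone of any set of coroots containing
(a half of) each coroot of Δ -/
lemma two_pol_mem [Fintype ι] {Δ : Set ι} {Δ' : Set ι}
    (h : ∀ i ∈ Δ, P.coroot i ∈ natSpan P.flip Δ') {x : M} (hx : x ∈ natSpan P Δ) :
    (2 : ℤ) • P.Polarization x ∈ natSpan P.flip Δ' := by
  induction hx using AddSubmonoid.closure_induction with
  | mem x hx =>
    obtain ⟨i, hi, rfl⟩ := hx
    have h1 := P.rootForm_self_smul_coroot i
    rw [ofNat_zsmul, ← h1]
    have h2 : 0 ≤ P.RootForm (P.root i) (P.root i) := (RD6.len_pos P i).le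
    rw [← Int.toNat_of_nonneg h2, natCast_zsmul]
    exact nsmul_mem (h i hi) _
  | zero => rw [map_zero, smul_zero]; exact zero_mem _
  | add x y _ _ hx hy => rw [map_add, smul_add]; exact add_mem hx hy

end Groth.Agent.Helper2.RD23
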