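import Mathlib
import Groth.Prelude.Def_W4sga3xxiRoot
import Groth.Agent.Helper2.RootD23
set_option autoImplicit false
open Set RootPairing Module RootD
open scoped Pointwise

namespace Groth.Agent.Helper2.RD24
variable {ι M N : Type*} [AddCommGroup M] [AddCommGroup N] (P : RootPairing ι ℤ M N)

lemma V_le_Q (T : Set ι) : RD18.V P T ≤ RD5.Q P :=
  Submodule.span_mono (by rintro _ ⟨i, _, rfl⟩; exact ⟨i, rfl⟩)

lemma rootForm_symm [Fintype ι] (x y : M) : P.RootForm x y = P.RootForm y x := by
  have := P.rootForm_symmetric.eq y x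
  simpa using this.symm

/-- Gram–Schmidt over ℤ: a positive multiple of `z` decomposes as `v + x` with `v` in the span of the
roots of `s` and `x` orthogonal to that span. -/
lemma exists_orth [Fintype ι] [DecidableEq ι] (s : Finset ι) (z : M) :
    ∃ n : ℕ, 0 < n ∧ ∃ v ∈ RD18.V P (↑s : Set ι), ∀ w ∈ RD18.V P (↑s : Set ι), P.RootForm (n • z - v) w = 0 := by
  induction s using Finset.induction_on generalizing z with
  | empty =>
    refine ⟨1, one_pos, 0, zero_mem _, ?_⟩
    intro w hw
    have : w = 0 := by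
      have : RD18.V P (↑(∅ : Finset ι) : Set ι) = ⊥ := by simp [RD18.V]
      rw [this] at hw
      exact (Submodule.mem_bot ℤ).mp hw
    rw [this, map_zero]
  | insert m s hm ih =>
    obtain ⟨n, hn, v, hv, hx⟩ := ih z
    obtain ⟨n', hn', v', hv', hu⟩ := ih (P.root m)
    obtain ⟨x, hxdef⟩ : ∃ x, x = n • z - v := ⟨_, rfl⟩
    obtain ⟨u, hudef⟩ : ∃ u, u = n' • P.root m - v' := ⟨_, rfl⟩
    rw [← hxdef] at hx
    rw [← hudef] at hu
    have hmono : RD18.V P (↑s : Set ι) ≤ RD18.V P (↑(insert m s) : Set ι) := by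
      apply Submodule.span_mono
      apply Set.image_mono
      intro a ha
      exact Finset.mem_coe.mpr (Finset.mem_insert_of_mem ha)
    have hrootm : P.root m ∈ RD18.V P (↑(insert m s) : Set ι) :=
      Submodule.subset_span ⟨m, Finset.mem_coe.mpr (Finset.mem_insert_self m s), rfl⟩
    have humem : u ∈ RD18.V P (↑(insert m s) : Set ι) := by
      rw [hudef]; exact sub_mem (nsmul_mem hrootm _) (hmono hv')
    -- decomposition of elements of the bigger span
    have hdec : ∀ w ∈ RD18.V P (↑(insert m s) : Set ι), ∃ a : ℤ, ∃ w' ∈ RD18.V P (↑s : Set ι), w = a • P.root m + w' := by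
      intro w hw
      have : (↑(insert m s) : Set ι) = insert m (↑s : Set ι) := by simp
      rw [RD18.V, this, Set.image_insert_eq, Submodule.mem_span_insert] at hw
      obtain ⟨a, w', hw', rfl⟩ := hw
      exact ⟨a, w', hw', rfl⟩
    by_cases hu0 : u = 0
    · refine ⟨n, hn, v, hmono hv, ?_⟩
      rw [← hxdef]
      intro w hw
      obtain ⟨a, w', hw', rfl⟩ := hdec w hw
      rw [map_add, map_smul, hx w' hw', add_zero]
      have h1 : P.RootForm x (n' • P.root m) = 0 := by
        have : n' • P.root m = v' := by rw [← sub_eq_zero, ← hudef]; exact hu0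
        rw [this]; exact hx v' hv'
      rw [map_nsmul, smul_eq_zero] at h1
      rcases h1 with h1 | h1
      · omega
      · rw [h1, smul_zero]
    · have huQ : u ∈ RD5.Q P := by
        rw [hudef]; exact sub_mem (nsmul_mem (RD5.root_mem_Q P m) _) (V_le_Q P _ hv')
      have hβ : 0 < P.RootForm u u := P.rootForm_pos_of_ne_zero huQ hu0
      set β := P.RootForm u u with hβdef
      set γ := P.RootForm x u with hγdef
      refine ⟨β.toNat * n, Nat.mul_pos (by omega) hn, β • v + γ • u, ?_, ?_⟩
      · exact add_mem (Submodule.smul_mem _ _ (hmono hv)) (Submodule.smul_mem _ _ humem)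
      · have hx' : (β.toNat * n) • z - (β • v + γ • u) = β • x - γ • u := by
          rw [mul_smul, ← natCast_zsmul (n • z), Int.toNat_of_nonneg hβ.le, hxdef, smul_sub]
          abel
        rw [hx']
        have horth : ∀ w' ∈ RD18.V P (↑s : Set ι), P.RootForm (β • x - γ • u) w' = 0 := by
          intro w' hw'
          rw [map_sub, map_smul, map_smul, LinearMap.sub_apply, LinearMap.smul_apply, LinearMap.smul_apply,
            hx w' hw', hu w' hw', smul_zero, smul_zero, sub_zero]
        have hself : P.RootForm (β • x - γ • u) u = 0 := by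
          rw [map_sub, map_smul, map_smul, LinearMap.sub_apply, LinearMap.smul_apply, LinearMap.smul_apply,
            ← hβdef, ← hγdef, smul_eq_mul, smul_eq_mul]
          ring
        have hrm : P.RootForm (β • x - γ • u) (P.root m) = 0 := by
          have h1 : P.RootForm (β • x - γ • u) (n' • P.root m) = 0 := by
            have : n' • P.root m = u + v' := by rw [hudef]; abel
            rw [this, map_add, hself, horth v' hv', add_zero]
          rw [map_nsmul, smul_eq_zero] at h1
          rcases h1 with h1 | h1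
          · omega
          · exact h1
        intro w hw
        obtain ⟨a, w', hw', rfl⟩ := hdec w hw
        rw [map_add, map_smul, hrm, horth w' hw', smul_zero, add_zero]

/-- lexicographic combination of two coweights -/
lemma exists_lex [Finite ι] (y1 y2 : N) : ∃ T : ℤ, 0 < T ∧ ∀ k,
    (0 < P.root' k y1 → 0 < P.root' k (T • y1 + y2)) ∧ (P.root' k y1 < 0 → P.root' k (T • y1 + y2) < 0) := by
  have : Fintype ι := Fintype.ofFinite ι
  set T : ℤ := 1 + ∑ i, |P.root' i y2| with hT
  have hb : ∀ k, |P.root' k y2| < T := by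
    intro k
    have := Finset.single_le_sum (f := fun i => |P.root' i y2|) (fun i _ => abs_nonneg _) (Finset.mem_univ k)
    omega
  have hT0 : 0 < T := by
    have : 0 ≤ ∑ i, |P.root' i y2| := Finset.sum_nonneg (fun i _ => abs_nonneg _)
    omega
  refine ⟨T, hT0, ?_⟩
  intro k
  have h1 := hb k
  rw [abs_lt] at h1
  constructor
  · intro h
    rw [map_add, map_smul, smul_eq_mul]
    nlinarith
  · intro h
    rw [map_add, map_smul, smul_eq_mul]
    nlinarith

/-- a coweight vanishing on a saturated set of roots but not on a given root outside it -/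
lemma exists_coweight_sep [Finite ι] (R' : Set ι)
    (hsat : ∀ k : ι, (∃ n : ℕ, 0 < n ∧ n • P.root k ∈ Submodule.span ℤ (P.root '' R')) → k ∈ R')
    {j : ι} (hj : j ∉ R') : ∃ y : N, (∀ i ∈ R', P.root' i y = 0) ∧ P.root' j y ≠ 0 := by
  classical
  have : Fintype ι := Fintype.ofFinite ι
  obtain ⟨n, hn, v, hv, hx⟩ := exists_orth P (R'.toFinset) (P.root j)
  have hcoe : (↑R'.toFinset : Set ι) = R' := Set.coe_toFinset R'
  rw [hcoe] at hv hx
  obtain ⟨x, hxdef⟩ : ∃ x, x = n • P.root j - v := ⟨_, rfl⟩
  rw [← hxdef] at hx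
  have hx0 : x ≠ 0 := by
    intro h0
    apply hj
    apply hsat
    refine ⟨n, hn, ?_⟩
    have : n • P.root j = v := by rw [← sub_eq_zero, ← hxdef]; exact h0
    rw [this]; exact hv
  have hxQ : x ∈ RD5.Q P := by
    rw [hxdef]; exact sub_mem (nsmul_mem (RD5.root_mem_Q P j) _) (V_le_Q P _ hv)
  have hpos : 0 < P.RootForm x x := P.rootForm_pos_of_ne_zero hxQ hx0
  refine ⟨P.Polarization x, ?_, ?_⟩
  · intro i hi
    show P.toLinearMap (P.root i) (P.Polarization x) = 0
    rw [P.toLinearMap_apply_apply_Polarization]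
    exact hx _ (Submodule.subset_span ⟨i, hi, rfl⟩)
  · show P.toLinearMap (P.root j) (P.Polarization x) ≠ 0
    rw [P.toLinearMap_apply_apply_Polarization]
    intro h0
    have h1 : P.RootForm x (n • P.root j) = 0 := by rw [map_nsmul, h0, smul_zero]
    have h2 : n • P.root j = x + v := by rw [hxdef]; abel
    rw [h2, map_add, hx v hv, add_zero] at h1
    omega

/-- a coweight vanishing exactly on a saturated set of roots -/
lemma exists_coweight_exact [Finite ι] (R' : Set ι)
    (hsat : ∀ k : ι, (∃ n : ℕ, 0 < n ∧ n • P.root k ∈ Submodule.span ℤ (P.root '' R')) → k ∈ R') :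
    ∃ y : N, ∀ k, P.root' k y = 0 ↔ k ∈ R' := by
  classical
  have : Fintype ι := Fintype.ofFinite ι
  suffices h : ∀ s : Finset ι, (∀ j ∈ s, j ∉ R') →
      ∃ y : N, (∀ i ∈ R', P.root' i y = 0) ∧ ∀ j ∈ s, P.root' j y ≠ 0 by
    obtain ⟨y, hy1, hy2⟩ := h (Finset.univ.filter (fun j => j ∉ R')) (by simp)
    refine ⟨y, fun k => ⟨fun hk => ?_, hy1 k⟩⟩
    by_contra hkR
    exact hy2 k (by simp [hkR]) hk
  intro s
  induction s using Finset.induction_on with
  | empty => intro _; exact ⟨0, by simp, by simp⟩
  | insert j s hj ih =>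
    intro hs
    obtain ⟨y0, hy0, hy0'⟩ := ih (fun a ha => hs a (Finset.mem_insert_of_mem ha))
    obtain ⟨yj, hyj, hyj'⟩ := exists_coweight_sep P R' hsat (hs j (Finset.mem_insert_self j s))
    obtain ⟨T, hT, hlex⟩ := exists_lex P y0 yj
    refine ⟨T • y0 + yj, ?_, ?_⟩
    · intro i hi
      rw [map_add, map_smul, hy0 i hi, hyj i hi, smul_zero, add_zero]
    · intro a ha
      rcases Finset.mem_insert.mp ha with rfl | ha'
      · by_cases h0 : P.root' a y0 = 0
        · rw [map_add, map_smul, h0, smul_zero, zero_add]; exact hyj'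
        · rcases lt_or_gt_of_ne h0 with h | h
          · exact ((hlex a).2 h).ne
          · exact ((hlex a).1 h).ne'
      · rcases lt_or_gt_of_ne (hy0' a ha') with h | h
        · exact ((hlex a).2 h).ne
        · exact ((hlex a).1 h).ne'

end Groth.Agent.Helper2.RD24
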