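import Mathlib
import Groth.Prelude.Def_W4sga3xxiRoot
import Groth.Agent.Helper2.RootD24
set_option autoImplicit false
open Set RootPairing Module RootD
open scoped Pointwise

namespace Groth.Agent.Helper2.RD25
variable {ι M N : Type*} [AddCommGroup M] [AddCommGroup N] (P : RootPairing ι ℤ M N)

/-- for a linearly independent set of roots, no positive multiple of one of them is in the span of the others -/
lemma nsmul_notMem_V {Δ' : Set ι} (hli : LinearIndepOn ℤ P.root Δ') {a : ι} (ha : a ∈ Δ') {n : ℕ} (hn : 0 < n) :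
    n • P.root a ∉ RD18.V P (Δ' \ {a}) := by
  classical
  intro h
  rw [RD18.V, Finsupp.mem_span_image_iff_linearCombination] at h
  obtain ⟨c, hc, hlc⟩ := h
  have hc' : ↑c.support ⊆ Δ' \ {a} := (Finsupp.mem_supported _ _).mp hc
  have h1 : RD2.LC P ((n : ℤ) • Finsupp.single a 1) = RD2.LC P c := by
    rw [map_smul, RD2.LC, Finsupp.linearCombination_single, one_smul, natCast_zsmul]
    exact hlc.symm
  have h2 := RD2.lc_unique P hli ?_ (fun b hb => (hc' hb).1) h1
  · have h3 := DFunLike.congr_fun h2 a
    have h4 : c a = 0 := by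
      by_contra h
      exact (hc' (Finsupp.mem_support_iff.mpr h)).2 rfl
    simp only [Finsupp.coe_smul, Pi.smul_apply, Finsupp.single_eq_same, smul_eq_mul, mul_one] at h3
    omega
  · intro b hb
    have := Finsupp.support_smul hb
    have := Finsupp.support_single_subset this
    simp only [Finset.mem_singleton] at this
    rw [this]; exact ha

/-- a coweight positive on a linearly independent set of roots -/
lemma exists_coweight_pos [Finite ι] (Δ' : Set ι) (hli : LinearIndepOn ℤ P.root Δ') :
    ∃ y : N, ∀ a ∈ Δ', 0 < P.root' a y := by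
  classical
  have : Fintype ι := Fintype.ofFinite ι
  have key : ∀ a ∈ Δ', ∃ x : M, (∀ w ∈ RD18.V P (Δ' \ {a}), P.RootForm x w = 0) ∧ 0 < P.RootForm x (P.root a) := by
    intro a ha
    obtain ⟨n, hn, v, hv, hx⟩ := RD24.exists_orth P ((Δ' \ {a}).toFinset) (P.root a)
    have hcoe : (↑(Δ' \ {a}).toFinset : Set ι) = Δ' \ {a} := Set.coe_toFinset _
    rw [hcoe] at hv hx
    obtain ⟨x, hxdef⟩ : ∃ x, x = n • P.root a - v := ⟨_, rfl⟩
    rw [← hxdef] at hx
    have hx0 : x ≠ 0 := by
      intro h0
      apply nsmul_notMem_V P hli ha hn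
      have : n • P.root a = v := by rw [← sub_eq_zero, ← hxdef]; exact h0
      rw [this]; exact hv
    have hxQ : x ∈ RD5.Q P := by
      rw [hxdef]; exact sub_mem (nsmul_mem (RD5.root_mem_Q P a) _) (RD24.V_le_Q P _ hv)
    have hpos : 0 < P.RootForm x x := P.rootForm_pos_of_ne_zero hxQ hx0
    refine ⟨x, hx, ?_⟩
    have h2 : n • P.root a = x + v := by rw [hxdef]; abel
    have h1 : P.RootForm x (n • P.root a) = P.RootForm x x := by
      rw [h2, map_add, hx v hv, add_zero]
    rw [map_nsmul] at h1
    by_contra hle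
    push Not at hle
    have : n • (P.RootForm x (P.root a)) ≤ 0 := by
      rw [nsmul_eq_mul]
      exact mul_nonpos_of_nonneg_of_nonpos (by positivity) hle
    omega
  choose! x hx hxpos using key
  refine ⟨P.Polarization (∑ a ∈ Δ'.toFinset, x a), ?_⟩
  intro b hb
  show 0 < P.toLinearMap (P.root b) (P.Polarization _)
  rw [P.toLinearMap_apply_apply_Polarization, map_sum, LinearMap.sum_apply]
  rw [Finset.sum_eq_single_of_mem b (Set.mem_toFinset.mpr hb)]
  · exact hxpos b hb
  · intro a ha hab
    rw [Set.mem_toFinset] at ha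
    exact hx a ha _ (Submodule.subset_span ⟨b, ⟨hb, fun h => hab (h.symm ▸ rfl)⟩, rfl⟩)

end Groth.Agent.Helper2.RD25
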