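import Mathlib
import Groth.Prelude.Def_W4sga3xxiRoot
import Groth.Agent.Helper2.RootD25
set_option autoImplicit false
open Set RootPairing Module RootD
open scoped Pointwise

namespace Groth.Agent.Helper2.RD26
variable {ι M N : Type*} [AddCommGroup M] [AddCommGroup N]

/-- a coweight positive on `S` is positive on nonzero elements of `ℕS` -/
lemma pos_of_mem_natSpan (P : RootPairing ι ℤ M N) (y : N) (S : Set ι) (h : ∀ a ∈ S, 0 < P.root' a y) {x : M}
    (hx : x ∈ natSpan P S) : x = 0 ∨ 0 < P.toLinearMap x y := by
  induction hx using AddSubmonoid.closure_induction with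
  | mem x hx =>
    obtain ⟨a, ha, rfl⟩ := hx
    exact Or.inr (h a ha)
  | zero => exact Or.inl rfl
  | add x y' _ _ hx hy =>
    rcases hx with rfl | hx
    · rcases hy with rfl | hy
      · left; rw [add_zero]
      · right; rw [zero_add]; exact hy
    · right
      rw [map_add, LinearMap.add_apply]
      rcases hy with rfl | hy
      · rw [map_zero, LinearMap.zero_apply, add_zero]; exact hx
      · exact add_pos hx hy

end Groth.Agent.Helper2.RD26
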