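import Mathlib
import Groth.Prelude.Def_W4sga3xxiRoot
import Groth.Agent.Helper2.RootD26
set_option autoImplicit false
open Set RootPairing Module RootD
open scoped Pointwise

namespace Groth.Agent.Helper2.RD27
variable {ι M N : Type*} [AddCommGroup M] [AddCommGroup N] (P : RootPairing ι ℤ M N)

/-- roots rationally in the span of two given roots -/
def Wsat (i k : ι) : Set ι := {l | ∃ n : ℕ, 0 < n ∧ n • P.root l ∈ Submodule.span ℤ {P.root i, P.root k}}

lemma Wsat_sat (i k : ι) (l : ι)
    (h : ∃ n : ℕ, 0 < n ∧ n • P.root l ∈ Submodule.span ℤ (P.root '' Wsat P i k)) : l ∈ Wsat P i k := by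
  obtain ⟨n, hn, hmem⟩ := h
  have key : ∀ x ∈ Submodule.span ℤ (P.root '' Wsat P i k),
      ∃ m : ℕ, 0 < m ∧ m • x ∈ Submodule.span ℤ {P.root i, P.root k} := by
    intro x hx
    induction hx using Submodule.span_induction with
    | mem x hx =>
      obtain ⟨l', hl', rfl⟩ := hx
      exact hl'
    | zero => exact ⟨1, one_pos, by rw [smul_zero]; exact zero_mem _⟩
    | add x y _ _ hx hy =>
      obtain ⟨m1, h1, h1'⟩ := hx
      obtain ⟨m2, h2, h2'⟩ := hy
      refine ⟨m1 * m2, Nat.mul_pos h1 h2, ?_⟩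
      rw [smul_add]
      refine add_mem ?_ ?_
      · rw [mul_comm, mul_smul]; exact nsmul_mem h1' _
      · rw [mul_smul]; exact nsmul_mem h2' _
    | smul a x _ hx =>
      obtain ⟨m1, h1, h1'⟩ := hx
      refine ⟨m1, h1, ?_⟩
      rw [smul_comm]
      exact Submodule.smul_mem _ _ h1'
  obtain ⟨m, hm, hm'⟩ := key _ hmem
  exact ⟨m * n, Nat.mul_pos hm hn, by rw [mul_smul]; exact hm'⟩

lemma mem_Wsat_left (i k : ι) : i ∈ Wsat P i k :=
  ⟨1, one_pos, by rw [one_smul]; exact Submodule.subset_span (by simp)⟩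

lemma mem_Wsat_right (i k : ι) : k ∈ Wsat P i k :=
  ⟨1, one_pos, by rw [one_smul]; exact Submodule.subset_span (by simp)⟩

/-- a coweight killing `α` and positive on `γ` -/
lemma exists_coweight_pair [Finite ι] (i k : ι) (hli : LinearIndependent ℤ ![P.root i, P.root k]) :
    ∃ y : N, P.root' i y = 0 ∧ 0 < P.root' k y := by
  classical
  have : Fintype ι := Fintype.ofFinite ι
  obtain ⟨n, hn, v, hv, hx⟩ := RD24.exists_orth P {i} (P.root k)
  have hcoe : (↑({i} : Finset ι) : Set ι) = {i} := by simp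
  rw [hcoe] at hv hx
  obtain ⟨x, hxdef⟩ : ∃ x, x = n • P.root k - v := ⟨_, rfl⟩
  rw [← hxdef] at hx
  have hv' : ∃ a : ℤ, v = a • P.root i := by
    rw [RD18.V, Set.image_singleton, Submodule.mem_span_singleton] at hv
    obtain ⟨a, ha⟩ := hv
    exact ⟨a, ha.symm⟩
  obtain ⟨a, hva⟩ := hv'
  have hx0 : x ≠ 0 := by
    intro h0
    rw [LinearIndependent.pair_iff] at hli
    have := hli (-a) n (by
      have : n • P.root k = v := by rw [← sub_eq_zero, ← hxdef]; exact h0
      rw [natCast_zsmul, this, hva]; module)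
    omega
  have hxQ : x ∈ RD5.Q P := by
    rw [hxdef]; exact sub_mem (nsmul_mem (RD5.root_mem_Q P k) _) (RD24.V_le_Q P _ hv)
  have hpos : 0 < P.RootForm x x := P.rootForm_pos_of_ne_zero hxQ hx0
  refine ⟨P.Polarization x, ?_, ?_⟩
  · show P.toLinearMap (P.root i) (P.Polarization x) = 0
    rw [P.toLinearMap_apply_apply_Polarization]
    exact hx _ (Submodule.subset_span ⟨i, rfl, rfl⟩)
  · show 0 < P.toLinearMap (P.root k) (P.Polarization x)
    rw [P.toLinearMap_apply_apply_Polarization]
    have h2 : n • P.root k = x + v := by rw [hxdef]; abel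
    have h1 : P.RootForm x (n • P.root k) = P.RootForm x x := by
      rw [h2, map_add, hx v hv, add_zero]
    rw [map_nsmul] at h1
    by_contra hle
    push Not at hle
    have : n • (P.RootForm x (P.root k)) ≤ 0 := by
      rw [nsmul_eq_mul]
      exact mul_nonpos_of_nonneg_of_nonpos (by positivity) hle
    omega

/-- pairing of a linear combination with a coweight -/
lemma lc_pairing [Fintype ι] (c : ι →₀ ℤ) (y : N) :
    P.toLinearMap (RD2.LC P c) y = ∑ a, c a * P.root' a y := by
  rw [RD2.LC, Finsupp.linearCombination_apply, Finsupp.sum_fintype _ _ (by simp), map_sum, LinearMap.sum_apply]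
  apply Finset.sum_congr rfl
  intro a _
  rw [map_smul, LinearMap.smul_apply, smul_eq_mul]

end Groth.Agent.Helper2.RD27
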