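import Mathlib
set_option autoImplicit false

namespace Groth.Agent.Helper2.RD28

/-- the group generated by two nontrivial involutions `a`, `b` has `2 · ord(ab)` elements -/
lemma card_closure_pair {G : Type*} [Group G] (a b : G) (ha : a * a = 1) (hb : b * b = 1)
    (ha1 : a ≠ 1) (hb1 : b ≠ 1) :
    Nat.card (Subgroup.closure ({a, b} : Set G)) = 2 * orderOf (a * b) := by
  obtain ⟨r, hr⟩ : ∃ r, r = a * b := ⟨_, rfl⟩
  rw [← hr]
  obtain ⟨D, hD⟩ : ∃ D, D = Subgroup.closure ({a, b} : Set G) := ⟨_, rfl⟩
  rw [← hD]
  set H := Subgroup.zpowers r with hH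
  have haD : a ∈ D := hD ▸ Subgroup.subset_closure (by simp)
  have hbD : b ∈ D := hD ▸ Subgroup.subset_closure (by simp)
  have hHD : H ≤ D := by
    rw [hH, Subgroup.zpowers_le, hr]; exact mul_mem haD hbD
  have hainv : a⁻¹ = a := inv_eq_of_mul_eq_one_right ha
  have hbinv : b⁻¹ = b := inv_eq_of_mul_eq_one_right hb
  have hrinv : a * r * a⁻¹ = r⁻¹ := by
    rw [hr, mul_inv_rev, hainv, hbinv, ← mul_assoc, ha, one_mul]
  have hconj : ∀ h ∈ H, a * h * a ∈ H := by
    intro h hh
    obtain ⟨k, rfl⟩ := Subgroup.mem_zpowers_iff.mp hh
    have : a * r ^ k * a = (r⁻¹) ^ k := by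
      rw [← hrinv, conj_zpow, hainv]
    rw [this]
    exact Subgroup.zpow_mem _ (Subgroup.inv_mem _ (Subgroup.mem_zpowers r)) k
  have hbar : b = a * r := by rw [hr, ← mul_assoc, ha, one_mul]
  have hrH : r ∈ H := Subgroup.mem_zpowers r
  -- every element is in H or H a
  have hcover : ∀ g ∈ D, g ∈ H ∨ g * a ∈ H := by
    intro g hg
    rw [hD] at hg
    induction hg using Subgroup.closure_induction_left with
    | one => exact Or.inl (one_mem _)
    | mul_left x hx y _ ih =>
      have hxcases : x = a ∨ x = b := by simpa using hx
      rcases hxcases with rfl | rfl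
      · rcases ih with h | h
        · right; exact hconj y h
        · left
          have := hconj _ h
          rwa [mul_assoc, mul_assoc, ha, mul_one] at this
      · rcases ih with h | h
        · right
          rw [hbar, mul_assoc a r y]
          exact hconj _ (mul_mem hrH h)
        · left
          have := hconj _ (mul_mem hrH h)
          rw [hbar]
          rwa [mul_assoc, mul_assoc, mul_assoc, ha, mul_one, ← mul_assoc] at this
    | inv_mul_cancel x hx y _ ih =>
      have hxcases : x = a ∨ x = b := by simpa using hx
      rcases hxcases with rfl | rfl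
      · rw [hainv]
        rcases ih with h | h
        · right; exact hconj y h
        · left
          have := hconj _ h
          rwa [mul_assoc, mul_assoc, ha, mul_one] at this
      · rw [hbinv]
        rcases ih with h | h
        · right
          rw [hbar, mul_assoc a r y]
          exact hconj _ (mul_mem hrH h)
        · left
          have := hconj _ (mul_mem hrH h)
          rw [hbar]
          rwa [mul_assoc, mul_assoc, mul_assoc, ha, mul_one, ← mul_assoc] at this
  -- a ∉ H
  have haH : a ∉ H := by
    intro h
    obtain ⟨k, hk⟩ := Subgroup.mem_zpowers_iff.mp h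
    have hcomm : Commute a r := by
      rw [← hk]; exact (Commute.refl r).zpow_left k
    have hr2 : r * r = 1 := by
      have h1 : a * r = r * a := hcomm.eq
      have h2 : r * a = b := by rw [← h1, ← hbar]
      calc r * r = r * (a * b) := by rw [← hr]
        _ = (r * a) * b := by rw [mul_assoc]
        _ = 1 := by rw [h2, hb]
    have hrk : r ^ k = 1 ∨ r ^ k = r := by
      rcases Int.emod_two_eq_zero_or_one k with h0 | h0
      · left
        have : k = 2 * (k / 2) := by omega
        rw [this, zpow_mul, zpow_ofNat, pow_two, hr2, one_zpow]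
      · right
        have : k = 2 * (k / 2) + 1 := by omega
        rw [this, zpow_add, zpow_mul, zpow_ofNat, pow_two, hr2, one_zpow, one_mul, zpow_one]
    rcases hrk with h0 | h0
    · exact ha1 (hk ▸ h0)
    · rw [h0] at hk
      apply hb1
      have : a * b = a * 1 := by rw [mul_one, ← hr, hk]
      exact mul_left_cancel this
  -- index two
  have hidx : (H.subgroupOf D).index = 2 := by
    rw [Subgroup.index_eq_two_iff]
    refine ⟨⟨a, haD⟩, ?_⟩
    rintro ⟨g, hg⟩
    simp only [Subgroup.mem_subgroupOf, Subgroup.coe_mul]
    rcases hcover g hg with h | h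
    · right
      refine ⟨h, fun h' => haH ?_⟩
      have := mul_mem (inv_mem h) h'
      rwa [inv_mul_cancel_left] at this
    · left
      refine ⟨h, fun h' => haH ?_⟩
      have := mul_mem (inv_mem h') h
      rwa [inv_mul_cancel_left] at this
  have h1 := Subgroup.card_mul_index (H.subgroupOf D)
  rw [hidx] at h1
  have h2 : Nat.card (H.subgroupOf D) = Nat.card H :=
    Nat.card_congr (Subgroup.subgroupOfEquivOfLe hHD).toEquiv
  have h3 : Nat.card H = orderOf r := Nat.card_zpowers r
  omega

end Groth.Agent.Helper2.RD28
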