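import Mathlib
import Groth.Prelude.Def_W4sga3xxiRoot
import Groth.Agent.Helper2.RootD27
set_option autoImplicit false
open Set RootPairing Module RootD
open scoped Pointwise

namespace Groth.Agent.Helper2.RD29
variable {ι M N : Type*} [AddCommGroup M] [AddCommGroup N] {P : RootPairing ι ℤ M N}
variable {Δ : Set ι} (hΔ : IsSimpleSys P Δ)

include hΔ in
/-- in a word of minimal length (among words in a sub-alphabet `A ⊆ Δ`), every prefix sends the next
simple root to a positive root -/
lemma pos_prefix [Finite ι] {A : Set ι} (hA : A ⊆ Δ) (l : List ι) (hl : ∀ a ∈ l, a ∈ A)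
    (hmin : ∀ l' : List ι, (∀ a ∈ l', a ∈ A) → RD13.wprod P l' = RD13.wprod P l → l.length ≤ l'.length)
    (pre : List ι) (c : ι) (suf : List ι) (hsplit : l = pre ++ c :: suf) :
    RD13.wprod P pre • c ∈ posOf P Δ := by
  by_contra hneg
  have hcA : c ∈ A := hl c (by rw [hsplit]; simp)
  have hpreΔ : ∀ a ∈ pre, a ∈ Δ := fun a ha => hA (hl a (by rw [hsplit]; simp [ha]))
  obtain ⟨pre1, c', suf1, h1, h2⟩ := RD13.exists_split hΔ (hA hcA) pre hpreΔ hneg
  have hconj := RD.aut_conj_reflection P (RD13.wprod P suf1) c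
  rw [h2] at hconj
  have hprod : RD13.wprod P (pre1 ++ suf1 ++ suf) = RD13.wprod P l := by
    rw [hsplit, h1, RD13.wprod_append, RD13.wprod_append, RD13.wprod_append, RD13.wprod_append, RD13.wprod_cons,
      RD13.wprod_cons, ← hconj]
    have := RD4.reflection_mul_self P c
    group
    rw [mul_assoc (RD13.wprod P pre1 * RD13.wprod P suf1), this, mul_one]
  have hlen := hmin (pre1 ++ suf1 ++ suf) (by
    intro a ha
    apply hl
    rw [hsplit, h1]
    simp only [List.mem_append, List.mem_cons] at ha ⊢
    tauto) hprod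
  have : l.length = pre1.length + suf1.length + suf.length + 2 := by
    rw [hsplit, h1]; simp; omega
  simp only [List.length_append] at hlen
  omega

include hΔ in
lemma ht_of_root_eq_sub {k' k1 k2 : ι} (p : ℤ) (h : P.root k' = P.root k1 - p • P.root k2) :
    RD4.ht hΔ k' = RD4.ht hΔ k1 - p * RD4.ht hΔ k2 := by
  classical
  unfold RD4.ht
  have : RD2.coef hΔ k' = RD2.coef hΔ k1 - p • RD2.coef hΔ k2 := by
    symm
    apply RD2.coef_unique
    · intro a ha
      rcases Finset.mem_union.mp (Finsupp.support_sub ha) with h1 | h1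
      · exact RD2.coef_supp hΔ _ h1
      · exact RD2.coef_supp hΔ _ (Finsupp.support_smul h1)
    · rw [map_sub, map_smul, RD2.coef_lc, RD2.coef_lc, h]
  rw [this, map_sub, map_smul, smul_eq_mul]

end Groth.Agent.Helper2.RD29
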