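import Mathlib
import Groth.Prelude.Def_W4sga3xxiRoot
import Groth.Agent.Helper2.RootD29
set_option autoImplicit false
open Set RootPairing Module RootD
open scoped Pointwise

namespace Groth.Agent.Helper2.RD30
variable {ι M N ι' M' N' : Type*} [AddCommGroup M] [AddCommGroup N] [AddCommGroup M'] [AddCommGroup N']

/-- the ℤ-basis of simple roots of an adjoint root datum -/
noncomputable def adjBasis (P : RootPairing ι ℤ M N) (had : Submodule.span ℤ (Set.range P.root) = ⊤)
    (b : P.Base) : Basis b.support ℤ M :=
  Basis.mk (v := fun i : b.support => P.root i) b.linearIndepOn_root (by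
    rw [← had, ← b.span_int_root_support]
    apply le_of_eq
    congr 1
    ext x
    simp)

lemma adjBasis_apply (P : RootPairing ι ℤ M N) (had : Submodule.span ℤ (Set.range P.root) = ⊤)
    (b : P.Base) (i : b.support) : adjBasis P had b i = P.root i := by
  simp [adjBasis]

/-- a linear equivalence compatible with the simple reflections maps roots to roots -/
lemma apply_mem_range_root (P : RootPairing ι ℤ M N) (P' : RootPairing ι' ℤ M' N') [Finite ι] [P.IsReduced]
    (had : Submodule.span ℤ (Set.range P.root) = ⊤)
    (b : P.Base) (b' : P'.Base) (u : ↥b.support ≃ ↥b'.support)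
    (hu : ∀ i j : ↥b.support, P.pairing (i : ι) (j : ι) = P'.pairing (u i : ι') (u j : ι'))
    (f : M ≃ₗ[ℤ] M') (hf : ∀ i : b.support, f (P.root i) = P'.root (u i)) (i : ι) :
    f (P.root i) ∈ Set.range P'.root := by
  have key : ∀ k : b.support, ∀ x : M, f (P.reflection k x) = P'.reflection (u k) (f x) := by
    intro k
    have : (f : M →ₗ[ℤ] M').comp (P.reflection k).toLinearMap =
        (P'.reflection (u k)).toLinearMap.comp (f : M →ₗ[ℤ] M') := by
      apply (adjBasis P had b).ext
      intro j
      simp only [LinearMap.comp_apply, LinearEquiv.coe_coe, adjBasis_apply]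
      rw [P.reflection_apply_root, map_sub, map_smul, hf, hf, P'.reflection_apply_root, hu]
    intro x
    exact LinearMap.congr_fun this x
  apply b.induction_reflect i (p := fun i => f (P.root i) ∈ Set.range P'.root)
  · rintro j ⟨k, hk⟩
    refine ⟨P'.reflectionPerm k k, ?_⟩
    rw [RD.root_neg, RD.root_neg, map_neg, hk]
  · intro j hj
    exact ⟨u ⟨j, hj⟩, (hf ⟨j, hj⟩).symm⟩
  · rintro j k ⟨l, hl⟩ hk
    refine ⟨P'.reflectionPerm (u ⟨k, hk⟩) l, ?_⟩
    rw [P'.root_reflectionPerm, hl, ← key ⟨k, hk⟩, P.root_reflectionPerm]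

end Groth.Agent.Helper2.RD30
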