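import Mathlib
import Groth.Prelude
import Groth.Agent.Helper3.SchDense
import Groth.Agent.Lead.LimFlat

set_option autoImplicit false
universe u
open CategoryTheory CategoryTheory.Limits AlgebraicGeometry TopologicalSpace Opposite TensorProduct

namespace Groth.Agent.Helper2.SchDenseLim

/-- common stage for finitely many eventually-true, pullback-stable conditions -/
theorem exists_common_stage {I : Type*} [Category I] [IsCofiltered I] (i₀ : I) {P : Type*}
    (Good : P → ∀ j : I, (j ⟶ i₀) → Prop)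
    (hstab : ∀ (p : P) (j : I) (g : j ⟶ i₀) (j' : I) (h : j' ⟶ j), Good p j g → Good p j' (h ≫ g))
    (s : Finset P) (hex : ∀ p ∈ s, ∃ (j : I) (g : j ⟶ i₀), Good p j g) :
    ∃ (j : I) (g : j ⟶ i₀), ∀ p ∈ s, Good p j g := by
  classical
  induction s using Finset.induction_on with
  | empty => exact ⟨i₀, 𝟙 _, fun p hp => absurd hp (Finset.notMem_empty p)⟩
  | insert p₀ s hp₀ ih =>
    obtain ⟨j₁, g₁, h₁⟩ := ih (fun p hp => hex p (Finset.mem_insert_of_mem hp))
    obtain ⟨j₂, g₂, h₂⟩ := hex p₀ (Finset.mem_insert_self p₀ s)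
    let j := IsCofiltered.min j₁ j₂
    let e₁ : j ⟶ j₁ := IsCofiltered.minToLeft j₁ j₂
    let e₂ : j ⟶ j₂ := IsCofiltered.minToRight j₁ j₂
    let j' := IsCofiltered.eq (e₁ ≫ g₁) (e₂ ≫ g₂)
    let e : j' ⟶ j := IsCofiltered.eqHom (e₁ ≫ g₁) (e₂ ≫ g₂)
    have he : e ≫ e₁ ≫ g₁ = e ≫ e₂ ≫ g₂ := IsCofiltered.eq_condition _ _
    refine ⟨j', e ≫ e₁ ≫ g₁, fun p hp => ?_⟩
    rcases Finset.mem_insert.mp hp with rfl | hp
    · rw [he, ← Category.assoc]
      exact hstab _ _ _ _ _ h₂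
    · rw [← Category.assoc]
      exact hstab _ _ _ _ _ (h₁ p hp)

/-- a section killed by powers of functions whose basic opens cover `O` vanishes on `O` -/
theorem res_eq_zero_of_pow_mul {X : Scheme.{u}} {W O : X.Opens} (hO : O ≤ W) (T : Finset Γ(X, W))
    (hT : ∀ x ∈ O, ∃ t ∈ T, x ∈ X.basicOpen t) (N : ℕ)
    (r : Γ(X, W)) (hr : ∀ t ∈ T, t ^ N * r = 0) :
    X.presheaf.map (homOfLE hO).op r = 0 := by
  apply Groth.Agent.Helper3.SchDense.eq_zero_of_germ
  intro x hx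
  obtain ⟨t, ht, hxt⟩ := hT x hx
  have hxW : x ∈ W := hO hx
  have e2 : X.presheaf.germ O x hx (X.presheaf.map (homOfLE hO).op r) = X.presheaf.germ W x hxW r :=
    TopCat.Presheaf.germ_res_apply _ _ _ _ _
  rw [e2]
  have hu : IsUnit (X.presheaf.germ W x hxW t) := (Scheme.mem_basicOpen X t x hxW).mp hxt
  have h2 : X.presheaf.germ W x hxW (t ^ N * r) = 0 := by rw [hr t ht, map_zero]
  rw [map_mul, map_pow] at h2
  exact (hu.pow N).mul_right_eq_zero.mp h2

/-- flat base change: an element killed by the images of `c i` lies in `(0 : c)·B`; if the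
annihilator of the `c i` maps to zero then the element is zero. -/
theorem flat_core' {A B : Type*} [CommRing A] [CommRing B] [Algebra A B] [Module.Flat A B]
    {ι : Type*} [Fintype ι] [DecidableEq ι] (c : ι → A)
    (hker : ∀ r : A, (∀ i, c i * r = 0) → algebraMap A B r = 0) (b : B)
    (hb : ∀ i, algebraMap A B (c i) * b = 0) : b = 0 := by
  let g : A →ₗ[A] (ι → A) := LinearMap.pi fun i => LinearMap.mulLeft A (c i)
  have hex := Module.Flat.lTensor_exact B (LinearMap.exact_subtype_ker_map g)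
  have h2 : (g.lTensor B) (b ⊗ₜ 1) = 0 := by
    apply (TensorProduct.piScalarRight A A B ι).injective
    rw [map_zero, LinearMap.lTensor_tmul, TensorProduct.piScalarRight_apply,
      TensorProduct.piScalarRightHom_tmul]
    ext i
    show (c i * 1) • b = 0
    rw [mul_one, Algebra.smul_def]
    exact hb i
  obtain ⟨y, hy⟩ := (hex (b ⊗ₜ 1)).mp h2
  have hzero : (TensorProduct.rid A B).toLinearMap ∘ₗ (LinearMap.ker g).subtype.lTensor B = 0 := by
    apply TensorProduct.ext'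
    intro b' k
    have hk : ∀ i, c i * (k : A) = 0 := fun i => congrFun (LinearMap.mem_ker.mp k.2) i
    show (TensorProduct.rid A B) (b' ⊗ₜ[A] (k : A)) = 0
    rw [TensorProduct.rid_tmul, Algebra.smul_def, hker _ hk, zero_mul]
  have h4 := congrArg (TensorProduct.rid A B) hy
  rw [TensorProduct.rid_tmul, one_smul] at h4
  rw [← h4]
  exact LinearMap.congr_fun hzero y


set_option maxHeartbeats 800000 in
/-- local flat statement: if the sections of `W` vanishing on `W ⊓ V` die in `X'`, then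
`f⁻¹ V` is schematically dense over `W`. -/
theorem local_flat' {X X' : Scheme.{u}} (f : X' ⟶ X) [Flat f] (V : X.Opens)
    {W : X.Opens} (hW : IsAffineOpen W) [IsNoetherianRing Γ(X, W)]
    (hK : ∀ r : Γ(X, W), X.presheaf.map (homOfLE (inf_le_left : W ⊓ V ≤ W)).op r = 0 →
      f.app W r = 0)
    {W' : X'.Opens} (hW' : IsAffineOpen W') (e : W' ≤ f ⁻¹ᵁ W)
    (a : Γ(X', W'))
    (ha : X'.presheaf.map (homOfLE (inf_le_left : W' ⊓ f ⁻¹ᵁ V ≤ W')).op a = 0) : a = 0 := by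
  classical
  obtain ⟨T, hT1, hT2⟩ := Groth.Agent.Helper3.SchDense.finite_cover hW (W ⊓ V) inf_le_left
  have hflat : (f.appLE W W' e).hom.Flat := f.flat_appLE hW hW' e
  letI : Algebra Γ(X, W) Γ(X', W') := (f.appLE W W' e).hom.toAlgebra
  haveI : Module.Flat Γ(X, W) Γ(X', W') := hflat
  have hn : ∀ t : Γ(X, W), t ∈ T → ∃ n : ℕ, (f.appLE W W' e t) ^ n * a = 0 := by
    intro t ht
    apply Groth.Agent.Helper3.SchDense.exists_pow_mul_eq_zero hW'
    have hle : X'.basicOpen (f.appLE W W' e t) ≤ W' ⊓ f ⁻¹ᵁ V := by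
      rw [Scheme.basicOpen_appLE]
      refine inf_le_inf_left _ ?_
      intro y hy
      exact (hT1 t ht hy).2
    have : X'.presheaf.map (homOfLE (X'.basicOpen_le (f.appLE W W' e t))).op a =
        X'.presheaf.map (homOfLE hle).op
          (X'.presheaf.map (homOfLE (inf_le_left : W' ⊓ f ⁻¹ᵁ V ≤ W')).op a) := by
      show _ = (X'.presheaf.map (homOfLE (inf_le_left : W' ⊓ f ⁻¹ᵁ V ≤ W')).op ≫
          X'.presheaf.map (homOfLE hle).op) a
      rw [← Functor.map_comp]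
      rfl
    rw [this, ha, map_zero]
  choose! n hn using hn
  let N := T.sup n
  have hN : ∀ t ∈ T, (f.appLE W W' e t) ^ N * a = 0 := by
    intro t ht
    have hle : n t ≤ N := Finset.le_sup ht
    rw [← Nat.sub_add_cancel hle, pow_add, mul_assoc, hn t ht, mul_zero]
  refine flat_core' (A := Γ(X, W)) (B := Γ(X', W')) (ι := ↥T) (fun i => (i : Γ(X, W)) ^ N) ?_ a ?_
  · intro r hr
    have h1 : X.presheaf.map (homOfLE (inf_le_left : W ⊓ V ≤ W)).op r = 0 :=
      res_eq_zero_of_pow_mul inf_le_left T hT2 N r (fun t ht => hr ⟨t, ht⟩)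
    have h2 := hK r h1
    show (f.appLE W W' e) r = 0
    show (X'.presheaf.map (homOfLE e).op) (f.app W r) = 0
    rw [h2, map_zero]
  · intro i
    show (f.appLE W W' e) ((i : Γ(X, W)) ^ N) * a = 0
    rw [map_pow]
    exact hN i i.2


/-- globalisation of `local_flat'` -/
theorem isSchematicallyDense_of_cover {X X' : Scheme.{u}} (f : X' ⟶ X) [Flat f]
    [IsLocallyNoetherian X] (V : X.Opens) (𝒲 : Set X.Opens)
    (hcov : ∀ x : X, ∃ W ∈ 𝒲, x ∈ W) (haff : ∀ W ∈ 𝒲, IsAffineOpen W)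
    (hK : ∀ W ∈ 𝒲, ∀ r : Γ(X, W),
      X.presheaf.map (homOfLE (inf_le_left : W ⊓ V ≤ W)).op r = 0 → f.app W r = 0) :
    CInt.IsSchematicallyDense (f ⁻¹ᵁ V) := by
  intro V'
  rw [injective_iff_map_eq_zero]
  intro a ha
  apply Groth.Agent.Helper3.SchDense.eq_zero_of_germ
  intro x' hx'
  obtain ⟨W, hW𝒲, hxW⟩ := hcov (f x')
  have hW : IsAffineOpen W := haff W hW𝒲
  have hx'2 : x' ∈ V' ⊓ f ⁻¹ᵁ W := ⟨hx', hxW⟩
  obtain ⟨_, ⟨W', hW', rfl⟩, hxW', hW'V : W' ≤ V' ⊓ f ⁻¹ᵁ W⟩ :=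
    X'.isBasis_affineOpens.exists_subset_of_mem_open hx'2 (V' ⊓ f ⁻¹ᵁ W).2
  replace hW' : IsAffineOpen W' := hW'
  haveI : IsNoetherianRing Γ(X, W) := IsLocallyNoetherian.component_noetherian ⟨W, hW⟩
  have hW'V' : W' ≤ V' := hW'V.trans inf_le_left
  let aW : Γ(X', W') := X'.presheaf.map (homOfLE hW'V').op a
  have haW : aW = 0 := by
    apply local_flat' f V hW (hK W hW𝒲) hW' (hW'V.trans inf_le_right)
    have hle : W' ⊓ f ⁻¹ᵁ V ≤ V' ⊓ f ⁻¹ᵁ V := inf_le_inf_right _ hW'V'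
    have : X'.presheaf.map (homOfLE (inf_le_left : W' ⊓ f ⁻¹ᵁ V ≤ W')).op aW =
        X'.presheaf.map (homOfLE hle).op
          (X'.presheaf.map (homOfLE (inf_le_left : V' ⊓ f ⁻¹ᵁ V ≤ V')).op a) := by
      show (X'.presheaf.map (homOfLE hW'V').op ≫
          X'.presheaf.map (homOfLE (inf_le_left : W' ⊓ f ⁻¹ᵁ V ≤ W')).op) a =
        (X'.presheaf.map (homOfLE (inf_le_left : V' ⊓ f ⁻¹ᵁ V ≤ V')).op ≫
          X'.presheaf.map (homOfLE hle).op) a
      rw [← Functor.map_comp, ← Functor.map_comp]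
      rfl
    rw [this, ha, map_zero]
  have e3 : X'.presheaf.germ V' x' hx' a = X'.presheaf.germ W' x' hxW' aW :=
    (TopCat.Presheaf.germ_res_apply _ _ _ _ _).symm
  rw [e3, haW, map_zero]

/-- a section of `W` vanishing on `W ⊓ U₀` dies in a morphism with schematically dense preimage -/
theorem app_eq_zero_of_isSchematicallyDense {X Y : Scheme.{u}} (f : X ⟶ Y) (U₀ W : Y.Opens)
    (hU : CInt.IsSchematicallyDense (f ⁻¹ᵁ U₀)) (a : Γ(Y, W))
    (ha : Y.presheaf.map (homOfLE (inf_le_left : W ⊓ U₀ ≤ W)).op a = 0) : f.app W a = 0 := by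
  apply hU (f ⁻¹ᵁ W)
  rw [map_zero]
  have h1 := congrArg (fun φ => φ a) (congrArg (fun φ => φ.hom)
    (f.naturality (homOfLE (inf_le_left : W ⊓ U₀ ≤ W)).op))
  simp only [CommRingCat.hom_comp, RingHom.comp_apply] at h1
  rw [ha, map_zero] at h1
  exact h1.symm


section limit
variable {I : Type u} [SmallCategory I] [IsCofiltered I] (D : I ⥤ Scheme.{u}) (c : Cone D)
  (hc : IsLimit c)

include hc in
theorem exists_stage_isSchematicallyDense
    [∀ (i j : I) (g : i ⟶ j), IsAffineHom (D.map g)] [∀ (i j : I) (g : i ⟶ j), Flat (D.map g)]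
    (i₀ : I) [IsNoetherian (D.obj i₀)] (U₀ : (D.obj i₀).Opens)
    (hU : CInt.IsSchematicallyDense ((c.π.app i₀) ⁻¹ᵁ U₀)) :
    ∃ (i : I) (g : i ⟶ i₀), CInt.IsSchematicallyDense ((D.map g) ⁻¹ᵁ U₀) := by
  classical
  haveI : ∀ {i j : I} (f : i ⟶ j), IsAffineHom (D.map f) := fun f => inferInstance
  -- finite affine cover
  obtain ⟨t, ht⟩ := isCompact_univ.elim_finite_subcover
    (fun W : (D.obj i₀).affineOpens => ((W.1 : (D.obj i₀).Opens) : Set (D.obj i₀)))
    (fun W => W.1.2) (by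
      intro x _
      obtain ⟨_, ⟨W, hW, rfl⟩, hxW, -⟩ := (D.obj i₀).isBasis_affineOpens.exists_subset_of_mem_open
        (Set.mem_univ x) isOpen_univ
      exact Set.mem_iUnion.mpr ⟨⟨W, hW⟩, hxW⟩)
  -- the ideals of sections vanishing on `W ⊓ U₀`
  let K : ∀ W : (D.obj i₀).affineOpens, Ideal Γ(D.obj i₀, W.1) := fun W =>
    RingHom.ker ((D.obj i₀).presheaf.map (homOfLE (inf_le_left : W.1 ⊓ U₀ ≤ W.1)).op).hom
  have hfg : ∀ W : (D.obj i₀).affineOpens, (K W).FG := fun W => by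
    haveI : IsNoetherianRing Γ(D.obj i₀, W.1) := IsLocallyNoetherian.component_noetherian W
    exact IsNoetherian.noetherian (K W)
  choose S hS using hfg
  let P := Σ W : (D.obj i₀).affineOpens, Γ(D.obj i₀, W.1)
  let Good : P → ∀ j : I, (j ⟶ i₀) → Prop := fun p j g => (D.map g).app p.1.1 p.2 = 0
  have hstab : ∀ (p : P) (j : I) (g : j ⟶ i₀) (j' : I) (h : j' ⟶ j),
      Good p j g → Good p j' (h ≫ g) := by
    intro p j g j' h hg
    show (D.map (h ≫ g)).app p.1.1 p.2 = 0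
    have h2 : D.map (h ≫ g) = D.map h ≫ D.map g := D.map_comp h g
    rw [Scheme.Hom.congr_app h2 p.1.1, Scheme.Hom.comp_app]
    show ((D.obj j').presheaf.map _) ((D.map h).app _ ((D.map g).app p.1.1 p.2)) = 0
    rw [hg, map_zero, map_zero]
  obtain ⟨j, g, hjg⟩ := exists_common_stage i₀ Good hstab (t.sigma S) (by
    intro p hp
    have hp2 : p.2 ∈ S p.1 := (Finset.mem_sigma.mp hp).2
    have hpK : p.2 ∈ K p.1 := by
      rw [← hS p.1]
      exact Ideal.subset_span hp2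
    have h0 : (c.π.app i₀).app p.1.1 p.2 = 0 :=
      app_eq_zero_of_isSchematicallyDense (c.π.app i₀) U₀ p.1.1 hU p.2 hpK
    exact exists_app_map_eq_zero_of_isLimit D c hc p.1.2.isCompact p.2 h0)
  refine ⟨j, g, ?_⟩
  apply isSchematicallyDense_of_cover (D.map g) U₀ {W | ∃ W' ∈ t, (W' : (D.obj i₀).affineOpens).1 = W}
  · intro x
    obtain ⟨W, hW⟩ := Set.mem_iUnion.mp (ht (Set.mem_univ x))
    obtain ⟨hWt, hxW⟩ := Set.mem_iUnion.mp hW
    exact ⟨W.1, ⟨W, hWt, rfl⟩, hxW⟩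
  · rintro _ ⟨W, -, rfl⟩
    exact W.2
  · rintro _ ⟨W, hWt, rfl⟩ r hr
    have hrK : r ∈ K W := hr
    rw [← hS W] at hrK
    have hle : Ideal.span (S W : Set Γ(D.obj i₀, W.1)) ≤ RingHom.ker ((D.map g).app W.1).hom := by
      rw [Ideal.span_le]
      intro a ha
      exact hjg ⟨W, a⟩ (Finset.mem_sigma.mpr ⟨hWt, ha⟩)
    exact hle hrK

include hc in
theorem isSchematicallyDense_of_stage
    [∀ (i j : I) (g : i ⟶ j), IsAffineHom (D.map g)] [∀ (i j : I) (g : i ⟶ j), Flat (D.map g)]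
    (i₀ : I) (U₀ : (D.obj i₀).Opens) (i : I) (g : i ⟶ i₀) [IsLocallyNoetherian (D.obj i)]
    (hU : CInt.IsSchematicallyDense ((D.map g) ⁻¹ᵁ U₀)) :
    CInt.IsSchematicallyDense ((c.π.app i₀) ⁻¹ᵁ U₀) := by
  haveI : ∀ {i j : I} (f : i ⟶ j), IsAffineHom (D.map f) := fun f => inferInstance
  haveI : Flat (c.π.app i) := Groth.Agent.Lead.LimFlat.flat_π D c hc i (fun j φ => inferInstance)
  have h1 := Groth.Agent.Helper3.SchDense.preimage_of_flat_locallyNoetherian (c.π.app i)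
    ((D.map g) ⁻¹ᵁ U₀) hU
  have h2 : (c.π.app i) ⁻¹ᵁ ((D.map g) ⁻¹ᵁ U₀) = (c.π.app i₀) ⁻¹ᵁ U₀ := by
    rw [← Scheme.Hom.comp_preimage, c.w g]
  rwa [h2] at h1

end limit

end Groth.Agent.Helper2.SchDenseLim
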