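import Mathlib
import Groth.Prelude

set_option autoImplicit false
universe u
open CategoryTheory CategoryTheory.Limits AlgebraicGeometry TopologicalSpace Opposite

namespace Groth.Agent.Helper2.SchDom

/-- vanishing of the restricted morphism on sections -/
theorem restrict_app_eq_zero_iff {X Z : Scheme.{u}} (g : Z ⟶ X) (U : X.Opens)
    (W : (U : Scheme.{u}).Opens) (t : Γ(X, U.ι ''ᵁ W)) :
    (g ∣_ U).app W t = 0 ↔ g.app (U.ι ''ᵁ W) t = 0 := by
  rw [morphismRestrict_app]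
  constructor
  · intro h
    have h2 : Function.Injective (Z.presheaf.map
        (eqToHom (image_morphismRestrict_preimage g U W)).op).hom :=
      ((ConcreteCategory.isIso_iff_bijective _).mp inferInstance).1
    apply h2
    rw [map_zero]
    exact h
  · intro h
    show (Z.presheaf.map _).hom ((g.app (U.ι ''ᵁ W)).hom t) = 0
    rw [h, map_zero]

section

variable {X S : Scheme.{u}} (p : X ⟶ S) {ι : Type u} (Z : ι → Scheme.{u}) (f : ∀ i, Z i ⟶ X)

theorem c_of_b (hb : ∀ (V : X.Opens) (t : Γ(X, V)), (∀ i, (f i).app V t = 0) → t = 0) :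
    ∀ (U : X.Opens) (Y : Scheme.{u}) (j : Y ⟶ (U : Scheme.{u})), IsClosedImmersion j →
      (∀ i, ∃ g : ((f i) ⁻¹ᵁ U : Scheme.{u}) ⟶ Y, g ≫ j = (f i) ∣_ U) → IsIso j := by
  intro U Y j hj hfac
  rw [IsClosedImmersion.isIso_iff_ker_eq_bot]
  ext W : 2
  rw [Scheme.Hom.ker_apply]
  show RingHom.ker (j.app W.1).hom = ⊥
  rw [eq_bot_iff]
  intro t ht
  have ht0 : j.app W.1 t = 0 := ht
  show t = 0
  apply hb (U.ι ''ᵁ W.1) t
  intro i
  obtain ⟨g, hg⟩ := hfac i
  rw [← restrict_app_eq_zero_iff, ← hg, Scheme.Hom.comp_app]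
  show (g.app _).hom ((j.app W.1).hom t) = 0
  rw [ht0, map_zero]


theorem d_of_c (hc : ∀ (U : X.Opens) (Y : Scheme.{u}) (j : Y ⟶ (U : Scheme.{u})), IsClosedImmersion j →
      (∀ i, ∃ g : ((f i) ⁻¹ᵁ U : Scheme.{u}) ⟶ Y, g ≫ j = (f i) ∣_ U) → IsIso j) :
    ∀ (X' : Scheme.{u}) (q : X' ⟶ S), IsSeparated q → ∀ (U : X.Opens) (u v : (U : Scheme.{u}) ⟶ X'),
      u ≫ q = U.ι ≫ p → v ≫ q = U.ι ≫ p → (∀ i, ((f i) ∣_ U) ≫ u = ((f i) ∣_ U) ≫ v) → u = v := by
  intro X' q hq U u v hu hv huv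
  let U' : Over S := Over.mk (U.ι ≫ p)
  let X'' : Over S := Over.mk q
  haveI : IsSeparated X''.hom := hq
  let u' : U' ⟶ X'' := Over.homMk u hu
  let v' : U' ⟶ X'' := Over.homMk v hv
  have hiso : IsIso (equalizer.ι u' v').left := by
    apply hc U _ (equalizer.ι u' v').left inferInstance
    intro i
    let T : Over S := Over.mk (((f i) ∣_ U) ≫ U.ι ≫ p)
    let r : T ⟶ U' := Over.homMk ((f i) ∣_ U) rfl
    have hr : r ≫ u' = r ≫ v' := by
      ext1
      exact huv i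
    refine ⟨(equalizer.lift r hr).left, ?_⟩
    rw [← Over.comp_left, equalizer.lift_ι]
    rfl
  haveI : IsIso (equalizer.ι u' v') := by
    haveI : IsIso ((Over.forget S).map (equalizer.ι u' v')) := hiso
    exact isIso_of_reflects_iso _ (Over.forget S)
  have h1 : u' = v' := by
    rw [← cancel_epi (equalizer.ι u' v')]
    exact equalizer.condition u' v'
  exact congrArg (fun φ => φ.left) h1

theorem b_of_d (hd : ∀ (X' : Scheme.{u}) (q : X' ⟶ S), IsSeparated q → ∀ (U : X.Opens)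
      (u v : (U : Scheme.{u}) ⟶ X'),
      u ≫ q = U.ι ≫ p → v ≫ q = U.ι ≫ p → (∀ i, ((f i) ∣_ U) ≫ u = ((f i) ∣_ U) ≫ v) → u = v) :
    ∀ (V : X.Opens) (t : Γ(X, V)), (∀ i, (f i).app V t = 0) → t = 0 := by
  intro V t ht
  have hle : V.ι ''ᵁ ⊤ ≤ V := le_of_eq V.ι_image_top
  have hge : V ≤ V.ι ''ᵁ ⊤ := le_of_eq V.ι_image_top.symm
  let tt : Γ(X, V.ι ''ᵁ ⊤) := X.presheaf.map (homOfLE hle).op t
  have htt : ∀ i, (f i ∣_ V).app ⊤ tt = 0 := by
    intro i
    rw [restrict_app_eq_zero_iff]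
    have h1 := congrArg (fun φ => φ.hom t) ((f i).naturality (homOfLE hle).op)
    simp only [CommRingCat.hom_comp, RingHom.comp_apply] at h1
    rw [ht i, map_zero] at h1
    exact h1
  let u : (V : Scheme.{u}) ⟶ AffineSpace PUnit.{u+1} S :=
    AffineSpace.homOfVector (V.ι ≫ p) (fun _ => tt)
  let v : (V : Scheme.{u}) ⟶ AffineSpace PUnit.{u+1} S :=
    AffineSpace.homOfVector (V.ι ≫ p) (fun _ => 0)
  have huv : u = v := by
    apply hd _ (AffineSpace PUnit.{u+1} S ↘ S) inferInstance V u v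
      (AffineSpace.homOfVector_over _ _) (AffineSpace.homOfVector_over _ _)
    intro i
    rw [AffineSpace.comp_homOfVector, AffineSpace.comp_homOfVector]
    congr 1
    funext x
    show (f i ∣_ V).appTop tt = (f i ∣_ V).appTop 0
    rw [map_zero]
    exact htt i
  have h2 : tt = 0 := by
    have h3 := congrArg (fun φ => φ.appTop (AffineSpace.coord S PUnit.unit)) huv
    simp only [u, v, AffineSpace.homOfVector_appTop_coord] at h3
    exact h3
  have h4 : X.presheaf.map (homOfLE hge).op tt = t := by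
    show (X.presheaf.map (homOfLE hle).op ≫ X.presheaf.map (homOfLE hge).op) t = t
    rw [← Functor.map_comp]
    have : (homOfLE hle).op ≫ (homOfLE hge).op = 𝟙 (op V) := rfl
    rw [this, X.presheaf.map_id]
    rfl
  rw [← h4, h2, map_zero]

theorem tfae :
    [(∀ (V : (X).Opens) (t : Γ(X, V)), (∀ i, (f i).app V t = 0) → t = 0),
      ∀ (U : X.Opens) (Y : Scheme.{u}) (j : Y ⟶ (U : Scheme.{u})), IsClosedImmersion j →
        (∀ i, ∃ g : ((f i) ⁻¹ᵁ U : Scheme.{u}) ⟶ Y, g ≫ j = (f i) ∣_ U) → IsIso j,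
      ∀ (X' : Scheme.{u}) (q : X' ⟶ S), IsSeparated q → ∀ (U : X.Opens) (u v : (U : Scheme.{u}) ⟶ X'),
        u ≫ q = U.ι ≫ p → v ≫ q = U.ι ≫ p → (∀ i, ((f i) ∣_ U) ≫ u = ((f i) ∣_ U) ≫ v) → u = v].TFAE := by
  tfae_have 1 → 2 := c_of_b Z f
  tfae_have 2 → 3 := d_of_c p Z f
  tfae_have 3 → 1 := b_of_d p Z f
  tfae_finish

end

end Groth.Agent.Helper2.SchDom
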