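import Mathlib
import Groth.Prelude
import Groth.Agent.Helper7.HullFin
import Groth.Agent.Helper2.H1Norm

/-!
# The ring of sections of `O` over `Spec B ∖ V(J)` inside the fraction field (domain case)
-/

set_option autoImplicit false
set_option linter.style.haveILetI false
set_option linter.unusedSectionVars false

namespace Groth.Agent.Helper2.SecFin

universe u

variable (B : Type u) [CommRing B] [IsDomain B] (J : Ideal B)

/-- elements of the fraction field regular at every prime not containing `J` -/
def Dset : Set (FractionRing B) :=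
  {x | ∀ (p : Ideal B) [p.IsPrime], ¬ J ≤ p →
    ∃ s : B, s ∉ p ∧ ∃ a : B,
      algebraMap B (FractionRing B) a = algebraMap B (FractionRing B) s * x}

/-- `Dset` as a subalgebra of the fraction field -/
noncomputable def Dalg : Subalgebra B (FractionRing B) where
  carrier := Dset B J
  mul_mem' := by
    intro x y hx hy P hP hP1
    obtain ⟨s₁, hs₁, a₁, h₁⟩ := hx P hP1
    obtain ⟨s₂, hs₂, a₂, h₂⟩ := hy P hP1
    refine ⟨s₁ * s₂, fun h => ?_, a₁ * a₂, ?_⟩
    · rcases hP.mem_or_mem h with h | h
      · exact hs₁ h
      · exact hs₂ h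
    · rw [map_mul, map_mul, h₁, h₂]
      ring
  one_mem' := by
    intro P hP hP1
    exact ⟨1, hP.one_notMem, 1, by simp⟩
  add_mem' := by
    intro x y hx hy P hP hP1
    obtain ⟨s₁, hs₁, a₁, h₁⟩ := hx P hP1
    obtain ⟨s₂, hs₂, a₂, h₂⟩ := hy P hP1
    refine ⟨s₁ * s₂, fun h => ?_, s₂ * a₁ + s₁ * a₂, ?_⟩
    · rcases hP.mem_or_mem h with h | h
      · exact hs₁ h
      · exact hs₂ h
    · rw [map_add, map_mul, map_mul, map_mul, h₁, h₂]
      ring
  zero_mem' := by
    intro P hP hP1
    exact ⟨1, hP.one_notMem, 0, by simp⟩
  algebraMap_mem' := by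
    intro r P hP hP1
    exact ⟨1, hP.one_notMem, r, by simp⟩

theorem coe_Dalg : (Dalg B J : Set (FractionRing B)) = Dset B J := rfl

variable {B J}

/-- an element of `Dset` is multiplied into `B` by a power of `J`. -/
theorem exists_pow_mul_mem [IsNoetherianRing B] {x : FractionRing B} (hx : x ∈ Dset B J) :
    ∃ n : ℕ, ∀ a ∈ J ^ n, ∃ b : B,
      algebraMap B (FractionRing B) b = algebraMap B (FractionRing B) a * x := by
  let 𝔟 : Ideal B :=
    { carrier := {a | ∃ b : B, algebraMap B (FractionRing B) b = algebraMap B (FractionRing B) a * x}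
      add_mem' := by
        rintro a a' ⟨b, hb⟩ ⟨b', hb'⟩
        exact ⟨b + b', by rw [map_add, map_add, hb, hb', add_mul]⟩
      zero_mem' := ⟨0, by simp⟩
      smul_mem' := by
        rintro c a ⟨b, hb⟩
        exact ⟨c * b, by rw [smul_eq_mul, map_mul, map_mul, hb, mul_assoc]⟩ }
  have hle : J ≤ 𝔟.radical := by
    rw [Ideal.radical_eq_sInf]
    intro a ha
    rw [Submodule.mem_sInf]
    rintro P ⟨h𝔟P, hP⟩
    by_contra haP
    haveI := hP
    have hJP : ¬ J ≤ P := fun h => haP (h ha)
    obtain ⟨s, hs, c, hc⟩ := hx P hJP
    exact hs (h𝔟P ⟨c, hc⟩)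
  obtain ⟨n, hn⟩ := Ideal.exists_pow_le_of_le_radical_of_fg hle (IsNoetherian.noetherian J)
  exact ⟨n, fun a ha => hn ha⟩

/-- finiteness from a uniform exponent. -/
theorem finite_of_uniform [IsNoetherianRing B] (hJ : J ≠ ⊥) (n : ℕ)
    (h : ∀ x ∈ Dset B J, ∀ a ∈ J ^ n, ∃ b : B,
      algebraMap B (FractionRing B) b = algebraMap B (FractionRing B) a * x) :
    Module.Finite B (Dalg B J) := by
  have hJn : J ^ n ≠ ⊥ := pow_ne_zero n hJ
  obtain ⟨a₀, ha₀, ha₀0⟩ := Submodule.exists_mem_ne_zero_of_ne_bot hJn
  have ha₀K : algebraMap B (FractionRing B) a₀ ≠ 0 := by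
    intro h0
    exact ha₀0 (IsFractionRing.injective B (FractionRing B) (by rw [h0, map_zero]))
  -- multiplication by `a₀` maps `Dalg` into `B`
  have hex : ∀ x : Dalg B J, ∃ b : B,
      algebraMap B (FractionRing B) b = algebraMap B (FractionRing B) a₀ * x.1 :=
    fun x => h x.1 x.2 a₀ ha₀
  choose φ hφ using hex
  let L : Dalg B J →ₗ[B] B :=
    { toFun := φ
      map_add' := by
        intro x y
        apply IsFractionRing.injective B (FractionRing B)
        rw [map_add, hφ, hφ, hφ]
        change _ * (x.1 + y.1) = _
        ring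
      map_smul' := by
        intro c x
        apply IsFractionRing.injective B (FractionRing B)
        rw [RingHom.id_apply, smul_eq_mul, map_mul, hφ, hφ]
        change _ * (c • x.1) = _
        rw [Algebra.smul_def]
        ring }
  have hL : Function.Injective L := by
    intro x y hxy
    have h1 : algebraMap B (FractionRing B) (φ x) = algebraMap B (FractionRing B) (φ y) :=
      congrArg _ hxy
    rw [hφ, hφ] at h1
    exact Subtype.ext (mul_left_cancel₀ ha₀K h1)
  exact Module.Finite.of_injective L hL

/-- case of a universally catenary domain with finite normalisation. -/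
theorem finite_of_normalization [IsNoetherianRing B] (hU : CAlg.IsUniversallyCatenary B)
    (hint : Module.Finite B (integralClosure B (FractionRing B)))
    (hJ2 : (2 : ℕ∞) ≤ J.height) : Module.Finite B (Dalg B J) := by
  haveI : IsNoetherianRing (integralClosure B (FractionRing B)) :=
    IsNoetherianRing.of_finite B _
  haveI : IsIntegrallyClosed (integralClosure B (FractionRing B)) :=
    integralClosure.isIntegrallyClosedOfFiniteExtension (FractionRing B)
  haveI : IsFractionRing (integralClosure B (FractionRing B)) (FractionRing B) :=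
    integralClosure.isFractionRing_of_finite_extension (FractionRing B) (FractionRing B)
  have hle : Dalg B J ≤ integralClosure B (FractionRing B) := by
    intro x hx
    obtain ⟨a, ha⟩ := Groth.Agent.Helper7.HullFin.krull_normal
      (integralClosure B (FractionRing B)) (FractionRing B) x (by
        intro Q' hQ' hQ'1
        have h1 := Groth.Agent.Helper7.HullFin.height_comap_eq B hU
          (integralClosure B (FractionRing B)) Q'
        rw [hQ'1] at h1
        have hJP : ¬ J ≤ Q'.comap (algebraMap B (integralClosure B (FractionRing B))) := by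
          intro hle
          have h2 := hJ2.trans (Ideal.height_mono hle)
          rw [h1] at h2
          norm_num at h2
        obtain ⟨s, hs, a, hsa⟩ := hx _ hJP
        refine ⟨algebraMap B _ s, hs, algebraMap B _ a, ?_⟩
        rw [← IsScalarTower.algebraMap_apply, ← IsScalarTower.algebraMap_apply]
        exact hsa)
    rw [← ha]
    exact a.2
  haveI : IsNoetherian B (integralClosure B (FractionRing B)) :=
    isNoetherian_of_isNoetherianRing_of_finite B _
  exact Module.Finite.of_injective (Subalgebra.inclusion hle).toLinearMap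
    (Subalgebra.inclusion_injective hle)

end Groth.Agent.Helper2.SecFin
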