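import Mathlib
import Groth.Prelude
import Groth.Agent.Helper1.FaltingsG
import Groth.Agent.Helper1.LocCohBasic
import Groth.Agent.Helper1.H1A
import Groth.Agent.Helper1.LocCohExt
import Groth.Agent.Helper7.ZPure2
import Groth.Agent.Helper2.SecFin1

/-!
# Finiteness of the ring of sections over `Spec B ∖ V(J)` for quotients of regular rings
-/

set_option autoImplicit false
set_option linter.style.haveILetI false
set_option linter.unusedSectionVars false

namespace Groth.Agent.Helper2.SecFin

open CategoryTheory CategoryTheory.Limits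

universe u

variable {B : Type u} [CommRing B] [IsDomain B] [IsNoetherianRing B] {J : Ideal B}

theorem two_le_minAdjDepth (hJ2 : (2 : ℕ∞) ≤ J.height) :
    (2 : ℕ∞) ≤ LocCoh.minAdjDepth J J B := by
  unfold LocCoh.minAdjDepth
  refine le_iInf₂ (fun p hp => ?_)
  rcases p with ⟨P, hP⟩
  change ¬ J ≤ P at hp
  unfold LocCoh.adjDepth
  change (2 : ℕ∞) ≤ LocCoh.depth (Localization.AtPrime P) (LocalizedModule P.primeCompl B) +
    ((J ⊔ P).map (Ideal.Quotient.mk P)).height
  by_cases h0 : P = ⊥
  · subst h0
    have hinj : Function.Injective (Ideal.Quotient.mk (⊥ : Ideal B)) := by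
      rw [injective_iff_map_eq_zero]
      intro a ha
      exact Ideal.mem_bot.1 (Ideal.Quotient.eq_zero_iff_mem.1 ha)
    let e : B ≃+* B ⧸ (⊥ : Ideal B) :=
      RingEquiv.ofBijective (Ideal.Quotient.mk ⊥) ⟨hinj, Ideal.Quotient.mk_surjective⟩
    have h1 : ((J ⊔ ⊥).map (Ideal.Quotient.mk (⊥ : Ideal B))).height = J.height := by
      rw [sup_bot_eq]
      exact RingEquiv.height_map e J
    rw [h1]
    exact hJ2.trans le_add_self
  · have hd : (1 : ℕ∞) ≤ LocCoh.depth (Localization.AtPrime P)
        (LocalizedModule P.primeCompl B) := by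
      rw [Groth.Agent.Helper7.ZPure.one_le_depth_iff]
      intro hass
      rw [AssociatedPrimes.mem_iff, isAssociatedPrime_iff] at hass
      obtain ⟨-, y, hy⟩ := hass
      obtain ⟨a, haP, ha0⟩ := Submodule.exists_mem_ne_zero_of_ne_bot h0
      have h1 : a • y = 0 := by
        rw [hy, Submodule.mem_colon_singleton, Submodule.mem_bot] at haP
        exact haP
      rw [smul_eq_mul, mul_eq_zero] at h1
      have hy0 : y = 0 := h1.resolve_left ha0
      have h2 : (1 : B) ∈ P := by
        rw [hy, Submodule.mem_colon_singleton, hy0, smul_zero]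
        exact Submodule.zero_mem _
      exact hP.one_notMem h2
    have hh : (1 : ℕ∞) ≤ ((J ⊔ P).map (Ideal.Quotient.mk P)).height := by
      rw [Ideal.height_eq_inf_minimalPrimes]
      refine le_iInf₂ (fun q hq => ?_)
      haveI : q.IsPrime := hq.1.1
      rw [Order.one_le_iff_ne_zero]
      intro hq0
      rw [Ideal.height_eq_zero_iff, IsDomain.minimalPrimes_eq_singleton_bot] at hq0
      have hqb : q = ⊥ := hq0
      obtain ⟨a, haJ, haP⟩ := Set.not_subset.1 hp
      have h1 : Ideal.Quotient.mk P a ∈ q :=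
        hq.1.2 (Ideal.mem_map_of_mem _ (Ideal.mem_sup_left haJ))
      rw [hqb, Ideal.mem_bot] at h1
      exact haP (Ideal.Quotient.eq_zero_iff_mem.1 h1)
    have : (2 : ℕ∞) = 1 + 1 := by norm_num
    rw [this]
    exact add_le_add hd hh


/-- Faltings' annihilator theorem gives a power of `J` killing `H¹_J(B)`. -/
theorem exists_pow_annihilates (R₀ : Type u) [CommRing R₀] [IsNoetherianRing R₀] [IsRegularRing R₀]
    (f : R₀ →+* B) (hf : Function.Surjective f) (hJ2 : (2 : ℕ∞) ≤ J.height) :
    ∃ n : ℕ, ∀ a ∈ J ^ n, ∀ z : LocCoh.H J 1 B, a • z = 0 := by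
  letI : Algebra R₀ B := f.toAlgebra
  have hπ : Function.Surjective (algebraMap R₀ B) := hf
  haveI : Module.Finite R₀ B := Module.Finite.of_surjective (Algebra.linearMap R₀ B) hπ
  have h1 := Groth.Agent.Helper1.Faltings.image_main hπ B J J
  have h2 := (two_le_minAdjDepth hJ2).trans h1
  have hJ : J ≤ (Module.annihilator B (LocCoh.H J 1 B)).radical := by
    by_contra hcon
    have h3 : LocCoh.finDimRel J J B ≤ ((1 : ℕ) : ℕ∞) := by
      unfold LocCoh.finDimRel
      exact iInf₂_le (1 : ℕ) hcon
    have := h2.trans h3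
    norm_num at this
  obtain ⟨n, hn⟩ := Ideal.exists_pow_le_of_le_radical_of_fg hJ (IsNoetherian.noetherian J)
  exact ⟨n, fun a ha z => Module.mem_annihilator.1 (hn ha) z⟩

open Groth.Agent.Helper1.LocCohDelta Groth.Agent.Helper1.LocCohExt in
/-- a power of `J` killing `H¹_J(B)` multiplies every element of `Dset` into `B`. -/
theorem mul_mem_of_annihilates (hJ : J ≠ ⊥) (n : ℕ)
    (hn : ∀ a ∈ J ^ n, ∀ z : LocCoh.H J 1 B, a • z = 0)
    {x : FractionRing B} (hx : x ∈ Dset B J) :
    ∀ a ∈ J ^ n, ∃ b : B,
      algebraMap B (FractionRing B) b = algebraMap B (FractionRing B) a * x := by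
  let K := FractionRing B
  let E : Submodule B K := Submodule.span B {1, x}
  have h1E : (1 : K) ∈ E := Submodule.subset_span (by simp)
  have hxE : x ∈ E := Submodule.subset_span (by simp)
  let ι : B →ₗ[B] E := LinearMap.codRestrict E (Algebra.linearMap B K) (fun b => by
    have : (Algebra.linearMap B K) b = b • (1 : K) := by
      rw [Algebra.linearMap_apply, Algebra.smul_def, mul_one]
    rw [this]
    exact E.smul_mem b h1E)
  have hι : Function.Injective ι := by
    intro b b' hbb'
    have := congrArg Subtype.val hbb'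
    exact IsFractionRing.injective B K this
  obtain ⟨m, hm⟩ := exists_pow_mul_mem hx
  -- the quotient is power torsion
  have hTors : IsTors J (embSC ι).X₃ := by
    intro yb
    obtain ⟨y, rfl⟩ := Submodule.mkQ_surjective (LinearMap.range ι) yb
    obtain ⟨b, c, hbc⟩ := Submodule.mem_span_pair.1 y.2
    refine ⟨m, fun a ha => ?_⟩
    obtain ⟨d, hd⟩ := hm a ha
    change a • (LinearMap.range ι).mkQ y = 0
    rw [← map_smul, Submodule.mkQ_apply, Submodule.Quotient.mk_eq_zero]
    refine ⟨a * b + c * d, ?_⟩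
    apply Subtype.ext
    change algebraMap B K (a * b + c * d) = a • y.1
    rw [← hbc, map_add, map_mul, map_mul, hd, smul_add, Algebra.smul_def, Algebra.smul_def,
      Algebra.smul_def, Algebra.smul_def, mul_one]
    ring
  -- `E` has no torsion
  have hE0 : IsZero ((localCohomology J 0).obj (ModuleCat.of B E)) := by
    rw [lc_zero_isZero_iff, eq_bot_iff]
    rintro e ⟨k, hk⟩
    have hJk : J ^ k ≠ ⊥ := pow_ne_zero k hJ
    obtain ⟨a, ha, ha0⟩ := Submodule.exists_mem_ne_zero_of_ne_bot hJk
    have h1 := congrArg Subtype.val (hk a ha)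
    change a • e.1 = 0 at h1
    rw [Algebra.smul_def, mul_eq_zero] at h1
    have haK : algebraMap B K a ≠ 0 := by
      intro h0
      exact ha0 (IsFractionRing.injective B K (by rw [h0, map_zero]))
    rw [Submodule.mem_bot]
    exact Subtype.ext (h1.resolve_left haK)
  have hS := embSC_shortExact ι hι
  have hex := lc_exact₃ J (embSC ι) hS 0
  have hmono : Mono (lcδ J (embSC ι) hS 0) :=
    hex.mono_g (hE0.eq_of_src _ _)
  have hinj : Function.Injective (lcδ J (embSC ι) hS 0).hom :=
    (ModuleCat.mono_iff_injective _).1 hmono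
  let e := lcZeroEquivOfIsTors J (embSC ι).X₃ hTors
  intro a ha
  have hkill : ∀ yb : (embSC ι).X₃, a • yb = 0 := by
    intro yb
    have h1 : a • e.symm yb = 0 := by
      apply hinj
      rw [map_smul, map_zero]
      exact hn a ha _
    have h2 := congrArg e h1
    rw [map_smul, LinearEquiv.apply_symm_apply, map_zero] at h2
    exact h2
  have h3 := hkill ((LinearMap.range ι).mkQ ⟨x, hxE⟩)
  have h3' : (LinearMap.range ι).mkQ (a • (⟨x, hxE⟩ : E)) = 0 := by
    rw [map_smul]
    exact h3
  rw [Submodule.mkQ_apply, Submodule.Quotient.mk_eq_zero] at h3'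
  obtain ⟨b, hb⟩ := h3'
  refine ⟨b, ?_⟩
  have h4 := congrArg Subtype.val hb
  change algebraMap B K b = a • x at h4
  rw [h4, Algebra.smul_def]

/-- the ring of sections over `Spec B ∖ V(J)` is finite when `B` is a quotient of a regular ring
and `J` has height at least two. -/
theorem finite_of_regular (R₀ : Type u) [CommRing R₀] [IsNoetherianRing R₀] [IsRegularRing R₀]
    (f : R₀ →+* B) (hf : Function.Surjective f) (hJ2 : (2 : ℕ∞) ≤ J.height) :
    Module.Finite B (Dalg B J) := by
  have hJ : J ≠ ⊥ := by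
    rintro rfl
    have h0 : (⊥ : Ideal B).height = 0 := by
      rw [Ideal.height_eq_zero_iff, IsDomain.minimalPrimes_eq_singleton_bot]
      rfl
    rw [h0] at hJ2
    norm_num at hJ2
  obtain ⟨n, hn⟩ := exists_pow_annihilates R₀ f hf hJ2
  exact finite_of_uniform hJ n (fun x hx => mul_mem_of_annihilates hJ n hn hx)

end Groth.Agent.Helper2.SecFin
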