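import Mathlib
import Groth.Prelude
import Groth.Agent.Helper2.EvBij4
import Groth.Agent.Helper2.Mori5

set_option autoImplicit false
set_option linter.style.haveILetI false

namespace Groth.Agent.Helper2.Semiloc

universe u

open TensorProduct IsLocalRing AlgebraicGeometry

/-- **S2474**: the integral closure of a Noetherian local domain in a finite extension of its
fraction field is semi-local with residue fields finite over the residue field of `A`. -/
theorem s2474 {A K' : Type u} [CommRing A] [IsDomain A] [IsLocalRing A] [IsNoetherianRing A]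
    [Field K'] [Algebra A K'] [Algebra (FractionRing A) K'] [IsScalarTower A (FractionRing A) K']
    [FiniteDimensional (FractionRing A) K'] :
    {m : Ideal (integralClosure A K') | m.IsMaximal}.Finite ∧
      ∀ (m : Ideal (integralClosure A K')), m.IsMaximal →
        Module.Finite A (integralClosure A K' ⧸ m) := by
  have h := Groth.Agent.Helper2.EvBij.s4615 (A := A) (K' := K')
  obtain ⟨Cα, hPα, hbij, hrad0⟩ := h
  have hfin : Module.Finite A Cα := hPα.1
  haveI := hfin
  have hint : Cα ≤ integralClosure A K' := by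
    intro x hx
    exact IsIntegral.of_mem_of_fg Cα (Module.Finite.iff_fg.mp hfin) x hx
  have hrad := Groth.Agent.Helper2.Mori.comap_injective_of_universallyInjective _ (hrad0 hint)
  have hmax : ∀ m : Ideal (integralClosure A K'), m.IsMaximal →
      m.comap (algebraMap A (integralClosure A K')) = maximalIdeal A := by
    intro m hm
    haveI := hm
    have h1 : (m.comap (algebraMap A (integralClosure A K'))).IsMaximal :=
      Ideal.isMaximal_comap_of_isIntegral_of_isMaximal m
    exact IsLocalRing.eq_maximalIdeal h1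
  constructor
  · have hfinset : ((maximalIdeal A).primesOver Cα).Finite :=
      Algebra.QuasiFinite.finite_primesOver _
    refine Set.Finite.of_finite_image
      (f := fun P : Ideal (integralClosure A K') => P.comap (Subalgebra.inclusion hint).toRingHom)
      (hfinset.subset ?_) ?_
    · rintro _ ⟨m, hm, rfl⟩
      have hm' : m.IsMaximal := hm
      haveI := hm'
      refine ⟨Ideal.comap_isPrime _ _, ⟨?_⟩⟩
      rw [← hmax m hm']
      ext a
      simp only [Ideal.under, Ideal.mem_comap]
      rfl
    · intro P₁ h₁ P₂ h₂ he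
      have h₁' : P₁.IsMaximal := h₁
      have h₂' : P₂.IsMaximal := h₂
      exact hrad P₁ P₂ h₁'.isPrime h₂'.isPrime he
  · intro m hm
    haveI := hm
    let f : Cα →ₐ[A] (integralClosure A K' ⧸ m) :=
      (Ideal.Quotient.mkₐ A m).comp (Subalgebra.inclusion hint)
    suffices hsurj : Function.Surjective f from Module.Finite.of_surjective f.toLinearMap hsurj
    intro z
    obtain ⟨a, rfl⟩ := Ideal.Quotient.mk_surjective z
    haveI : Module.Finite A (Algebra.adjoin A {(a : K')}) :=
      Module.Finite.iff_fg.mpr (IsIntegral.fg_adjoin_singleton a.2)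
    have hC : Module.Finite A ↥(Cα ⊔ Algebra.adjoin A {(a : K')}) ∧
        ∀ x : K', ∃ c d : ↥(Cα ⊔ Algebra.adjoin A {(a : K')}), (d : K') ≠ 0 ∧ x * d = c := by
      refine ⟨Subalgebra.finite_sup _ _, fun x => ?_⟩
      obtain ⟨c, d, hd, hcd⟩ := hPα.2 x
      exact ⟨Subalgebra.inclusion le_sup_left c, Subalgebra.inclusion le_sup_left d, hd, hcd⟩
    have hCA' : Cα ⊔ Algebra.adjoin A {(a : K')} ≤ integralClosure A K' :=
      sup_le hint (Algebra.adjoin_le (by
        rintro _ rfl
        exact a.2))
    have ha : (a : K') ∈ Cα ⊔ Algebra.adjoin A {(a : K')} :=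
      (le_sup_right : Algebra.adjoin A {(a : K')} ≤ _) (Algebra.subset_adjoin rfl)
    have hle : Cα ≤ Cα ⊔ Algebra.adjoin A {(a : K')} := le_sup_left
    obtain ⟨-, hsur⟩ := hbij _ hC hle
    have hker : ∀ r ∈ maximalIdeal A ^ 1,
        (Algebra.ofId A (integralClosure A K' ⧸ m)) r = 0 := by
      intro r hr
      rw [pow_one, ← hmax m hm, Ideal.mem_comap] at hr
      change algebraMap A (integralClosure A K' ⧸ m) r = 0
      rw [IsScalarTower.algebraMap_apply A (integralClosure A K') (integralClosure A K' ⧸ m)]
      exact Ideal.Quotient.eq_zero_iff_mem.mpr hr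
    let g : AdicCompletion (maximalIdeal A) A →ₐ[A] (integralClosure A K' ⧸ m) :=
      (Ideal.Quotient.liftₐ (maximalIdeal A ^ 1) (Algebra.ofId A (integralClosure A K' ⧸ m)) hker).comp
        (AdicCompletion.evalₐ (maximalIdeal A) 1)
    let fC : ↥(Cα ⊔ Algebra.adjoin A {(a : K')}) →ₐ[A] (integralClosure A K' ⧸ m) :=
      (Ideal.Quotient.mkₐ A m).comp (Subalgebra.inclusion hCA')
    let π : ↥(Cα ⊔ Algebra.adjoin A {(a : K')}) ⊗[A] AdicCompletion (maximalIdeal A) A →ₐ[A]
        (integralClosure A K' ⧸ m) :=
      Algebra.TensorProduct.lift fC g (fun _ _ => Commute.all _ _)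
    have hg : ∀ â : AdicCompletion (maximalIdeal A) A, ∃ r : A,
        g â = algebraMap A (integralClosure A K' ⧸ m) r := by
      intro â
      obtain ⟨r, hr⟩ := Ideal.Quotient.mk_surjective (AdicCompletion.evalₐ (maximalIdeal A) 1 â)
      refine ⟨r, ?_⟩
      have hgdef : g â = Ideal.Quotient.liftₐ (maximalIdeal A ^ 1)
          (Algebra.ofId A (integralClosure A K' ⧸ m)) hker
          (AdicCompletion.evalₐ (maximalIdeal A) 1 â) := rfl
      rw [hgdef, ← hr]
      rfl
    have hkey : ∀ x : ↥Cα ⊗[A] AdicCompletion (maximalIdeal A) A,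
        π (Algebra.TensorProduct.map (Subalgebra.inclusion hle)
          (AlgHom.id A (AdicCompletion (maximalIdeal A) A)) x) ∈ f.range := by
      intro x
      induction x using TensorProduct.induction_on with
      | zero =>
        rw [map_zero, map_zero]
        exact Subalgebra.zero_mem _
      | tmul c â =>
        rw [Algebra.TensorProduct.map_tmul]
        change Algebra.TensorProduct.lift fC g _ (_ ⊗ₜ _) ∈ _
        rw [Algebra.TensorProduct.lift_tmul]
        obtain ⟨r, hr⟩ := hg â
        refine (AlgHom.mem_range f).mpr ⟨r • c, ?_⟩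
        rw [map_smul, AlgHom.coe_id, id_eq, hr, mul_comm]
        exact Algebra.smul_def r (f c)
      | add x y hx hy =>
        rw [map_add, map_add]
        exact Subalgebra.add_mem _ hx hy
    obtain ⟨x, hx⟩ := hsur ((⟨(a : K'), ha⟩ : ↥(Cα ⊔ Algebra.adjoin A {(a : K')})) ⊗ₜ[A] 1)
    have h1 := hx.map π
    have h2 := h1.eq_zero
    rw [map_sub, sub_eq_zero] at h2
    obtain ⟨c, hc⟩ := (AlgHom.mem_range f).mp (hkey x)
    refine ⟨c, ?_⟩
    rw [hc, h2]
    change Algebra.TensorProduct.lift fC g _ (_ ⊗ₜ _) = _
    rw [Algebra.TensorProduct.lift_tmul, map_one, mul_one]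
    rfl

end Groth.Agent.Helper2.Semiloc
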