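import Mathlib
import Groth.Agent.S4853

set_option autoImplicit false
open TensorProduct
universe u

namespace Groth.Agent.Helper2.SemilocalNilp
variable {A : Type u} [CommRing A] [Finite (MaximalSpectrum A)]

/-- an element outside `P` killing `P ^ n`. -/
lemma exists_kill (n : ℕ) (hn : Ring.jacobson A ^ n = ⊥) (P : Ideal A) [hP : P.IsMaximal] :
    ∃ t : A, t ∉ P ∧ ∀ x ∈ P ^ n, t * x = 0 := by
  classical
  have := Fintype.ofFinite (MaximalSpectrum A)
  have hchoose : ∀ m : MaximalSpectrum A, ∃ c : A, c ∉ P ∧ (m.asIdeal ≠ P → c ∈ m.asIdeal) := by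
    intro m
    by_cases hm : m.asIdeal = P
    · exact ⟨1, fun h => hP.ne_top ((Ideal.eq_top_iff_one _).2 h), fun h => absurd hm h⟩
    · have : ¬ m.asIdeal ≤ P := by
        intro hle
        exact hm (m.isMaximal.eq_of_le hP.ne_top hle)
      obtain ⟨c, hcm, hcP⟩ := SetLike.not_le_iff_exists.1 this
      exact ⟨c, hcP, fun _ => hcm⟩
  choose c hcP hcm using hchoose
  let t₀ : A := ∏ m : MaximalSpectrum A, c m
  have ht₀P : t₀ ∉ P := by
    intro h
    obtain ⟨m, -, hm⟩ := (Ideal.IsPrime.prod_mem_iff (hp := hP.isPrime)).1 h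
    exact hcP m hm
  have hjac : Ideal.span {t₀} * P ≤ Ring.jacobson A := by
    rw [Ring.jacobson_eq_sInf_isMaximal]
    apply le_sInf
    intro m hm
    by_cases hmP : m = P
    · rw [hmP]; exact Ideal.mul_le_right (I := Ideal.span {t₀}) (J := P)
    · refine le_trans (Ideal.mul_le_left (I := Ideal.span {t₀}) (J := P)) ?_
      rw [Ideal.span_singleton_le_iff_mem]
      have h1 : c ⟨m, hm⟩ ∈ m := hcm ⟨m, hm⟩ hmP
      obtain ⟨d, hd⟩ := Finset.dvd_prod_of_mem c (Finset.mem_univ (⟨m, hm⟩ : MaximalSpectrum A))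
      show t₀ ∈ m
      rw [show t₀ = c ⟨m, hm⟩ * d from hd]
      exact Ideal.mul_mem_right _ _ h1
  refine ⟨t₀ ^ n, fun h => ht₀P (hP.isPrime.mem_of_pow_mem n h), ?_⟩
  intro x hx
  have : t₀ ^ n * x ∈ (Ideal.span {t₀} * P) ^ n := by
    rw [mul_pow, Ideal.span_singleton_pow]
    exact Ideal.mul_mem_mul (Ideal.mem_span_singleton_self _) hx
  have h2 := Ideal.pow_right_mono hjac n this
  rw [hn] at h2
  exact h2


/-- the local ring at `P` has nilpotent maximal ideal -/
lemma maximalIdeal_pow_eq_bot (n : ℕ) (hn : Ring.jacobson A ^ n = ⊥) (P : Ideal A)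
    [hP : P.IsMaximal] : IsLocalRing.maximalIdeal (Localization.AtPrime P) ^ n = ⊥ := by
  obtain ⟨t, htP, ht⟩ := exists_kill n hn P
  rw [← Localization.AtPrime.map_eq_maximalIdeal, ← Ideal.map_pow, Ideal.map_eq_bot_iff_le_ker]
  intro x hx
  rw [RingHom.mem_ker, IsLocalization.map_eq_zero_iff P.primeCompl]
  exact ⟨⟨t, htP⟩, ht x hx⟩

/-- the kernels still have trivial intersection after localizing -/
lemma eq_zero_of_forall_map_eq_zero (n : ℕ) (hn : Ring.jacobson A ^ n = ⊥) (P : Ideal A)
    [hP : P.IsMaximal] {ι : Type u} (B : ι → Type u) [∀ i, CommRing (B i)]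
    [∀ i, Algebra A (B i)]
    (hB : ∀ a : A, (∀ i, algebraMap A (B i) a = 0) → a = 0)
    (a' : Localization.AtPrime P)
    (ha' : ∀ i, algebraMap (Localization.AtPrime P)
      (Localization (Algebra.algebraMapSubmonoid (B i) P.primeCompl)) a' = 0) : a' = 0 := by
  obtain ⟨t, htP, ht⟩ := exists_kill n hn P
  obtain ⟨a, s, rfl⟩ := IsLocalization.exists_mk'_eq P.primeCompl a'
  have hunit : ∀ i, algebraMap A (Localization (Algebra.algebraMapSubmonoid (B i) P.primeCompl)) a
      = 0 := by
    intro i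
    have h1 := ha' i
    rw [IsLocalization.mk'_eq_mul_mk'_one, map_mul] at h1
    have hu : IsUnit (algebraMap (Localization.AtPrime P)
        (Localization (Algebra.algebraMapSubmonoid (B i) P.primeCompl))
        (IsLocalization.mk' (Localization.AtPrime P) (1 : A) s)) := by
      apply IsUnit.map
      have : IsLocalization.mk' (Localization.AtPrime P) (1 : A) s *
          algebraMap A (Localization.AtPrime P) s = 1 := by
        rw [IsLocalization.mk'_spec, map_one]
      exact IsUnit.of_mul_eq_one _ this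
    have h2 := (hu.mul_left_eq_zero).1 h1
    rw [← IsScalarTower.algebraMap_apply] at h2
    exact h2
  have hta : t * a = 0 := by
    apply hB
    intro i
    have h1 := hunit i
    rw [IsScalarTower.algebraMap_apply A (B i), IsLocalization.map_eq_zero_iff
      (Algebra.algebraMapSubmonoid (B i) P.primeCompl)] at h1
    obtain ⟨⟨_, ti, hti, rfl⟩, h2⟩ := h1
    -- ti is a unit modulo P ^ n
    have hcop : Ideal.span {ti} ⊔ P ^ n = ⊤ := by
      apply Ideal.sup_pow_eq_top
      by_contra hne
      have := hP.eq_of_le hne (le_sup_right : P ≤ Ideal.span {ti} ⊔ P)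
      apply hti
      rw [this]
      exact Ideal.mem_sup_left (Ideal.mem_span_singleton_self ti)
    obtain ⟨x, hx, y, hy, hxy⟩ := Submodule.mem_sup.1 (hcop ▸ Submodule.mem_top : (1 : A) ∈ _)
    obtain ⟨s', rfl⟩ := Ideal.mem_span_singleton'.1 hx
    have h3 : t * a = s' * t * (ti * a) + (t * y) * a := by
      have : t * a = t * a * (s' * ti + y) := by rw [hxy, mul_one]
      rw [this]; ring
    rw [h3, ht y hy, zero_mul, add_zero, map_mul]
    have : algebraMap A (B i) (ti * a) = 0 := by rw [map_mul]; exact h2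
    rw [this, mul_zero]
  rw [IsLocalization.mk'_eq_zero_iff]
  exact ⟨⟨t, htP⟩, hta⟩

end Groth.Agent.Helper2.SemilocalNilp
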