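import Mathlib
import Groth.Agent.Helper2.ShfEpi
open CategoryTheory Limits Opposite
universe w v₁ u₁

namespace Groth.Agent.Helper2.ShfReg

variable {C : Type u₁} [Category.{v₁} C] (J : GrothendieckTopology C) [HasSheafify J (Type w)]

/-- The category of sheaves of types is regular. -/
theorem regular : Regular (Sheaf J (Type w)) where
  hasCoequalizer_of_isKernelPair _ := inferInstance
  regularEpiIsStableUnderBaseChange := by
    constructor
    intro X Y Y' S f g f' g' sq hg
    have hg' : IsRegularEpi g := hg
    have : Epi g' := ShfEpi.epi_of_isPullback J sq.flip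
    exact IsRegularEpiCategory.regularEpiOfEpi g'

end Groth.Agent.Helper2.ShfReg
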