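import Mathlib

/-!
# Regular sequences and localization: spreading out (helper2)
-/

set_option autoImplicit false
universe u

namespace Groth.Agent.Helper2.SkEmb

open RingTheory.Sequence
open scoped Pointwise

section Loc

variable {A : Type u} [CommRing A] (S : Submonoid A) (M : Type u) [AddCommGroup M] [Module A M]

theorem localized_ofList_smul_top (l : List A) :
    (Ideal.ofList l • (⊤ : Submodule A M)).localized S =
      Ideal.ofList (l.map (algebraMap A (Localization S))) •
        (⊤ : Submodule (Localization S) (LocalizedModule S M)) := by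
  unfold Submodule.localized
  rw [Submodule.localized'_smul, Submodule.localized'_top]
  congr 1
  unfold Ideal.ofList
  show (Submodule.span A {x | x ∈ l}).localized' (Localization S) S
    (Algebra.linearMap A (Localization S)) = _
  rw [Submodule.localized'_span]
  show Submodule.span _ _ = Submodule.span _ _
  congr 1
  ext y
  simp only [Set.mem_image, Set.mem_setOf_eq, Algebra.linearMap_apply, List.mem_map]

/-- localization commutes with quotients by `ofList` -/
noncomputable def quotLocEquiv (l : List A) :
    ((LocalizedModule S M) ⧸ (Ideal.ofList (l.map (algebraMap A (Localization S))) •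
        (⊤ : Submodule (Localization S) (LocalizedModule S M)))) ≃ₗ[Localization S]
      LocalizedModule S (M ⧸ (Ideal.ofList l • (⊤ : Submodule A M))) :=
  (Submodule.quotEquivOfEq _ _ (localized_ofList_smul_top S M l).symm).trans
    (localizedQuotientEquiv S (Ideal.ofList l • (⊤ : Submodule A M)))

variable {M} in
/-- regularity on a localized module -/
theorem isSMulRegular_localized_iff (a : A) :
    IsSMulRegular (LocalizedModule S M) a ↔ ∀ x : M, a • x = 0 → ∃ s ∈ S, s • x = 0 := by
  rw [isSMulRegular_iff_right_eq_zero_of_smul]
  constructor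
  · intro h x hx
    have h1 : a • (LocalizedModule.mkLinearMap S M x) = 0 := by
      rw [← map_smul, hx, map_zero]
    have h2 := h _ h1
    rw [IsLocalizedModule.eq_zero_iff S] at h2
    obtain ⟨s, hs⟩ := h2
    exact ⟨s, s.2, hs⟩
  · intro h y hy
    induction y using LocalizedModule.induction_on with
    | h x t =>
      rw [LocalizedModule.smul'_mk, IsLocalizedModule.mk_eq_mk',
        IsLocalizedModule.mk'_eq_zero'] at hy
      obtain ⟨s, hs⟩ := hy
      have h1 : a • ((s : A) • x) = 0 := by
        rw [smul_comm]; exact hs
      obtain ⟨s', hs', h2⟩ := h _ h1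
      rw [IsLocalizedModule.mk_eq_mk', IsLocalizedModule.mk'_eq_zero']
      refine ⟨⟨s', hs'⟩ * s, ?_⟩
      rw [mul_smul]
      exact h2

/-- regularity on a quotient of the localized module -/
theorem isSMulRegular_quot_localized_iff (l : List A) (r : A) :
    IsSMulRegular ((LocalizedModule S M) ⧸ (Ideal.ofList (l.map (algebraMap A (Localization S))) •
        (⊤ : Submodule (Localization S) (LocalizedModule S M))))
      (algebraMap A (Localization S) r) ↔
      ∀ x : M ⧸ (Ideal.ofList l • (⊤ : Submodule A M)), r • x = 0 → ∃ s ∈ S, s • x = 0 := by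
  rw [← isSMulRegular_localized_iff]
  have e := quotLocEquiv S M l
  constructor
  · intro h y₁ y₂ hy
    apply e.symm.injective
    apply h
    show algebraMap A (Localization S) r • e.symm y₁ = algebraMap A (Localization S) r • e.symm y₂
    rw [← map_smul, ← map_smul, algebraMap_smul, algebraMap_smul]
    exact congrArg e.symm hy
  · intro h y₁ y₂ hy
    apply e.injective
    apply h
    show r • e y₁ = r • e y₂
    rw [← algebraMap_smul (Localization S) r (e y₁), ← algebraMap_smul (Localization S) r (e y₂),
      ← map_smul, ← map_smul]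
    exact congrArg e hy

/-- weak regularity on a localized module, in terms of the original module -/
theorem isWeaklyRegular_localized_iff (rs : List A) :
    IsWeaklyRegular (LocalizedModule S M) (rs.map (algebraMap A (Localization S))) ↔
      ∀ (i : ℕ) (h : i < rs.length) (x : M ⧸ (Ideal.ofList (rs.take i) • (⊤ : Submodule A M))),
        rs[i] • x = 0 → ∃ s ∈ S, s • x = 0 := by
  rw [isWeaklyRegular_iff]
  constructor
  · intro h i hi
    have h1 := h i (by simpa using hi)
    rw [← List.map_take, List.getElem_map] at h1
    exact (isSMulRegular_quot_localized_iff S M (rs.take i) rs[i]).mp h1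
  · intro h i hi
    have hi' : i < rs.length := by simpa using hi
    rw [← List.map_take, List.getElem_map]
    exact (isSMulRegular_quot_localized_iff S M (rs.take i) rs[i]).mpr (h i hi')

end Loc

section Spread

variable {A : Type u} [CommRing A] [IsNoetherianRing A]

/-- a finitely generated kernel that vanishes at `p` is killed by a single element outside `p` -/
theorem exists_kill (X : Type u) [AddCommGroup X] [Module A X] [Module.Finite A X]
    (p : Ideal A) [p.IsPrime] (a : A)
    (h : ∀ x : X, a • x = 0 → ∃ s ∈ p.primeCompl, s • x = 0) :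
    ∃ g ∈ p.primeCompl, ∀ x : X, a • x = 0 → g • x = 0 := by
  classical
  set K : Submodule A X := LinearMap.ker (LinearMap.lsmul A X a) with hK
  have hfg : K.FG := IsNoetherian.noetherian K
  obtain ⟨t, ht⟩ := hfg
  have h' : ∀ y : X, ∃ s ∈ p.primeCompl, y ∈ t → s • y = 0 := by
    intro y
    by_cases hy : y ∈ t
    · have hyK : y ∈ K := by rw [← ht]; exact Submodule.subset_span hy
      have : a • y = 0 := by simpa [hK] using hyK
      obtain ⟨s, hs, hsy⟩ := h y this
      exact ⟨s, hs, fun _ => hsy⟩
    · exact ⟨1, Submonoid.one_mem _, fun h => absurd h hy⟩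
  choose sf hsf hsf' using h'
  refine ⟨∏ y ∈ t, sf y, Submonoid.prod_mem _ (fun y _ => hsf y), ?_⟩
  intro x hx
  have hxK : x ∈ K := by simpa [hK] using hx
  rw [← ht] at hxK
  refine Submodule.span_induction ?_ ?_ ?_ ?_ hxK
  · intro y hy
    rw [← Finset.prod_erase_mul _ _ hy, mul_smul, hsf' y hy, smul_zero]
  · exact smul_zero _
  · intro y z _ _ hy hz
    rw [smul_add, hy, hz, add_zero]
  · intro c y _ hy
    rw [smul_comm, hy, smul_zero]

/-- spreading out a regular sequence from the local ring at `p` to a basic open neighbourhood -/
theorem spread (M : Type u) [AddCommGroup M] [Module A M] [Module.Finite A M]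
    (p : Ideal A) [p.IsPrime] (rs : List A)
    (h : IsWeaklyRegular (LocalizedModule p.primeCompl M)
      (rs.map (algebraMap A (Localization.AtPrime p)))) :
    ∃ g ∈ p.primeCompl, IsWeaklyRegular (LocalizedModule (Submonoid.powers g) M)
      (rs.map (algebraMap A (Localization.Away g))) := by
  classical
  rw [isWeaklyRegular_localized_iff] at h
  have h1 : ∀ i : Fin rs.length, ∃ g ∈ p.primeCompl,
      ∀ x : M ⧸ (Ideal.ofList (rs.take i) • (⊤ : Submodule A M)), rs[i] • x = 0 → g • x = 0 :=
    fun i => exists_kill _ p rs[i] (h i i.2)
  choose gf hgf hgf' using h1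
  refine ⟨∏ i, gf i, Submonoid.prod_mem _ (fun i _ => hgf i), ?_⟩
  rw [isWeaklyRegular_localized_iff]
  intro i hi x hx
  refine ⟨∏ i, gf i, Submonoid.mem_powers _, ?_⟩
  rw [← Finset.prod_erase_mul _ _ (Finset.mem_univ (⟨i, hi⟩ : Fin rs.length)), mul_smul]
  have := hgf' ⟨i, hi⟩ x hx
  rw [this, smul_zero]

end Spread

end Groth.Agent.Helper2.SkEmb
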