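import Mathlib
import Groth.Prelude.Def_CAlg
import Groth.Agent.Helper2.SkEmb1
import Groth.Agent.Helper2.SkEmb2
import Groth.Agent.Helper2.DepthCM
import Groth.Agent.Helper2.DepthCM2
import Groth.Agent.Helper2.Depth
import Groth.Agent.Helper5.SkOne1
import Groth.Agent.Helper6.SkQuot

/-!
# `(S_k)` iff quotients by short regular sequences on basic opens have no embedded primes
-/

set_option autoImplicit false
universe u

namespace Groth.Agent.Helper2.SkEmb

open IsLocalRing RingTheory.Sequence
open scoped Pointwise

section Lift

variable {A : Type u} [CommRing A] (S : Submonoid A)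

theorem smul_top_eq_of_mul_unit {R : Type*} [CommRing R] {N : Type*} [AddCommGroup N] [Module R N]
    (r u c : R) (hu : IsUnit u) (h : r * u = c) :
    (c • (⊤ : Submodule R N)) = r • (⊤ : Submodule R N) := by
  obtain ⟨v, rfl⟩ := hu
  ext x
  rw [Submodule.mem_smul_pointwise_iff_exists, Submodule.mem_smul_pointwise_iff_exists]
  constructor
  · rintro ⟨y, -, rfl⟩
    exact ⟨(v : R) • y, trivial, by rw [← h, mul_smul]⟩
  · rintro ⟨y, -, rfl⟩
    refine ⟨((v⁻¹ : Rˣ) : R) • y, trivial, ?_⟩
    rw [← h, ← mul_smul, mul_assoc, Units.mul_inv, mul_one]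

/-- lifting a weakly regular sequence from a localization to the ring, up to units -/
theorem lift_seq : ∀ (rs' : List (Localization S)) (N : Type u) [AddCommGroup N]
    [Module (Localization S) N], IsWeaklyRegular N rs' →
    ∃ rsA : List A, rsA.length = rs'.length ∧
      IsWeaklyRegular N (rsA.map (algebraMap A (Localization S))) ∧
      ∀ a ∈ rsA, ∃ r' ∈ rs', ∃ s ∈ S,
        r' * algebraMap A (Localization S) s = algebraMap A (Localization S) a := by
  intro rs'
  induction rs' with
  | nil =>
    intro N _ _ _
    exact ⟨[], rfl, IsWeaklyRegular.nil _ _, by simp⟩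
  | cons r' rs'' ih =>
    intro N _ _ h
    rw [isWeaklyRegular_cons_iff] at h
    obtain ⟨⟨a, s⟩, has⟩ := IsLocalization.surj S r'
    obtain ⟨rsA, hlen, hreg, hmem⟩ := ih (QuotSMulTop r' N) h.2
    have hunit : IsUnit (algebraMap A (Localization S) s) := IsLocalization.map_units _ s
    refine ⟨a :: rsA, by simp [hlen], ?_, ?_⟩
    · rw [List.map_cons, isWeaklyRegular_cons_iff]
      constructor
      · have : algebraMap A (Localization S) a = r' * algebraMap A (Localization S) s := has.symm
        rw [this]
        exact h.1.mul (hunit.isSMulRegular N)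
      · have heq : (algebraMap A (Localization S) a • (⊤ : Submodule (Localization S) N)) =
            r' • (⊤ : Submodule (Localization S) N) :=
          smul_top_eq_of_mul_unit r' _ _ hunit has
        have e : QuotSMulTop (algebraMap A (Localization S) a) N ≃ₗ[Localization S]
            QuotSMulTop r' N := Submodule.quotEquivOfEq _ _ heq
        exact (e.isWeaklyRegular_congr _).mpr hreg
    · intro b hb
      rcases List.mem_cons.mp hb with rfl | hb
      · exact ⟨r', List.mem_cons_self, s, s.2, has⟩
      · obtain ⟨r'', hr'', s', hs', h'⟩ := hmem b hb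
        exact ⟨r'', List.mem_cons_of_mem _ hr'', s', hs', h'⟩

end Lift

section Main

theorem hasSk_mono {R : Type u} [CommRing R] {X : Type u} [AddCommGroup X] [Module R X]
    {k l : ℕ} (hkl : k ≤ l) (h : LocCoh.HasSk l R X) : LocCoh.HasSk k R X := by
  intro p _
  refine le_trans (min_le_min_right _ ?_) (h p)
  exact_mod_cast hkl

variable (k : ℕ) (hk : 1 ≤ k) (A : Type u) [CommRing A] [IsNoetherianRing A]
  (M : Type u) [AddCommGroup M] [Module A M] [Module.Finite A M]

include hk in
theorem forward (h : LocCoh.HasSk k A M) (g : A) (rs : List (Localization.Away g))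
    (hlen : rs.length < k)
    (hreg : IsWeaklyRegular (LocalizedModule (Submonoid.powers g) M) rs) :
    ∀ p ∈ associatedPrimes (Localization.Away g)
        (LocalizedModule (Submonoid.powers g) M ⧸
          (Ideal.ofList rs • (⊤ : Submodule (Localization.Away g)
            (LocalizedModule (Submonoid.powers g) M)))),
      ∀ q ∈ associatedPrimes (Localization.Away g)
        (LocalizedModule (Submonoid.powers g) M ⧸
          (Ideal.ofList rs • (⊤ : Submodule (Localization.Away g)
            (LocalizedModule (Submonoid.powers g) M)))),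
        p ≤ q → p = q := by
  intro P hP Q hQ hPQ
  haveI : IsNoetherianRing (Localization.Away g) :=
    IsLocalization.isNoetherianRing (Submonoid.powers g) _ inferInstance
  have h1 : LocCoh.HasSk k (Localization.Away g) (LocalizedModule (Submonoid.powers g) M) :=
    hasSk_localized (Submonoid.powers g) M k h
  have h2 := Groth.Agent.Helper6.SkQuot.hasSk_quot_ofList rs k
    (LocalizedModule (Submonoid.powers g) M) h1 hreg hlen.le
  have h3 := hasSk_mono (k := 1) (by omega) h2
  have hmin := (Groth.Agent.Helper5.SkOne.hasSk_one_iff _).mp h3 ⟨Q, hQ.isPrime⟩ hQ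
  have hPs := Groth.Agent.Helper5.SkOne.mem_support_of_mem_ass _ ⟨P, hP.isPrime⟩ hP
  exact le_antisymm hPQ (hmin ⟨P, hP.isPrime⟩ hPs hPQ)

theorem backward
    (h : ∀ (g : A) (rs : List (Localization.Away g)), rs.length < k →
      IsWeaklyRegular (LocalizedModule (Submonoid.powers g) M) rs →
      ∀ p ∈ associatedPrimes (Localization.Away g)
          (LocalizedModule (Submonoid.powers g) M ⧸
            (Ideal.ofList rs • (⊤ : Submodule (Localization.Away g)
              (LocalizedModule (Submonoid.powers g) M)))),
        ∀ q ∈ associatedPrimes (Localization.Away g)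
          (LocalizedModule (Submonoid.powers g) M ⧸
            (Ideal.ofList rs • (⊤ : Submodule (Localization.Away g)
              (LocalizedModule (Submonoid.powers g) M)))),
          p ≤ q → p = q) :
    LocCoh.HasSk k A M := by
  intro p hp
  set R := Localization.AtPrime p with hR
  set N := LocalizedModule p.primeCompl M with hN
  rcases subsingleton_or_nontrivial N with hsub | hnt
  · rw [Module.supportDim_eq_bot_of_subsingleton, min_bot_right]
    exact bot_le
  by_contra hcon
  rw [not_le] at hcon
  have hIM : maximalIdeal R • (⊤ : Submodule R N) ≠ ⊤ := Groth.Agent.Helper2.Depth.smul_top_ne_top R N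
  obtain ⟨rs', hreg', hmem', -, hlen'⟩ :=
    Groth.Agent.Helper2.DepthCM.exists_length_eq_idealDepth (maximalIdeal R) N hIM
  have hdepth : LocCoh.depth R N = (rs'.length : ℕ∞) := hlen'.symm
  rw [hdepth, lt_min_iff] at hcon
  obtain ⟨hdk, hddim⟩ := hcon
  have hdk' : rs'.length < k := by exact_mod_cast hdk
  obtain ⟨rsA, hlenA, hregA, hmemA⟩ := lift_seq p.primeCompl rs' N hreg'
  have hmemA' : ∀ r ∈ rsA.map (algebraMap A R), r ∈ maximalIdeal R := by
    intro r hr
    obtain ⟨a, ha, rfl⟩ := List.mem_map.mp hr
    obtain ⟨r', hr', s, -, hrs⟩ := hmemA a ha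
    rw [← hrs]
    exact Ideal.mul_mem_right _ _ (hmem' r' hr')
  obtain ⟨g, hg, hregg⟩ := spread M p rsA hregA
  haveI : IsNoetherianRing (Localization.Away g) :=
    IsLocalization.isNoetherianRing (Submonoid.powers g) _ inferInstance
  have hno := h g (rsA.map (algebraMap A (Localization.Away g)))
    (by rw [List.length_map, hlenA]; exact hdk') hregg
  set Ng := LocalizedModule (Submonoid.powers g) M ⧸
    (Ideal.ofList (rsA.map (algebraMap A (Localization.Away g))) •
      (⊤ : Submodule (Localization.Away g) (LocalizedModule (Submonoid.powers g) M))) with hNg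
  -- `(S_1)` for `Ng`
  have hS1 : LocCoh.HasSk 1 (Localization.Away g) Ng := by
    rw [Groth.Agent.Helper5.SkOne.hasSk_one_iff]
    intro q hq q' hq' hle
    rw [Module.mem_support_iff_of_finite] at hq'
    obtain ⟨q'', hq''min, hq''le⟩ := Ideal.exists_minimalPrimes_le hq'
    have hq''ass : q'' ∈ associatedPrimes (Localization.Away g) Ng :=
      Module.associatedPrimes.minimalPrimes_annihilator_subset_associatedPrimes _ _ hq''min
    have heq := hno q'' hq''ass q.asIdeal hq (hq''le.trans hle)
    show q.asIdeal ≤ q'.asIdeal
    rw [← heq]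
    exact hq''le
  -- transfer to the localization of `N₀ = M / (rsA) M`
  set N₀ := M ⧸ (Ideal.ofList rsA • (⊤ : Submodule A M)) with hN₀
  have e := quotLocEquiv (Submonoid.powers g) M rsA
  have hS1' : LocCoh.HasSk 1 (Localization.Away g) (LocalizedModule (Submonoid.powers g) N₀) :=
    Groth.Agent.Helper6.SkQuot.hasSk_of_equiv 1 e hS1
  have hdg : Disjoint (Submonoid.powers g : Set A) (p : Set A) := by
    rw [Set.disjoint_left]
    rintro x ⟨n, rfl⟩ hx
    exact hg (hp.mem_of_pow_mem n hx)
  haveI hPprime : (p.map (algebraMap A (Localization (Submonoid.powers g)))).IsPrime :=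
    IsLocalization.isPrime_of_isPrime_disjoint (Submonoid.powers g) _ p hp hdg
  have h4 := hS1' (p.map (algebraMap A (Localization (Submonoid.powers g))))
  rw [sk_at_localized_iff (Submonoid.powers g) N₀ 1 p _ rfl hdg] at h4
  -- the localization of `N₀` at `p`
  have e2 := quotLocEquiv p.primeCompl M rsA
  rw [← Module.supportDim_eq_of_equiv e2] at h4
  have hdep : LocCoh.depth (Localization.AtPrime p) (LocalizedModule p.primeCompl N₀) =
      LocCoh.idealDepth (maximalIdeal R)
        (N ⧸ (Ideal.ofList (rsA.map (algebraMap A R)) • (⊤ : Submodule R N))) :=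
    (Groth.Agent.Helper2.DepthCM.idealDepth_congr _ e2).symm
  rw [hdep] at h4
  have h5 := Groth.Agent.Helper2.DepthCM.idealDepth_quot_ofList (maximalIdeal R) N hIM
    (rsA.map (algebraMap A R)) hregA hmemA'
  have h5' : LocCoh.idealDepth (maximalIdeal R)
      (N ⧸ (Ideal.ofList (rsA.map (algebraMap A R)) • (⊤ : Submodule R N))) = 0 := by
    have hN' : LocCoh.idealDepth (maximalIdeal R) N = (rs'.length : ℕ∞) := hdepth
    rw [hN', List.length_map, hlenA] at h5
    cases hx : LocCoh.idealDepth (maximalIdeal R)
      (N ⧸ (Ideal.ofList (rsA.map (algebraMap A R)) • (⊤ : Submodule R N))) with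
    | top => rw [hx] at h5; simp at h5
    | coe n =>
      rw [hx] at h5
      have : n + rs'.length = rs'.length := by exact_mod_cast h5
      have : n = 0 := by omega
      rw [this]; rfl
  rw [h5'] at h4
  have h6 := Groth.Agent.Helper2.DepthCM2.supportDim_le_quot_ofList_add
    (rsA.map (algebraMap A R)) N hmemA'
  rw [List.length_map, hlenA] at h6
  -- arithmetic
  generalize Module.supportDim R
    (N ⧸ (Ideal.ofList (rsA.map (algebraMap A R)) • (⊤ : Submodule R N))) = σ at h4 h6
  have hlt : ((rs'.length : ℕ∞) : WithBot ℕ∞) < σ + (rs'.length : ℕ) := lt_of_lt_of_le hddim h6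
  cases σ with
  | bot => simp at hlt
  | coe n =>
    have hlt' : (rs'.length : ℕ∞) < n + (rs'.length : ℕ) := by exact_mod_cast hlt
    have hn : 1 ≤ n := by
      by_contra hn
      have : n = 0 := by
        rw [not_le] at hn
        exact ENat.lt_one_iff_eq_zero.mp hn
      rw [this, zero_add] at hlt'
      exact lt_irrefl _ hlt'
    have h4' : min (1 : ℕ∞) n ≤ 0 := by exact_mod_cast h4
    rw [min_eq_left hn] at h4'
    simp at h4'

include hk in
theorem main :
    LocCoh.HasSk k A M ↔
      ∀ (g : A) (rs : List (Localization.Away g)), rs.length < k →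
        RingTheory.Sequence.IsWeaklyRegular (LocalizedModule (Submonoid.powers g) M) rs →
        ∀ p ∈ associatedPrimes (Localization.Away g)
            (LocalizedModule (Submonoid.powers g) M ⧸
              (Ideal.ofList rs • (⊤ : Submodule (Localization.Away g)
                (LocalizedModule (Submonoid.powers g) M)))),
          ∀ q ∈ associatedPrimes (Localization.Away g)
            (LocalizedModule (Submonoid.powers g) M ⧸
              (Ideal.ofList rs • (⊤ : Submodule (Localization.Away g)
                (LocalizedModule (Submonoid.powers g) M)))),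
            p ≤ q → p = q :=
  ⟨fun h g rs hlen hreg => forward k hk A M h g rs hlen hreg, backward k A M⟩

end Main

end Groth.Agent.Helper2.SkEmb
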