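import Mathlib
import Groth.Prelude
import Groth.Agent.Helper2.KerFP
import Groth.Agent.Helper2.QuotLoc
import Groth.Agent.Helper2.InjCokerOpen
import Groth.Agent.Helper2.InjFlatFin
import Groth.Agent.Helper2.StalkEssFP

set_option autoImplicit false
open Function AlgebraicGeometry CategoryTheory CategoryTheory.Limits TopologicalSpace IsLocalRing
universe u

namespace Groth.Agent.Helper2.SliceNZD

open Groth.Agent.Helper4 Groth.Agent.Helper4.StalkDict

section Chart
variable {X S : Scheme.{u}} (f : X ⟶ S) {V : S.Opens}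

/-- the canonical `Γ(S,V)`-algebra structure on a stalk of `X` over `V`. -/
@[reducible] noncomputable def algStalk (y : X) (hy : f y ∈ V) :
    Algebra Γ(S, V) (X.presheaf.stalk y) :=
  ((S.presheaf.germ V (f y) hy) ≫ f.stalkMap y).hom.toAlgebra

theorem flat_chart_iff {W : X.Opens} (hW : IsAffineOpen W) (e : W ≤ f ⁻¹ᵁ V)
    (k : Γ(X, W)) (y : X) (hy : y ∈ W) :
    letI := (f.appLE V W e).hom.toAlgebra
    letI := algStalk f y (e hy)
    Module.Flat Γ(S, V) (LocalizedModule (hW.primeIdealOf ⟨y, hy⟩).asIdeal.primeCompl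
        (Γ(X, W) ⧸ Ideal.span {k})) ↔
      Module.Flat Γ(S, V) (X.presheaf.stalk y ⧸ Ideal.span {X.presheaf.germ W y hy k}) := by
  letI a1 : Algebra Γ(S, V) Γ(X, W) := (f.appLE V W e).hom.toAlgebra
  letI a2 : Algebra Γ(S, V) (X.presheaf.stalk y) := algStalk f y (e hy)
  letI a3 : Algebra Γ(X, W) (X.presheaf.stalk y) := X.presheaf.algebra_section_stalk ⟨y, hy⟩
  haveI : IsScalarTower Γ(S, V) Γ(X, W) (X.presheaf.stalk y) :=
    IsScalarTower.of_algebraMap_eq (fun a => by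
      show (f.stalkMap y).hom (S.presheaf.germ V (f y) (e hy) a) =
        X.presheaf.germ W y hy ((f.appLE V W e).hom a)
      rw [Scheme.Hom.germ_stalkMap_apply, Scheme.Hom.appLE, CommRingCat.comp_apply,
        TopCat.Presheaf.germ_res_apply])
  haveI := hW.isLocalization_stalk ⟨y, hy⟩
  exact Groth.Agent.Helper2.QuotLoc.flat_localizedModule_quot_iff (A := Γ(S, V))
    (R := Γ(X, W)) (Rq := X.presheaf.stalk y) (hW.primeIdealOf ⟨y, hy⟩).asIdeal k

theorem flat_quot_of_forall {W : X.Opens} (hW : IsAffineOpen W) (e : W ≤ f ⁻¹ᵁ V)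
    (k : Γ(X, W))
    (H : ∀ (y : X) (hy : y ∈ W), letI := algStalk f y (e hy)
      Module.Flat Γ(S, V) (X.presheaf.stalk y ⧸ Ideal.span {X.presheaf.germ W y hy k})) :
    letI := (f.appLE V W e).hom.toAlgebra
    Module.Flat Γ(S, V) (Γ(X, W) ⧸ Ideal.span {k}) := by
  letI a1 : Algebra Γ(S, V) Γ(X, W) := (f.appLE V W e).hom.toAlgebra
  refine Module.flat_of_isLocalized_maximal Γ(X, W) (Γ(X, W) ⧸ Ideal.span {k})
    (fun P _ => LocalizedModule P.primeCompl (Γ(X, W) ⧸ Ideal.span {k}))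
    (fun P _ => LocalizedModule.mkLinearMap P.primeCompl (Γ(X, W) ⧸ Ideal.span {k})) ?_
  intro P hP
  obtain ⟨y, hy, hyP⟩ := FinLocFree5.exists_point_of_prime hW ⟨P, hP.isPrime⟩
  have h1 := (flat_chart_iff f hW e k y hy).2 (H y hy)
  have hP' : (hW.primeIdealOf ⟨y, hy⟩).asIdeal = P := by rw [hyP]
  subst hP'
  exact h1

end Chart

/-- the local step: a fibrewise nonzerodivisor at a flat point is a nonzerodivisor with flat
quotient. -/
theorem local_step {X S : Scheme.{u}} (f : X ⟶ S) [LocallyOfFinitePresentation f] (x : X)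
    (hflat : (f.stalkMap x).hom.Flat) (h : X.presheaf.stalk x)
    (hreg : Ideal.Quotient.mk (Ideal.map (f.stalkMap x).hom
        (maximalIdeal (S.presheaf.stalk (f x)))) h ∈
      nonZeroDivisors (X.presheaf.stalk x ⧸ Ideal.map (f.stalkMap x).hom
        (maximalIdeal (S.presheaf.stalk (f x))))) :
    (∀ z : X.presheaf.stalk x, h * z = 0 → z = 0) ∧
      (letI := (f.stalkMap x).hom.toAlgebra
       Module.Flat (S.presheaf.stalk (f x)) (X.presheaf.stalk x ⧸ Ideal.span {h})) := by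
  letI algRS : Algebra (S.presheaf.stalk (f x)) (X.presheaf.stalk x) :=
    (f.stalkMap x).hom.toAlgebra
  haveI : IsLocalHom (algebraMap (S.presheaf.stalk (f x)) (X.presheaf.stalk x)) :=
    inferInstanceAs (IsLocalHom (f.stalkMap x).hom)
  have hess := Groth.Agent.Helper2.StalkEssFP.essFP_stalk f x
  haveI : Module.Flat (S.presheaf.stalk (f x)) (X.presheaf.stalk x) := hflat
  let T := X.presheaf.stalk x
  let J : Ideal T := (maximalIdeal (S.presheaf.stalk (f x))).map
    (algebraMap (S.presheaf.stalk (f x)) T)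
  have hJ : J • (⊤ : Submodule T T) = J := by
    rw [smul_eq_mul, Ideal.mul_top]
  have key := Groth.Agent.Helper2.InjFlatFin.s2107 hess (M := T) (N := T)
    (LinearMap.lsmul T T h) (by
      intro z hz
      rw [hJ] at hz ⊢
      have h1 : Ideal.Quotient.mk J (h * z) = 0 := Ideal.Quotient.eq_zero_iff_mem.mpr hz
      rw [map_mul] at h1
      have h2 := (mul_left_mem_nonZeroDivisors_eq_zero_iff hreg).mp h1
      exact Ideal.Quotient.eq_zero_iff_mem.mp h2)
  obtain ⟨hinj, hfl⟩ := key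
  refine ⟨fun z hz => hinj (by rw [map_zero]; exact hz), ?_⟩
  have hrange : LinearMap.range (LinearMap.lsmul T T h) = Ideal.span {h} := by
    ext z
    rw [LinearMap.mem_range, Ideal.mem_span_singleton']
    constructor
    · rintro ⟨a, rfl⟩
      exact ⟨a, mul_comm _ _⟩
    · rintro ⟨a, rfl⟩
      exact ⟨a, mul_comm _ _⟩
  exact Module.Flat.of_linearEquiv
    ((Submodule.quotEquivOfEq _ _ hrange).restrictScalars (S.presheaf.stalk (f x))).symm

theorem res_res {X : Scheme.{u}} {U₀ U U' : X.Opens} (h1 : U ≤ U₀) (h2 : U' ≤ U) (h3 : U' ≤ U₀)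
    (a : Γ(X, U₀)) :
    X.presheaf.map (homOfLE h3).op a =
      X.presheaf.map (homOfLE h2).op (X.presheaf.map (homOfLE h1).op a) := by
  rw [← ConcreteCategory.comp_apply, ← Functor.map_comp]
  rfl

/-- nonzerodivisor after inverting an element killing the annihilator. -/
theorem algebraMap_mem_nonZeroDivisors_of_away {R R' : Type u} [CommRing R] [CommRing R']
    [Algebra R R'] (t : R) [IsLocalization.Away t R'] (k : R)
    (hann : ∀ b : R, k * b = 0 → t * b = 0) : algebraMap R R' k ∈ nonZeroDivisors R' := by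
  rw [mem_nonZeroDivisors_iff_left]
  intro z hz
  obtain ⟨⟨b, s⟩, hs⟩ := IsLocalization.surj (Submonoid.powers t) z
  have hs' : z * algebraMap R R' s = algebraMap R R' b := hs
  have h1 : algebraMap R R' (k * b) = 0 := by
    rw [map_mul, ← hs', ← mul_assoc, hz, zero_mul]
  obtain ⟨c, hc⟩ := (IsLocalization.map_eq_zero_iff (Submonoid.powers t) R' (k * b)).mp h1
  have h2 : k * ((c : R) * b) = 0 := by
    rw [← hc]; ring
  have h3 := hann _ h2
  have h4 : algebraMap R R' b = 0 := by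
    rw [IsLocalization.map_eq_zero_iff (Submonoid.powers t) R' b]
    refine ⟨⟨t * c, Submonoid.mul_mem _ (Submonoid.mem_powers t) c.2⟩, ?_⟩
    show t * (c : R) * b = 0
    rw [mul_assoc]; exact h3
  rw [h4] at hs'
  have hu : IsUnit (algebraMap R R' s) := IsLocalization.map_units R' s
  exact (hu.mul_left_eq_zero).mp hs'

section Conv
variable {X S : Scheme.{u}} (f : X ⟶ S) {V : S.Opens}

theorem flat_of_flat_quot (hV : IsAffineOpen V) {W : X.Opens} (hW : IsAffineOpen W)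
    (e : W ≤ f ⁻¹ᵁ V) (k : Γ(X, W))
    (H : letI := (f.appLE V W e).hom.toAlgebra
      Module.Flat Γ(S, V) (Γ(X, W) ⧸ Ideal.span {k})) :
    Flat (Spec.map (CommRingCat.ofHom (Ideal.Quotient.mk (Ideal.span {k}))) ≫
      hW.fromSpec ≫ f) := by
  letI a1 : Algebra Γ(S, V) Γ(X, W) := (f.appLE V W e).hom.toAlgebra
  rw [← hV.SpecMap_appLE_fromSpec f hW e, ← Spec.map_comp_assoc]
  haveI : Flat (Spec.map (f.appLE V W e ≫
      CommRingCat.ofHom (Ideal.Quotient.mk (Ideal.span {k})))) := by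
    rw [Flat.SpecMap_iff]
    have h1 : (algebraMap Γ(S, V) (Γ(X, W) ⧸ Ideal.span {k})).Flat :=
      RingHom.flat_algebraMap_iff.mpr H
    exact h1
  infer_instance

theorem lfp_slice [LocallyOfFinitePresentation f] {W : X.Opens} (hW : IsAffineOpen W)
    (k : Γ(X, W)) :
    LocallyOfFinitePresentation (Spec.map (CommRingCat.ofHom
      (Ideal.Quotient.mk (Ideal.span {k}))) ≫ hW.fromSpec ≫ f) := by
  haveI : LocallyOfFinitePresentation (Spec.map (CommRingCat.ofHom
      (Ideal.Quotient.mk (Ideal.span {k})))) := by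
    rw [HasRingHomProperty.Spec_iff (P := @LocallyOfFinitePresentation)]
    refine RingHom.FinitePresentation.of_surjective _ Ideal.Quotient.mk_surjective ?_
    rw [CommRingCat.hom_ofHom, Ideal.mk_ker]
    exact ⟨{k}, by simp⟩
  infer_instance

end Conv

set_option maxHeartbeats 1000000 in
/-- **S1348**. -/
theorem s1348 {X S : Scheme.{u}} (f : X ⟶ S) [LocallyOfFinitePresentation f] (x : X)
    (hflat : (f.stalkMap x).hom.Flat) (h : X.presheaf.stalk x)
    (hreg : Ideal.Quotient.mk (Ideal.map (f.stalkMap x).hom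
        (maximalIdeal (S.presheaf.stalk (f x)))) h ∈
      nonZeroDivisors (X.presheaf.stalk x ⧸ Ideal.map (f.stalkMap x).hom
        (maximalIdeal (S.presheaf.stalk (f x))))) :
    ∃ (U : X.Opens) (hU : IsAffineOpen U) (hx : x ∈ U) (h' : Γ(X, U)),
      X.presheaf.germ U x hx h' = h ∧ h' ∈ nonZeroDivisors Γ(X, U) ∧
      Flat (Spec.map (CommRingCat.ofHom (Ideal.Quotient.mk (Ideal.span {h'}))) ≫
        hU.fromSpec ≫ f) ∧
      LocallyOfFinitePresentation (Spec.map (CommRingCat.ofHom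
        (Ideal.Quotient.mk (Ideal.span {h'}))) ≫ hU.fromSpec ≫ f) := by
  obtain ⟨hnzd, hflq⟩ := local_step f x hflat h hreg
  obtain ⟨V, hV, hfxV, -⟩ := (Opens.isBasis_iff_nbhd.1 S.isBasis_affineOpens)
    (show f x ∈ (⊤ : S.Opens) from trivial)
  obtain ⟨V', hxV', s, hs⟩ := TopCat.Presheaf.exists_germ_eq X.presheaf h
  obtain ⟨U₀, hU₀, hxU₀, hU₀le⟩ := (Opens.isBasis_iff_nbhd.1 X.isBasis_affineOpens)
    (show x ∈ V' ⊓ f ⁻¹ᵁ V from ⟨hxV', hfxV⟩)
  let k₀ : Γ(X, U₀) := X.presheaf.map (homOfLE (hU₀le.trans inf_le_left)).op s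
  have hk₀ : X.presheaf.germ U₀ x hxU₀ k₀ = h := by
    rw [← hs]
    exact TopCat.Presheaf.germ_res_apply X.presheaf _ x hxU₀ s
  have e₀ : U₀ ≤ f ⁻¹ᵁ V := hU₀le.trans inf_le_right
  -- the flatness predicate at a point of `U₀`
  let Q : ∀ (y : X) (_ : y ∈ U₀), Prop := fun y hy =>
    letI := algStalk f y (e₀ hy)
    Module.Flat Γ(S, V) (X.presheaf.stalk y ⧸ Ideal.span {X.presheaf.germ U₀ y hy k₀})
  have hQx : Q x hxU₀ := by
    show (letI := algStalk f x (e₀ hxU₀)
      Module.Flat Γ(S, V) (X.presheaf.stalk x ⧸ Ideal.span {X.presheaf.germ U₀ x hxU₀ k₀}))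
    rw [hk₀]
    letI a2 : Algebra Γ(S, V) (X.presheaf.stalk x) := algStalk f x (e₀ hxU₀)
    letI a3 : Algebra (S.presheaf.stalk (f x)) (X.presheaf.stalk x) :=
      (f.stalkMap x).hom.toAlgebra
    letI a4 : Algebra Γ(S, V) (S.presheaf.stalk (f x)) :=
      (S.presheaf.germ V (f x) hfxV).hom.toAlgebra
    haveI : IsScalarTower Γ(S, V) (S.presheaf.stalk (f x)) (X.presheaf.stalk x) :=
      IsScalarTower.of_algebraMap_eq (fun a => rfl)
    haveI : IsLocalization.AtPrime (S.presheaf.stalk (f x))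
        (hV.primeIdealOf ⟨f x, hfxV⟩).asIdeal := hV.isLocalization_stalk ⟨f x, hfxV⟩
    exact (Module.flat_iff_of_isLocalization (S.presheaf.stalk (f x))
      (hV.primeIdealOf ⟨f x, hfxV⟩).asIdeal.primeCompl _).mp hflq
  -- step 1: open neighbourhood where `Q` holds
  have hU₁ : ∃ U₁ : X.Opens, x ∈ U₁ ∧ ∃ hle : U₁ ≤ U₀, ∀ (y : X) (hy : y ∈ U₁), Q y (hle hy) := by
    letI alg : Algebra Γ(S, V) Γ(X, U₀) := (f.appLE V U₀ e₀).hom.toAlgebra
    have hfp : (f.appLE V U₀ e₀).hom.FinitePresentation :=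
      HasRingHomProperty.appLE @LocallyOfFinitePresentation f inferInstance ⟨V, hV⟩ ⟨U₀, hU₀⟩ e₀
    haveI : Algebra.FinitePresentation Γ(S, V) Γ(X, U₀) := hfp
    haveI : Module.FinitePresentation Γ(X, U₀) (Γ(X, U₀) ⧸ Ideal.span {k₀}) := by
      refine Module.finitePresentation_of_surjective (Ideal.span {k₀}).mkQ
        (Submodule.mkQ_surjective _) ?_
      rw [Submodule.ker_mkQ]
      exact ⟨{k₀}, by simp [Ideal.span]⟩
    have hopen := Groth.Agent.Helper2.FlatDescApp.isOpen_flatLocus_fp (R := Γ(S, V))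
      (S := Γ(X, U₀)) (M := Γ(X, U₀) ⧸ Ideal.span {k₀})
    have hop2 : IsOpen (Subtype.val '' ((fun y : U₀ => IsAffineOpen.primeIdealOf hU₀ y) ⁻¹'
        {q : PrimeSpectrum Γ(X, U₀) | Module.Flat Γ(S, V)
          (LocalizedModule q.asIdeal.primeCompl (Γ(X, U₀) ⧸ Ideal.span {k₀}))})) :=
      U₀.2.isOpenEmbedding_subtypeVal.isOpenMap _
        (hopen.preimage (IsAffineOpen.isoSpec hU₀).hom.continuous)
    refine ⟨⟨_, hop2⟩, ?_, ?_, ?_⟩
    · exact ⟨⟨x, hxU₀⟩, (flat_chart_iff f hU₀ e₀ k₀ x hxU₀).2 hQx, rfl⟩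
    · rintro _ ⟨y, -, rfl⟩
      exact y.2
    · rintro _ ⟨y, hy, rfl⟩
      exact (flat_chart_iff f hU₀ e₀ k₀ y.1 y.2).1 hy
  obtain ⟨U₁, hxU₁, hU₁U₀, hU₁Q⟩ := hU₁
  -- for every affine open inside `U₁` the quotient by the restricted section is flat
  have hflatU : ∀ (U : X.Opens) (hU : IsAffineOpen U) (hUU₁ : U ≤ U₁),
      letI := (f.appLE V U ((hUU₁.trans hU₁U₀).trans e₀)).hom.toAlgebra
      Module.Flat Γ(S, V) (Γ(X, U) ⧸ Ideal.span
        {X.presheaf.map (homOfLE (hUU₁.trans hU₁U₀)).op k₀}) := by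
    intro U hU hUU₁
    refine flat_quot_of_forall f hU ((hUU₁.trans hU₁U₀).trans e₀) _ (fun y hy => ?_)
    have h1 := hU₁Q y (hUU₁ hy)
    have h2 : X.presheaf.germ U y hy (X.presheaf.map (homOfLE (hUU₁.trans hU₁U₀)).op k₀) =
        X.presheaf.germ U₀ y (hU₁U₀ (hUU₁ hy)) k₀ :=
      TopCat.Presheaf.germ_res_apply X.presheaf _ y hy k₀
    rw [h2]
    exact h1
  -- step 2: an affine chart inside `U₁`
  obtain ⟨U, hU, hxU, hUU₁⟩ := (Opens.isBasis_iff_nbhd.1 X.isBasis_affineOpens) hxU₁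
  have hUU₀ : U ≤ U₀ := hUU₁.trans hU₁U₀
  have e : U ≤ f ⁻¹ᵁ V := hUU₀.trans e₀
  let k : Γ(X, U) := X.presheaf.map (homOfLE hUU₀).op k₀
  have hk : X.presheaf.germ U x hxU k = h := by
    rw [← hk₀]
    exact TopCat.Presheaf.germ_res_apply X.presheaf _ x hxU k₀
  letI alg : Algebra Γ(S, V) Γ(X, U) := (f.appLE V U e).hom.toAlgebra
  have hfp : (f.appLE V U e).hom.FinitePresentation :=
    HasRingHomProperty.appLE @LocallyOfFinitePresentation f inferInstance ⟨V, hV⟩ ⟨U, hU⟩ e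
  haveI : Algebra.FinitePresentation Γ(S, V) Γ(X, U) := hfp
  haveI hCfp : Module.FinitePresentation Γ(X, U) (Γ(X, U) ⧸ Ideal.span {k}) := by
    refine Module.finitePresentation_of_surjective (Ideal.span {k}).mkQ
      (Submodule.mkQ_surjective _) ?_
    rw [Submodule.ker_mkQ]
    exact ⟨{k}, by simp [Ideal.span]⟩
  haveI hCflat : Module.Flat Γ(S, V) (Γ(X, U) ⧸ Ideal.span {k}) := hflatU U hU hUU₁
  -- step 3: the ideal `(k)` is finitely presented as a module, so `Ann k` is finitely generated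
  haveI hIfp : Module.FinitePresentation Γ(X, U) (LinearMap.ker (Ideal.span {k}).mkQ) :=
    Groth.Agent.Helper2.KerFP.fp_ker_of_flat (A := Γ(S, V)) (B := Γ(X, U))
      (Γ(X, U) ⧸ Ideal.span {k}) (Ideal.span {k}).mkQ (Submodule.mkQ_surjective _)
  haveI : Module.FinitePresentation Γ(X, U) (Ideal.span {k} : Ideal Γ(X, U)) := by
    have h0 : LinearMap.ker (Ideal.span {k}).mkQ = (Ideal.span {k} : Ideal Γ(X, U)) :=
      Submodule.ker_mkQ _
    rw [h0] at hIfp
    exact hIfp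
  let μ : Γ(X, U) →ₗ[Γ(X, U)] (Ideal.span {k} : Ideal Γ(X, U)) :=
    LinearMap.codRestrict _ (LinearMap.toSpanSingleton Γ(X, U) Γ(X, U) k) (fun b => by
      rw [LinearMap.toSpanSingleton_apply]
      exact Ideal.mul_mem_left _ _ (Ideal.subset_span rfl))
  have hμsurj : Surjective μ := by
    rintro ⟨z, hz⟩
    obtain ⟨a, rfl⟩ := Ideal.mem_span_singleton'.mp hz
    exact ⟨a, Subtype.ext rfl⟩
  have hKfg : (LinearMap.ker μ).FG := Module.FinitePresentation.fg_ker μ hμsurj
  have hmemK : ∀ b : Γ(X, U), b ∈ LinearMap.ker μ ↔ k * b = 0 := by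
    intro b
    rw [LinearMap.mem_ker]
    constructor
    · intro hb
      have := congrArg Subtype.val hb
      rw [mul_comm]
      exact this
    · intro hb
      apply Subtype.ext
      show b • k = 0
      rw [smul_eq_mul, mul_comm]
      exact hb
  -- step 4: kill the annihilator near `x`
  letI a3 : Algebra Γ(X, U) (X.presheaf.stalk x) := X.presheaf.algebra_section_stalk ⟨x, hxU⟩
  haveI := hU.isLocalization_stalk ⟨x, hxU⟩
  have hloc := (Groth.Agent.Helper2.QuotLoc.mul_injective_iff (R := Γ(X, U))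
    (Rq := X.presheaf.stalk x) (hU.primeIdealOf ⟨x, hxU⟩).asIdeal k).mp (by
      intro z hz
      have : algebraMap Γ(X, U) (X.presheaf.stalk x) k = h := hk
      rw [this] at hz
      exact hnzd z hz)
  obtain ⟨t, ht, htK⟩ := Groth.Agent.Helper2.InjCokerOpen.exists_smul_eq_zero_of_fg
    (hU.primeIdealOf ⟨x, hxU⟩).asIdeal (LinearMap.ker μ) hKfg
    (fun b hb => by
      obtain ⟨t, ht, htb⟩ := hloc b ((hmemK b).mp hb)
      exact ⟨t, ht, htb⟩)
  -- step 5: the final chart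
  have hxU' : x ∈ X.basicOpen t := (mem_basicOpen_iff_notMem_primeIdealOf hU x hxU t).mpr ht
  have hU' : IsAffineOpen (X.basicOpen t) := hU.basicOpen t
  have hU'U₁ : X.basicOpen t ≤ U₁ := (X.basicOpen_le t).trans hUU₁
  let k' : Γ(X, X.basicOpen t) := X.presheaf.map (homOfLE (hU'U₁.trans hU₁U₀)).op k₀
  have hk'eq : k' = algebraMap Γ(X, U) Γ(X, X.basicOpen t) k := by
    exact res_res hUU₀ (X.basicOpen_le t) (hU'U₁.trans hU₁U₀) k₀
  refine ⟨X.basicOpen t, hU', hxU', k', ?_, ?_, ?_, ?_⟩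
  · rw [← hk₀]
    exact TopCat.Presheaf.germ_res_apply X.presheaf _ x hxU' k₀
  · haveI := hU.isLocalization_basicOpen t
    rw [hk'eq]
    exact algebraMap_mem_nonZeroDivisors_of_away t k (fun b hb => htK b ((hmemK b).mpr hb))
  · exact flat_of_flat_quot f hV hU' ((hU'U₁.trans hU₁U₀).trans e₀) k' (hflatU _ hU' hU'U₁)
  · exact lfp_slice f hU' k'

end Groth.Agent.Helper2.SliceNZD
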