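import Mathlib
import Groth.Prelude
import Groth.Agent.Helper2.SmGU5
import Groth.Agent.Helper2.HensTensS
import Groth.Agent.S0537
set_option autoImplicit false
universe u
open IsLocalRing TensorProduct

/-! S13202: étale-universally prime elements and strict henselizations of smooth algebras. -/

namespace Groth.Agent.Helper2.SmGU6

section Fwd

variable (R : Type u) [CommRing R] (Δ : R) (R' : Type u) [CommRing R'] [Algebra R R']
  [Algebra.Smooth R R'] (q : Ideal R') [q.IsPrime]
  (T : Type u) [CommRing T] [IsLocalRing T] [Algebra (Localization.AtPrime q) T]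
  [IsLocalHom (algebraMap (Localization.AtPrime q) T)]
  [Hensel.IsStrictHenselization (Localization.AtPrime q) T]

theorem fwd (h : ∀ (p : Ideal R) [p.IsPrime], Δ ∈ p →
        ∀ (T : Type u) [CommRing T] [IsLocalRing T] [Algebra (Localization.AtPrime p) T]
          [IsLocalHom (algebraMap (Localization.AtPrime p) T)]
          [Hensel.IsStrictHenselization (Localization.AtPrime p) T],
          Prime (algebraMap (Localization.AtPrime p) T (algebraMap R (Localization.AtPrime p) Δ))) :
    IsUnit (algebraMap (Localization.AtPrime q) T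
        (algebraMap R' (Localization.AtPrime q) (algebraMap R R' Δ))) ∨
      Prime (algebraMap (Localization.AtPrime q) T
        (algebraMap R' (Localization.AtPrime q) (algebraMap R R' Δ))) := by
  set p : Ideal R := q.comap (algebraMap R R') with hp
  haveI : p.IsPrime := Ideal.comap_isPrime _ q
  haveI : q.LiesOver p := ⟨rfl⟩
  by_cases hΔ : Δ ∈ p
  swap
  · left
    have h1 : algebraMap R R' Δ ∉ q := hΔ
    have h2 : IsUnit (algebraMap R' (Localization.AtPrime q) (algebraMap R R' Δ)) :=
      IsLocalization.map_units _ (⟨_, h1⟩ : q.primeCompl)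
    exact h2.map _
  right
  obtain ⟨Rh, i1, i2, i3, i4, hRh⟩ := Groth.Agent.S0537.result (Localization.AtPrime p)
  letI := i1
  letI := i2
  letI := i3
  letI := i4
  letI := hRh
  have hΔh : Prime (algebraMap (Localization.AtPrime p) Rh (algebraMap R (Localization.AtPrime p) Δ)) :=
    h p hΔ Rh
  haveI hRhH : HenselianLocalRing Rh :=
    Hensel.IsStrictHenselization.henselian (Localization.AtPrime p)
  haveI : IsSepClosed (ResidueField Rh) :=
    (Hensel.IsStrictHenselization.isSepClosure (R := Localization.AtPrime p) (S := Rh)).sep_closed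
  haveI : Algebra.IsSeparable (ResidueField (Localization.AtPrime p)) (ResidueField Rh) :=
    (Hensel.IsStrictHenselization.isSepClosure (R := Localization.AtPrime p) (S := Rh)).separable
  haveI hTH : HenselianLocalRing T :=
    Hensel.IsStrictHenselization.henselian (Localization.AtPrime q)
  haveI : IsSepClosed (ResidueField T) :=
    (Hensel.IsStrictHenselization.isSepClosure (R := Localization.AtPrime q) (S := T)).sep_closed
  -- algebra structures
  letI algRRh : Algebra R Rh :=
    ((algebraMap (Localization.AtPrime p) Rh).comp (algebraMap R (Localization.AtPrime p))).toAlgebra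
  haveI : IsScalarTower R (Localization.AtPrime p) Rh := IsScalarTower.of_algebraMap_eq (fun _ => rfl)
  letI algR'T : Algebra R' T :=
    ((algebraMap (Localization.AtPrime q) T).comp (algebraMap R' (Localization.AtPrime q))).toAlgebra
  haveI : IsScalarTower R' (Localization.AtPrime q) T := IsScalarTower.of_algebraMap_eq (fun _ => rfl)
  letI algRT : Algebra R T := ((algebraMap R' T).comp (algebraMap R R')).toAlgebra
  haveI : IsScalarTower R R' T := IsScalarTower.of_algebraMap_eq (fun _ => rfl)
  -- the local map R_p → T
  let a : Localization.AtPrime p →+* Localization.AtPrime q :=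
    Localization.localRingHom p q (algebraMap R R') rfl
  haveI : IsLocalHom a := Localization.isLocalHom_localRingHom _ _ _ _
  let f : Localization.AtPrime p →+* T := (algebraMap (Localization.AtPrime q) T).comp a
  haveI : IsLocalHom f := RingHom.isLocalHom_comp _ _
  letI algκ : Algebra (ResidueField (Localization.AtPrime p)) (ResidueField T) :=
    (ResidueField.map f).toAlgebra
  let τ : ResidueField Rh →ₐ[ResidueField (Localization.AtPrime p)] ResidueField T :=
    IsSepClosed.lift
  have hτ : τ.toRingHom.comp (ResidueField.map (algebraMap (Localization.AtPrime p) Rh)) =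
      ResidueField.map f := by
    refine RingHom.ext fun z => ?_
    exact τ.commutes z
  obtain ⟨g, ⟨hg, hgres⟩, -⟩ := Hensel.IsStrictHenselization.universal
    (R := Localization.AtPrime p) (S := Rh) T f τ.toRingHom hτ
  letI algRhT : Algebra Rh T := g.toAlgebra
  have hgx : ∀ x, g (algebraMap (Localization.AtPrime p) Rh x) = f x :=
    fun x => congrArg (fun k => k x) hg
  haveI : IsScalarTower R Rh T := by
    refine IsScalarTower.of_algebraMap_eq (fun r => ?_)
    show algebraMap (Localization.AtPrime q) T (algebraMap R' (Localization.AtPrime q)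
      (algebraMap R R' r)) = g (algebraMap (Localization.AtPrime p) Rh
        (algebraMap R (Localization.AtPrime p) r))
    rw [hgx]
    show _ = algebraMap (Localization.AtPrime q) T (a (algebraMap R (Localization.AtPrime p) r))
    rw [Localization.localRingHom_to_map]
  have hgloc : ∀ x : Rh, x ∈ maximalIdeal Rh → g x ∈ maximalIdeal T := by
    intro x hx
    rw [← IsLocalRing.residue_eq_zero_iff] at hx ⊢
    rw [hgres x, hx, map_zero]
  let φ : Rh ⊗[R] R' →ₐ[R] T := Algebra.TensorProduct.lift (IsScalarTower.toAlgHom R Rh T)
    (IsScalarTower.toAlgHom R R' T) (fun _ _ => Commute.all _ _)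
  have hφl : ∀ x : Rh, φ (x ⊗ₜ 1) = algebraMap Rh T x := fun x => by simp [φ]
  have hφr : ∀ y : R', φ (1 ⊗ₜ y) = algebraMap R' T y := fun y => by simp [φ]
  haveI hQp : (Ideal.comap φ (maximalIdeal T)).IsPrime := Ideal.comap_isPrime _ _
  obtain ⟨E, j1, j2, j3, j4, hE⟩ := Groth.Agent.S0537.result
    (Localization.AtPrime (Ideal.comap φ (maximalIdeal T)))
  letI := j1
  letI := j2
  letI := j3
  letI := j4
  letI := hE
  obtain ⟨e, he⟩ := Groth.Agent.Helper2.HensTensS.concrete R R' p q Rh T φ hφl hφr E
  have hQ : (maximalIdeal Rh).map (algebraMap Rh (Rh ⊗[R] R')) ≤ Ideal.comap φ (maximalIdeal T) := by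
    rw [Ideal.map_le_iff_le_comap]
    intro x hx
    show φ (x ⊗ₜ 1) ∈ maximalIdeal T
    rw [hφl]
    exact hgloc x hx
  have hP := Groth.Agent.Helper2.SmGU5.s17730 Rh (Rh ⊗[R] R') E
    (Ideal.comap φ (maximalIdeal T)) hQ _ hΔh
  have hP' := (MulEquiv.prime_iff e.toMulEquiv).2 hP
  convert hP' using 1
  show _ = e _
  rw [he]
  show _ = φ ((algebraMap (Localization.AtPrime p) Rh (algebraMap R (Localization.AtPrime p) Δ)) ⊗ₜ 1)
  rw [hφl]
  show _ = g _
  rw [hgx]
  show _ = algebraMap (Localization.AtPrime q) T (a (algebraMap R (Localization.AtPrime p) Δ))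
  rw [Localization.localRingHom_to_map]

end Fwd

theorem s13202 (R : Type u) [CommRing R] (Δ : R) :
    (∀ (p : Ideal R) [p.IsPrime], Δ ∈ p →
        ∀ (T : Type u) [CommRing T] [IsLocalRing T] [Algebra (Localization.AtPrime p) T]
          [IsLocalHom (algebraMap (Localization.AtPrime p) T)]
          [Hensel.IsStrictHenselization (Localization.AtPrime p) T],
          Prime (algebraMap (Localization.AtPrime p) T (algebraMap R (Localization.AtPrime p) Δ))) ↔
    (∀ (R' : Type u) [CommRing R'] [Algebra R R'] [Algebra.Smooth R R'] (q : Ideal R') [q.IsPrime]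
        (T : Type u) [CommRing T] [IsLocalRing T] [Algebra (Localization.AtPrime q) T]
          [IsLocalHom (algebraMap (Localization.AtPrime q) T)]
          [Hensel.IsStrictHenselization (Localization.AtPrime q) T],
        IsUnit (algebraMap (Localization.AtPrime q) T (algebraMap R' (Localization.AtPrime q) (algebraMap R R' Δ))) ∨
          Prime (algebraMap (Localization.AtPrime q) T (algebraMap R' (Localization.AtPrime q) (algebraMap R R' Δ)))) := by
  constructor
  · intro h R' _ _ _ q _ T _ _ _ _ _
    exact fwd R Δ R' q T h
  · intro h p _ hΔ T _ _ _ _ _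
    rcases h R p T with hu | hp
    · exfalso
      rw [Algebra.algebraMap_self, RingHom.id_apply] at hu
      have h1 : algebraMap R (Localization.AtPrime p) Δ ∈ maximalIdeal (Localization.AtPrime p) :=
        (IsLocalization.AtPrime.to_map_mem_maximal_iff _ p _).2 hΔ
      exact h1 (isUnit_of_map_unit (algebraMap (Localization.AtPrime p) T) _ hu)
    · rwa [Algebra.algebraMap_self, RingHom.id_apply] at hp

end Groth.Agent.Helper2.SmGU6
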