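import Mathlib
import Groth.Prelude
import Groth.Agent.Helper2.SmGU5
import Groth.Agent.Helper2.HensTensS
import Groth.Agent.S0537
set_option autoImplicit false
universe u
open IsLocalRing TensorProduct

/-! S2129: minimal primes of strict henselizations along smooth ring maps. -/

namespace Groth.Agent.Helper2.SmGU8

open Groth.Agent.Helper1.Hens Groth.Agent.Helper2.SmGU5

section Main

variable (R R' T : Type u) [CommRing R] [HenselianLocalRing R] [IsSepClosed (ResidueField R)]
  [CommRing R'] [Algebra R R'] [Algebra.Smooth R R'] (q : Ideal R') [q.IsPrime]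
  [CommRing T] [IsLocalRing T] [Algebra (Localization.AtPrime q) T]
  [IsLocalHom (algebraMap (Localization.AtPrime q) T)]
  [Hensel.IsStrictHenselization (Localization.AtPrime q) T]

/-- the quotient of the localization by the image of a prime ideal is a geometrically unibranch
domain. -/
theorem quot_domGU' (hq : (maximalIdeal R).map (algebraMap R R') ≤ q) (I : Ideal R) [I.IsPrime]
    [Nontrivial (Localization.AtPrime q ⧸ I.map (algebraMap R (Localization.AtPrime q)))] :
    IsDomain (Localization.AtPrime q ⧸ I.map (algebraMap R (Localization.AtPrime q))) ∧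
    CAlg2.IsGeomUnibranch (Localization.AtPrime q ⧸
      I.map (algebraMap R (Localization.AtPrime q))) := by
  haveI : IsDomain (R ⧸ I) := Ideal.Quotient.isDomain I
  haveI : HenselianLocalRing (R ⧸ I) :=
    Groth.Agent.Helper2.HensInt.henselianLocalRing_of_isIntegral R (R ⧸ I)
  haveI : IsSepClosed (ResidueField (R ⧸ I)) := isSepClosed_quot R I
  have hGU : CAlg2.IsGeomUnibranch (R ⧸ I) :=
    Groth.Agent.Helper2.SmGU3.geomUnibranch_of_strictlyHenselian_domain (R ⧸ I)
  haveI hRL := Groth.Agent.Helper2.SmGU2.isLocalHom_atPrime R R' q hq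
  let e : (Localization.AtPrime q ⧸ I.map (algebraMap R (Localization.AtPrime q))) ≃ₐ[R ⧸ I]
      (R ⧸ I) ⊗[R] Localization.AtPrime q :=
    Algebra.TensorProduct.quotIdealMapEquivQuotTensor (Localization.AtPrime q) I
  haveI : Nontrivial ((R ⧸ I) ⊗[R] Localization.AtPrime q) := e.symm.toEquiv.nontrivial
  haveI : IsLocalRing ((R ⧸ I) ⊗[R] Localization.AtPrime q) := e.toRingEquiv.isLocalRing
  -- the inclusion of `L` is a surjective local homomorphism
  let incR : Localization.AtPrime q →+* (R ⧸ I) ⊗[R] Localization.AtPrime q :=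
    (Algebra.TensorProduct.includeRight : Localization.AtPrime q →ₐ[R]
      (R ⧸ I) ⊗[R] Localization.AtPrime q).toRingHom
  have hincR : Function.Surjective incR := by
    intro x
    induction x using TensorProduct.induction_on with
    | zero => exact ⟨0, map_zero _⟩
    | tmul a l =>
      obtain ⟨r, rfl⟩ := Ideal.Quotient.mk_surjective a
      refine ⟨r • l, ?_⟩
      show (1 : R ⧸ I) ⊗ₜ[R] (r • l) = (Ideal.Quotient.mk I r) ⊗ₜ[R] l
      rw [← TensorProduct.smul_tmul]
      congr 1
      rw [Algebra.smul_def, mul_one]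
      rfl
    | add x y hx hy =>
      obtain ⟨x', rfl⟩ := hx
      obtain ⟨y', rfl⟩ := hy
      exact ⟨x' + y', map_add _ _ _⟩
  haveI hincRloc : IsLocalHom incR := IsLocalHom.of_surjective incR hincR
  haveI : IsLocalHom (algebraMap (R ⧸ I) ((R ⧸ I) ⊗[R] Localization.AtPrime q)) := by
    constructor
    intro a ha
    obtain ⟨r, rfl⟩ := Ideal.Quotient.mk_surjective a
    have h1 : algebraMap (R ⧸ I) ((R ⧸ I) ⊗[R] Localization.AtPrime q) (Ideal.Quotient.mk I r) =
        incR (algebraMap R (Localization.AtPrime q) r) := by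
      show (Ideal.Quotient.mk I r) ⊗ₜ[R] (1 : Localization.AtPrime q) =
        (1 : R ⧸ I) ⊗ₜ[R] (algebraMap R (Localization.AtPrime q) r)
      rw [Algebra.algebraMap_eq_smul_one, ← TensorProduct.smul_tmul]
      congr 1
      rw [Algebra.smul_def, mul_one]
      rfl
    rw [h1] at ha
    have h2 : IsUnit (algebraMap R (Localization.AtPrime q) r) := hincRloc.map_nonunit _ ha
    have h3 : IsUnit r := hRL.map_nonunit _ h2
    exact h3.map _
  -- the localization structure
  let fTE : ((R ⧸ I) ⊗[R] R') →ₐ[R ⧸ I] ((R ⧸ I) ⊗[R] Localization.AtPrime q) :=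
    Algebra.TensorProduct.map (AlgHom.id (R ⧸ I) (R ⧸ I))
      (IsScalarTower.toAlgHom R R' (Localization.AtPrime q))
  letI algTE : Algebra ((R ⧸ I) ⊗[R] R') ((R ⧸ I) ⊗[R] Localization.AtPrime q) :=
    fTE.toRingHom.toAlgebra
  haveI : IsScalarTower (R ⧸ I) ((R ⧸ I) ⊗[R] R') ((R ⧸ I) ⊗[R] Localization.AtPrime q) :=
    IsScalarTower.of_algHom fTE
  let M' : Submonoid ((R ⧸ I) ⊗[R] R') := q.primeCompl.map
      (Algebra.TensorProduct.includeRight (R := R) (A := R ⧸ I) (B := R'))
  haveI hloc : IsLocalization M' ((R ⧸ I) ⊗[R] Localization.AtPrime q) :=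
    IsLocalization.tensorProduct_tensorProduct_right R (R ⧸ I) q.primeCompl
      (Localization.AtPrime q) (by
        ext r
        simp [RingHom.algebraMap_toAlgebra, fTE])
  obtain ⟨h1, h2⟩ := Groth.Agent.Helper2.SmGU4.main (R ⧸ I) ((R ⧸ I) ⊗[R] R')
    ((R ⧸ I) ⊗[R] Localization.AtPrime q) M' hGU
  haveI hdom : IsDomain ((R ⧸ I) ⊗[R] Localization.AtPrime q) := h2 inferInstance
  exact ⟨e.toRingEquiv.toMulEquiv.isDomain _,
    Groth.Agent.Helper5.GuBir.gu_of_ringEquiv e.symm.toRingEquiv h1⟩

theorem map_isPrime (hq : (maximalIdeal R).map (algebraMap R R') ≤ q) (I : Ideal R) [I.IsPrime] :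
    ((I.map (algebraMap R (Localization.AtPrime q))).map
      (algebraMap (Localization.AtPrime q) T)).IsPrime := by
  haveI hRL := Groth.Agent.Helper2.SmGU2.isLocalHom_atPrime R R' q hq
  set J : Ideal (Localization.AtPrime q) := I.map (algebraMap R (Localization.AtPrime q)) with hJdef
  have hJ : J ≤ maximalIdeal (Localization.AtPrime q) := by
    rw [hJdef, Ideal.map_le_iff_le_comap]
    intro x hx
    show algebraMap R (Localization.AtPrime q) x ∈ maximalIdeal (Localization.AtPrime q)
    intro hu
    have h1 : IsUnit x := hRL.map_nonunit _ hu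
    exact (Ideal.IsPrime.ne_top inferInstance) (Ideal.eq_top_of_isUnit_mem I hx h1)
  haveI := nontrivial_quot (Localization.AtPrime q) J hJ
  obtain ⟨hQd, hQgu⟩ := quot_domGU' R R' q hq I
  haveI := hQd
  obtain ⟨hloc, hlh, hH⟩ := Groth.Agent.Helper2.HensIntS.main (Localization.AtPrime q)
    (Localization.AtPrime q ⧸ J) T
  haveI := hloc
  haveI := hlh
  haveI := hH
  haveI hdomT : IsDomain ((Localization.AtPrime q ⧸ J) ⊗[Localization.AtPrime q] T) :=
    (Groth.Agent.Helper2.Unibr6.s2750 (Localization.AtPrime q ⧸ J)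
      ((Localization.AtPrime q ⧸ J) ⊗[Localization.AtPrime q] T)).1 ⟨inferInstance, hQgu⟩
  let e1 : (T ⧸ J.map (algebraMap (Localization.AtPrime q) T)) ≃ₐ[T]
      T ⊗[Localization.AtPrime q] (Localization.AtPrime q ⧸ J) :=
    Algebra.TensorProduct.quotIdealMapEquivTensorQuot T J
  let e2 : T ⊗[Localization.AtPrime q] (Localization.AtPrime q ⧸ J) ≃ₐ[Localization.AtPrime q]
      (Localization.AtPrime q ⧸ J) ⊗[Localization.AtPrime q] T :=
    Algebra.TensorProduct.comm (Localization.AtPrime q) T (Localization.AtPrime q ⧸ J)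
  haveI : IsDomain (T ⧸ J.map (algebraMap (Localization.AtPrime q) T)) :=
    (e1.toRingEquiv.trans e2.toRingEquiv).toMulEquiv.isDomain _
  exact (Ideal.Quotient.isDomain_iff_prime _).1 inferInstance

theorem encard_eq (hq : (maximalIdeal R).map (algebraMap R R') ≤ q) :
    (minimalPrimes R).encard = (minimalPrimes T).encard := by
  haveI hRL := Groth.Agent.Helper2.SmGU2.isLocalHom_atPrime R R' q hq
  letI algRT : Algebra R T :=
    ((algebraMap (Localization.AtPrime q) T).comp (algebraMap R (Localization.AtPrime q))).toAlgebra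
  haveI : IsScalarTower R (Localization.AtPrime q) T := IsScalarTower.of_algebraMap_eq (fun _ => rfl)
  haveI : Module.Flat R (Localization.AtPrime q) := Module.Flat.trans R R' _
  haveI : Module.FaithfullyFlat R (Localization.AtPrime q) :=
    Module.FaithfullyFlat.of_flat_of_isLocalHom
  haveI := faithfullyFlat_of_isStrictHenselization (Localization.AtPrime q) T
  haveI : Module.FaithfullyFlat R T := Module.FaithfullyFlat.trans R (Localization.AtPrime q) T
  have hmapmap : ∀ I : Ideal R, I.map (algebraMap R T) =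
      (I.map (algebraMap R (Localization.AtPrime q))).map (algebraMap (Localization.AtPrime q) T) := by
    intro I
    rw [Ideal.map_map, ← IsScalarTower.algebraMap_eq]
  have hprime : ∀ (I : Ideal R), I.IsPrime → (I.map (algebraMap R T)).IsPrime := by
    intro I hI
    rw [hmapmap]
    exact map_isPrime R R' T q hq I
  have hcm : ∀ I : Ideal R, (I.map (algebraMap R T)).comap (algebraMap R T) = I :=
    fun I => Ideal.comap_map_eq_self_of_faithfullyFlat I
  have himage : Ideal.map (algebraMap R T) '' minimalPrimes R = minimalPrimes T := by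
    ext 𝔔
    constructor
    · rintro ⟨𝔭, h𝔭, rfl⟩
      have h𝔭p : 𝔭.IsPrime := h𝔭.1.1
      refine ⟨⟨hprime 𝔭 h𝔭p, bot_le⟩, ?_⟩
      rintro 𝔔' ⟨h𝔔'p, -⟩ hle
      have h1 : 𝔔'.comap (algebraMap R T) ≤ 𝔭 := by
        rw [← hcm 𝔭]
        exact Ideal.comap_mono hle
      have h2 : 𝔭 ≤ 𝔔'.comap (algebraMap R T) :=
        h𝔭.2 ⟨Ideal.comap_isPrime _ _, bot_le⟩ h1
      exact (Ideal.map_mono h2).trans Ideal.map_comap_le
    · intro h𝔔
      have h𝔔p : 𝔔.IsPrime := h𝔔.1.1
      have hmin : 𝔔.comap (algebraMap R T) ∈ minimalPrimes R := by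
        refine ⟨⟨Ideal.comap_isPrime _ _, bot_le⟩, ?_⟩
        rintro 𝔭' ⟨h𝔭'p, -⟩ hle
        haveI : 𝔔.LiesOver (𝔔.comap (algebraMap R T)) := ⟨rfl⟩
        obtain ⟨𝔔', h𝔔'le, h𝔔'p, h𝔔'lo⟩ :=
          Ideal.exists_ideal_le_liesOver_of_le (S := T) (p := 𝔭') (q := 𝔔.comap (algebraMap R T))
            𝔔 hle
        have h3 : 𝔔 ≤ 𝔔' := h𝔔.2 ⟨h𝔔'p, bot_le⟩ h𝔔'le
        have h4 : 𝔔' = 𝔔 := le_antisymm h𝔔'le h3
        rw [h𝔔'lo.over, h4]
      refine ⟨𝔔.comap (algebraMap R T), hmin, ?_⟩
      have h5 : ((𝔔.comap (algebraMap R T)).map (algebraMap R T)).IsPrime :=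
        hprime _ hmin.1.1
      exact le_antisymm Ideal.map_comap_le (h𝔔.2 ⟨h5, bot_le⟩ Ideal.map_comap_le)
  rw [← himage]
  refine (Set.InjOn.encard_image ?_).symm
  intro a _ b _ hab
  have := congrArg (Ideal.comap (algebraMap R T)) hab
  rwa [hcm, hcm] at this

end Main

section S2129

theorem encard_minimalPrimes_of_ringEquiv {E B : Type u} [CommRing E] [CommRing B] (e : E ≃+* B) :
    (minimalPrimes E).encard = (minimalPrimes B).encard := by
  have h1 := Ideal.comap_minimalPrimes_eq_of_surjective (f := (e : E →+* B)) e.surjective ⊥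
  have h2 : (⊥ : Ideal B).comap (e : E →+* B) = ⊥ := by
    rw [← RingHom.ker_eq_comap_bot]
    exact (RingHom.injective_iff_ker_eq_bot _).1 e.injective
  rw [h2] at h1
  show (⊥ : Ideal E).minimalPrimes.encard = (⊥ : Ideal B).minimalPrimes.encard
  rw [h1]
  exact Set.InjOn.encard_image
    ((Ideal.comap_injective_of_surjective (e : E →+* B) e.surjective).injOn)

theorem s2129 {R S Ash Bsh : Type u} [CommRing R] [CommRing S] [Algebra R S]
    [Algebra.Smooth R S] (q : Ideal S) [q.IsPrime] (p : Ideal R) [p.IsPrime] [q.LiesOver p]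
    [CommRing Ash] [IsLocalRing Ash] [Algebra (Localization.AtPrime p) Ash]
    [IsLocalHom (algebraMap (Localization.AtPrime p) Ash)]
    [Hensel.IsStrictHenselization (Localization.AtPrime p) Ash]
    [CommRing Bsh] [IsLocalRing Bsh] [Algebra (Localization.AtPrime q) Bsh]
    [IsLocalHom (algebraMap (Localization.AtPrime q) Bsh)]
    [Hensel.IsStrictHenselization (Localization.AtPrime q) Bsh] :
    (minimalPrimes Ash).encard = (minimalPrimes Bsh).encard := by
  haveI hRhH : HenselianLocalRing Ash :=
    Hensel.IsStrictHenselization.henselian (Localization.AtPrime p)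
  haveI : IsSepClosed (ResidueField Ash) :=
    (Hensel.IsStrictHenselization.isSepClosure (R := Localization.AtPrime p) (S := Ash)).sep_closed
  haveI : Algebra.IsSeparable (ResidueField (Localization.AtPrime p)) (ResidueField Ash) :=
    (Hensel.IsStrictHenselization.isSepClosure (R := Localization.AtPrime p) (S := Ash)).separable
  haveI hTH : HenselianLocalRing Bsh :=
    Hensel.IsStrictHenselization.henselian (Localization.AtPrime q)
  haveI : IsSepClosed (ResidueField Bsh) :=
    (Hensel.IsStrictHenselization.isSepClosure (R := Localization.AtPrime q) (S := Bsh)).sep_closed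
  -- algebra structures
  letI algRRh : Algebra R Ash :=
    ((algebraMap (Localization.AtPrime p) Ash).comp (algebraMap R (Localization.AtPrime p))).toAlgebra
  haveI : IsScalarTower R (Localization.AtPrime p) Ash := IsScalarTower.of_algebraMap_eq (fun _ => rfl)
  letI algR'T : Algebra S Bsh :=
    ((algebraMap (Localization.AtPrime q) Bsh).comp (algebraMap S (Localization.AtPrime q))).toAlgebra
  haveI : IsScalarTower S (Localization.AtPrime q) Bsh := IsScalarTower.of_algebraMap_eq (fun _ => rfl)
  letI algRT : Algebra R Bsh := ((algebraMap S Bsh).comp (algebraMap R S)).toAlgebra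
  haveI : IsScalarTower R S Bsh := IsScalarTower.of_algebraMap_eq (fun _ => rfl)
  -- the local map R_p → Bsh
  let a : Localization.AtPrime p →+* Localization.AtPrime q :=
    Localization.localRingHom p q (algebraMap R S) Ideal.LiesOver.over
  haveI : IsLocalHom a := Localization.isLocalHom_localRingHom _ _ _ _
  let f : Localization.AtPrime p →+* Bsh := (algebraMap (Localization.AtPrime q) Bsh).comp a
  haveI : IsLocalHom f := RingHom.isLocalHom_comp _ _
  letI algκ : Algebra (ResidueField (Localization.AtPrime p)) (ResidueField Bsh) :=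
    (ResidueField.map f).toAlgebra
  let τ : ResidueField Ash →ₐ[ResidueField (Localization.AtPrime p)] ResidueField Bsh :=
    IsSepClosed.lift
  have hτ : τ.toRingHom.comp (ResidueField.map (algebraMap (Localization.AtPrime p) Ash)) =
      ResidueField.map f := by
    refine RingHom.ext fun z => ?_
    exact τ.commutes z
  obtain ⟨g, ⟨hg, hgres⟩, -⟩ := Hensel.IsStrictHenselization.universal
    (R := Localization.AtPrime p) (S := Ash) Bsh f τ.toRingHom hτ
  letI algRhT : Algebra Ash Bsh := g.toAlgebra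
  have hgx : ∀ x, g (algebraMap (Localization.AtPrime p) Ash x) = f x :=
    fun x => congrArg (fun k => k x) hg
  haveI : IsScalarTower R Ash Bsh := by
    refine IsScalarTower.of_algebraMap_eq (fun r => ?_)
    show algebraMap (Localization.AtPrime q) Bsh (algebraMap S (Localization.AtPrime q)
      (algebraMap R S r)) = g (algebraMap (Localization.AtPrime p) Ash
        (algebraMap R (Localization.AtPrime p) r))
    rw [hgx]
    show _ = algebraMap (Localization.AtPrime q) Bsh (a (algebraMap R (Localization.AtPrime p) r))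
    rw [Localization.localRingHom_to_map]
  have hgloc : ∀ x : Ash, x ∈ maximalIdeal Ash → g x ∈ maximalIdeal Bsh := by
    intro x hx
    rw [← IsLocalRing.residue_eq_zero_iff] at hx ⊢
    rw [hgres x, hx, map_zero]
  let φ : Ash ⊗[R] S →ₐ[R] Bsh := Algebra.TensorProduct.lift (IsScalarTower.toAlgHom R Ash Bsh)
    (IsScalarTower.toAlgHom R S Bsh) (fun _ _ => Commute.all _ _)
  have hφl : ∀ x : Ash, φ (x ⊗ₜ 1) = algebraMap Ash Bsh x := fun x => by simp [φ]
  have hφr : ∀ y : S, φ (1 ⊗ₜ y) = algebraMap S Bsh y := fun y => by simp [φ]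
  haveI hQp : (Ideal.comap φ (maximalIdeal Bsh)).IsPrime := Ideal.comap_isPrime _ _
  obtain ⟨E, j1, j2, j3, j4, hE⟩ := Groth.Agent.S0537.result
    (Localization.AtPrime (Ideal.comap φ (maximalIdeal Bsh)))
  letI := j1
  letI := j2
  letI := j3
  letI := j4
  letI := hE
  obtain ⟨e, he⟩ := Groth.Agent.Helper2.HensTensS.concrete R S p q Ash Bsh φ hφl hφr E
  have hQ : (maximalIdeal Ash).map (algebraMap Ash (Ash ⊗[R] S)) ≤
      Ideal.comap φ (maximalIdeal Bsh) := by
    rw [Ideal.map_le_iff_le_comap]
    intro x hx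
    show φ (x ⊗ₜ 1) ∈ maximalIdeal Bsh
    rw [hφl]
    exact hgloc x hx
  rw [encard_eq Ash (Ash ⊗[R] S) E (Ideal.comap φ (maximalIdeal Bsh)) hQ]
  exact encard_minimalPrimes_of_ringEquiv e

end S2129

end Groth.Agent.Helper2.SmGU8
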