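import Mathlib
import Groth.Prelude
import Groth.Agent.Helper2.SmU3
import Groth.Agent.Helper2.SmGU8
import Groth.Agent.Helper2.HensTens
import Groth.Agent.Helper1.HensIsHens
import Groth.Agent.Helper1.HensTransfer
set_option autoImplicit false
universe u
open IsLocalRing TensorProduct

/-! S2130: minimal primes of henselizations along smooth ring maps with purely inseparable residue
field extension. -/

namespace Groth.Agent.Helper2.SmU4

open Groth.Agent.Helper1.Hens Groth.Agent.Helper2.SmU1

theorem s2130 {R S Ah Bh : Type u} [CommRing R] [CommRing S]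
    [Algebra R S] [Algebra.Smooth R S] (q : Ideal S) [q.IsPrime] (p : Ideal R) [p.IsPrime]
    [q.LiesOver p]
    (hpi : @IsPurelyInseparable p.ResidueField q.ResidueField _ _
      (Ideal.ResidueField.mapₐ p q (Algebra.ofId R S) (q.over_def p)).toRingHom.toAlgebra)
    [CommRing Ah] [IsLocalRing Ah] [Algebra (Localization.AtPrime p) Ah]
    [IsLocalHom (algebraMap (Localization.AtPrime p) Ah)]
    [Hensel.IsHenselization (Localization.AtPrime p) Ah]
    [CommRing Bh] [IsLocalRing Bh] [Algebra (Localization.AtPrime q) Bh]
    [IsLocalHom (algebraMap (Localization.AtPrime q) Bh)]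
    [Hensel.IsHenselization (Localization.AtPrime q) Bh] :
    (minimalPrimes Ah).encard = (minimalPrimes Bh).encard := by
  haveI hAhH : HenselianLocalRing Ah := Hensel.IsHenselization.henselian (Localization.AtPrime p)
  haveI hBhH : HenselianLocalRing Bh := Hensel.IsHenselization.henselian (Localization.AtPrime q)
  -- algebra structures
  letI algRRh : Algebra R Ah :=
    ((algebraMap (Localization.AtPrime p) Ah).comp (algebraMap R (Localization.AtPrime p))).toAlgebra
  haveI : IsScalarTower R (Localization.AtPrime p) Ah := IsScalarTower.of_algebraMap_eq (fun _ => rfl)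
  letI algR'T : Algebra S Bh :=
    ((algebraMap (Localization.AtPrime q) Bh).comp (algebraMap S (Localization.AtPrime q))).toAlgebra
  haveI : IsScalarTower S (Localization.AtPrime q) Bh := IsScalarTower.of_algebraMap_eq (fun _ => rfl)
  letI algRT : Algebra R Bh := ((algebraMap S Bh).comp (algebraMap R S)).toAlgebra
  haveI : IsScalarTower R S Bh := IsScalarTower.of_algebraMap_eq (fun _ => rfl)
  -- the local map R_p → Bh
  let a : Localization.AtPrime p →+* Localization.AtPrime q :=
    Localization.localRingHom p q (algebraMap R S) Ideal.LiesOver.over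
  haveI : IsLocalHom a := Localization.isLocalHom_localRingHom _ _ _ _
  let f : Localization.AtPrime p →+* Bh := (algebraMap (Localization.AtPrime q) Bh).comp a
  haveI hfloc : IsLocalHom f := RingHom.isLocalHom_comp _ _
  obtain ⟨g, hg, -⟩ := Hensel.IsHenselization.universal
    (R := Localization.AtPrime p) (S := Ah) Bh f hfloc
  letI algRhT : Algebra Ah Bh := g.toAlgebra
  have hgx : ∀ x, g (algebraMap (Localization.AtPrime p) Ah x) = f x :=
    fun x => congrArg (fun k => k x) hg
  haveI : IsScalarTower R Ah Bh := by
    refine IsScalarTower.of_algebraMap_eq (fun r => ?_)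
    show algebraMap (Localization.AtPrime q) Bh (algebraMap S (Localization.AtPrime q)
      (algebraMap R S r)) = g (algebraMap (Localization.AtPrime p) Ah
        (algebraMap R (Localization.AtPrime p) r))
    rw [hgx]
    show _ = algebraMap (Localization.AtPrime q) Bh (a (algebraMap R (Localization.AtPrime p) r))
    rw [Localization.localRingHom_to_map]
  have hgloc : ∀ x : Ah, x ∈ maximalIdeal Ah → g x ∈ maximalIdeal Bh := by
    intro x hx
    rw [← map_maximalIdeal_of_isHenselization (Localization.AtPrime p) Ah] at hx
    have h1 := Ideal.mem_map_of_mem g hx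
    rw [Ideal.map_map, hg] at h1
    exact IsLocalRing.map_maximalIdeal_le f h1
  let φ : Ah ⊗[R] S →ₐ[R] Bh := Algebra.TensorProduct.lift (IsScalarTower.toAlgHom R Ah Bh)
    (IsScalarTower.toAlgHom R S Bh) (fun _ _ => Commute.all _ _)
  have hφl : ∀ x : Ah, φ (x ⊗ₜ 1) = algebraMap Ah Bh x := fun x => by simp [φ]
  have hφr : ∀ y : S, φ (1 ⊗ₜ y) = algebraMap S Bh y := fun y => by simp [φ]
  haveI hQp : (Ideal.comap φ (maximalIdeal Bh)).IsPrime := Ideal.comap_isPrime _ _
  obtain ⟨e, he⟩ := Groth.Agent.Helper2.HensTens.concrete R S p q Ah Bh φ hφl hφr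
    (Hh (Localization.AtPrime (Ideal.comap φ (maximalIdeal Bh))))
  have hQ : (maximalIdeal Ah).map (algebraMap Ah (Ah ⊗[R] S)) ≤
      Ideal.comap φ (maximalIdeal Bh) := by
    rw [Ideal.map_le_iff_le_comap]
    intro x hx
    show φ (x ⊗ₜ 1) ∈ maximalIdeal Bh
    rw [hφl]
    exact hgloc x hx
  have hpiL : PIres Ah (Localization.AtPrime (Ideal.comap φ (maximalIdeal Bh))) := by
    haveI hRL := Groth.Agent.Helper2.SmGU2.isLocalHom_atPrime Ah (Ah ⊗[R] S)
      (Ideal.comap φ (maximalIdeal Bh)) hQ
    let ψ : Localization.AtPrime (Ideal.comap φ (maximalIdeal Bh)) →+* Bh :=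
      (e : Hh (Localization.AtPrime (Ideal.comap φ (maximalIdeal Bh))) →+* Bh).comp
        (algebraMap (Localization.AtPrime (Ideal.comap φ (maximalIdeal Bh)))
          (Hh (Localization.AtPrime (Ideal.comap φ (maximalIdeal Bh)))))
    haveI : IsLocalHom ψ := RingHom.isLocalHom_comp _ _
    have hψ : ∀ d : Ah ⊗[R] S, ψ (algebraMap _ _ d) = φ d := he
    have hψA : ∀ x : Ah, ψ (algebraMap Ah (Localization.AtPrime (Ideal.comap φ (maximalIdeal Bh))) x)
        = g x := by
      intro x
      rw [IsScalarTower.algebraMap_apply Ah (Ah ⊗[R] S)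
        (Localization.AtPrime (Ideal.comap φ (maximalIdeal Bh))) x, hψ]
      exact hφl x
    intro l
    haveI : ExpChar (ResidueField Ah)
        (ringExpChar (ResidueField (Localization.AtPrime (Ideal.comap φ (maximalIdeal Bh))))) :=
      (ResidueField.map (algebraMap Ah
        (Localization.AtPrime (Ideal.comap φ (maximalIdeal Bh))))).expChar (RingHom.injective _) _
    haveI : ExpChar p.ResidueField
        (ringExpChar (ResidueField (Localization.AtPrime (Ideal.comap φ (maximalIdeal Bh))))) :=
      (ResidueField.map (algebraMap (Localization.AtPrime p) Ah)).expChar (RingHom.injective _) _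
    obtain ⟨b, hb⟩ := exists_sub_mem_of_isHenselization (Localization.AtPrime q) Bh (ψ l)
    letI algκ : Algebra p.ResidueField q.ResidueField :=
      (Ideal.ResidueField.mapₐ p q (Algebra.ofId R S) (q.over_def p)).toRingHom.toAlgebra
    haveI : IsPurelyInseparable p.ResidueField q.ResidueField := hpi
    obtain ⟨n, y, hy⟩ := IsPurelyInseparable.pow_mem p.ResidueField
      (ringExpChar (ResidueField (Localization.AtPrime (Ideal.comap φ (maximalIdeal Bh)))))
      (residue (Localization.AtPrime q) b)
    obtain ⟨a₀, rfl⟩ := residue_surjective y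
    have hy' : residue (Localization.AtPrime q) (a a₀) = residue (Localization.AtPrime q) b ^
        (ringExpChar (ResidueField (Localization.AtPrime (Ideal.comap φ (maximalIdeal Bh))))) ^ n :=
      hy
    refine ⟨n, algebraMap (Localization.AtPrime p) Ah a₀, ?_⟩
    have h1 : residue Bh (ψ l) = residue Bh (algebraMap (Localization.AtPrime q) Bh b) := by
      rw [← sub_eq_zero, ← map_sub, residue_eq_zero_iff]
      exact hb
    have h2 : residue Bh (algebraMap (Localization.AtPrime q) Bh (a a₀)) =
        residue Bh (algebraMap (Localization.AtPrime q) Bh b) ^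
          (ringExpChar (ResidueField (Localization.AtPrime (Ideal.comap φ (maximalIdeal Bh))))) ^ n := by
      rw [← ResidueField.map_residue, hy', map_pow, ResidueField.map_residue]
    have hψz : ψ (l ^ (ringExpChar (ResidueField
        (Localization.AtPrime (Ideal.comap φ (maximalIdeal Bh))))) ^ n -
        algebraMap Ah (Localization.AtPrime (Ideal.comap φ (maximalIdeal Bh)))
          (algebraMap (Localization.AtPrime p) Ah a₀)) ∈ maximalIdeal Bh := by
      rw [← residue_eq_zero_iff, map_sub, map_pow, hψA, hgx, map_sub, map_pow, h1, ← h2]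
      exact sub_self _
    intro hu
    exact hψz (hu.map ψ)
  rw [Groth.Agent.Helper2.SmU3.encard_eq Ah (Ah ⊗[R] S)
    (Hh (Localization.AtPrime (Ideal.comap φ (maximalIdeal Bh)))) (Ideal.comap φ (maximalIdeal Bh))
    hQ hpiL]
  exact Groth.Agent.Helper2.SmGU8.encard_minimalPrimes_of_ringEquiv e

end Groth.Agent.Helper2.SmU4
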