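import Mathlib
import Groth.Prelude.Def_Exal
import Groth.Agent.Helper2.SmallExt

namespace Groth.Agent.Helper2.SmallExt2
open IsLocalRing Groth.Agent.Helper2.SmallExt

universe u

theorem pi_mem_smul_top {R : Type*} [CommRing R] {d : ℕ} (I : Ideal R) (v : Fin d → R)
    (hv : ∀ i, v i ∈ I) : v ∈ I • (⊤ : Submodule R (Fin d → R)) := by
  rw [pi_eq_sum_univ v]
  refine Submodule.sum_mem _ fun i _ => ?_
  exact Submodule.smul_mem_smul (hv i) Submodule.mem_top

theorem exists_fun_of_mem_span_mul {E : Type*} [CommRing E] {d : ℕ} (e : Fin d → E) (J : Ideal E)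
    (x : E) (hx : x ∈ Ideal.span (Set.range e) * J) :
    ∃ b : Fin d → E, (∀ i, b i ∈ J) ∧ x = ∑ i, e i * b i := by
  refine Submodule.mul_induction_on hx ?_ ?_
  · intro u hu v hv
    obtain ⟨c, rfl⟩ := (Ideal.mem_span_range_iff_exists_fun).1 hu
    refine ⟨fun i => c i * v, fun i => Ideal.mul_mem_left _ _ hv, ?_⟩
    rw [Finset.sum_mul]
    refine Finset.sum_congr rfl fun i _ => ?_
    ring
  · rintro x y ⟨b, hb, rfl⟩ ⟨b', hb', rfl⟩
    refine ⟨fun i => b i + b' i, fun i => Ideal.add_mem _ (hb i) (hb' i), ?_⟩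
    rw [← Finset.sum_add_distrib]
    refine Finset.sum_congr rfl fun i _ => ?_
    ring

section Ext
variable {Λ : Type u} [CommRing Λ] {R : Type u} [CommRing R] [Algebra Λ R] [IsLocalRing R]

theorem inter_eq_bot (X : Exal.Ext Λ R (ResidueField R)) [IsLocalRing X.E]
    {d : ℕ} (r : Fin d → R) (hr : Ideal.span (Set.range r) = maximalIdeal R)
    (c : ℕ) (hc : maximalIdeal R ^ (c + 1) • (⊤ : Submodule R (Fin d → R)) ⊓
        LinearMap.ker (Fintype.linearCombination R r) ≤
      maximalIdeal R • LinearMap.ker (Fintype.linearCombination R r)) :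
    ∀ x ∈ maximalIdeal X.E ^ (c + 2), X.proj x = 0 → x = 0 := by
  have hsurj := X.isExtension.proj_surjective
  set ε : X.E := X.incl 1 with hε
  -- lifts of the generators
  choose e he using fun i => hsurj (r i)
  have hem : ∀ i, e i ∈ maximalIdeal X.E := by
    intro i
    rw [mem_maximalIdeal_E_iff, he, ← hr]
    exact Ideal.subset_span ⟨i, rfl⟩
  have heε : ∀ i, e i * ε = 0 := fun i => mul_eps_eq_zero X (e i) (hem i)
  -- the key vanishing on `m • Z`
  have hP : ∀ v ∈ maximalIdeal R • LinearMap.ker (Fintype.linearCombination R r),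
      ∀ b : Fin d → X.E, (∀ i, X.proj (b i) = v i) → ∑ i, e i * b i = 0 := by
    intro v hv
    refine Submodule.smul_induction_on hv ?_ ?_
    · intro s hs z hz b hb
      obtain ⟨s', rfl⟩ := hsurj s
      have hs'm : s' ∈ maximalIdeal X.E := (mem_maximalIdeal_E_iff X s').2 hs
      choose z' hz' using fun i => hsurj (z i)
      have h1 : ∀ i, ∃ w, b i - s' * z' i = w * ε := by
        intro i
        apply exists_mul_eps X
        rw [map_sub, map_mul, hb, hz']
        simp
      choose w hw using h1
      have h2 : ∀ i, e i * b i = s' * (e i * z' i) := by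
        intro i
        have : b i = s' * z' i + w i * ε := by rw [← hw i]; ring
        rw [this, mul_add]
        have : e i * (w i * ε) = w i * (e i * ε) := by ring
        rw [this, heε, mul_zero, add_zero]
        ring
      rw [Finset.sum_congr rfl fun i _ => h2 i, ← Finset.mul_sum]
      have h3 : X.proj (∑ i, e i * z' i) = 0 := by
        rw [map_sum]
        have hz0 : Fintype.linearCombination R r z = 0 := hz
        rw [Fintype.linearCombination_apply] at hz0
        rw [← hz0]
        refine Finset.sum_congr rfl fun i _ => ?_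
        rw [map_mul, he, hz', smul_eq_mul, mul_comm]
      obtain ⟨w', hw'⟩ := exists_mul_eps X _ h3
      rw [hw']
      have : s' * (w' * ε) = w' * (s' * ε) := by ring
      rw [this, mul_eps_eq_zero X s' hs'm, mul_zero]
    · intro v v' hv hv' b hb
      choose b' hb' using fun i => hsurj (v i)
      have h1 := hv b' hb'
      have h2 := hv' (fun i => b i - b' i) (fun i => by
        rw [map_sub, hb, hb']; simp)
      have : ∑ i, e i * b i = ∑ i, e i * b' i + ∑ i, e i * (b i - b' i) := by
        rw [← Finset.sum_add_distrib]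
        refine Finset.sum_congr rfl fun i _ => ?_
        ring
      rw [this, h1, h2, add_zero]
  -- decomposition of the maximal ideal
  have hmE : maximalIdeal X.E = Ideal.span (Set.range e) ⊔ RingHom.ker (X.proj : X.E →+* R) := by
    apply le_antisymm
    · intro x hx
      have hx' : X.proj x ∈ Ideal.span (Set.range r) := by
        rw [hr]; exact (mem_maximalIdeal_E_iff X x).1 hx
      obtain ⟨a, ha⟩ := (Ideal.mem_span_range_iff_exists_fun).1 hx'
      choose a' ha' using fun i => hsurj (a i)
      have : x = ∑ i, a' i * e i + (x - ∑ i, a' i * e i) := by ring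
      rw [this]
      refine Ideal.add_mem _ (Ideal.mem_sup_left ?_) (Ideal.mem_sup_right ?_)
      · exact Ideal.sum_mem _ fun i _ => Ideal.mul_mem_left _ _ (Ideal.subset_span ⟨i, rfl⟩)
      · rw [RingHom.mem_ker]
        change X.proj (x - ∑ i, a' i * e i) = 0
        rw [map_sub, map_sum, ← ha, sub_eq_zero]
        refine Finset.sum_congr rfl fun i _ => ?_
        rw [map_mul, ha', he]
    · refine sup_le ?_ ?_
      · rw [Ideal.span_le]
        rintro _ ⟨i, rfl⟩
        exact hem i
      · intro x hx
        rw [mem_maximalIdeal_E_iff]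
        have : X.proj x = 0 := hx
        rw [this]
        exact zero_mem _
  have hKm : RingHom.ker (X.proj : X.E →+* R) * maximalIdeal X.E = ⊥ := by
    rw [eq_bot_iff, ker_proj_eq, Ideal.span_singleton_mul_le_iff]
    intro z hz
    rw [Ideal.mem_bot, mul_comm]
    exact mul_eps_eq_zero X z hz
  have hpow : maximalIdeal X.E ^ (c + 2) =
      Ideal.span (Set.range e) * maximalIdeal X.E ^ (c + 1) := by
    have h1 : RingHom.ker (X.proj : X.E →+* R) * maximalIdeal X.E ^ (c + 1) = ⊥ := by
      rw [eq_bot_iff, ← hKm]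
      exact Ideal.mul_mono_right (Ideal.pow_le_self (by omega))
    calc maximalIdeal X.E ^ (c + 2) = maximalIdeal X.E * maximalIdeal X.E ^ (c + 1) :=
          pow_succ' _ _
      _ = (Ideal.span (Set.range e) ⊔ RingHom.ker (X.proj : X.E →+* R)) *
            maximalIdeal X.E ^ (c + 1) := by rw [← hmE]
      _ = Ideal.span (Set.range e) * maximalIdeal X.E ^ (c + 1) := by
          rw [Ideal.sup_mul, h1, sup_bot_eq]
  intro x hx hx0
  rw [hpow] at hx
  obtain ⟨b, hb, rfl⟩ := exists_fun_of_mem_span_mul e _ x hx
  apply hP (fun i => X.proj (b i)) ?_ b (fun i => rfl)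
  apply hc
  rw [Submodule.mem_inf]
  refine ⟨?_, ?_⟩
  · apply pi_mem_smul_top
    intro i
    have h1 : X.proj (b i) ∈ (maximalIdeal X.E ^ (c + 1)).map (X.proj : X.E →+* R) :=
      Ideal.mem_map_of_mem _ (hb i)
    rw [Ideal.map_pow] at h1
    refine Ideal.pow_right_mono ?_ _ h1
    rw [Ideal.map_le_iff_le_comap]
    intro y hy
    exact (mem_maximalIdeal_E_iff X y).1 hy
  · rw [LinearMap.mem_ker, Fintype.linearCombination_apply]
    rw [map_sum] at hx0
    rw [← hx0]
    refine Finset.sum_congr rfl fun i _ => ?_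
    rw [map_mul, he, smul_eq_mul, mul_comm]

end Ext


section Main
variable {Λ : Type u} [CommRing Λ] {R : Type u} [CommRing R] [Algebra Λ R] [IsLocalRing R]
  [IsNoetherianRing R]

theorem main :
    ∃ n : ℕ, ∀ X : Exal.Ext Λ R (IsLocalRing.ResidueField R),
      ∃ I : Ideal X.E, (∀ x ∈ I, X.proj x = 0 → x = 0) ∧
        Ideal.map X.proj I = IsLocalRing.maximalIdeal R ^ (n + 1) := by
  obtain ⟨d, r, hr⟩ := Submodule.fg_iff_exists_fin_generating_family.mp
    (IsNoetherian.noetherian (maximalIdeal R))
  have hr' : Ideal.span (Set.range r) = maximalIdeal R := hr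
  obtain ⟨c, hc⟩ := Ideal.exists_pow_inf_eq_pow_smul (maximalIdeal R)
    (LinearMap.ker (Fintype.linearCombination R r))
  have hc' : maximalIdeal R ^ (c + 1) • (⊤ : Submodule R (Fin d → R)) ⊓
        LinearMap.ker (Fintype.linearCombination R r) ≤
      maximalIdeal R • LinearMap.ker (Fintype.linearCombination R r) := by
    rw [hc (c + 1) (by omega)]
    have : c + 1 - c = 1 := by omega
    rw [this, pow_one]
    exact Submodule.smul_mono le_rfl inf_le_right
  refine ⟨c + 1, fun X => ?_⟩
  haveI := isLocalRing_E X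
  refine ⟨maximalIdeal X.E ^ (c + 2), inter_eq_bot X r hr' c hc', ?_⟩
  have hcomap : maximalIdeal X.E = (maximalIdeal R).comap (X.proj : X.E →+* R) := by
    ext y
    exact mem_maximalIdeal_E_iff X y
  have hmap : Ideal.map (X.proj : X.E →+* R) (maximalIdeal X.E) = maximalIdeal R := by
    rw [hcomap]
    exact Ideal.map_comap_of_surjective _ X.isExtension.proj_surjective _
  change Ideal.map (X.proj : X.E →+* R) (maximalIdeal X.E ^ (c + 2)) = _
  rw [Ideal.map_pow, hmap]

end Main

end Groth.Agent.Helper2.SmallExt2
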