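import Mathlib
import Groth.Agent.Helper2.FiberSmooth2

set_option autoImplicit false
universe u
open CategoryTheory AlgebraicGeometry CategoryTheory.Limits
open Groth.Agent.Helper2.PtDesc Groth.Agent.Helper2.FiberSmooth2

namespace Groth.Agent.Helper2.SmoothBC

theorem smoothLocus_baseChange {X S X' S' : Scheme.{u}} (f : X ⟶ S) (g : S' ⟶ S) (f' : X' ⟶ S') (g' : X' ⟶ X)
    (h : IsPullback g' f' f g) [LocallyOfFinitePresentation f] [LocallyOfFinitePresentation f'] (hflat : Flat f ∨ Flat g) :
    f'.smoothLocus = g' ⁻¹ᵁ f.smoothLocus := by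
  have hQ' := RingHom.FormallySmooth.respectsIso
  ext x'
  change x' ∈ f'.smoothLocus ↔ g' x' ∈ f.smoothLocus
  constructor
  · intro hx'
    rcases hflat with hf | hg
    · -- f flat
      let s' := f' x'
      have hpb : IsPullback (f'.fiberι s') (f'.fiberToSpecResidueField s') f'
          (S'.fromSpecResidueField s') := IsPullback.of_hasPullback _ _
      have hpb2 := hpb.paste_horiz h
      have hpt : f'.fiberι s' (f'.asFiber x') = x' := f'.fiberι_asFiber x'
      have hlfp : LocallyOfFinitePresentation (f'.fiberToSpecResidueField s') :=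
        MorphismProperty.of_isPullback (P := @LocallyOfFinitePresentation) hpb inferInstance
      have hn := (smooth_nbhd_iff f' x').mpr hx'
      have hn' : ∃ U : X'.Opens, f'.fiberι s' (f'.asFiber x') ∈ U ∧ Smooth (U.ι ≫ f') := by
        rw [hpt]; exact hn
      have h1 := Groth.Agent.Helper2.GrpdSmooth.smooth_nbhd_of_isPullback hpb (f'.asFiber x') hn'
      have hsm := (smooth_nbhd_iff _ _).mp h1
      have hfl : (f.stalkMap ((f'.fiberι s' ≫ g') (f'.asFiber x'))).hom.Flat :=
        (Flat.iff_flat_stalkMap f).mp hf _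
      have key := stalkMap_formallySmooth_of_isPullback_field (S'.residueField s') hpb2
        (f'.asFiber x') hfl hsm
      have hpt2 : g' x' = (f'.fiberι s' ≫ g') (f'.asFiber x') := by
        rw [Scheme.Hom.comp_apply, hpt]
      rw [Scheme.Hom.mem_smoothLocus, hQ'.arrow_mk_iso_iff (f.arrowStalkMapIsoOfEq hpt2)]
      exact key
    · exact stalkMap_formallySmooth_of_isPullback h x' hx'
  · intro hx
    have hn := (smooth_nbhd_iff f (g' x')).mpr hx
    have := Groth.Agent.Helper2.GrpdSmooth.smooth_nbhd_of_isPullback h x' hn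
    exact (smooth_nbhd_iff _ _).mp this

end Groth.Agent.Helper2.SmoothBC
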