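import Mathlib
import Groth.Prelude.Def_CAlg
import Groth.Agent.Helper5.RegLoc1

set_option autoImplicit false
universe u

namespace Groth.Agent.Helper2.SopLift

open IsLocalRing RingTheory.Sequence

/-- In a Cohen–Macaulay local ring, each member of a system of parameters avoids all minimal primes
of the ideal generated by the previous members. -/
theorem sop_notMem_minimalPrimes {R : Type u} [CommRing R] [LocCoh.IsCohenMacaulayLocalRing R]
    {s : ℕ} (hdim : ringKrullDim R = s) (t : Fin s → R) (ht : ∀ i, t i ∈ maximalIdeal R)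
    (hsop : ringKrullDim (R ⧸ Ideal.span (Set.range t)) = 0) (i : Fin s)
    (q : Ideal R) (hq : q ∈ (Ideal.span (t '' {j | j < i})).minimalPrimes) : t i ∉ q := by
  classical
  set L : List R := List.ofFn t with hL
  have hlen : L.length = s := List.length_ofFn
  have hof : Ideal.ofList L = Ideal.span (Set.range t) := by
    unfold Ideal.ofList
    congr 1
    ext y
    simp [hL, List.mem_ofFn]
  have hmem : ∀ y ∈ L, y ∈ maximalIdeal R := by
    intro y hy
    rw [hL, List.mem_ofFn] at hy
    obtain ⟨j, rfl⟩ := hy
    exact ht j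
  have hreg : IsRegular R L := by
    rw [Groth.Agent.Helper5.RegLoc.isRegular_iff_dim R inferInstance L hmem, hof, hsop, hdim, hlen,
      zero_add]
  have hw := hreg.toIsWeaklyRegular.regular_mod_prev (i : ℕ) (by rw [hlen]; exact i.2)
  have hLi : L[(i : ℕ)]'(by rw [hlen]; exact i.2) = t i := by
    simp [hL]
  have htake : Ideal.ofList (L.take i) = Ideal.span (t '' {j | j < i}) := by
    unfold Ideal.ofList
    congr 1
    ext y
    simp only [Set.mem_setOf_eq, Set.mem_image]
    rw [List.mem_take_iff_getElem]
    constructor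
    · rintro ⟨k, hk, rfl⟩
      have hk1 : k < (i : ℕ) := lt_of_lt_of_le hk (min_le_left _ _)
      have hk2 : k < s := lt_trans hk1 i.2
      refine ⟨⟨k, hk2⟩, Fin.mk_lt_of_lt_val hk1, ?_⟩
      simp [hL]
    · rintro ⟨j, hj, rfl⟩
      refine ⟨(j : ℕ), ?_, ?_⟩
      · rw [hlen]; exact lt_min hj j.2
      · simp [hL]
  rw [hLi] at hw
  have hI : (Ideal.ofList (L.take i) • ⊤ : Submodule R R) = Ideal.span (t '' {j | j < i}) := by
    rw [smul_eq_mul, Ideal.mul_top, htake]
  rw [hI] at hw
  apply IsSMulRegular.notMem_of_mem_minimalPrimes hw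
  rw [Ideal.annihilator_quotient]
  exact hq

end Groth.Agent.Helper2.SopLift
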