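import Mathlib

set_option autoImplicit false
universe u

namespace Groth.Agent.Helper2.SopLift

open PrimeSpectrum

set_option backward.isDefEq.respectTransparency false in
/-- Cutting by an element outside all minimal primes of `I` drops the dimension of `A ⧸ I`. -/
theorem dim_step' {A : Type u} [CommRing A] (I K : Ideal A) (hle : I ≤ K) (r : A) (hrK : r ∈ K)
    (hr : ∀ q ∈ I.minimalPrimes, r ∉ q) :
    ringKrullDim (A ⧸ K) + 1 ≤ ringKrullDim (A ⧸ I) := by
  by_cases hr' : K = ⊤
  · haveI : Subsingleton (A ⧸ K) := Ideal.Quotient.subsingleton_iff.mpr hr'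
    rw [ringKrullDim_eq_bot_of_subsingleton]
    simp
  have hne : Nonempty (zeroLocus (R := A) K) := by
    rwa [Set.nonempty_coe_sort, Set.nonempty_iff_ne_empty, ne_eq, zeroLocus_empty_iff_eq_top]
  have hsub : zeroLocus (R := A) (K : Set A) ⊆ zeroLocus (R := A) (I : Set A) :=
    zeroLocus_anti_mono_ideal hle
  have hne' : Nonempty (zeroLocus (R := A) I) := ⟨⟨hne.some.1, hsub hne.some.2⟩⟩
  rw [ringKrullDim_quotient, ringKrullDim_quotient, Order.krullDim_eq_iSup_length,
    Order.krullDim_eq_iSup_length, ← WithBot.coe_one, ← WithBot.coe_add,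
    ENat.iSup_add, WithBot.coe_le_coe, iSup_le_iff]
  intro l
  have hhead : I ≤ l.head.1.asIdeal := hle.trans ((mem_zeroLocus _ _).1 l.head.2)
  obtain ⟨p, hp, hp'⟩ := Ideal.exists_minimalPrimes_le hhead
  let ι : zeroLocus (R := A) (K : Set A) → zeroLocus (R := A) (I : Set A) :=
    fun x => ⟨x.1, hsub x.2⟩
  have hι : StrictMono ι := fun _ _ h => h
  let p' : zeroLocus (R := A) (I : Set A) := ⟨⟨p, hp.1.1⟩, (mem_zeroLocus _ _).2 hp.1.2⟩
  have hrhead : r ∈ l.head.1.asIdeal := ((mem_zeroLocus _ _).1 l.head.2) hrK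
  have hlt : p' < ι l.head := by
    refine lt_of_le_of_ne hp' ?_
    intro h
    apply hr p hp
    have : p = l.head.1.asIdeal :=
      congrArg (fun x : zeroLocus (R := A) (I : Set A) => x.1.asIdeal) h
    rw [this]
    exact hrhead
  refine le_trans ?_ (le_iSup _ ((l.map ι hι).cons p' hlt))
  simp

theorem dim_step {A : Type u} [CommRing A] (I : Ideal A) (r : A)
    (hr : ∀ q ∈ I.minimalPrimes, r ∉ q) :
    ringKrullDim (A ⧸ (I ⊔ Ideal.span {r})) + 1 ≤ ringKrullDim (A ⧸ I) :=
  dim_step' I _ le_sup_left r (Ideal.mem_sup_right (Ideal.mem_span_singleton_self r)) hr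

end Groth.Agent.Helper2.SopLift
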