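import Mathlib
import Groth.Agent.Helper6.RegPrefix

set_option autoImplicit false
universe u

namespace Groth.Agent.Helper2.SopLift

open IsLocalRing

variable {A : Type u} [CommRing A] [IsNoetherianRing A] (p : Ideal A) [p.IsPrime]

lemma algebraMap_isUnit {a : A} (ha : a ∉ p) :
    IsUnit (algebraMap A (Localization.AtPrime p) a) :=
  IsLocalization.map_units (Localization.AtPrime p) (⟨a, ha⟩ : p.primeCompl)

/-- A minimal prime of `J` inside `p` extends to a minimal prime of the extension of `J`. -/
lemma map_mem_minimalPrimes (J : Ideal A) (q : Ideal A) (hq : q ∈ J.minimalPrimes) (hqp : q ≤ p) :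
    q.map (algebraMap A (Localization.AtPrime p)) ∈
      (J.map (algebraMap A (Localization.AtPrime p))).minimalPrimes := by
  haveI := hq.1.1
  have hdisj : Disjoint (p.primeCompl : Set A) (q : Set A) := by
    rw [Set.disjoint_left]
    intro z hz hzq
    exact hz (hqp hzq)
  have hQprime : (q.map (algebraMap A (Localization.AtPrime p))).IsPrime :=
    IsLocalization.isPrime_of_isPrime_disjoint p.primeCompl _ q hq.1.1 hdisj
  have hcomap : (q.map (algebraMap A (Localization.AtPrime p))).comap
      (algebraMap A (Localization.AtPrime p)) = q :=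
    IsLocalization.comap_map_of_isPrime_disjoint p.primeCompl _ hq.1.1 hdisj
  refine ⟨⟨hQprime, Ideal.map_mono hq.1.2⟩, ?_⟩
  rintro q'' ⟨hq''prime, hTq''⟩ hle
  have h1 : J ≤ q''.comap (algebraMap A (Localization.AtPrime p)) :=
    Ideal.map_le_iff_le_comap.1 hTq''
  have h2 : q''.comap (algebraMap A (Localization.AtPrime p)) ≤ q := by
    rw [← hcomap]; exact Ideal.comap_mono hle
  have h3 : q ≤ q''.comap (algebraMap A (Localization.AtPrime p)) :=
    hq.2 ⟨Ideal.comap_isPrime _ _, h1⟩ h2
  calc q.map (algebraMap A (Localization.AtPrime p))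
      ≤ (q''.comap (algebraMap A (Localization.AtPrime p))).map
          (algebraMap A (Localization.AtPrime p)) := Ideal.map_mono h3
    _ = q'' := IsLocalization.map_comap p.primeCompl _ q''

/-- The saturation of `J` at `p` is not contained in a minimal prime of `J` outside `p`. -/
lemma not_comap_map_le (J : Ideal A) (q : Ideal A) (hq : q ∈ J.minimalPrimes) (hqp : ¬ q ≤ p) :
    ¬ (J.map (algebraMap A (Localization.AtPrime p))).comap
      (algebraMap A (Localization.AtPrime p)) ≤ q := by
  intro hle
  set I' := (J.map (algebraMap A (Localization.AtPrime p))).comap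
    (algebraMap A (Localization.AtPrime p)) with hI'
  obtain ⟨σ, hσq, hσp⟩ := SetLike.not_le_iff_exists.1 hqp
  have hJI' : J ≤ I' := Ideal.le_comap_map
  have hq' : q ∈ I'.minimalPrimes := by
    refine ⟨⟨hq.1.1, hle⟩, ?_⟩
    rintro q'' ⟨hq''p, hq''⟩ hq''q
    exact hq.2 ⟨hq''p, hJI'.trans hq''⟩ hq''q
  obtain ⟨w, hw, hσw⟩ := Ideal.exists_mul_mem_of_mem_minimalPrimes hq' hσq
  apply hw
  rw [hI', Ideal.mem_comap] at hσw ⊢
  rw [map_mul] at hσw
  obtain ⟨u, hu⟩ := algebraMap_isUnit p hσp
  have : algebraMap A (Localization.AtPrime p) w =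
      (↑u⁻¹ : Localization.AtPrime p) * (algebraMap A (Localization.AtPrime p) σ *
        algebraMap A (Localization.AtPrime p) w) := by
    rw [← hu, ← mul_assoc, Units.inv_mul, one_mul]
  rw [this]
  exact Ideal.mul_mem_left _ _ hσw

theorem exists_step (J : Ideal A) (hJp : J ≤ p) (τ : Localization.AtPrime p)
    (hτm : τ ∈ maximalIdeal (Localization.AtPrime p))
    (hτ : ∀ q ∈ (J.map (algebraMap A (Localization.AtPrime p))).minimalPrimes, τ ∉ q) :
    ∃ x a : A, x ∈ p ∧ a ∉ p ∧
      algebraMap A (Localization.AtPrime p) x - algebraMap A (Localization.AtPrime p) a * τ ∈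
        J.map (algebraMap A (Localization.AtPrime p)) ∧
      ∀ q ∈ J.minimalPrimes, x ∉ q := by
  classical
  obtain ⟨⟨y, a⟩, hya⟩ := IsLocalization.surj p.primeCompl τ
  simp only at hya
  have hy : y ∈ p := by
    rw [← IsLocalization.AtPrime.to_map_mem_maximal_iff (Localization.AtPrime p) p, ← hya]
    exact Ideal.mul_mem_right _ _ hτm
  set T := J.map (algebraMap A (Localization.AtPrime p)) with hT
  set I' := T.comap (algebraMap A (Localization.AtPrime p)) with hI'
  have hI'p : I' ≤ p := by
    have h1 : T ≤ maximalIdeal (Localization.AtPrime p) := by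
      rw [← IsLocalization.AtPrime.map_eq_maximalIdeal p (Localization.AtPrime p)]
      exact Ideal.map_mono hJp
    have h2 := Ideal.comap_mono (f := algebraMap A (Localization.AtPrime p)) h1
    have h3 := IsLocalization.AtPrime.comap_maximalIdeal (Localization.AtPrime p) p
    rw [Ideal.under_def] at h3
    rwa [h3] at h2
  have hfin : (J.minimalPrimes).Finite := Ideal.finite_minimalPrimes_of_isNoetherianRing A J
  obtain ⟨c, hc, hcq⟩ := Groth.Agent.Helper6.RegPrefix.coset_avoid y I' hfin.toFinset
    (fun q hq => ((Set.Finite.mem_toFinset hfin).1 hq).1.1)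
    (fun q hq hle => by
      have hqm := (Set.Finite.mem_toFinset hfin).1 hq
      rw [sup_le_iff, Ideal.span_singleton_le_iff_mem] at hle
      by_cases hqp : q ≤ p
      · have hQ := map_mem_minimalPrimes p J q hqm hqp
        apply hτ _ hQ
        have h1 : algebraMap A (Localization.AtPrime p) y ∈
            q.map (algebraMap A (Localization.AtPrime p)) := Ideal.mem_map_of_mem _ hle.1
        rw [← hya] at h1
        haveI := hQ.1.1
        rcases Ideal.IsPrime.mem_or_mem hQ.1.1 h1 with h | h
        · exact h
        · exact absurd (Ideal.eq_top_of_isUnit_mem _ h (algebraMap_isUnit p a.2))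
            hQ.1.1.ne_top
      · exact not_comap_map_le p J q hqm hqp hle.2)
  refine ⟨y + c, a, p.add_mem hy (hI'p hc), a.2, ?_, fun q hq => hcq q ((Set.Finite.mem_toFinset hfin).2 hq)⟩
  have : algebraMap A (Localization.AtPrime p) (y + c) -
      algebraMap A (Localization.AtPrime p) a * τ = algebraMap A (Localization.AtPrime p) c := by
    rw [map_add, ← hya]; ring
  rw [this]
  exact hc

end Groth.Agent.Helper2.SopLift
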