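import Mathlib
import Groth.Prelude.Def_CAlg
import Groth.Agent.Helper2.SopLift1
import Groth.Agent.Helper2.SopLift2
import Groth.Agent.Helper2.SopLift3

set_option autoImplicit false
universe u

namespace Groth.Agent.Helper2.SopLift

open IsLocalRing

section sp

variable {B : Type*} [CommRing B] {s : ℕ}

/-- The ideal generated by the first `i` members of a family. -/
def Sp (f : Fin s → B) (i : ℕ) : Ideal B := Ideal.span (f '' {l : Fin s | (l : ℕ) < i})

lemma Sp_zero (f : Fin s → B) : Sp f 0 = ⊥ := by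
  unfold Sp
  have : {l : Fin s | (l : ℕ) < 0} = ∅ := by ext; simp
  rw [this, Set.image_empty, Ideal.span_empty]

lemma Sp_top (f : Fin s → B) : Sp f s = Ideal.span (Set.range f) := by
  unfold Sp
  have : {l : Fin s | (l : ℕ) < s} = Set.univ := by ext l; simp [l.2]
  rw [this, Set.image_univ]

lemma Sp_succ (f : Fin s → B) (i : ℕ) (hi : i < s) :
    Sp f (i + 1) = Sp f i ⊔ Ideal.span {f ⟨i, hi⟩} := by
  unfold Sp
  have : {l : Fin s | (l : ℕ) < i + 1} = {l : Fin s | (l : ℕ) < i} ∪ {⟨i, hi⟩} := by
    ext l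
    simp only [Set.mem_setOf_eq, Set.mem_union, Set.mem_singleton_iff, Fin.ext_iff]
    omega
  rw [this, Set.image_union, Ideal.span_union, Set.image_singleton]

lemma Sp_update [DecidableEq (Fin s)] (f : Fin s → B) (ι : Fin s) (v : B) (i : ℕ) (hi : i ≤ ι) :
    Sp (Function.update f ι v) i = Sp f i := by
  unfold Sp
  congr 1
  apply Set.image_congr
  intro l hl
  have : l ≠ ι := by
    intro h
    rw [h] at hl
    exact absurd (lt_of_lt_of_le hl hi) (lt_irrefl _)
  rw [Function.update_of_ne this]

lemma Sp_fin (f : Fin s → B) (i : Fin s) :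
    Ideal.span (f '' {j : Fin s | j < i}) = Sp f (i : ℕ) := rfl

end sp

variable {A : Type u} [CommRing A] [IsNoetherianRing A] (p : Ideal A) [p.IsPrime] {s : ℕ}

lemma map_Sp_eq (t : Fin s → Localization.AtPrime p) (x a : Fin s → A) (i : ℕ) (hi : i ≤ s)
    (ha : ∀ j, a j ∉ p)
    (hc : ∀ j : Fin s, (j : ℕ) < i →
      algebraMap A (Localization.AtPrime p) (x j) -
        algebraMap A (Localization.AtPrime p) (a j) * t j ∈ Sp t (j : ℕ)) :
    (Sp x i).map (algebraMap A (Localization.AtPrime p)) = Sp t i := by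
  induction i with
  | zero => rw [Sp_zero, Sp_zero, Ideal.map_bot]
  | succ i ih =>
    have hi' : i < s := hi
    have ih' := ih (le_of_lt hi') (fun j hj => hc j (Nat.lt_succ_of_lt hj))
    rw [Sp_succ x i hi', Sp_succ t i hi', Ideal.map_sup, ih', Ideal.map_span, Set.image_singleton]
    have hcong := hc ⟨i, hi'⟩ (Nat.lt_succ_self i)
    simp only at hcong
    obtain ⟨u, hu⟩ := algebraMap_isUnit p (ha ⟨i, hi'⟩)
    apply le_antisymm
    · refine sup_le le_sup_left ?_
      rw [Ideal.span_singleton_le_iff_mem]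
      have : algebraMap A (Localization.AtPrime p) (x ⟨i, hi'⟩) =
          (algebraMap A (Localization.AtPrime p) (x ⟨i, hi'⟩) -
            algebraMap A (Localization.AtPrime p) (a ⟨i, hi'⟩) * t ⟨i, hi'⟩) +
          algebraMap A (Localization.AtPrime p) (a ⟨i, hi'⟩) * t ⟨i, hi'⟩ := by ring
      rw [this]
      exact Ideal.add_mem _ (Ideal.mem_sup_left hcong)
        (Ideal.mem_sup_right (Ideal.mul_mem_left _ _ (Ideal.mem_span_singleton_self _)))
    · refine sup_le le_sup_left ?_
      rw [Ideal.span_singleton_le_iff_mem]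
      have : t ⟨i, hi'⟩ = (↑u⁻¹ : Localization.AtPrime p) *
          (algebraMap A (Localization.AtPrime p) (x ⟨i, hi'⟩) -
            (algebraMap A (Localization.AtPrime p) (x ⟨i, hi'⟩) -
              algebraMap A (Localization.AtPrime p) (a ⟨i, hi'⟩) * t ⟨i, hi'⟩)) := by
        rw [sub_sub_cancel, ← hu, ← mul_assoc, Units.inv_mul, one_mul]
      rw [this]
      exact Ideal.mul_mem_left _ _ (Ideal.sub_mem _
        (Ideal.mem_sup_right (Ideal.mem_span_singleton_self _)) (Ideal.mem_sup_left hcong))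

lemma Sp_le (x : Fin s → A) (hx : ∀ j, x j ∈ p) (i : ℕ) : Sp x i ≤ p := by
  unfold Sp
  rw [Ideal.span_le]
  rintro _ ⟨j, -, rfl⟩
  exact hx j

variable [LocCoh.IsCohenMacaulayLocalRing (Localization.AtPrime p)]

theorem exists_seq (hs : ringKrullDim (Localization.AtPrime p) = s)
    (t : Fin s → Localization.AtPrime p)
    (ht : ∀ i, t i ∈ maximalIdeal (Localization.AtPrime p))
    (hsop : ringKrullDim (Localization.AtPrime p ⧸ Ideal.span (Set.range t)) = 0) :
    ∀ i : ℕ, i ≤ s → ∃ x a : Fin s → A, (∀ j, x j ∈ p) ∧ (∀ j, a j ∉ p) ∧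
      (∀ j : Fin s, (j : ℕ) < i →
        algebraMap A (Localization.AtPrime p) (x j) -
          algebraMap A (Localization.AtPrime p) (a j) * t j ∈ Sp t (j : ℕ)) ∧
      (∀ j : Fin s, (j : ℕ) < i → ∀ q ∈ (Sp x (j : ℕ)).minimalPrimes, x j ∉ q) := by
  classical
  intro i
  induction i with
  | zero =>
    intro _
    refine ⟨fun _ => 0, fun _ => 1, fun _ => p.zero_mem, fun _ => ?_, fun j hj => ?_, fun j hj => ?_⟩
    · exact fun h => (Ideal.IsPrime.ne_top inferInstance) ((Ideal.eq_top_iff_one p).2 h)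
    · exact absurd hj (Nat.not_lt_zero _)
    · exact absurd hj (Nat.not_lt_zero _)
  | succ i ih =>
    intro hi
    have hi' : i < s := hi
    obtain ⟨x, a, hx, ha, hc, hav⟩ := ih (le_of_lt hi')
    set ι : Fin s := ⟨i, hi'⟩ with hι
    have hmap : (Sp x i).map (algebraMap A (Localization.AtPrime p)) = Sp t i :=
      map_Sp_eq p t x a i (le_of_lt hi') ha hc
    have hτ : ∀ q ∈ ((Sp x i).map (algebraMap A (Localization.AtPrime p))).minimalPrimes,
        t ι ∉ q := by
      intro q hq
      rw [hmap] at hq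
      exact sop_notMem_minimalPrimes hs t ht hsop ι q hq
    obtain ⟨x', a', hx', ha', hc', hav'⟩ := exists_step p (Sp x i) (Sp_le p x hx i) (t ι) (ht ι) hτ
    refine ⟨Function.update x ι x', Function.update a ι a', ?_, ?_, ?_, ?_⟩
    · intro j
      by_cases hj : j = ι
      · rw [hj, Function.update_self]; exact hx'
      · rw [Function.update_of_ne hj]; exact hx j
    · intro j
      by_cases hj : j = ι
      · rw [hj, Function.update_self]; exact ha'
      · rw [Function.update_of_ne hj]; exact ha j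
    · intro j hj
      by_cases hjι : j = ι
      · rw [hjι, Function.update_self, Function.update_self]
        rw [hmap] at hc'
        exact hc'
      · rw [Function.update_of_ne hjι, Function.update_of_ne hjι]
        have : (j : ℕ) < i := by
          have h1 : (j : ℕ) ≠ i := fun h => hjι (Fin.ext h)
          omega
        exact hc j this
    · intro j hj
      by_cases hjι : j = ι
      · rw [hjι, Function.update_self, Sp_update x ι x' (ι : ℕ) le_rfl]
        exact hav'
      · have hlt : (j : ℕ) < i := by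
          have h1 : (j : ℕ) ≠ i := fun h => hjι (Fin.ext h)
          omega
        rw [Function.update_of_ne hjι, Sp_update x ι x' (j : ℕ) (le_of_lt hlt)]
        exact hav j hlt

omit [IsNoetherianRing A] [LocCoh.IsCohenMacaulayLocalRing (Localization.AtPrime p)] in
lemma dim_bound (x : Fin s → A)
    (hav : ∀ j : Fin s, ∀ q ∈ (Sp x (j : ℕ)).minimalPrimes, x j ∉ q) :
    ∀ i : ℕ, i ≤ s → ringKrullDim (A ⧸ Sp x i) + (i : WithBot ℕ∞) ≤ ringKrullDim A := by
  intro i
  induction i with
  | zero =>
    intro _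
    rw [Sp_zero, Nat.cast_zero, add_zero]
    exact le_of_eq (ringKrullDim_eq_of_ringEquiv (RingEquiv.quotientBot A))
  | succ i ih =>
    intro hi
    have hi' : i < s := hi
    have h1 := dim_step (Sp x i) (x ⟨i, hi'⟩) (hav ⟨i, hi'⟩)
    rw [Sp_succ x i hi']
    calc ringKrullDim (A ⧸ (Sp x i ⊔ Ideal.span {x ⟨i, hi'⟩})) + ((i + 1 : ℕ) : WithBot ℕ∞)
        = (ringKrullDim (A ⧸ (Sp x i ⊔ Ideal.span {x ⟨i, hi'⟩})) + 1) + (i : WithBot ℕ∞) := by
          rw [Nat.cast_add, Nat.cast_one, add_assoc, add_comm (1 : WithBot ℕ∞)]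
      _ ≤ ringKrullDim (A ⧸ Sp x i) + (i : WithBot ℕ∞) := by gcongr
      _ ≤ ringKrullDim A := ih (le_of_lt hi')

theorem main [IsLocalRing A] (hs : ringKrullDim (Localization.AtPrime p) = s)
    (t : Fin s → Localization.AtPrime p)
    (ht : ∀ i, t i ∈ maximalIdeal (Localization.AtPrime p))
    (hsop : ringKrullDim (Localization.AtPrime p ⧸ Ideal.span (Set.range t)) = 0) :
    ∃ x a : Fin s → A, (∀ i, x i ∈ p) ∧ (∀ i, a i ∉ p) ∧
      ringKrullDim (A ⧸ Ideal.span (Set.range x)) + (s : WithBot ℕ∞) = ringKrullDim A ∧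
      ∀ i : Fin s, algebraMap A (Localization.AtPrime p) (x i) -
          algebraMap A (Localization.AtPrime p) (a i) * t i ∈
        Ideal.span (t '' {j : Fin s | j < i}) := by
  classical
  obtain ⟨x, a, hx, ha, hc, hav⟩ := exists_seq p hs t ht hsop s le_rfl
  refine ⟨x, a, hx, ha, ?_, fun i => hc i i.2⟩
  apply le_antisymm
  · have := dim_bound x (fun j => hav j j.2) s le_rfl
    rwa [Sp_top] at this
  · have hjac : ((Finset.univ.image x : Finset A) : Set A) ⊆ Ring.jacobson A := by
      rw [IsLocalRing.ringJacobson_eq_maximalIdeal]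
      intro y hy
      rw [Finset.coe_image, Finset.coe_univ, Set.image_univ] at hy
      obtain ⟨j, rfl⟩ := hy
      exact IsLocalRing.le_maximalIdeal (Ideal.IsPrime.ne_top inferInstance) (hx j)
    have h1 := ringKrullDim_le_ringKrullDim_quotient_add_card (Finset.univ.image x) hjac
    rw [Finset.coe_image, Finset.coe_univ, Set.image_univ] at h1
    refine h1.trans ?_
    gcongr
    have : (Finset.univ.image x).card ≤ s := by
      calc (Finset.univ.image x).card ≤ (Finset.univ : Finset (Fin s)).card := Finset.card_image_le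
        _ = s := by simp
    exact_mod_cast this

end Groth.Agent.Helper2.SopLift
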