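import Mathlib
import Groth.Prelude
import Groth.Agent.Helper7.EtMil

set_option autoImplicit false

namespace Groth.Agent.Helper2.SpecPushout

open CategoryTheory CategoryTheory.Limits

universe u

section Top

variable {Z X Y P T : Type u} [TopologicalSpace Z] [TopologicalSpace X] [TopologicalSpace Y]
  [TopologicalSpace P] [TopologicalSpace T]

/-- descending a pair of compatible continuous maps along a "set-theoretic pushout with the
final topology". -/
theorem exists_desc (f : Z → X) (g : Z → Y) (inl : X → P) (inr : Y → P)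
    (ha : ∀ p : P, (∃ x, inl x = p) ∨ (∃ y, inr y = p))
    (hb : Function.Injective inl)
    (hc : ∀ y₁ y₂, inr y₁ = inr y₂ → y₁ = y₂ ∨ ∃ z₁ z₂, g z₁ = y₁ ∧ g z₂ = y₂ ∧ f z₁ = f z₂)
    (hd : ∀ x y, inl x = inr y → ∃ z, f z = x ∧ g z = y)
    (he : ∀ S : Set P, IsClosed (inl ⁻¹' S) → IsClosed (inr ⁻¹' S) → IsClosed S)
    (sl : X → T) (sr : Y → T) (hsl : Continuous sl) (hsr : Continuous sr)
    (hs : ∀ z, sl (f z) = sr (g z)) :
    ∃ d : P → T, Continuous d ∧ (∀ x, d (inl x) = sl x) ∧ (∀ y, d (inr y) = sr y) := by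
  classical
  have hex : ∀ p : P, ∃ t : T, (∀ x, inl x = p → sl x = t) ∧ (∀ y, inr y = p → sr y = t) := by
    intro p
    rcases ha p with ⟨x, rfl⟩ | ⟨y, rfl⟩
    · refine ⟨sl x, fun x' hx' => by rw [hb hx'], fun y hy => ?_⟩
      obtain ⟨z, rfl, rfl⟩ := hd x y hy.symm
      exact (hs z).symm
    · refine ⟨sr y, fun x hx => ?_, fun y' hy' => ?_⟩
      · obtain ⟨z, rfl, rfl⟩ := hd x y hx
        exact hs z
      · rcases hc y' y hy' with rfl | ⟨z₁, z₂, rfl, rfl, hz⟩
        · rfl
        · rw [← hs, ← hs, hz]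
  choose d hd1 hd2 using hex
  have h1 : ∀ x, d (inl x) = sl x := fun x => (hd1 (inl x) x rfl).symm
  have h2 : ∀ y, d (inr y) = sr y := fun y => (hd2 (inr y) y rfl).symm
  refine ⟨d, ?_, h1, h2⟩
  rw [continuous_iff_isClosed]
  intro C hC
  apply he
  · have : inl ⁻¹' (d ⁻¹' C) = sl ⁻¹' C := by
      ext x; simp only [Set.mem_preimage, h1]
    rw [this]; exact hC.preimage hsl
  · have : inr ⁻¹' (d ⁻¹' C) = sr ⁻¹' C := by
      ext x; simp only [Set.mem_preimage, h2]
    rw [this]; exact hC.preimage hsr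

end Top

theorem isPushout_of_conditions {Z X Y P : TopCat.{u}} (f : Z ⟶ X) (g : Z ⟶ Y) (inl : X ⟶ P)
    (inr : Y ⟶ P) (w : f ≫ inl = g ≫ inr)
    (ha : ∀ p : P, (∃ x, inl.hom x = p) ∨ (∃ y, inr.hom y = p))
    (hb : Function.Injective inl.hom)
    (hc : ∀ y₁ y₂, inr.hom y₁ = inr.hom y₂ →
      y₁ = y₂ ∨ ∃ z₁ z₂, g.hom z₁ = y₁ ∧ g.hom z₂ = y₂ ∧ f.hom z₁ = f.hom z₂)
    (hd : ∀ x y, inl.hom x = inr.hom y → ∃ z, f.hom z = x ∧ g.hom z = y)
    (he : ∀ S : Set P, IsClosed (inl.hom ⁻¹' S) → IsClosed (inr.hom ⁻¹' S) → IsClosed S) :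
    IsPushout f g inl inr := by
  have key : ∀ s : PushoutCocone f g, ∃ d : P → s.pt, Continuous d ∧
      (∀ x, d (inl.hom x) = s.inl.hom x) ∧ (∀ y, d (inr.hom y) = s.inr.hom y) := by
    intro s
    refine exists_desc f.hom g.hom inl.hom inr.hom ha hb hc hd he s.inl.hom s.inr.hom
      s.inl.hom.continuous s.inr.hom.continuous ?_
    intro z
    have := congrArg (fun k => k.hom z) s.condition
    simpa using this
  choose d hdc hd1 hd2 using key
  refine ⟨⟨w⟩, ⟨PushoutCocone.IsColimit.mk w (fun s => TopCat.ofHom ⟨d s, hdc s⟩) ?_ ?_ ?_⟩⟩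
  · intro s
    ext x
    simp [hd1]
  · intro s
    ext y
    simp [hd2]
  · intro s m hm1 hm2
    ext p
    simp only [TopCat.hom_ofHom, ContinuousMap.coe_mk]
    rcases ha p with ⟨x, rfl⟩ | ⟨y, rfl⟩
    · rw [hd1, ← hm1]; simp
    · rw [hd2, ← hm2]; simp

section Alg

open Groth.Agent.Helper7.EtMilH

variable {B' B A' A : Type u} [CommRing B'] [CommRing B] [CommRing A'] [CommRing A]
  [Algebra B' B] [Algebra B' A'] [Algebra B A] [Algebra A' A] [Algebra B' A]
  [IsScalarTower B' B A] [IsScalarTower B' A' A]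

theorem mulJ_zero (hsq : EtMil.IsFibreSquare B' B A' A) (j : B') (hj : algebraMap B' B j = 0) :
    mulJ hsq j hj 0 = 0 := by
  apply ext_sq hsq
  · rw [(mulJ_spec hsq j hj _).1, map_zero]
  · rw [(mulJ_spec hsq j hj _).2, zero_mul, map_zero]

theorem mulJ_mul (hsq : EtMil.IsFibreSquare B' B A' A) (j : B') (hj : algebraMap B' B j = 0)
    (s t : A') : mulJ hsq j hj (s * t) * j = mulJ hsq j hj s * mulJ hsq j hj t := by
  apply ext_sq hsq
  · rw [map_mul, map_mul, (mulJ_spec hsq j hj _).1, (mulJ_spec hsq j hj _).1, zero_mul, zero_mul]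
  · rw [map_mul, map_mul, (mulJ_spec hsq j hj _).2, (mulJ_spec hsq j hj _).2,
      (mulJ_spec hsq j hj _).2]
    ring

theorem mulJ_algebraMap (hsq : EtMil.IsFibreSquare B' B A' A) (j : B')
    (hj : algebraMap B' B j = 0) (b' : B') :
    mulJ hsq j hj (algebraMap B' A' b') = b' * j := by
  apply ext_sq hsq
  · rw [map_mul, (mulJ_spec hsq j hj _).1, hj, mul_zero]
  · rw [map_mul, (mulJ_spec hsq j hj _).2]

/-- the prime of `A'` attached to a prime of `B'` not containing `j ∈ ker (B' → B)`. -/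
def idealOf (hsq : EtMil.IsFibreSquare B' B A' A) (x : Ideal B') [x.IsPrime] (j : B')
    (hj : algebraMap B' B j = 0) (hjx : j ∉ x) : Ideal A' where
  carrier := {a' | mulJ hsq j hj a' ∈ x}
  zero_mem' := by
    change mulJ hsq j hj 0 ∈ x
    rw [mulJ_zero]; exact x.zero_mem
  add_mem' := by
    intro a b ha hb
    change mulJ hsq j hj (a + b) ∈ x
    rw [mulJ_add]; exact x.add_mem ha hb
  smul_mem' := by
    intro t a ha
    change mulJ hsq j hj (t * a) ∈ x
    have h1 : mulJ hsq j hj (t * a) * j ∈ x := by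
      rw [mulJ_mul]; exact x.mul_mem_left _ ha
    exact (Ideal.IsPrime.mem_or_mem inferInstance h1).resolve_right hjx

theorem mem_idealOf (hsq : EtMil.IsFibreSquare B' B A' A) (x : Ideal B') [x.IsPrime] (j : B')
    (hj : algebraMap B' B j = 0) (hjx : j ∉ x) (a' : A') :
    a' ∈ idealOf hsq x j hj hjx ↔ mulJ hsq j hj a' ∈ x := Iff.rfl

instance idealOf_isPrime (hsq : EtMil.IsFibreSquare B' B A' A) (x : Ideal B') [x.IsPrime] (j : B')
    (hj : algebraMap B' B j = 0) (hjx : j ∉ x) : (idealOf hsq x j hj hjx).IsPrime := by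
  refine ⟨?_, ?_⟩
  · rw [Ideal.ne_top_iff_one, mem_idealOf, mulJ_one]
    exact hjx
  · intro a b hab
    rw [mem_idealOf] at hab
    have h1 : mulJ hsq j hj a * mulJ hsq j hj b ∈ x := by
      rw [← mulJ_mul]; exact x.mul_mem_right _ hab
    exact Ideal.IsPrime.mem_or_mem (I := x) inferInstance h1

theorem comap_idealOf (hsq : EtMil.IsFibreSquare B' B A' A) (x : Ideal B') [x.IsPrime] (j : B')
    (hj : algebraMap B' B j = 0) (hjx : j ∉ x) :
    (idealOf hsq x j hj hjx).comap (algebraMap B' A') = x := by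
  ext b'
  rw [Ideal.mem_comap, mem_idealOf, mulJ_algebraMap]
  constructor
  · intro h
    exact (Ideal.IsPrime.mem_or_mem inferInstance h).resolve_right hjx
  · intro h
    exact x.mul_mem_right _ h

/-- `ker (A' → A)` is contained in any prime of `A'` whose contraction to `B'` contains
`ker (B' → B)`. -/
theorem ker_le_of_ker_le_comap (hsq : EtMil.IsFibreSquare B' B A' A) (y : Ideal A')
    (h : RingHom.ker (algebraMap B' B) ≤ y.comap (algebraMap B' A')) :
    RingHom.ker (algebraMap A' A) ≤ y := by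
  intro c hc
  rw [RingHom.mem_ker] at hc
  have h0 : algebraMap B A 0 = algebraMap A' A c := by rw [map_zero, hc]
  obtain ⟨b', ⟨hb1, hb2⟩, _⟩ := hsq.2 0 c h0
  have := h (show b' ∈ RingHom.ker (algebraMap B' B) from hb1)
  rw [Ideal.mem_comap, hb2] at this
  exact this

theorem comap_comm (q : PrimeSpectrum A) :
    PrimeSpectrum.comap (algebraMap B' B) (PrimeSpectrum.comap (algebraMap B A) q) =
      PrimeSpectrum.comap (algebraMap B' A') (PrimeSpectrum.comap (algebraMap A' A) q) := by
  apply PrimeSpectrum.ext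
  ext b'
  simp only [PrimeSpectrum.comap_asIdeal, Ideal.mem_comap]
  rw [← IsScalarTower.algebraMap_apply, ← IsScalarTower.algebraMap_apply]

theorem cond_a (hsq : EtMil.IsFibreSquare B' B A' A) (x : PrimeSpectrum B') :
    (∃ q, PrimeSpectrum.comap (algebraMap B' B) q = x) ∨
      (∃ y, PrimeSpectrum.comap (algebraMap B' A') y = x) := by
  by_cases h : RingHom.ker (algebraMap B' B) ≤ x.asIdeal
  · left
    have : x ∈ Set.range (PrimeSpectrum.comap (algebraMap B' B)) := by
      rw [_root_.range_comap_of_surjective _ _ (surjB hsq)]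
      exact h
    exact this
  · right
    obtain ⟨j, hj, hjx⟩ := SetLike.not_le_iff_exists.mp h
    rw [RingHom.mem_ker] at hj
    refine ⟨⟨idealOf hsq x.asIdeal j hj hjx, inferInstance⟩, ?_⟩
    apply PrimeSpectrum.ext
    exact comap_idealOf hsq x.asIdeal j hj hjx

theorem exists_of_ker_le (hsq : EtMil.IsFibreSquare B' B A' A) (y : PrimeSpectrum A')
    (h : RingHom.ker (algebraMap B' B) ≤ (PrimeSpectrum.comap (algebraMap B' A') y).asIdeal) :
    ∃ z, PrimeSpectrum.comap (algebraMap A' A) z = y := by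
  have : y ∈ Set.range (PrimeSpectrum.comap (algebraMap A' A)) := by
    rw [_root_.range_comap_of_surjective _ _ hsq.1]
    exact ker_le_of_ker_le_comap hsq y.asIdeal h
  exact this

theorem ker_le_comap (q : PrimeSpectrum B) :
    RingHom.ker (algebraMap B' B) ≤ (PrimeSpectrum.comap (algebraMap B' B) q).asIdeal := by
  intro b hb
  rw [RingHom.mem_ker] at hb
  rw [PrimeSpectrum.comap_asIdeal, Ideal.mem_comap, hb]
  exact q.asIdeal.zero_mem

theorem cond_d (hsq : EtMil.IsFibreSquare B' B A' A) (q : PrimeSpectrum B) (y : PrimeSpectrum A')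
    (h : PrimeSpectrum.comap (algebraMap B' B) q = PrimeSpectrum.comap (algebraMap B' A') y) :
    ∃ z, PrimeSpectrum.comap (algebraMap B A) z = q ∧
      PrimeSpectrum.comap (algebraMap A' A) z = y := by
  obtain ⟨z, rfl⟩ := exists_of_ker_le hsq y (h ▸ ker_le_comap q)
  refine ⟨z, ?_, rfl⟩
  apply PrimeSpectrum.comap_injective_of_surjective _ (surjB hsq)
  rw [h, comap_comm (B' := B') (B := B) (A' := A')]

theorem cond_c (hsq : EtMil.IsFibreSquare B' B A' A) (y₁ y₂ : PrimeSpectrum A')
    (h : PrimeSpectrum.comap (algebraMap B' A') y₁ = PrimeSpectrum.comap (algebraMap B' A') y₂) :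
    y₁ = y₂ ∨ ∃ z₁ z₂, PrimeSpectrum.comap (algebraMap A' A) z₁ = y₁ ∧
      PrimeSpectrum.comap (algebraMap A' A) z₂ = y₂ ∧
      PrimeSpectrum.comap (algebraMap B A) z₁ = PrimeSpectrum.comap (algebraMap B A) z₂ := by
  by_cases hk : RingHom.ker (algebraMap B' B) ≤
      (PrimeSpectrum.comap (algebraMap B' A') y₁).asIdeal
  · right
    obtain ⟨z₁, rfl⟩ := exists_of_ker_le hsq y₁ hk
    obtain ⟨z₂, rfl⟩ := exists_of_ker_le hsq y₂ (h ▸ hk)
    refine ⟨z₁, z₂, rfl, rfl, ?_⟩
    apply PrimeSpectrum.comap_injective_of_surjective _ (surjB hsq)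
    rw [comap_comm (B' := B') (B := B) (A' := A'), comap_comm (B' := B') (B := B) (A' := A'), h]
  · left
    obtain ⟨j, hj, hjx⟩ := SetLike.not_le_iff_exists.mp hk
    rw [RingHom.mem_ker] at hj
    have key : ∀ y y' : PrimeSpectrum A',
        PrimeSpectrum.comap (algebraMap B' A') y = PrimeSpectrum.comap (algebraMap B' A') y' →
        j ∉ (PrimeSpectrum.comap (algebraMap B' A') y).asIdeal → y.asIdeal ≤ y'.asIdeal := by
      intro y y' hyy hjy a ha
      have h1 : mulJ hsq j hj a ∈ (PrimeSpectrum.comap (algebraMap B' A') y).asIdeal := by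
        rw [PrimeSpectrum.comap_asIdeal, Ideal.mem_comap, (mulJ_spec hsq j hj a).2]
        exact y.asIdeal.mul_mem_right _ ha
      rw [hyy, PrimeSpectrum.comap_asIdeal, Ideal.mem_comap, (mulJ_spec hsq j hj a).2] at h1
      refine (y'.isPrime.mem_or_mem h1).resolve_right ?_
      intro h2
      apply hjy
      rw [hyy, PrimeSpectrum.comap_asIdeal, Ideal.mem_comap]
      exact h2
    apply PrimeSpectrum.ext
    exact le_antisymm (key y₁ y₂ h hjx) (key y₂ y₁ h.symm (h ▸ hjx))

theorem cond_e (hsq : EtMil.IsFibreSquare B' B A' A) (S : Set (PrimeSpectrum B'))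
    (h1 : IsClosed (PrimeSpectrum.comap (algebraMap B' B) ⁻¹' S))
    (h2 : IsClosed (PrimeSpectrum.comap (algebraMap B' A') ⁻¹' S)) : IsClosed S := by
  obtain ⟨𝔟, h𝔟⟩ := (PrimeSpectrum.isClosed_iff_zeroLocus_ideal _).mp h1
  obtain ⟨𝔞, h𝔞⟩ := (PrimeSpectrum.isClosed_iff_zeroLocus_ideal _).mp h2
  have hS : S = PrimeSpectrum.comap (algebraMap B' B) ''
      (PrimeSpectrum.comap (algebraMap B' B) ⁻¹' S) ∪
      PrimeSpectrum.zeroLocus (𝔞.comap (algebraMap B' A') : Set B') := by
    apply Set.Subset.antisymm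
    · intro x hx
      rcases cond_a hsq x with ⟨q, rfl⟩ | ⟨y, rfl⟩
      · left; exact ⟨q, hx, rfl⟩
      · right
        have hy : y ∈ PrimeSpectrum.zeroLocus (𝔞 : Set A') := by rw [← h𝔞]; exact hx
        rw [PrimeSpectrum.mem_zeroLocus] at hy ⊢
        exact Ideal.comap_mono hy
    · rintro x (⟨q, hq, rfl⟩ | hx)
      · exact hq
      · rw [PrimeSpectrum.mem_zeroLocus, SetLike.coe_subset_coe] at hx
        by_cases hk : RingHom.ker (algebraMap B' B) ≤ x.asIdeal
        · have hxr : x ∈ Set.range (PrimeSpectrum.comap (algebraMap B' B)) := by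
            rw [_root_.range_comap_of_surjective _ _ (surjB hsq)]
            exact hk
          obtain ⟨q, rfl⟩ := hxr
          change q ∈ PrimeSpectrum.comap (algebraMap B' B) ⁻¹' S
          rw [h𝔟, PrimeSpectrum.mem_zeroLocus, SetLike.coe_subset_coe]
          intro b hb
          -- compare in `Spec A`
          have hcmp : PrimeSpectrum.comap (algebraMap B A) ⁻¹'
              (PrimeSpectrum.comap (algebraMap B' B) ⁻¹' S) =
              PrimeSpectrum.comap (algebraMap A' A) ⁻¹'
              (PrimeSpectrum.comap (algebraMap B' A') ⁻¹' S) := by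
            ext z
            simp only [Set.mem_preimage]
            rw [comap_comm (B' := B') (B := B) (A' := A')]
          rw [h𝔟, h𝔞, PrimeSpectrum.preimage_comap_zeroLocus,
            PrimeSpectrum.preimage_comap_zeroLocus, ← PrimeSpectrum.zeroLocus_span,
            ← PrimeSpectrum.zeroLocus_span (algebraMap A' A '' _)] at hcmp
          have hle := (PrimeSpectrum.zeroLocus_subset_zeroLocus_iff _ _).mp hcmp.symm.subset
          have hbm : algebraMap B A b ∈ Ideal.span (algebraMap B A '' (𝔟 : Set B)) :=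
            Ideal.subset_span ⟨b, hb, rfl⟩
          obtain ⟨n, hn⟩ := hle hbm
          have hn' : (algebraMap B A b) ^ n ∈ 𝔞.map (algebraMap A' A) := hn
          obtain ⟨a', ha', ha'b⟩ := (Ideal.mem_map_iff_of_surjective _ hsq.1).mp hn'
          have h0 : algebraMap B A (b ^ n) = algebraMap A' A a' := by rw [map_pow, ha'b]
          obtain ⟨b', ⟨hb1, hb2⟩, _⟩ := hsq.2 (b ^ n) a' h0
          have hb'x : b' ∈ (PrimeSpectrum.comap (algebraMap B' B) q).asIdeal := by
            apply hx
            rw [Ideal.mem_comap, hb2]; exact ha'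
          rw [PrimeSpectrum.comap_asIdeal, Ideal.mem_comap, hb1] at hb'x
          exact q.isPrime.mem_of_pow_mem n hb'x
        · obtain ⟨j, hj, hjx⟩ := SetLike.not_le_iff_exists.mp hk
          rw [RingHom.mem_ker] at hj
          have hxe : x = PrimeSpectrum.comap (algebraMap B' A')
              ⟨idealOf hsq x.asIdeal j hj hjx, inferInstance⟩ := by
            apply PrimeSpectrum.ext
            exact (comap_idealOf hsq x.asIdeal j hj hjx).symm
          rw [hxe]
          change _ ∈ PrimeSpectrum.comap (algebraMap B' A') ⁻¹' S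
          rw [h𝔞, PrimeSpectrum.mem_zeroLocus, SetLike.coe_subset_coe]
          intro a ha
          change a ∈ idealOf hsq x.asIdeal j hj hjx
          rw [mem_idealOf]
          apply hx
          rw [Ideal.mem_comap, (mulJ_spec hsq j hj a).2]
          exact 𝔞.mul_mem_right _ ha
  rw [hS]
  refine IsClosed.union ?_ (PrimeSpectrum.isClosed_zeroLocus _)
  exact (PrimeSpectrum.isClosedEmbedding_comap_of_surjective _ _ (surjB hsq)).isClosedMap _ h1

theorem s6917 (B' B A' A : Type u) [CommRing B'] [CommRing B] [CommRing A'] [CommRing A]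
    [Algebra B' B] [Algebra B' A'] [Algebra B A] [Algebra A' A] [Algebra B' A]
    [IsScalarTower B' B A] [IsScalarTower B' A' A]
    (hsq : EtMil.IsFibreSquare B' B A' A) :
    IsPushout (TopCat.ofHom (ContinuousMap.mk (PrimeSpectrum.comap (algebraMap B A)) (PrimeSpectrum.continuous_comap _))) (TopCat.ofHom (ContinuousMap.mk (PrimeSpectrum.comap (algebraMap A' A)) (PrimeSpectrum.continuous_comap _)))
      (TopCat.ofHom (ContinuousMap.mk (PrimeSpectrum.comap (algebraMap B' B)) (PrimeSpectrum.continuous_comap _)))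
      (TopCat.ofHom (ContinuousMap.mk (PrimeSpectrum.comap (algebraMap B' A')) (PrimeSpectrum.continuous_comap _))) := by
  apply isPushout_of_conditions
  · apply TopCat.hom_ext
    apply ContinuousMap.ext
    intro z
    exact comap_comm (B' := B') (B := B) (A' := A') z
  · intro x
    exact cond_a hsq x
  · exact PrimeSpectrum.comap_injective_of_surjective _ (surjB hsq)
  · intro y₁ y₂ h
    exact cond_c hsq y₁ y₂ h
  · intro q y h
    exact cond_d hsq q y h
  · intro S h1 h2
    exact cond_e hsq S h1 h2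

end Alg

end Groth.Agent.Helper2.SpecPushout
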