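import Mathlib
import Groth.Prelude
import Groth.Agent.Helper2.TotFrac1
import Groth.Agent.Helper2.WEIntF

set_option autoImplicit false
set_option linter.style.haveILetI false
set_option linter.unusedSectionVars false
set_option linter.unusedVariables false

universe u

/-!
# S16437, part 1: the normalization of an étale algebra over a domain is the base change of the
normalization
-/

namespace Groth.Agent.Helper2.SplitC

open TensorProduct Polynomial Groth.Agent.Helper2.TotFrac Groth.Agent.Helper2.WEInt

section psi

variable (A E : Type u) [CommRing A] [IsDomain A] [IsLocalRing A] [CommRing E] [Algebra A E]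
  [Module.Flat A E] [Algebra.QuasiFinite A E]

theorem hmin_domain : (minimalPrimes A).Finite := by
  rw [IsDomain.minimalPrimes_eq_singleton_bot]
  exact Set.finite_singleton _

/-- `K_A → K_E` as an `A`-algebra map -/
noncomputable def fracMapₐ : FractionRing A →ₐ[A] FractionRing E :=
  { fracMap A E with commutes' := fun a => fracMap_algebraMap A E a }

theorem fracMapₐ_apply (x : FractionRing A) : fracMapₐ A E x = fracMap A E x := rfl

/-- the comparison map from the base change of the normalization to `K_E` -/
noncomputable def psi0 : (integralClosure A (FractionRing A)) ⊗[A] E →ₐ[A] FractionRing E :=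
  Algebra.TensorProduct.productMap
    ((fracMapₐ A E).comp (integralClosure A (FractionRing A)).val)
    (IsScalarTower.toAlgHom A E (FractionRing E))

theorem psi0_tmul (a : integralClosure A (FractionRing A)) (e : E) :
    psi0 A E (a ⊗ₜ[A] e) = fracMap A E (a : FractionRing A) * algebraMap E (FractionRing E) e := by
  simp [psi0, fracMapₐ_apply]

theorem psi0_isIntegral (x : (integralClosure A (FractionRing A)) ⊗[A] E) :
    IsIntegral E (psi0 A E x) := by
  induction x using TensorProduct.induction_on with
  | zero => rw [map_zero]; exact isIntegral_zero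
  | tmul a e =>
    rw [psi0_tmul]
    refine IsIntegral.mul ?_ isIntegral_algebraMap
    have h1 : IsIntegral A (fracMapₐ A E (a : FractionRing A)) := a.2.map (fracMapₐ A E)
    exact h1.tower_top
  | add x y hx hy => rw [map_add]; exact hx.add hy

/-- the canonical identification `E ⊗ K_A ≅ K_E` -/
noncomputable def phi2 : E ⊗[A] FractionRing A →ₐ[E] FractionRing E :=
  Algebra.TensorProduct.productLeftAlgHom (Algebra.ofId E (FractionRing E)) (fracMapₐ A E)

theorem phi2_tmul (e : E) (x : FractionRing A) :
    phi2 A E (e ⊗ₜ[A] x) = algebraMap E (FractionRing E) e * fracMap A E x := by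
  simp [phi2, fracMapₐ_apply, Algebra.ofId_apply]

theorem phi2_bijective : Function.Bijective (phi2 A E) := by
  haveI h1 : IsLocalization (Algebra.algebraMapSubmonoid E (nonZeroDivisors A))
      (E ⊗[A] FractionRing A) := IsLocalization.tensor (FractionRing A) (nonZeroDivisors A)
  haveI h2 : IsLocalization (Algebra.algebraMapSubmonoid E (nonZeroDivisors A))
      (FractionRing E) := isLocalization_fractionRing A E (hmin_domain A)
  let ε := IsLocalization.algEquiv (Algebra.algebraMapSubmonoid E (nonZeroDivisors A))
    (E ⊗[A] FractionRing A) (FractionRing E)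
  haveI : Subsingleton (E ⊗[A] FractionRing A →ₐ[E] FractionRing E) :=
    IsLocalization.algHom_subsingleton (Algebra.algebraMapSubmonoid E (nonZeroDivisors A))
  have h3 : phi2 A E = ε.toAlgHom := Subsingleton.elim _ _
  rw [h3]
  exact ε.bijective

theorem psi0_injective : Function.Injective (psi0 A E) := by
  let φ₁ : (integralClosure A (FractionRing A)) ⊗[A] E →ₗ[A] FractionRing A ⊗[A] E :=
    LinearMap.rTensor E (integralClosure A (FractionRing A)).val.toLinearMap
  have hφ₁ : Function.Injective φ₁ :=
    Module.Flat.rTensor_preserves_injective_linearMap _ Subtype.val_injective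
  have hfac : ∀ x, psi0 A E x =
      phi2 A E (Algebra.TensorProduct.comm A (FractionRing A) E (φ₁ x)) := by
    intro x
    induction x using TensorProduct.induction_on with
    | zero => simp
    | tmul a e =>
      rw [psi0_tmul]
      show _ = phi2 A E (Algebra.TensorProduct.comm A (FractionRing A) E
        ((a : FractionRing A) ⊗ₜ[A] e))
      rw [Algebra.TensorProduct.comm_tmul, phi2_tmul, mul_comm]
    | add x y hx hy => rw [map_add, map_add, map_add, map_add, hx, hy]
  intro x y hxy
  rw [hfac, hfac] at hxy
  exact hφ₁ ((Algebra.TensorProduct.comm A (FractionRing A) E).injective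
    ((phi2_bijective A E).1 hxy))

variable [Algebra.Etale A E]

theorem psi0_surjective (y : FractionRing E) (hy : IsIntegral E y) :
    ∃ x, psi0 A E x = y := by
  haveI hloc : IsLocalization (Algebra.algebraMapSubmonoid E (nonZeroDivisors A))
      (FractionRing E) := isLocalization_fractionRing A E (hmin_domain A)
  haveI : IsIntegrallyClosed (integralClosure A (FractionRing A)) :=
    integralClosure.isIntegrallyClosedOfFiniteExtension (FractionRing A)
  have hIC := ic_of_normal (integralClosure A (FractionRing A))
    ((integralClosure A (FractionRing A)) ⊗[A] E)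
  obtain ⟨⟨e, ⟨_, s, hs, rfl⟩⟩, hes⟩ :=
    IsLocalization.surj (Algebra.algebraMapSubmonoid E (nonZeroDivisors A)) y
  simp only at hes
  obtain ⟨p, hp, hpy⟩ := hy
  set f := algebraMap E (FractionRing E) with hf
  have hinj : Function.Injective f := IsLocalization.injective (FractionRing E) le_rfl
  have h2 := scaleRoots_eval₂_mul (p := p) f y (algebraMap A E s)
  rw [hpy, mul_zero, mul_comm, hes, eval₂_at_apply] at h2
  have h3 : (p.scaleRoots (algebraMap A E s)).eval e = 0 := hinj (by rw [h2, map_zero])
  -- transport to `B`
  let β : E →+* (integralClosure A (FractionRing A)) ⊗[A] E :=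
    (Algebra.TensorProduct.includeRight :
      E →ₐ[A] (integralClosure A (FractionRing A)) ⊗[A] E).toRingHom
  have hβs : β (algebraMap A E s) =
      algebraMap (integralClosure A (FractionRing A)) ((integralClosure A (FractionRing A)) ⊗[A] E)
        (algebraMap A (integralClosure A (FractionRing A)) s) := by
    show (1 : integralClosure A (FractionRing A)) ⊗ₜ[A] (algebraMap A E s) = _
    rw [Algebra.TensorProduct.algebraMap_apply]
    simp only [Algebra.algebraMap_self, RingHom.id_apply]
    rw [Algebra.algebraMap_eq_smul_one s, Algebra.algebraMap_eq_smul_one s]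
    exact (TensorProduct.smul_tmul s (1 : integralClosure A (FractionRing A)) (1 : E)).symm
  have hs0 : algebraMap A (integralClosure A (FractionRing A)) s ≠ 0 := by
    intro h
    have h5 := congrArg (Subtype.val) h
    have h6 : algebraMap A (FractionRing A) s = 0 := h5
    exact (nonZeroDivisors.ne_zero hs)
      ((IsFractionRing.injective A (FractionRing A)) (by rw [h6, map_zero]))
  have h4 : ((p.map β).scaleRoots (algebraMap (integralClosure A (FractionRing A))
      ((integralClosure A (FractionRing A)) ⊗[A] E)
        (algebraMap A (integralClosure A (FractionRing A)) s))).eval (β e) = 0 := by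
    rcases subsingleton_or_nontrivial ((integralClosure A (FractionRing A)) ⊗[A] E) with hsub | hnt
    · exact Subsingleton.elim _ _
    · rw [← hβs, ← map_scaleRoots _ _ _ (by rw [hp.leadingCoeff, map_one]; exact one_ne_zero),
        eval_map, eval₂_at_apply, h3, map_zero]
  have h5 := hIC _ hs0 (β e) (p.map β) (hp.map β) h4
  rw [Ideal.mem_span_singleton] at h5
  obtain ⟨b', hb'⟩ := h5
  refine ⟨b', ?_⟩
  have h6 := congrArg (psi0 A E) hb'
  rw [map_mul] at h6
  have h7 : psi0 A E (β e) = f e := by
    show psi0 A E ((1 : integralClosure A (FractionRing A)) ⊗ₜ[A] e) = _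
    rw [psi0_tmul]
    simp [hf]
  have h8 : psi0 A E (algebraMap (integralClosure A (FractionRing A))
      ((integralClosure A (FractionRing A)) ⊗[A] E)
        (algebraMap A (integralClosure A (FractionRing A)) s)) = f (algebraMap A E s) := by
    rw [← hβs]
    show psi0 A E ((1 : integralClosure A (FractionRing A)) ⊗ₜ[A] (algebraMap A E s)) = _
    rw [psi0_tmul]
    simp [hf]
  rw [h7, h8, ← hes] at h6
  have hunit : IsUnit (f (algebraMap A E s)) :=
    IsLocalization.map_units (FractionRing E)
      (⟨algebraMap A E s, s, hs, rfl⟩ : Algebra.algebraMapSubmonoid E (nonZeroDivisors A))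
  rw [mul_comm] at h6
  exact (hunit.mul_left_cancel h6).symm

end psi

end Groth.Agent.Helper2.SplitC
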