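import Mathlib

set_option autoImplicit false
set_option linter.style.haveILetI false
set_option linter.unusedSectionVars false
set_option linter.unusedVariables false

universe u v w

/-!
# S16437, part 2: field-theoretic counting lemmas
-/

namespace Groth.Agent.Helper2.SplitC

open Module IntermediateField

section cnt

variable (k : Type u) (ks : Type v) (l : Type w) [Field k] [Field ks] [Field l] [Algebra k ks]
  [Algebra k l] [FiniteDimensional k ks]

theorem natCard_algHom_le (F : Type*) [Field F] [Algebra k F] :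
    Nat.card (ks →ₐ[k] F) ≤ finrank k ks := by
  have h1 := cardinalMk_algHom k ks F
  rw [Module.finrank_linearMap_self] at h1
  have h2 : Cardinal.mk (ks →ₐ[k] F) < Cardinal.aleph0 :=
    lt_of_le_of_lt h1 (Cardinal.nat_lt_aleph0 _)
  have h3 : (Nat.card (ks →ₐ[k] F) : Cardinal) = Cardinal.mk (ks →ₐ[k] F) := by
    rw [Nat.card, Cardinal.cast_toNat_of_lt_aleph0 h2]
  exact_mod_cast h3 ▸ h1

theorem finite_algHom (F : Type*) [Field F] [Algebra k F] : Finite (ks →ₐ[k] F) := by
  have h1 := cardinalMk_algHom k ks F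
  rw [Module.finrank_linearMap_self] at h1
  exact Cardinal.lt_aleph0_iff_finite.mp (lt_of_le_of_lt h1 (Cardinal.nat_lt_aleph0 _))

/-- if `ks` has the maximal number of embeddings into `l`, every embedding of `ks` into an
extension of `l` lands in `l` -/
theorem mem_range_of_card_eq {F : Type*} [Field F] (ι : l →+* F) (τ : ks →+* F)
    (hτ : τ.comp (algebraMap k ks) = ι.comp (algebraMap k l))
    (hcount : Nat.card (ks →ₐ[k] l) = finrank k ks) (d : ks) : τ d ∈ ι.range := by
  letI : Algebra k F := (ι.comp (algebraMap k l)).toAlgebra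
  let ι' : l →ₐ[k] F := { ι with commutes' := fun _ => rfl }
  let τ' : ks →ₐ[k] F := { τ with commutes' := fun a => RingHom.congr_fun hτ a }
  haveI := finite_algHom k ks l
  haveI := finite_algHom k ks F
  let Φ : (ks →ₐ[k] l) → (ks →ₐ[k] F) := fun σ => ι'.comp σ
  have hΦ : Function.Injective Φ := by
    intro σ σ' h
    ext x
    have := AlgHom.congr_fun h x
    exact ι.injective this
  have hbij := hΦ.bijective_of_nat_card_le (by
    rw [hcount]; exact natCard_algHom_le k ks F)
  obtain ⟨σ, hσ⟩ := hbij.2 τ'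
  have := AlgHom.congr_fun hσ d
  exact ⟨σ d, this⟩

variable [Algebra.IsSeparable k ks]

/-- if every embedding of `ks` into an algebraic closure of `l` lands in `l`, then `ks` has the
maximal number of embeddings into `l` -/
theorem card_eq_of_forall_mem_range (Ω : Type*) [Field Ω] [IsAlgClosed Ω] [Algebra l Ω]
    [Algebra k Ω] [IsScalarTower k l Ω]
    (h : ∀ (τ : ks →ₐ[k] Ω) (d : ks), τ d ∈ (algebraMap l Ω).range) :
    Nat.card (ks →ₐ[k] l) = finrank k ks := by
  have h1 : Nat.card (ks →ₐ[k] Ω) = finrank k ks := by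
    rw [← Field.finSepDegree_eq_of_isAlgClosed k ks Ω,
      Field.finSepDegree_eq_finrank_of_isSeparable]
  rw [← h1]
  let ι' : l →ₐ[k] Ω := IsScalarTower.toAlgHom k l Ω
  let Φ : (ks →ₐ[k] l) → (ks →ₐ[k] Ω) := fun σ => ι'.comp σ
  have hΦ : Function.Injective Φ := by
    intro σ σ' h
    ext x
    have := AlgHom.congr_fun h x
    exact (algebraMap l Ω).injective this
  have hΦs : Function.Surjective Φ := by
    intro τ
    have hτ : ∀ d, τ d ∈ ι'.range := fun d => h τ d
    let e := AlgEquiv.ofInjective ι' (algebraMap l Ω).injective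
    refine ⟨e.symm.toAlgHom.comp (τ.codRestrict ι'.range hτ), ?_⟩
    ext d
    show ι' (e.symm (τ.codRestrict ι'.range hτ d)) = τ d
    have h2 : ι' (e.symm (τ.codRestrict ι'.range hτ d)) =
        ((e (e.symm (τ.codRestrict ι'.range hτ d)) : ι'.range) : Ω) := rfl
    rw [h2, AlgEquiv.apply_symm_apply]
    rfl
  exact Nat.card_congr (Equiv.ofBijective Φ ⟨hΦ, hΦs⟩)

end cnt

/-- a separable element with a `q`-power in the base field lies in the base field -/
theorem mem_range_of_isSeparable_of_pow_mem (l : Type u) (Ω : Type v) [Field l] [Field Ω]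
    [Algebra l Ω] (q : ℕ) [ExpChar l q] (y : Ω) (hy : IsSeparable l y) (m : ℕ)
    (hm : y ^ q ^ m ∈ (algebraMap l Ω).range) : y ∈ (algebraMap l Ω).range := by
  have h1 := adjoin_simple_eq_adjoin_pow_expChar_pow_of_isSeparable l Ω hy q m
  have h2 : l⟮y ^ q ^ m⟯ = ⊥ := by
    rw [IntermediateField.adjoin_simple_eq_bot_iff, IntermediateField.mem_bot]
    exact hm
  rw [h2, IntermediateField.adjoin_simple_eq_bot_iff, IntermediateField.mem_bot] at h1
  exact h1

end Groth.Agent.Helper2.SplitC
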