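import Mathlib
import Groth.Prelude
import Groth.Agent.Helper2.SplitC2

set_option autoImplicit false
set_option linter.style.haveILetI false
set_option linter.unusedSectionVars false
set_option linter.unusedVariables false

universe u

/-!
# S16437, part 3: the abstract equivalence between pure inseparability of the residue fields of
`E'` and the splitting of `k^s` in the residue field of `E`
-/

namespace Groth.Agent.Helper2.SplitC

open IsLocalRing Module

section abstract

variable {A A' E E' : Type u} [CommRing A] [IsLocalRing A] [CommRing A'] [IsLocalRing A']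
  [Algebra A A'] [IsLocalHom (algebraMap A A')] [Algebra.IsIntegral A A']
  [CommRing E] [IsLocalRing E] [Algebra A E] [IsLocalHom (algebraMap A E)] [CommRing E']
  [FiniteDimensional (ResidueField A) (ResidueField A')]
  (α : A' →+* E') (ε : E →+* E')
  (hcomm : α.comp (algebraMap A A') = ε.comp (algebraMap A E))
  (hε : ε.IsIntegral)

include hε in
theorem comap_eq_maximalIdeal (M : Ideal E') [M.IsMaximal] : M.comap ε = maximalIdeal E :=
  IsLocalRing.eq_maximalIdeal (Ideal.isMaximal_comap_of_isIntegral_of_isMaximal' ε hε M)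

include hε hcomm in
theorem comap_eq_maximalIdeal' (M : Ideal E') [M.IsMaximal] : M.comap α = maximalIdeal A' := by
  haveI : (M.comap α).IsPrime := Ideal.comap_isPrime α M
  have h1 : (M.comap α).comap (algebraMap A A') = maximalIdeal A := by
    rw [Ideal.comap_comap, hcomm, ← Ideal.comap_comap, comap_eq_maximalIdeal ε hε M]
    exact ((local_hom_TFAE (algebraMap A E)).out 0 4 rfl rfl).mp inferInstance
  have h2 : ((M.comap α).comap (algebraMap A A')).IsMaximal := by
    rw [h1]; infer_instance
  exact IsLocalRing.eq_maximalIdeal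
    (Ideal.isMaximal_of_isIntegral_of_isMaximal_comap (R := A) (M.comap α) h2)

theorem pow_mem_closed {F : Type*} [Field F] (q : ℕ) [ExpChar F q] (R : Subring F) (x y : F)
    (hx : ∃ n, x ^ q ^ n ∈ R) (hy : ∃ n, y ^ q ^ n ∈ R) :
    (∃ n, (x + y) ^ q ^ n ∈ R) ∧ (∃ n, (x * y) ^ q ^ n ∈ R) := by
  obtain ⟨n, hn⟩ := hx
  obtain ⟨m, hm⟩ := hy
  have h1 : x ^ q ^ (n + m) ∈ R := by
    rw [pow_add, pow_mul]; exact pow_mem hn _
  have h2 : y ^ q ^ (n + m) ∈ R := by
    rw [add_comm, pow_add, pow_mul]; exact pow_mem hm _
  refine ⟨⟨n + m, ?_⟩, ⟨n + m, ?_⟩⟩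
  · rw [add_pow_expChar_pow]; exact add_mem h1 h2
  · rw [mul_pow]; exact mul_mem h1 h2

include hε hcomm in
/-- counting ⇒ pure inseparability -/
theorem pi_of_card
    (hgen : ∀ y : E', y ∈ Subring.closure (Set.range α ∪ Set.range ε))
    (hcount : Nat.card (separableClosure (ResidueField A) (ResidueField A') →ₐ[ResidueField A]
      ResidueField E) =
        finrank (ResidueField A) (separableClosure (ResidueField A) (ResidueField A')))
    (M : Ideal E') [M.IsMaximal] (x : E' ⧸ M) :
    ∃ n : ℕ, x ^ (ringExpChar (E' ⧸ M)) ^ n ∈ ((Ideal.Quotient.mk M).comp ε).range := by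
  letI : Field (E' ⧸ M) := Ideal.Quotient.field M
  set q := ringExpChar (E' ⧸ M) with hq
  haveI : ExpChar (E' ⧸ M) q := ringExpChar.expChar (E' ⧸ M)
  set ιM : E →+* E' ⧸ M := (Ideal.Quotient.mk M).comp ε with hιM
  set κM : A' →+* E' ⧸ M := (Ideal.Quotient.mk M).comp α with hκM
  have hιker : ∀ e ∈ maximalIdeal E, ιM e = 0 := by
    intro e he
    rw [← comap_eq_maximalIdeal ε hε M] at he
    exact Ideal.Quotient.eq_zero_iff_mem.mpr he
  have hκker : ∀ a ∈ maximalIdeal A', κM a = 0 := by
    intro a ha
    rw [← comap_eq_maximalIdeal' α ε hcomm hε M] at ha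
    exact Ideal.Quotient.eq_zero_iff_mem.mpr ha
  let ιb : ResidueField E →+* E' ⧸ M := Ideal.Quotient.lift (maximalIdeal E) ιM hιker
  let κb : ResidueField A' →+* E' ⧸ M := Ideal.Quotient.lift (maximalIdeal A') κM hκker
  have hιb : ∀ e, ιb (residue E e) = ιM e := fun e => Ideal.Quotient.lift_mk _ _ _
  have hκb : ∀ a, κb (residue A' a) = κM a := fun a => Ideal.Quotient.lift_mk _ _ _
  let τ : separableClosure (ResidueField A) (ResidueField A') →+* E' ⧸ M :=
    κb.comp (algebraMap _ (ResidueField A'))
  have hτ : τ.comp (algebraMap (ResidueField A) _) =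
      ιb.comp (algebraMap (ResidueField A) (ResidueField E)) := by
    ext y
    obtain ⟨a, rfl⟩ := residue_surjective y
    show κb (algebraMap (ResidueField A) (ResidueField A') (residue A a)) =
      ιb (algebraMap (ResidueField A) (ResidueField E) (residue A a))
    rw [ResidueField.algebraMap_residue, ResidueField.algebraMap_residue, hιb, hκb]
    exact congrArg (Ideal.Quotient.mk M) (RingHom.congr_fun hcomm a)
  have hrange : ιb.range = ιM.range := by
    ext y
    constructor
    · rintro ⟨z, rfl⟩
      obtain ⟨e, rfl⟩ := residue_surjective z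
      exact ⟨e, (hιb e).symm⟩
    · rintro ⟨e, rfl⟩
      exact ⟨residue E e, hιb e⟩
  haveI : ExpChar (separableClosure (ResidueField A) (ResidueField A')) q :=
    τ.expChar τ.injective q
  haveI : IsPurelyInseparable (separableClosure (ResidueField A) (ResidueField A'))
      (ResidueField A') := separableClosure.isPurelyInseparable _ _
  have key : ∀ a : A', ∃ n, (κM a) ^ q ^ n ∈ ιM.range := by
    intro a
    obtain ⟨n, d, hd⟩ := IsPurelyInseparable.pow_mem
      (separableClosure (ResidueField A) (ResidueField A')) q (residue A' a)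
    refine ⟨n, ?_⟩
    rw [← hκb, ← map_pow, ← hd, ← hrange]
    exact mem_range_of_card_eq (ResidueField A) _ (ResidueField E) ιb τ hτ hcount d
  obtain ⟨y, rfl⟩ := Ideal.Quotient.mk_surjective x
  have hy := hgen y
  induction hy using Subring.closure_induction with
  | mem z hz =>
    rcases hz with ⟨a, rfl⟩ | ⟨e, rfl⟩
    · exact key a
    · exact ⟨0, by rw [pow_zero, pow_one]; exact ⟨e, rfl⟩⟩
  | zero => exact ⟨0, by rw [pow_zero, pow_one, map_zero]; exact zero_mem _⟩
  | one => exact ⟨0, by rw [pow_zero, pow_one, map_one]; exact one_mem _⟩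
  | add z w _ _ hz hw =>
    rw [map_add]
    exact (pow_mem_closed q ιM.range _ _ hz hw).1
  | neg z _ hz =>
    obtain ⟨n, hn⟩ := hz
    refine ⟨n, ?_⟩
    rw [map_neg, neg_pow]
    exact mul_mem (pow_mem (neg_mem (one_mem _)) _) hn
  | mul z w _ _ hz hw =>
    rw [map_mul]
    exact (pow_mem_closed q ιM.range _ _ hz hw).2

include hε in
/-- pure inseparability ⇒ counting -/
theorem card_of_pi
    (hlift : ∀ (Ω : Type u) [Field Ω] (f₁ : A' →+* Ω) (f₂ : E →+* Ω),
      f₁.comp (algebraMap A A') = f₂.comp (algebraMap A E) →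
      ∃ Θ : E' →+* Ω, Θ.comp α = f₁ ∧ Θ.comp ε = f₂)
    (hPI : ∀ (M : Ideal E') [M.IsMaximal] (x : E' ⧸ M),
      ∃ n : ℕ, x ^ (ringExpChar (E' ⧸ M)) ^ n ∈ ((Ideal.Quotient.mk M).comp ε).range) :
    Nat.card (separableClosure (ResidueField A) (ResidueField A') →ₐ[ResidueField A]
      ResidueField E) =
        finrank (ResidueField A) (separableClosure (ResidueField A) (ResidueField A')) := by
  let Ω := AlgebraicClosure (ResidueField E)
  apply card_eq_of_forall_mem_range (ResidueField A) _ (ResidueField E) Ω
  intro τ d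
  -- extend `τ` to `k'`
  letI : Algebra (separableClosure (ResidueField A) (ResidueField A')) Ω := τ.toRingHom.toAlgebra
  haveI : IsScalarTower (ResidueField A) (separableClosure (ResidueField A) (ResidueField A')) Ω :=
    IsScalarTower.of_algebraMap_eq (fun a => (τ.commutes a).symm)
  haveI : Algebra.IsAlgebraic (separableClosure (ResidueField A) (ResidueField A'))
      (ResidueField A') := Algebra.IsAlgebraic.tower_top (K := ResidueField A) _
  let τ'' : ResidueField A' →ₐ[separableClosure (ResidueField A) (ResidueField A')] Ω :=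
    IsAlgClosed.lift
  have hτ'' : ∀ c : separableClosure (ResidueField A) (ResidueField A'),
      τ'' (c : ResidueField A') = τ c := fun c => τ''.commutes c
  let f₁ : A' →+* Ω := τ''.toRingHom.comp (residue A')
  let f₂ : E →+* Ω := (algebraMap (ResidueField E) Ω).comp (residue E)
  have hf : f₁.comp (algebraMap A A') = f₂.comp (algebraMap A E) := by
    ext a
    show τ'' (residue A' (algebraMap A A' a)) =
      algebraMap (ResidueField E) Ω (residue E (algebraMap A E a))
    rw [← ResidueField.algebraMap_residue, ← ResidueField.algebraMap_residue]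
    have h1 : algebraMap (ResidueField A) (ResidueField A') (residue A a) =
        ((algebraMap (ResidueField A) (separableClosure (ResidueField A) (ResidueField A'))
          (residue A a) : separableClosure (ResidueField A) (ResidueField A')) :
            ResidueField A') := rfl
    rw [h1, hτ'', τ.commutes]
    exact IsScalarTower.algebraMap_apply (ResidueField A) (ResidueField E) Ω _
  obtain ⟨Θ, hΘ1, hΘ2⟩ := hlift Ω f₁ f₂ hf
  set M : Ideal E' := RingHom.ker Θ with hM
  haveI : M.IsPrime := RingHom.ker_isPrime Θ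
  have hcomap : M.comap ε = maximalIdeal E := by
    ext e
    rw [Ideal.mem_comap, hM, RingHom.mem_ker]
    have h2 : Θ (ε e) = f₂ e := RingHom.congr_fun hΘ2 e
    rw [h2]
    show algebraMap (ResidueField E) Ω (residue E e) = 0 ↔ _
    rw [map_eq_zero, residue_eq_zero_iff]
  haveI hMmax : M.IsMaximal := by
    apply Ideal.isMaximal_of_isIntegral_of_isMaximal_comap' ε hε M
    rw [hcomap]; infer_instance
  letI : Field (E' ⧸ M) := Ideal.Quotient.field M
  obtain ⟨a, ha⟩ := residue_surjective ((d : ResidueField A'))
  obtain ⟨n, e, he⟩ := hPI M (Ideal.Quotient.mk M (α a))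
  set q := ringExpChar (E' ⧸ M) with hq
  haveI : ExpChar (E' ⧸ M) q := ringExpChar.expChar (E' ⧸ M)
  have he' : (α a) ^ q ^ n - ε e ∈ M := by
    rw [← Ideal.Quotient.eq, map_pow]
    exact he.symm
  rw [hM, RingHom.mem_ker, map_sub, sub_eq_zero, map_pow] at he'
  have h3 : Θ (α a) = τ d := by
    have := RingHom.congr_fun hΘ1 a
    rw [RingHom.comp_apply] at this
    rw [this]
    show τ'' (residue A' a) = τ d
    rw [ha, hτ'']
  have h4 : Θ (ε e) = algebraMap (ResidueField E) Ω (residue E e) := RingHom.congr_fun hΘ2 e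
  rw [h3, h4] at he'
  -- `ExpChar` of the residue field of `E`
  let j : ResidueField E →+* E' ⧸ M :=
    Ideal.Quotient.lift (maximalIdeal E) ((Ideal.Quotient.mk M).comp ε) (by
      intro e' he''
      rw [← hcomap] at he''
      exact Ideal.Quotient.eq_zero_iff_mem.mpr he'')
  haveI : ExpChar (ResidueField E) q := j.expChar j.injective q
  have hsep : IsSeparable (ResidueField E) (τ d) := by
    have h5 : IsSeparable (ResidueField A) d := Algebra.IsSeparable.isSeparable _ d
    have h6 : IsSeparable (ResidueField A) (τ d) := h5.map τ τ.toRingHom.injective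
    exact IsSeparable.tower_top (L := ResidueField E) h6
  exact mem_range_of_isSeparable_of_pow_mem (ResidueField E) Ω q (τ d) hsep n ⟨_, he'.symm⟩

end abstract

end Groth.Agent.Helper2.SplitC
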