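import Mathlib
import Groth.Prelude
import Groth.Agent.Helper2.SplitC1
import Groth.Agent.Helper2.SplitC3
import Groth.Agent.Helper2.SemiL1
import Groth.Agent.Helper2.HExt1
import Groth.Agent.Helper2.HensQFin
import Groth.Agent.Helper2.QENag
import Groth.Agent.Helper2.AnUnr7

set_option autoImplicit false
set_option linter.style.haveILetI false
set_option linter.unusedSectionVars false
set_option linter.unusedVariables false

universe u

/-!
# S16437, part 4: assembly
-/

namespace Groth.Agent.Helper2.SplitC

open IsLocalRing Module TensorProduct Groth.Agent.Helper2.TotFrac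

section inst

variable (A E : Type u) [CommRing A] [IsDomain A] [IsLocalRing A] [CommRing E] [Algebra A E]
  [Module.Flat A E] [Algebra.QuasiFinite A E] [Algebra.Etale A E]

/-- the comparison isomorphism `A' ⊗ E ≅ E'` -/
noncomputable def psiR : (integralClosure A (FractionRing A)) ⊗[A] E →+*
    integralClosure E (FractionRing E) :=
  (psi0 A E).toRingHom.codRestrict (integralClosure E (FractionRing E)) (psi0_isIntegral A E)

theorem psiR_coe (b : (integralClosure A (FractionRing A)) ⊗[A] E) :
    ((psiR A E b : integralClosure E (FractionRing E)) : FractionRing E) = psi0 A E b := rfl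

theorem psiR_bijective : Function.Bijective (psiR A E) := by
  refine ⟨fun x y h => psi0_injective A E (congrArg Subtype.val h), ?_⟩
  rintro ⟨y, hy⟩
  obtain ⟨x, hx⟩ := psi0_surjective A E y hy
  exact ⟨x, Subtype.ext hx⟩

theorem psiR_one_tmul (e : E) :
    psiR A E ((1 : integralClosure A (FractionRing A)) ⊗ₜ[A] e) =
      algebraMap E (integralClosure E (FractionRing E)) e := by
  apply Subtype.ext
  rw [psiR_coe, psi0_tmul]
  simp

/-- the hypotheses of the abstract equivalence hold for `E'` -/
theorem hyps :
    ∃ (α : integralClosure A (FractionRing A) →+* integralClosure E (FractionRing E)),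
      α.comp (algebraMap A (integralClosure A (FractionRing A))) =
        (algebraMap E (integralClosure E (FractionRing E))).comp (algebraMap A E) ∧
      (∀ y : integralClosure E (FractionRing E), y ∈ Subring.closure (Set.range α ∪
        Set.range (algebraMap E (integralClosure E (FractionRing E))))) ∧
      ∀ (Ω : Type u) [Field Ω] (f₁ : integralClosure A (FractionRing A) →+* Ω) (f₂ : E →+* Ω),
        f₁.comp (algebraMap A (integralClosure A (FractionRing A))) = f₂.comp (algebraMap A E) →
        ∃ Θ : integralClosure E (FractionRing E) →+* Ω, Θ.comp α = f₁ ∧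
          Θ.comp (algebraMap E (integralClosure E (FractionRing E))) = f₂ := by
  let α : integralClosure A (FractionRing A) →+* integralClosure E (FractionRing E) :=
    (psiR A E).comp (Algebra.TensorProduct.includeLeft :
      integralClosure A (FractionRing A) →ₐ[A] (integralClosure A (FractionRing A)) ⊗[A] E).toRingHom
  have hα : ∀ a, α a = psiR A E (a ⊗ₜ[A] (1 : E)) := fun a => rfl
  refine ⟨α, ?_, ?_, ?_⟩
  · ext a
    show ((α (algebraMap A _ a) : integralClosure E (FractionRing E)) : FractionRing E) =
      ((algebraMap E (integralClosure E (FractionRing E)) (algebraMap A E a) :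
        integralClosure E (FractionRing E)) : FractionRing E)
    rw [hα, psiR_coe, psi0_tmul]
    have h1 : ((algebraMap A (integralClosure A (FractionRing A)) a :
        integralClosure A (FractionRing A)) : FractionRing A) = algebraMap A (FractionRing A) a :=
      rfl
    rw [h1, fracMap_algebraMap, map_one, mul_one]
    exact IsScalarTower.algebraMap_apply A E (FractionRing E) a
  · intro y
    obtain ⟨b, rfl⟩ := (psiR_bijective A E).2 y
    induction b using TensorProduct.induction_on with
    | zero => rw [map_zero]; exact zero_mem _
    | tmul a e =>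
      have h1 : a ⊗ₜ[A] e = (a ⊗ₜ[A] (1 : E)) * ((1 : integralClosure A (FractionRing A)) ⊗ₜ[A] e) := by
        rw [Algebra.TensorProduct.tmul_mul_tmul, mul_one, one_mul]
      rw [h1, map_mul, psiR_one_tmul]
      exact mul_mem (Subring.subset_closure (Or.inl ⟨a, rfl⟩))
        (Subring.subset_closure (Or.inr ⟨e, rfl⟩))
    | add x y hx hy => rw [map_add]; exact add_mem hx hy
  · intro Ω _ f₁ f₂ hf
    letI : Algebra A Ω := (f₂.comp (algebraMap A E)).toAlgebra
    let f₁ₐ : integralClosure A (FractionRing A) →ₐ[A] Ω :=
      { f₁ with commutes' := fun a => RingHom.congr_fun hf a }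
    let f₂ₐ : E →ₐ[A] Ω := { f₂ with commutes' := fun a => rfl }
    let Θ₀ := Algebra.TensorProduct.productMap f₁ₐ f₂ₐ
    let ψe := RingEquiv.ofBijective (psiR A E) (psiR_bijective A E)
    refine ⟨Θ₀.toRingHom.comp ψe.symm.toRingHom, ?_, ?_⟩
    · ext a
      show Θ₀ (ψe.symm (α a)) = f₁ a
      have h1 : ψe.symm (α a) = a ⊗ₜ[A] (1 : E) := by
        rw [RingEquiv.symm_apply_eq]; rfl
      rw [h1]
      show Algebra.TensorProduct.productMap f₁ₐ f₂ₐ (a ⊗ₜ[A] (1 : E)) = f₁ a
      rw [Algebra.TensorProduct.productMap_apply_tmul, map_one, mul_one]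
      rfl
    · ext e
      show Θ₀ (ψe.symm (algebraMap E (integralClosure E (FractionRing E)) e)) = f₂ e
      have h1 : ψe.symm (algebraMap E (integralClosure E (FractionRing E)) e) =
          (1 : integralClosure A (FractionRing A)) ⊗ₜ[A] e := by
        rw [RingEquiv.symm_apply_eq]
        exact (psiR_one_tmul A E e).symm
      rw [h1]
      show Algebra.TensorProduct.productMap f₁ₐ f₂ₐ
        ((1 : integralClosure A (FractionRing A)) ⊗ₜ[A] e) = f₂ e
      rw [Algebra.TensorProduct.productMap_apply_tmul, map_one, one_mul]
      rfl

end inst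

section main

variable (A S E : Type u) [CommRing A] [HenselianLocalRing A] [IsDomain A] [IsNoetherianRing A]
  [IsLocalRing (integralClosure A (FractionRing A))]
  [IsLocalHom (algebraMap A (integralClosure A (FractionRing A)))]
  [Module.Finite A (integralClosure A (FractionRing A))]
  [CommRing S] [IsLocalRing S] [Algebra A S] [IsLocalHom (algebraMap A S)]
  [Hensel.IsStrictHenselization A S]
  [CommRing E] [IsLocalRing E] [Algebra A E] [IsLocalHom (algebraMap A E)]
  (hE : EGA4loc.IsEssentiallyEtale A E) [Algebra E S] [IsScalarTower A E S]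

include hE in
theorem finite_of_essEtale : Module.Finite A E := by
  obtain ⟨C, _, _, q, _, hC, hq, ⟨e⟩⟩ := hE
  haveI := hC
  haveI : q.LiesOver (maximalIdeal A) := ⟨hq.symm⟩
  haveI : Module.Finite A (Localization.AtPrime q) :=
    (Groth.Agent.Helper2.HensQFin.qf_local_factor A C q).2
  exact Module.Finite.equiv e.symm.toLinearEquiv

include hE in
theorem main :
    (∀ Q ∈ minimalPrimes S, Q = Ideal.map (algebraMap E S) (Q.comap (algebraMap E S))) ↔
      Nat.card (separableClosure (ResidueField A)
          (ResidueField (integralClosure A (FractionRing A))) →ₐ[ResidueField A]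
          ResidueField E) =
        Module.finrank (ResidueField A)
          (separableClosure (ResidueField A)
            (ResidueField (integralClosure A (FractionRing A)))) := by
  haveI hfin : Module.Finite A E := finite_of_essEtale A E hE
  obtain ⟨h1, h2⟩ := Groth.Agent.Helper1.EssEt.props_of_isEssentiallyEtale hE
  haveI := h1
  haveI := h2
  haveI : Algebra.FinitePresentation A E :=
    Algebra.FinitePresentation.of_finiteType.mp inferInstance
  haveI : Algebra.Etale A E := ⟨inferInstance, inferInstance⟩
  haveI : Module.Flat A E := flat_of_isEssentiallyEtale A E hE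
  haveI : Algebra.QuasiFinite A E := inferInstance
  haveI : IsReduced E := Groth.Agent.Helper2.SemiL.isReduced_of_essEtale A E hE
  haveI : IsNoetherianRing E := Algebra.FiniteType.isNoetherianRing A E
  haveI : Algebra.IsIntegral A E := Algebra.IsIntegral.of_finite A E
  haveI : HenselianLocalRing E := Groth.Agent.Helper2.HensInt.henselianLocalRing_of_isIntegral A E
  haveI : IsLocalHom (algebraMap E S) := by
    refine ⟨fun e he => ?_⟩
    by_contra hnu
    have h3 := Groth.Agent.Helper1.EssEt.map_maximalIdeal_le (IsScalarTower.toAlgHom A E S) e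
      ((mem_maximalIdeal e).mpr hnu)
    exact ((mem_maximalIdeal _).mp h3) he
  haveI : Hensel.IsStrictHenselization E S :=
    Groth.Agent.Helper2.HExt.isStrictHenselization_of_essEtale A E S hE
  haveI : IsLocalHom (algebraMap E E) := ⟨fun a ha => ha⟩
  haveI : Hensel.IsHenselization E E := Groth.Agent.Helper2.HExt.isHenselization_self E
  rw [← Groth.Agent.Helper2.HensMinExt.s16431 E E S]
  obtain ⟨α, hcomm, hgen, hlift⟩ := hyps A E
  have hε : (algebraMap E (integralClosure E (FractionRing E))).IsIntegral :=
    algebraMap_isIntegral_iff.mpr inferInstance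
  constructor
  · intro hPI
    exact card_of_pi α (algebraMap E (integralClosure E (FractionRing E))) hε hlift
      (fun M _ x => hPI M x)
  · intro hcount M _ x
    exact pi_of_card α (algebraMap E (integralClosure E (FractionRing E))) hcomm hε hgen hcount M x

end main

end Groth.Agent.Helper2.SplitC
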