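import Mathlib

universe u

open CategoryTheory AlgebraicGeometry

namespace Groth.Agent.Helper2.SpreadFT

variable {X Y S : Scheme.{u}}

set_option backward.isDefEq.respectTransparency.types false in
/-- Spreading out uniqueness when the target is locally of finite type over a base:
no hypothesis on the source. -/
lemma spread_out_unique_of_locallyOfFiniteType (sY : Y ⟶ S) [LocallyOfFiniteType sY] {x : X}
    (f g : X ⟶ Y) (hfg : f ≫ sY = g ≫ sY) (e : f x = g x)
    (H : f.stalkMap x =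
      Y.presheaf.stalkSpecializes (Inseparable.of_eq e.symm).specializes ≫ g.stalkMap x) :
    ∃ (U : X.Opens), x ∈ U ∧ U.ι ≫ f = U.ι ≫ g := by
  -- affine open of `S`
  obtain ⟨_, ⟨S₀ : S.Opens, hS₀, rfl⟩, hxS₀, -⟩ :=
    S.isBasis_affineOpens.exists_subset_of_mem_open (Set.mem_univ (sY (f x))) isOpen_univ
  obtain ⟨_, ⟨V : Y.Opens, hV, rfl⟩, hxV, hVS₀⟩ :=
    Y.isBasis_affineOpens.exists_subset_of_mem_open (show f x ∈ (sY ⁻¹ᵁ S₀ : Set Y) from hxS₀)
      (sY ⁻¹ᵁ S₀).isOpen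
  have hVS₀' : V ≤ sY ⁻¹ᵁ S₀ := hVS₀
  have hxV' : g x ∈ V := e ▸ hxV
  let U₀ : X.Opens := f ⁻¹ᵁ V ⊓ g ⁻¹ᵁ V
  have hxU₀ : x ∈ U₀ := ⟨hxV, hxV'⟩
  have hft : (sY.appLE S₀ V hVS₀').hom.FiniteType :=
    LocallyOfFiniteType.finiteType_appLE sY hS₀ hV hVS₀'
  -- the two ring maps agree on germs
  have hgerm : f.appLE V U₀ inf_le_left ≫ X.presheaf.germ U₀ x hxU₀ =
      g.appLE V U₀ inf_le_right ≫ X.presheaf.germ U₀ x hxU₀ := by
    simp only [Scheme.Hom.appLE, Category.assoc, X.presheaf.germ_res', ← Scheme.Hom.germ_stalkMap, H]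
    simp only [TopCat.Presheaf.germ_stalkSpecializes_assoc, Scheme.Hom.germ_stalkMap]
  -- for each section, a neighbourhood where the two images agree
  have hloc : ∀ t : Γ(Y, V), ∃ (W : X.Opens) (_ : x ∈ W) (hWU : W ≤ U₀),
      X.presheaf.map (homOfLE hWU).op ((f.appLE V U₀ inf_le_left).hom t) =
        X.presheaf.map (homOfLE hWU).op ((g.appLE V U₀ inf_le_right).hom t) := by
    intro t
    have h1 : X.presheaf.germ U₀ x hxU₀ ((f.appLE V U₀ inf_le_left).hom t) =
        X.presheaf.germ U₀ x hxU₀ ((g.appLE V U₀ inf_le_right).hom t) :=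
      congr($(hgerm).hom t)
    obtain ⟨W, hxW, iU, iV, h2⟩ := TopCat.Presheaf.germ_eq _ _ _ _ _ _ h1
    exact ⟨W, hxW, iU.le, h2⟩
  choose W hxW hWU hW using hloc
  obtain ⟨s, hs⟩ := hft
  let W' : X.Opens := s.inf W ⊓ U₀
  have hxW' : x ∈ W' := by
    rw [← SetLike.mem_coe, TopologicalSpace.Opens.coe_inf, TopologicalSpace.Opens.coe_finset_inf]
    exact ⟨by simpa using fun x _ ↦ hxW x, hxU₀⟩
  have hW'U₀ : W' ≤ U₀ := inf_le_right
  refine ⟨W', hxW', ?_⟩
  have hWf : W' ≤ f ⁻¹ᵁ V := hW'U₀.trans inf_le_left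
  have hWg : W' ≤ g ⁻¹ᵁ V := hW'U₀.trans inf_le_right
  -- key equality of ring maps
  have key : f.appLE V W' hWf = g.appLE V W' hWg := by
    let algRB : Algebra Γ(S, S₀) Γ(Y, V) := (sY.appLE S₀ V hVS₀').hom.toAlgebra
    let algRA : Algebra Γ(S, S₀) Γ(X, W') :=
      ((f.appLE V W' hWf).hom.comp (algebraMap Γ(S, S₀) Γ(Y, V))).toAlgebra
    let ψf : Γ(Y, V) →ₐ[Γ(S, S₀)] Γ(X, W') :=
      { (f.appLE V W' hWf).hom with commutes' := fun r => rfl }
    have hcomm : sY.appLE S₀ V hVS₀' ≫ g.appLE V W' hWg = sY.appLE S₀ V hVS₀' ≫ f.appLE V W' hWf := by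
      rw [Scheme.Hom.appLE_comp_appLE, Scheme.Hom.appLE_comp_appLE]
      congr 1
      exact hfg.symm
    let ψg : Γ(Y, V) →ₐ[Γ(S, S₀)] Γ(X, W') :=
      { (g.appLE V W' hWg).hom with commutes' := fun r => congr($(hcomm).hom r) }
    have hψ : ψf = ψg := by
      apply AlgHom.ext_of_adjoin_eq_top hs
      intro t ht
      show (f.appLE V W' hWf).hom t = (g.appLE V W' hWg).hom t
      have hWt : W' ≤ W t := inf_le_left.trans (Finset.inf_le ht)
      have e1 : f.appLE V W' hWf = f.appLE V U₀ inf_le_left ≫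
          X.presheaf.map (homOfLE (hWU t)).op ≫ X.presheaf.map (homOfLE hWt).op := by
        rw [← Functor.map_comp, Scheme.Hom.appLE_map]
      have e2 : g.appLE V W' hWg = g.appLE V U₀ inf_le_right ≫
          X.presheaf.map (homOfLE (hWU t)).op ≫ X.presheaf.map (homOfLE hWt).op := by
        rw [← Functor.map_comp, Scheme.Hom.appLE_map]
      rw [e1, e2]
      simp only [CommRingCat.hom_comp, RingHom.comp_apply]
      rw [hW t]
    ext t
    exact congr($hψ t)
  rw [← Scheme.Hom.resLE_comp_ι _ hWf, ← Scheme.Hom.resLE_comp_ι _ hWg]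
  congr 1
  have : IsAffine V := hV
  suffices ∀ (U₁ V₁) (eU : W' = U₁) (eV : V = V₁),
      f.appLE V₁ U₁ (eU ▸ eV ▸ hWf) = g.appLE V₁ U₁ (eU ▸ eV ▸ hWg) by
    rw [← cancel_mono V.toScheme.isoSpec.hom]
    simp only [Scheme.isoSpec, asIso_hom, Scheme.toSpecΓ_naturality,
      Scheme.Hom.app_eq_appLE, Scheme.Hom.resLE_appLE]
    congr 2
    apply this <;> simp
  rintro U₁ V₁ rfl rfl
  exact key


set_option backward.isDefEq.respectTransparency.types false in
lemma spread_out_unique_of_locallyOfFiniteType' (sY : Y ⟶ S) [LocallyOfFiniteType sY] {x : X}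
    (f g : X ⟶ Y) (hfg : f ≫ sY = g ≫ sY)
    (e : X.fromSpecStalk x ≫ f = X.fromSpecStalk x ≫ g) :
    ∃ (U : X.Opens), x ∈ U ∧ U.ι ≫ f = U.ι ≫ g := by
  fapply spread_out_unique_of_locallyOfFiniteType sY f g hfg
  · simpa using congr($e (IsLocalRing.closedPoint _))
  · apply Spec.map_injective
    rw [← cancel_mono (Y.fromSpecStalk _)]
    simpa [Scheme.SpecMap_stalkSpecializes_fromSpecStalk]

open Scheme in
set_option backward.defeqAttrib.useBackward true in
set_option backward.isDefEq.respectTransparency false in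
lemma equiv_of_fromSpecStalkOfMem_eq [X.Over S] [Y.Over S] [IrreducibleSpace X]
    [LocallyOfFiniteType (Y ↘ S)]
    {x : X} (f g : X.PartialMap Y) [f.IsOver S] [g.IsOver S]
    (hxf : x ∈ f.domain) (hxg : x ∈ g.domain)
    (H : f.fromSpecStalkOfMem hxf = g.fromSpecStalkOfMem hxg) : f.equiv g := by
  have hdense : Dense ((f.domain ⊓ g.domain) : Set X) :=
    f.dense_domain.inter_of_isOpen_left g.dense_domain f.domain.2
  have := spread_out_unique_of_locallyOfFiniteType' (X := (f.domain ⊓ g.domain).toScheme) (Y ↘ S)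
    (X.homOfLE inf_le_left ≫ f.hom) (X.homOfLE inf_le_right ≫ g.hom) (x := ⟨x, hxf, hxg⟩) ?_ ?_
  · obtain ⟨U, hxU, e⟩ := this
    refine ⟨(f.domain ⊓ g.domain).ι ''ᵁ U, ((f.domain ⊓ g.domain).ι ''ᵁ U).2.dense
      ⟨_, ⟨_, hxU, rfl⟩⟩,
      ((Set.image_subset_range _ _).trans_eq (Subtype.range_val)).trans inf_le_left,
      ((Set.image_subset_range _ _).trans_eq (Subtype.range_val)).trans inf_le_right, ?_⟩
    rw [← cancel_epi (Scheme.Hom.isoImage _ _).hom]
    simp only [PartialMap.restrict_hom, ← Category.assoc] at e ⊢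
    convert! e using 2 <;> rw [← cancel_mono (Scheme.Opens.ι _)] <;> simp
  · simp
  · rw [← f.fromSpecStalkOfMem_restrict hdense inf_le_left ⟨hxf, hxg⟩,
      ← g.fromSpecStalkOfMem_restrict hdense inf_le_right ⟨hxf, hxg⟩] at H
    simpa only [PartialMap.fromSpecStalkOfMem, PartialMap.restrict_domain, Opens.fromSpecStalkOfMem,
      Spec.map_inv, PartialMap.restrict_hom, Category.assoc, IsIso.eq_inv_comp,
      IsIso.hom_inv_id_assoc] using H

open Scheme in
theorem eq_of_fromFunctionField_eq [X.Over S] [Y.Over S] [IrreducibleSpace X]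
    [LocallyOfFiniteType (Y ↘ S)] (f g : X ⤏ Y) [f.IsOver S] [g.IsOver S]
    (h : f.fromFunctionField = g.fromFunctionField) : f = g := by
  obtain ⟨f, hf, rfl⟩ := f.exists_partialMap_over S
  obtain ⟨g, hg, rfl⟩ := g.exists_partialMap_over S
  refine PartialMap.toRationalMap_eq_iff.mpr ?_
  exact equiv_of_fromSpecStalkOfMem_eq (S := S) _ _ _ _ h

end Groth.Agent.Helper2.SpreadFT
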