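import Mathlib
import Groth.Agent.Helper2.Grpd2
import Groth.Agent.Helper2.MaxOpen

set_option autoImplicit false
universe u
open CategoryTheory CategoryTheory.Limits AlgebraicGeometry
open Grpd

namespace Groth.Agent.Helper2.StabConj

open Groth.Agent.Helper2 Groth.Agent.Helper2.Grpd2

variable {S : Scheme.{u}} (G : Grpd.GroupoidScheme S) {T : Scheme.{u}}

lemma j_fst : G.j ≫ pullback.fst G.pU G.pU = G.t := pullback.lift_fst _ _ _
lemma j_snd : G.j ≫ pullback.snd G.pU G.pU = G.s := pullback.lift_snd _ _ _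
lemma diag_fst : G.diag ≫ pullback.fst G.pU G.pU = 𝟙 _ := pullback.lift_fst _ _ _
lemma diag_snd : G.diag ≫ pullback.snd G.pU G.pU = 𝟙 _ := pullback.lift_snd _ _ _

lemma stab_t (σ : T ⟶ pullback G.j G.diag) :
    (σ ≫ pullback.fst G.j G.diag) ≫ G.t = σ ≫ pullback.snd G.j G.diag := by
  calc (σ ≫ pullback.fst G.j G.diag) ≫ G.t
      = σ ≫ (pullback.fst G.j G.diag ≫ G.j) ≫ pullback.fst G.pU G.pU := by
        rw [Category.assoc, Category.assoc, j_fst]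
    _ = σ ≫ (pullback.snd G.j G.diag ≫ G.diag) ≫ pullback.fst G.pU G.pU := by
        rw [pullback.condition]
    _ = σ ≫ pullback.snd G.j G.diag := by
        rw [Category.assoc, diag_fst, Category.comp_id]

lemma stab_s (σ : T ⟶ pullback G.j G.diag) :
    (σ ≫ pullback.fst G.j G.diag) ≫ G.s = σ ≫ pullback.snd G.j G.diag := by
  calc (σ ≫ pullback.fst G.j G.diag) ≫ G.s
      = σ ≫ (pullback.fst G.j G.diag ≫ G.j) ≫ pullback.snd G.pU G.pU := by
        rw [Category.assoc, Category.assoc, j_snd]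
    _ = σ ≫ (pullback.snd G.j G.diag ≫ G.diag) ≫ pullback.snd G.pU G.pU := by
        rw [pullback.condition]
    _ = σ ≫ pullback.snd G.j G.diag := by
        rw [Category.assoc, diag_snd, Category.comp_id]

noncomputable def mkStab (ρ : T ⟶ G.R) (v : T ⟶ G.U) (hs : ρ ≫ G.s = v) (ht : ρ ≫ G.t = v) :
    T ⟶ pullback G.j G.diag :=
  pullback.lift ρ v (by
    apply pullback.hom_ext
    · rw [Category.assoc, Category.assoc, j_fst, diag_fst, Category.comp_id, ht]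
    · rw [Category.assoc, Category.assoc, j_snd, diag_snd, Category.comp_id, hs])

lemma mkStab_fst (ρ : T ⟶ G.R) (v : T ⟶ G.U) (hs : ρ ≫ G.s = v) (ht : ρ ≫ G.t = v) :
    mkStab G ρ v hs ht ≫ pullback.fst G.j G.diag = ρ := pullback.lift_fst _ _ _

lemma mkStab_snd (ρ : T ⟶ G.R) (v : T ⟶ G.U) (hs : ρ ≫ G.s = v) (ht : ρ ≫ G.t = v) :
    mkStab G ρ v hs ht ≫ pullback.snd G.j G.diag = v := pullback.lift_snd _ _ _

lemma stab_ext (σ σ' : T ⟶ pullback G.j G.diag)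
    (h : σ ≫ pullback.fst G.j G.diag = σ' ≫ pullback.fst G.j G.diag) : σ = σ' := by
  apply pullback.hom_ext h
  have h1 := stab_s G σ
  have h2 := stab_s G σ'
  rw [h] at h1
  exact h1.symm.trans h2

/-- `(r γ) r⁻¹` -/
noncomputable def conj (r γ : T ⟶ G.R) (h1 : γ ≫ G.s = r ≫ G.s) (h2 : γ ≫ G.t = r ≫ G.s) :
    T ⟶ G.R :=
  mul G (mul G r γ h2.symm) (r ≫ G.i) (by rw [mul_s, h1, i_t'])

lemma conj_s (r γ : T ⟶ G.R) (h1 : γ ≫ G.s = r ≫ G.s) (h2 : γ ≫ G.t = r ≫ G.s) :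
    conj G r γ h1 h2 ≫ G.s = r ≫ G.t := by rw [conj, mul_s, i_s']

lemma conj_t (r γ : T ⟶ G.R) (h1 : γ ≫ G.s = r ≫ G.s) (h2 : γ ≫ G.t = r ≫ G.s) :
    conj G r γ h1 h2 ≫ G.t = r ≫ G.t := by rw [conj, mul_t, mul_t]

/-- `r⁻¹ (γ' r)` -/
noncomputable def conj' (r γ' : T ⟶ G.R) (h1 : γ' ≫ G.s = r ≫ G.t) (h2 : γ' ≫ G.t = r ≫ G.t) :
    T ⟶ G.R :=
  mul G (r ≫ G.i) (mul G γ' r h1) (by rw [i_s', mul_t, h2])

lemma conj'_s (r γ' : T ⟶ G.R) (h1 : γ' ≫ G.s = r ≫ G.t) (h2 : γ' ≫ G.t = r ≫ G.t) :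
    conj' G r γ' h1 h2 ≫ G.s = r ≫ G.s := by rw [conj', mul_s, mul_s]

lemma conj'_t (r γ' : T ⟶ G.R) (h1 : γ' ≫ G.s = r ≫ G.t) (h2 : γ' ≫ G.t = r ≫ G.t) :
    conj' G r γ' h1 h2 ≫ G.t = r ≫ G.s := by rw [conj', mul_t, i_t']

lemma conj'_conj (r γ : T ⟶ G.R) (h1 : γ ≫ G.s = r ≫ G.s) (h2 : γ ≫ G.t = r ≫ G.s) :
    conj' G r (conj G r γ h1 h2) (conj_s G r γ h1 h2) (conj_t G r γ h1 h2) = γ := by
  unfold conj' conj
  have hA : mul G r γ h2.symm ≫ G.s = (r ≫ G.i) ≫ G.t := by rw [mul_s, h1, i_t']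
  have hB : mul G (mul G r γ h2.symm) (r ≫ G.i) hA ≫ G.s = r ≫ G.t := by rw [mul_s, i_s']
  have e1 : mul G (mul G (mul G r γ h2.symm) (r ≫ G.i) hA) r hB = mul G r γ h2.symm :=
    mul_i_mul' G _ _ hA hB
  have hC : (r ≫ G.i) ≫ G.s = mul G r γ h2.symm ≫ G.t := by rw [i_s', mul_t]
  rw [mul_congr G _ hC rfl e1]
  exact i_mul_mul G r γ h2.symm hC

lemma conj_conj' (r γ' : T ⟶ G.R) (h1 : γ' ≫ G.s = r ≫ G.t) (h2 : γ' ≫ G.t = r ≫ G.t) :
    conj G r (conj' G r γ' h1 h2) (conj'_s G r γ' h1 h2) (conj'_t G r γ' h1 h2) = γ' := by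
  unfold conj conj'
  have hA : (r ≫ G.i) ≫ G.s = mul G γ' r h1 ≫ G.t := by rw [i_s', mul_t, h2]
  have hB : r ≫ G.s = mul G (r ≫ G.i) (mul G γ' r h1) hA ≫ G.t := by rw [mul_t, i_t']
  have e1 : mul G r (mul G (r ≫ G.i) (mul G γ' r h1) hA) hB = mul G γ' r h1 :=
    mul_i_mul G _ _ hA hB
  have hC : mul G γ' r h1 ≫ G.s = (r ≫ G.i) ≫ G.t := by rw [mul_s, i_t']
  rw [mul_congr G _ hC e1 rfl]
  exact mul_mul_i G γ' r h1 hC

lemma comp_conj {T' : Scheme.{u}} (f : T' ⟶ T) (r γ : T ⟶ G.R) (h1 : γ ≫ G.s = r ≫ G.s)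
    (h2 : γ ≫ G.t = r ≫ G.s) :
    f ≫ conj G r γ h1 h2 = conj G (f ≫ r) (f ≫ γ) (by simp only [Category.assoc, h1])
      (by simp only [Category.assoc, h2]) := by
  unfold conj
  rw [comp_mul G f _ _ _ (by
    rw [Category.assoc, mul_s, Category.assoc, Category.assoc, G.i_t, h1])]
  refine mul_congr G _ _ ?_ (Category.assoc _ _ _).symm
  exact comp_mul G f _ _ _ _

lemma comp_conj' {T' : Scheme.{u}} (f : T' ⟶ T) (r γ' : T ⟶ G.R) (h1 : γ' ≫ G.s = r ≫ G.t)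
    (h2 : γ' ≫ G.t = r ≫ G.t) :
    f ≫ conj' G r γ' h1 h2 = conj' G (f ≫ r) (f ≫ γ') (by simp only [Category.assoc, h1])
      (by simp only [Category.assoc, h2]) := by
  unfold conj'
  rw [comp_mul G f _ _ _ (by
    rw [Category.assoc, Category.assoc, G.i_s, Category.assoc, mul_t, h2])]
  refine mul_congr G _ _ (Category.assoc _ _ _).symm ?_
  exact comp_mul G f _ _ _ _


/-- the structure map of the stabilizer, as a map from the pullback -/
noncomputable abbrev q : pullback G.j G.diag ⟶ G.U := pullback.snd G.j G.diag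

noncomputable abbrev A : Scheme.{u} := pullback (q G) G.s
noncomputable abbrev B : Scheme.{u} := pullback (q G) G.t

noncomputable abbrev rA : A G ⟶ G.R := pullback.snd (q G) G.s
noncomputable abbrev γA : A G ⟶ G.R := pullback.fst (q G) G.s ≫ pullback.fst G.j G.diag
noncomputable abbrev rB : B G ⟶ G.R := pullback.snd (q G) G.t
noncomputable abbrev γB : B G ⟶ G.R := pullback.fst (q G) G.t ≫ pullback.fst G.j G.diag

lemma γA_s : γA G ≫ G.s = rA G ≫ G.s := by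
  rw [γA, stab_s, pullback.condition]

lemma γA_t : γA G ≫ G.t = rA G ≫ G.s := by
  rw [γA, stab_t, pullback.condition]

lemma γB_s : γB G ≫ G.s = rB G ≫ G.t := by
  rw [γB, stab_s, pullback.condition]

lemma γB_t : γB G ≫ G.t = rB G ≫ G.t := by
  rw [γB, stab_t, pullback.condition]

noncomputable def φ : A G ⟶ B G :=
  pullback.lift (mkStab G (conj G (rA G) (γA G) (γA_s G) (γA_t G)) (rA G ≫ G.t)
    (conj_s G _ _ _ _) (conj_t G _ _ _ _)) (rA G) (mkStab_snd G _ _ _ _)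

noncomputable def ψ : B G ⟶ A G :=
  pullback.lift (mkStab G (conj' G (rB G) (γB G) (γB_s G) (γB_t G)) (rB G ≫ G.s)
    (conj'_s G _ _ _ _) (conj'_t G _ _ _ _)) (rB G) (mkStab_snd G _ _ _ _)

lemma φ_r : φ G ≫ rB G = rA G := pullback.lift_snd _ _ _

lemma φ_γ : φ G ≫ γB G = conj G (rA G) (γA G) (γA_s G) (γA_t G) := by
  rw [γB, ← Category.assoc, φ, pullback.lift_fst, mkStab_fst]

lemma ψ_r : ψ G ≫ rA G = rB G := pullback.lift_snd _ _ _

lemma ψ_γ : ψ G ≫ γA G = conj' G (rB G) (γB G) (γB_s G) (γB_t G) := by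
  rw [γA, ← Category.assoc, ψ, pullback.lift_fst, mkStab_fst]

lemma conj_congr {r r' γ γ' : T ⟶ G.R} (h1 : γ ≫ G.s = r ≫ G.s) (h2 : γ ≫ G.t = r ≫ G.s)
    (h1' : γ' ≫ G.s = r' ≫ G.s) (h2' : γ' ≫ G.t = r' ≫ G.s) (hr : r = r') (hγ : γ = γ') :
    conj G r γ h1 h2 = conj G r' γ' h1' h2' := by
  subst hr hγ; rfl

lemma conj'_congr {r r' γ γ' : T ⟶ G.R} (h1 : γ ≫ G.s = r ≫ G.t) (h2 : γ ≫ G.t = r ≫ G.t)
    (h1' : γ' ≫ G.s = r' ≫ G.t) (h2' : γ' ≫ G.t = r' ≫ G.t) (hr : r = r') (hγ : γ = γ') :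
    conj' G r γ h1 h2 = conj' G r' γ' h1' h2' := by
  subst hr hγ; rfl

lemma φ_ψ : φ G ≫ ψ G = 𝟙 _ := by
  apply pullback.hom_ext
  · apply stab_ext
    rw [Category.id_comp, Category.assoc, Category.assoc]
    change φ G ≫ ψ G ≫ γA G = γA G
    rw [ψ_γ, comp_conj']
    rw [conj'_congr G _ _ (conj_s G (rA G) (γA G) (γA_s G) (γA_t G))
      (conj_t G (rA G) (γA G) (γA_s G) (γA_t G)) (φ_r G) (φ_γ G)]
    exact conj'_conj G _ _ _ _
  · rw [Category.id_comp, Category.assoc]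
    change φ G ≫ ψ G ≫ rA G = rA G
    rw [ψ_r, φ_r]

lemma ψ_φ : ψ G ≫ φ G = 𝟙 _ := by
  apply pullback.hom_ext
  · apply stab_ext
    rw [Category.id_comp, Category.assoc, Category.assoc]
    change ψ G ≫ φ G ≫ γB G = γB G
    rw [φ_γ, comp_conj]
    rw [conj_congr G _ _ (conj'_s G (rB G) (γB G) (γB_s G) (γB_t G))
      (conj'_t G (rB G) (γB G) (γB_s G) (γB_t G)) (ψ_r G) (ψ_γ G)]
    exact conj_conj' G _ _ _ _
  · rw [Category.id_comp, Category.assoc]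
    change ψ G ≫ φ G ≫ rB G = rB G
    rw [φ_r, ψ_r]

/-- the base change of the stabilizer along `s` is also its base change along `t` -/
lemma sq2 : IsPullback (φ G ≫ pullback.fst (q G) G.t) (rA G) (q G) G.t := by
  refine IsPullback.of_iso_pullback ⟨?_⟩ ⟨φ G, ψ G, φ_ψ G, ψ_φ G⟩ rfl (φ_r G)
  rw [Category.assoc, pullback.condition, ← Category.assoc]
  congr 1
  exact φ_r G

end Groth.Agent.Helper2.StabConj

namespace Groth.Agent.Helper2.StabConj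

open Groth.Agent.Helper2 Groth.Agent.Helper2.MaxOpen

variable {S : Scheme.{u}} (G : Grpd.GroupoidScheme S)

theorem main {P Q : MorphismProperty Scheme.{u}} [P.IsLocalAtTarget (Scheme.precoverage Q)]
    (hQ : Nice Q)
    (hs : Presieve.singleton G.s ∈ Scheme.precoverage Q G.U)
    (ht : Presieve.singleton G.t ∈ Scheme.precoverage Q G.U) (W : G.U.Opens)
    (hW : P (G.stabilizerToU ∣_ W))
    (hmax : ∀ W' : G.U.Opens, P (G.stabilizerToU ∣_ W') → W' ≤ W) :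
    G.s ⁻¹ᵁ W = G.t ⁻¹ᵁ W := by
  obtain ⟨hQs, hss⟩ := of_singleton_mem _ hs
  obtain ⟨hQt, hst⟩ := of_singleton_mem _ ht
  have sq1 : IsPullback (pullback.fst (q G) G.s) (rA G) (q G) G.s :=
    IsPullback.of_hasPullback _ _
  have sq2 := sq2 G
  apply le_antisymm
  · exact claimA hQ sq2 hQt W hmax _ (claimB hQ sq1 hQs hss W hW)
  · exact claimA hQ sq1 hQs W hmax _ (claimB hQ sq2 hQt hst W hW)

end Groth.Agent.Helper2.StabConj
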