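import Mathlib
import Groth.Prelude
import Groth.Agent.Helper2.ComplCofinal

set_option autoImplicit false

namespace Groth.Agent.Helper2.StalkRes

open IsLocalRing AdicCompletion

universe u

variable (A : Type u) [CommRing A] (J : Ideal A) (𝔭 : Ideal A) [𝔭.IsPrime]

/-- the image of `A_𝔭` in `A{S⁻¹}` lies in the stalk subring. -/
theorem algebraMap_mem_stalkSubring (b : Localization.AtPrime 𝔭) :
    algebraMap (Localization.AtPrime 𝔭) (FSch.cAtPrime A J 𝔭) b ∈ FSch.stalkSubring A J 𝔭 := by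
  obtain ⟨⟨a, s⟩, rfl⟩ := IsLocalization.mk'_surjective 𝔭.primeCompl b
  have hs : (s : A) ∉ 𝔭 := s.2
  set g := FSch.awayToAtPrime A 𝔭 (s : A) hs with hg
  -- an element of `A_s` mapping to `a / s`
  let x : Localization.Away (s : A) :=
    algebraMap A _ a * IsLocalization.Away.invSelf (s : A)
  have hgx : g x = IsLocalization.mk' (Localization.AtPrime 𝔭) a s := by
    have hgalg : ∀ r : A, g (algebraMap A (Localization.Away (s : A)) r) =
        algebraMap A (Localization.AtPrime 𝔭) r := by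
      intro r
      simp [hg, FSch.awayToAtPrime]
    have h1 : g x * algebraMap A (Localization.AtPrime 𝔭) (s : A) =
        algebraMap A (Localization.AtPrime 𝔭) a := by
      rw [← hgalg (s : A), ← _root_.map_mul]
      have : x * algebraMap A (Localization.Away (s : A)) (s : A) = algebraMap A _ a := by
        change algebraMap A _ a * IsLocalization.Away.invSelf (s : A) * _ = _
        rw [mul_assoc, mul_comm (IsLocalization.Away.invSelf (s : A)),
          IsLocalization.Away.mul_invSelf, mul_one]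
      rw [this, hgalg]
    rw [IsLocalization.eq_mk'_iff_mul_eq]
    exact h1
  have hmem : algebraMap (Localization.AtPrime 𝔭) (FSch.cAtPrime A J 𝔭)
      (IsLocalization.mk' (Localization.AtPrime 𝔭) a s) ∈
      (FSch.cAwayToAtPrime A J 𝔭 (s : A) hs).range := by
    refine ⟨algebraMap (Localization.Away (s : A)) (FSch.cAway A J (s : A)) x, ?_⟩
    rw [FSch.cAwayToAtPrime, ComplCofinal.complMap_algebraMap, ← hg, hgx]
  exact (le_iSup (fun f : {f : A // f ∉ 𝔭} => (FSch.cAwayToAtPrime A J 𝔭 f.1 f.2).range)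
    ⟨(s : A), hs⟩) hmem

/-- every element of `A{S⁻¹}` is congruent to an element of `A_𝔭` modulo the maximal ideal. -/
theorem exists_sub_mem_maximalIdeal (hJ : J ≤ 𝔭) [IsLocalRing (FSch.cAtPrime A J 𝔭)]
    (c : FSch.cAtPrime A J 𝔭) :
    ∃ b : Localization.AtPrime 𝔭,
      c - algebraMap (Localization.AtPrime 𝔭) (FSch.cAtPrime A J 𝔭) b ∈
        maximalIdeal (FSch.cAtPrime A J 𝔭) := by
  obtain ⟨b, hb⟩ := Ideal.Quotient.mk_surjective
    (AdicCompletion.evalₐ (J.map (algebraMap A (Localization.AtPrime 𝔭))) 1 c)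
  refine ⟨b, ?_⟩
  rw [mem_maximalIdeal, mem_nonunits_iff]
  intro hu
  have h0 : AdicCompletion.evalₐ (J.map (algebraMap A (Localization.AtPrime 𝔭))) 1
      (c - algebraMap (Localization.AtPrime 𝔭) (FSch.cAtPrime A J 𝔭) b) = 0 := by
    rw [map_sub, AlgHom.commutes, ← hb]
    exact sub_self _
  have h1 := hu.map (AdicCompletion.evalₐ (J.map (algebraMap A (Localization.AtPrime 𝔭))) 1)
  rw [h0, isUnit_zero_iff] at h1
  have h2 : (1 : Localization.AtPrime 𝔭) ∈
      (J.map (algebraMap A (Localization.AtPrime 𝔭))) ^ 1 := by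
    rw [← Ideal.Quotient.eq_zero_iff_mem, _root_.map_one]
    exact h1.symm
  rw [pow_one] at h2
  have h3 : J.map (algebraMap A (Localization.AtPrime 𝔭)) ≤
      maximalIdeal (Localization.AtPrime 𝔭) := by
    rw [← Localization.AtPrime.map_eq_maximalIdeal]
    exact Ideal.map_mono hJ
  exact (maximalIdeal.isMaximal _).ne_top ((Ideal.eq_top_iff_one _).mpr (h3 h2))

theorem s3872 (hJ : J ≤ 𝔭) [IsLocalRing (FSch.stalkSubring A J 𝔭)] [IsLocalRing (FSch.cAtPrime A J 𝔭)]
    [IsLocalHom (FSch.stalkSubring A J 𝔭).subtype]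
    [IsLocalHom (algebraMap (Localization.AtPrime 𝔭) (FSch.cAtPrime A J 𝔭))] :
    Function.Bijective (IsLocalRing.ResidueField.map (FSch.stalkSubring A J 𝔭).subtype) ∧
      Function.Bijective
        (IsLocalRing.ResidueField.map (algebraMap (Localization.AtPrime 𝔭) (FSch.cAtPrime A J 𝔭))) := by
  refine ⟨⟨RingHom.injective _, ?_⟩, ⟨RingHom.injective _, ?_⟩⟩
  · intro y
    obtain ⟨c, rfl⟩ := IsLocalRing.residue_surjective y
    obtain ⟨b, hb⟩ := exists_sub_mem_maximalIdeal A J 𝔭 hJ c
    refine ⟨IsLocalRing.residue _ ⟨_, algebraMap_mem_stalkSubring A J 𝔭 b⟩, ?_⟩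
    rw [IsLocalRing.ResidueField.map_residue]
    change IsLocalRing.residue _ (algebraMap (Localization.AtPrime 𝔭) (FSch.cAtPrime A J 𝔭) b) = _
    rw [eq_comm, ← sub_eq_zero, ← map_sub, IsLocalRing.residue_eq_zero_iff]
    exact hb
  · intro y
    obtain ⟨c, rfl⟩ := IsLocalRing.residue_surjective y
    obtain ⟨b, hb⟩ := exists_sub_mem_maximalIdeal A J 𝔭 hJ c
    refine ⟨IsLocalRing.residue _ b, ?_⟩
    rw [IsLocalRing.ResidueField.map_residue, eq_comm, ← sub_eq_zero, ← map_sub,
      IsLocalRing.residue_eq_zero_iff]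
    exact hb

end Groth.Agent.Helper2.StalkRes
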