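import Mathlib
import Groth.Prelude
import Groth.Agent.Helper2.ComplCofinal
import Groth.Agent.Helper2.StalkRes

set_option autoImplicit false

namespace Groth.Agent.Helper2.StalkLocal

open IsLocalRing AdicCompletion

universe u

section Unit

variable {B : Type u} [CommRing B] (K : Ideal B)

/-- unit criterion in an adic completion (no finiteness assumption on the ideal). -/
theorem isUnit_of_isUnit_evalₐ_one (x : AdicCompletion K B)
    (hx : IsUnit (AdicCompletion.evalₐ K 1 x)) : IsUnit x := by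
  obtain ⟨a, rfl⟩ := AdicCompletion.mk_surjective K B x
  have hcau : ∀ {m n : ℕ}, m ≤ n → a.val m - a.val n ∈ K ^ m := fun h =>
    ComplCofinal.cauchy_sub_mem K a h
  -- each `a n` is a unit modulo `K ^ n`
  have hunit : ∀ n : ℕ, IsUnit (Ideal.Quotient.mk (K ^ n) (a.val n)) := by
    intro n
    rcases Nat.eq_zero_or_pos n with rfl | hn
    · haveI : Subsingleton (B ⧸ K ^ 0) := by
        rw [pow_zero, Ideal.one_eq_top]
        exact Ideal.Quotient.subsingleton_iff.mpr rfl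
      exact isUnit_of_subsingleton _
    · rw [Ideal.Quotient.isUnit_mk_pow_iff_isUnit_mk K hn.ne']
      rw [AdicCompletion.evalₐ_mk, Ideal.Quotient.isUnit_mk_pow_iff_isUnit_mk K one_ne_zero] at hx
      have h1 : Ideal.Quotient.mk K (a.val n) = Ideal.Quotient.mk K (a.val 1) := by
        rw [eq_comm, Ideal.Quotient.eq]
        have := hcau (Nat.succ_le_of_lt hn)
        rwa [pow_one] at this
      rw [h1]
      exact hx
  -- choose inverses
  have hinv : ∀ n : ℕ, ∃ b : B, a.val n * b - 1 ∈ K ^ n := by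
    intro n
    obtain ⟨u, hu⟩ := hunit n
    obtain ⟨b, hb⟩ := Ideal.Quotient.mk_surjective ((u⁻¹ : (B ⧸ K ^ n)ˣ) : B ⧸ K ^ n)
    refine ⟨b, ?_⟩
    rw [← Ideal.Quotient.eq, _root_.map_mul, hb, ← hu, _root_.map_one, Units.mul_inv]
  choose b hb using hinv
  have hbc : ∀ n, b n ≡ b (n + 1) [SMOD (K ^ n • ⊤ : Submodule B B)] := by
    intro n
    rw [SModEq.sub_mem, smul_eq_mul, Ideal.mul_top]
    have h1 := hb n
    have h2 : a.val n * b (n + 1) - 1 ∈ K ^ n := by
      have h3 := Ideal.pow_le_pow_right (Nat.le_succ n) (hb (n + 1))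
      have h4 := (K ^ n).mul_mem_right (b (n + 1)) (hcau (Nat.le_succ n))
      have := (K ^ n).add_mem h3 h4
      convert this using 1
      ring
    have h5 : b n - b (n + 1) =
        b (n + 1) * (a.val n * b n - 1) - b n * (a.val n * b (n + 1) - 1) := by ring
    rw [h5]
    exact (K ^ n).sub_mem ((K ^ n).mul_mem_left _ h1) ((K ^ n).mul_mem_left _ h2)
  refine IsUnit.of_mul_eq_one (AdicCompletion.mk K B (AdicCauchySequence.mk K B b hbc)) ?_
  apply AdicCompletion.ext_evalₐ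
  intro n
  rw [_root_.map_mul, AdicCompletion.evalₐ_mk, AdicCompletion.evalₐ_mk, _root_.map_one,
    ← _root_.map_mul, ← _root_.map_one (Ideal.Quotient.mk (K ^ n)), Ideal.Quotient.eq]
  exact hb n

end Unit

section Compl

/-- `complMap` applied to a representing Cauchy sequence, levelwise. -/
theorem evalₐ_complMap_mk {S T : Type u} [CommRing S] [CommRing T] (I : Ideal S) (K : Ideal T)
    (g : S →+* T) (h : I.map g ≤ K) (n : ℕ) (a : AdicCauchySequence I S) :
    evalₐ K n (FSch.complMap I K g h (AdicCompletion.mk I S a)) =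
      Ideal.Quotient.mk (K ^ n) (g (a.val n)) := by
  rw [ComplLocFlat.evalₐ_complMap, AdicCompletion.evalₐ_mk, Ideal.quotientMap_mk]

/-- `complMap` is compatible with composition. -/
theorem complMap_comp {S T U : Type u} [CommRing S] [CommRing T] [CommRing U]
    (I : Ideal S) (K : Ideal T) (L : Ideal U) (g₁ : S →+* T) (g₂ : T →+* U) (g₃ : S →+* U)
    (h₁ : I.map g₁ ≤ K) (h₂ : K.map g₂ ≤ L) (h₃ : I.map g₃ ≤ L) (hg : g₂.comp g₁ = g₃)
    (x : AdicCompletion I S) :
    FSch.complMap K L g₂ h₂ (FSch.complMap I K g₁ h₁ x) = FSch.complMap I L g₃ h₃ x := by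
  obtain ⟨a, rfl⟩ := AdicCompletion.mk_surjective I S x
  apply AdicCompletion.ext_evalₐ
  intro n
  rw [ComplLocFlat.evalₐ_complMap, evalₐ_complMap_mk, evalₐ_complMap_mk, Ideal.quotientMap_mk,
    ← hg]
  rfl

/-- unit modulo `K` iff the ideal generated together with `K` is the unit ideal. -/
theorem isUnit_mk_iff {B : Type u} [CommRing B] (K : Ideal B) (β : B) :
    IsUnit (Ideal.Quotient.mk K β) ↔ Ideal.span {β} ⊔ K = ⊤ := by
  constructor
  · intro hu
    obtain ⟨γ', hγ'⟩ := hu.exists_right_inv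
    obtain ⟨γ, rfl⟩ := Ideal.Quotient.mk_surjective γ'
    rw [← _root_.map_mul, ← _root_.map_one (Ideal.Quotient.mk K), Ideal.Quotient.eq] at hγ'
    rw [Ideal.eq_top_iff_one, Ideal.mem_span_singleton_sup]
    exact ⟨γ, -(β * γ - 1), K.neg_mem hγ', by ring⟩
  · intro h
    have h1 : (1 : B) ∈ Ideal.span {β} ⊔ K := h ▸ Submodule.mem_top
    rw [Ideal.mem_span_singleton_sup] at h1
    obtain ⟨r, κ, hκ, hr⟩ := h1
    refine IsUnit.of_mul_eq_one (Ideal.Quotient.mk K r) ?_
    rw [← _root_.map_mul, ← _root_.map_one (Ideal.Quotient.mk K), Ideal.Quotient.eq]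
    have : β * r - 1 = -κ := by rw [← hr]; ring
    rw [this]
    exact K.neg_mem hκ

end Compl

section Stalk

variable (A : Type u) [CommRing A] (J : Ideal A) (𝔭 : Ideal A) [𝔭.IsPrime]

/-- the transition map `A_f → A_h` for `f ∣ h`. -/
noncomputable def τ (f h k : A) (hk : f * k = h) : Localization.Away f →+* Localization.Away h :=
  IsLocalization.Away.lift f (g := algebraMap A (Localization.Away h)) (by
    have : IsUnit (algebraMap A (Localization.Away h) f * algebraMap A (Localization.Away h) k) := by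
      rw [← _root_.map_mul, hk]
      exact IsLocalization.Away.algebraMap_isUnit h
    exact isUnit_of_mul_isUnit_left this)

theorem τ_comp (f h k : A) (hk : f * k = h) :
    (τ A f h k hk).comp (algebraMap A (Localization.Away f)) = algebraMap A (Localization.Away h) :=
  IsLocalization.Away.lift_comp _ _

theorem map_τ_le (f h k : A) (hk : f * k = h) :
    (J.map (algebraMap A (Localization.Away f))).map (τ A f h k hk) ≤
      J.map (algebraMap A (Localization.Away h)) := by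
  rw [Ideal.map_map, τ_comp]

theorem awayToAtPrime_comp (f : A) (hf : f ∉ 𝔭) :
    (FSch.awayToAtPrime A 𝔭 f hf).comp (algebraMap A (Localization.Away f)) =
      algebraMap A (Localization.AtPrime 𝔭) :=
  IsLocalization.Away.lift_comp _ _

theorem awayToAtPrime_comp_τ (f h k : A) (hk : f * k = h) (hf : f ∉ 𝔭) (hh : h ∉ 𝔭) :
    (FSch.awayToAtPrime A 𝔭 h hh).comp (τ A f h k hk) = FSch.awayToAtPrime A 𝔭 f hf := by
  apply IsLocalization.ringHom_ext (Submonoid.powers f)
  rw [RingHom.comp_assoc, τ_comp, awayToAtPrime_comp, awayToAtPrime_comp]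

/-- the transition map on completions. -/
noncomputable def ρ (f h k : A) (hk : f * k = h) : FSch.cAway A J f →+* FSch.cAway A J h :=
  FSch.complMap _ _ (τ A f h k hk) (map_τ_le A J f h k hk)

theorem cAwayToAtPrime_ρ (f h k : A) (hk : f * k = h) (hf : f ∉ 𝔭) (hh : h ∉ 𝔭)
    (y : FSch.cAway A J f) :
    FSch.cAwayToAtPrime A J 𝔭 h hh (ρ A J f h k hk y) = FSch.cAwayToAtPrime A J 𝔭 f hf y :=
  complMap_comp _ _ _ _ _ _ _ _ _ (awayToAtPrime_comp_τ A 𝔭 f h k hk hf hh) y

theorem range_le_range (f h k : A) (hk : f * k = h) (hf : f ∉ 𝔭) (hh : h ∉ 𝔭) :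
    (FSch.cAwayToAtPrime A J 𝔭 f hf).range ≤ (FSch.cAwayToAtPrime A J 𝔭 h hh).range := by
  rintro _ ⟨y, rfl⟩
  exact ⟨ρ A J f h k hk y, cAwayToAtPrime_ρ A J 𝔭 f h k hk hf hh y⟩

theorem directed_range :
    Directed (· ≤ ·) (fun f : {f : A // f ∉ 𝔭} => (FSch.cAwayToAtPrime A J 𝔭 f.1 f.2).range) := by
  rintro ⟨f, hf⟩ ⟨g, hg⟩
  have hfg : f * g ∉ 𝔭 := fun h => (Ideal.IsPrime.mem_or_mem ‹_› h).elim hf hg
  exact ⟨⟨f * g, hfg⟩, range_le_range A J 𝔭 f (f * g) g rfl hf hfg,
    range_le_range A J 𝔭 g (f * g) f (mul_comm g f) hg hfg⟩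

/-- an element of `A_{f}` which becomes a unit in `A{S⁻¹}` is already a unit in some `A_{fk}`. -/
theorem exists_isUnit_ρ (f : A) (hf : f ∉ 𝔭) (y : FSch.cAway A J f)
    (hy : IsUnit (FSch.cAwayToAtPrime A J 𝔭 f hf y)) :
    ∃ (k : A) (_ : f * k ∉ 𝔭), IsUnit (ρ A J f (f * k) k rfl y) := by
  obtain ⟨a, rfl⟩ := AdicCompletion.mk_surjective _ _ y
  set β := a.val 1 with hβ
  set g := FSch.awayToAtPrime A 𝔭 f hf with hg
  -- `g β` is a unit modulo `J A_𝔭`
  have h1 : IsUnit (Ideal.Quotient.mk (J.map (algebraMap A (Localization.AtPrime 𝔭))) (g β)) := by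
    have := hy.map (AdicCompletion.evalₐ (J.map (algebraMap A (Localization.AtPrime 𝔭))) 1)
    rw [FSch.cAwayToAtPrime, evalₐ_complMap_mk,
      Ideal.Quotient.isUnit_mk_pow_iff_isUnit_mk _ one_ne_zero] at this
    exact this
  rw [isUnit_mk_iff] at h1
  -- the ideal `𝔞 = (β) + J A_f`
  set 𝔞 : Ideal (Localization.Away f) :=
    Ideal.span {β} ⊔ J.map (algebraMap A (Localization.Away f)) with h𝔞
  have hKg : (J.map (algebraMap A (Localization.Away f))).map g =
      J.map (algebraMap A (Localization.AtPrime 𝔭)) := by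
    rw [Ideal.map_map, hg, awayToAtPrime_comp]
  have h𝔞g : 𝔞.map g = ⊤ := by
    rw [h𝔞, Ideal.map_sup, Ideal.map_span, Set.image_singleton, hKg]
    exact h1
  have h𝔞' : (𝔞.comap (algebraMap A (Localization.Away f))).map
      (algebraMap A (Localization.AtPrime 𝔭)) = ⊤ := by
    rw [← awayToAtPrime_comp A 𝔭 f hf, ← Ideal.map_map,
      IsLocalization.map_comap (Submonoid.powers f) (Localization.Away f) 𝔞, ← hg, h𝔞g]
  have hnd : ¬ Disjoint (𝔭.primeCompl : Set A)
      (𝔞.comap (algebraMap A (Localization.Away f)) : Set A) := by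
    intro hd
    exact (IsLocalization.map_algebraMap_ne_top_iff_disjoint 𝔭.primeCompl
      (Localization.AtPrime 𝔭) _).mpr hd h𝔞'
  obtain ⟨k, hk𝔭, hk𝔞⟩ := Set.not_disjoint_iff.mp hnd
  have hfk : f * k ∉ 𝔭 := fun h => (Ideal.IsPrime.mem_or_mem ‹_› h).elim hf hk𝔭
  refine ⟨k, hfk, ?_⟩
  -- `𝔞` extends to the unit ideal of `A_{fk}`
  have hku : IsUnit (algebraMap A (Localization.Away (f * k)) k) := by
    have : IsUnit (algebraMap A (Localization.Away (f * k)) f *
        algebraMap A (Localization.Away (f * k)) k) := by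
      rw [← _root_.map_mul]
      exact IsLocalization.Away.algebraMap_isUnit (f * k)
    exact isUnit_of_mul_isUnit_right this
  have h𝔞τ : 𝔞.map (τ A f (f * k) k rfl) = ⊤ := by
    refine Ideal.eq_top_of_isUnit_mem _ ?_ hku
    have := Ideal.mem_map_of_mem (τ A f (f * k) k rfl) (Ideal.mem_comap.mp hk𝔞)
    rwa [← RingHom.comp_apply, τ_comp] at this
  have h2 : Ideal.span {τ A f (f * k) k rfl β} ⊔
      J.map (algebraMap A (Localization.Away (f * k))) = ⊤ := by
    rw [eq_top_iff, ← h𝔞τ, h𝔞, Ideal.map_sup, Ideal.map_span, Set.image_singleton]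
    exact sup_le_sup le_rfl (map_τ_le A J f (f * k) k rfl)
  rw [← isUnit_mk_iff] at h2
  refine isUnit_of_isUnit_evalₐ_one _ _ ?_
  rw [ρ, evalₐ_complMap_mk, Ideal.Quotient.isUnit_mk_pow_iff_isUnit_mk _ one_ne_zero]
  exact h2

theorem isLocalRing_cAtPrime (hJ : J ≤ 𝔭) : IsLocalRing (FSch.cAtPrime A J 𝔭) := by
  have h3 : J.map (algebraMap A (Localization.AtPrime 𝔭)) ≤
      maximalIdeal (Localization.AtPrime 𝔭) := by
    rw [← Localization.AtPrime.map_eq_maximalIdeal]
    exact Ideal.map_mono hJ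
  haveI : Nontrivial (Localization.AtPrime 𝔭 ⧸ (J.map (algebraMap A (Localization.AtPrime 𝔭))) ^ 1) := by
    rw [Ideal.Quotient.nontrivial_iff, pow_one]
    exact fun h => (maximalIdeal.isMaximal _).ne_top (top_le_iff.mp (h ▸ h3))
  haveI : IsLocalHom
      (AdicCompletion.evalₐ (J.map (algebraMap A (Localization.AtPrime 𝔭))) 1).toRingHom :=
    ⟨fun x hx => isUnit_of_isUnit_evalₐ_one _ x hx⟩
  exact RingHom.domain_isLocalRing
    (AdicCompletion.evalₐ (J.map (algebraMap A (Localization.AtPrime 𝔭))) 1).toRingHom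

theorem isLocalHom_subtype : IsLocalHom (FSch.stalkSubring A J 𝔭).subtype := by
  constructor
  rintro ⟨x, hx⟩ hu
  change IsUnit x at hu
  haveI : Nonempty {f : A // f ∉ 𝔭} :=
    ⟨⟨1, fun h => (Ideal.IsPrime.ne_top ‹_›) ((Ideal.eq_top_iff_one _).mpr h)⟩⟩
  have hx' := hx
  rw [FSch.stalkSubring, Subring.mem_iSup_of_directed (directed_range A J 𝔭)] at hx'
  obtain ⟨⟨f, hf⟩, y, rfl⟩ := hx'
  obtain ⟨k, hfk, hk⟩ := exists_isUnit_ρ A J 𝔭 f hf y hu
  obtain ⟨w, hw⟩ := hk.exists_right_inv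
  have hmem : FSch.cAwayToAtPrime A J 𝔭 (f * k) hfk w ∈ FSch.stalkSubring A J 𝔭 :=
    (le_iSup (fun f : {f : A // f ∉ 𝔭} => (FSch.cAwayToAtPrime A J 𝔭 f.1 f.2).range)
      ⟨f * k, hfk⟩) ⟨w, rfl⟩
  refine IsUnit.of_mul_eq_one ⟨_, hmem⟩ ?_
  apply Subtype.ext
  change FSch.cAwayToAtPrime A J 𝔭 f hf y * FSch.cAwayToAtPrime A J 𝔭 (f * k) hfk w = 1
  rw [← cAwayToAtPrime_ρ A J 𝔭 f (f * k) k rfl hf hfk y, ← _root_.map_mul, hw, _root_.map_one]

theorem s3869 (hJ : J ≤ 𝔭) :
    IsLocalRing (FSch.stalkSubring A J 𝔭) ∧ IsLocalHom (FSch.stalkSubring A J 𝔭).subtype := by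
  haveI := isLocalRing_cAtPrime A J 𝔭 hJ
  haveI := isLocalHom_subtype A J 𝔭
  exact ⟨RingHom.domain_isLocalRing (FSch.stalkSubring A J 𝔭).subtype, inferInstance⟩

end Stalk

end Groth.Agent.Helper2.StalkLocal
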