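import Mathlib
import Groth.Prelude
import Groth.Agent.Helper2.StalkLocal
import Groth.Agent.Helper2.ComplLocFlat

set_option autoImplicit false

namespace Groth.Agent.Helper2.StalkFlat

open IsLocalRing AdicCompletion StalkLocal

universe u

section Crit

variable {R M : Type u} [CommRing R] [CommRing M] (φ : R →+* M)

/-- equational criterion, forward direction, in ring-hom form. -/
theorem trivial_of_flat (hφ : φ.Flat) {l : ℕ} (a : Fin l → R) (x : Fin l → M)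
    (h : ∑ i, φ (a i) * x i = 0) :
    ∃ (k : ℕ) (b : Fin l → Fin k → R) (y : Fin k → M),
      (∀ i, x i = ∑ j, φ (b i j) * y j) ∧ ∀ j, ∑ i, a i * b i j = 0 := by
  letI := φ.toAlgebra
  haveI : Module.Flat R M := hφ
  have h' : ∑ i, a i • x i = 0 := by
    simpa only [Algebra.smul_def, RingHom.algebraMap_toAlgebra] using h
  obtain ⟨k, b, y, h1, h2⟩ := Module.Flat.isTrivialRelation_of_sum_smul_eq_zero (R := R) (M := M) (f := a) (x := x) h'
  refine ⟨k, b, y, fun i => ?_, h2⟩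
  rw [h1 i]
  simp only [Algebra.smul_def, RingHom.algebraMap_toAlgebra]

/-- equational criterion, backward direction, in ring-hom form. -/
theorem flat_of_trivial
    (H : ∀ {l : ℕ} (a : Fin l → R) (x : Fin l → M), ∑ i, φ (a i) * x i = 0 →
      ∃ (k : ℕ) (b : Fin l → Fin k → R) (y : Fin k → M),
        (∀ i, x i = ∑ j, φ (b i j) * y j) ∧ ∀ j, ∑ i, a i * b i j = 0) : φ.Flat := by
  letI := φ.toAlgebra
  change Module.Flat R M
  apply Module.Flat.of_forall_isTrivialRelation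
  intro l a x h
  have h' : ∑ i, φ (a i) * x i = 0 := by
    simpa only [Algebra.smul_def, RingHom.algebraMap_toAlgebra] using h
  obtain ⟨k, b, y, h1, h2⟩ := H a x h'
  refine ⟨k, b, y, fun i => ?_, h2⟩
  rw [h1 i]
  simp only [Algebra.smul_def, RingHom.algebraMap_toAlgebra]

end Crit

section Stalk

variable (A : Type u) [CommRing A] (J : Ideal A) (𝔭 : Ideal A) [𝔭.IsPrime]

theorem flat_cAwayToAtPrime [IsNoetherianRing A] (f : A) (hf : f ∉ 𝔭) :
    (FSch.cAwayToAtPrime A J 𝔭 f hf).Flat :=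
  ComplLocFlat.s4347 A J (Submonoid.powers f) 𝔭.primeCompl
    ((Submonoid.powers_le).mpr hf) (FSch.awayToAtPrime A 𝔭 f hf)
    (awayToAtPrime_comp A 𝔭 f hf) (FSch.map_awayToAtPrime_le A J 𝔭 f hf)

/-- an element of `A_{f}` dying in `A{S⁻¹}` already dies in some `A_{fk}`. -/
theorem exists_ρ_eq_zero [IsNoetherianRing A] (hJ : J ≤ 𝔭) (f : A) (hf : f ∉ 𝔭)
    (w : FSch.cAway A J f) (hw : FSch.cAwayToAtPrime A J 𝔭 f hf w = 0) :
    ∃ (k : A) (_ : f * k ∉ 𝔭), ρ A J f (f * k) k rfl w = 0 := by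
  haveI := isLocalRing_cAtPrime A J 𝔭 hJ
  have hrel : ∑ i : Fin 1, FSch.cAwayToAtPrime A J 𝔭 f hf ((fun _ => w) i) *
      (fun _ => (1 : FSch.cAtPrime A J 𝔭)) i = 0 := by
    simp [hw]
  obtain ⟨κ, b, y, h1, h2⟩ := trivial_of_flat _ (flat_cAwayToAtPrime A J 𝔭 f hf) _ _ hrel
  have h1' := h1 0
  have h2' : ∀ j, w * b 0 j = 0 := fun j => by simpa using h2 j
  have hex : ∃ j, IsUnit (FSch.cAwayToAtPrime A J 𝔭 f hf (b 0 j)) := by
    by_contra hcon
    push_neg at hcon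
    have hmem : (1 : FSch.cAtPrime A J 𝔭) ∈ maximalIdeal (FSch.cAtPrime A J 𝔭) := by
      rw [h1']
      refine Ideal.sum_mem _ fun j _ => ?_
      exact Ideal.mul_mem_right _ _ (hcon j)
    exact (maximalIdeal.isMaximal _).ne_top ((Ideal.eq_top_iff_one _).mpr hmem)
  obtain ⟨j, hj⟩ := hex
  obtain ⟨k, hfk, hk⟩ := exists_isUnit_ρ A J 𝔭 f hf (b 0 j) hj
  refine ⟨k, hfk, ?_⟩
  have := congrArg (ρ A J f (f * k) k rfl) (h2' j)
  rw [_root_.map_mul, _root_.map_zero] at this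
  exact hk.mul_left_eq_zero.mp this

/-- the canonical map `A → A{S⁻¹}`. -/
noncomputable abbrev ιC : A →+* FSch.cAtPrime A J 𝔭 :=
  (algebraMap (Localization.AtPrime 𝔭) (FSch.cAtPrime A J 𝔭)).comp
    (algebraMap A (Localization.AtPrime 𝔭))

/-- the canonical map `A → A_{g}`. -/
noncomputable abbrev ι (g : A) : A →+* FSch.cAway A J g :=
  (algebraMap (Localization.Away g) (FSch.cAway A J g)).comp (algebraMap A (Localization.Away g))

theorem flat_ι [IsNoetherianRing A] (g : A) : (ι A J g).Flat := by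
  haveI : IsNoetherianRing (Localization.Away g) :=
    IsLocalization.isNoetherianRing (Submonoid.powers g) (Localization.Away g) inferInstance
  refine RingHom.Flat.comp ?_ ?_
  · rw [RingHom.flat_algebraMap_iff]; infer_instance
  · rw [RingHom.flat_algebraMap_iff]; infer_instance

theorem cAwayToAtPrime_comp_ι (g : A) (hg : g ∉ 𝔭) :
    (FSch.cAwayToAtPrime A J 𝔭 g hg).comp (ι A J g) = ιC A J 𝔭 := by
  ext a
  simp only [RingHom.comp_apply, FSch.cAwayToAtPrime]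
  rw [ComplCofinal.complMap_algebraMap, ← RingHom.comp_apply (FSch.awayToAtPrime A 𝔭 g hg),
    awayToAtPrime_comp]

theorem ρ_comp_ι (f h k : A) (hk : f * k = h) :
    (ρ A J f h k hk).comp (ι A J f) = ι A J h := by
  ext a
  simp only [RingHom.comp_apply, ρ]
  rw [ComplCofinal.complMap_algebraMap, ← RingHom.comp_apply (τ A f h k hk), τ_comp]

theorem s4358 [IsNoetherianRing A] (hJ : J ≤ 𝔭)
    (h : ∀ a : A, ιC A J 𝔭 a ∈ FSch.stalkSubring A J 𝔭) :
    ((ιC A J 𝔭).codRestrict (FSch.stalkSubring A J 𝔭) h).Flat := by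
  classical
  apply flat_of_trivial
  intro l a x hrel
  haveI : Nonempty {f : A // f ∉ 𝔭} :=
    ⟨⟨1, fun h => (Ideal.IsPrime.ne_top ‹_›) ((Ideal.eq_top_iff_one _).mpr h)⟩⟩
  have hx : ∀ i, ∃ g : {f : A // f ∉ 𝔭},
      (x i : FSch.cAtPrime A J 𝔭) ∈ (FSch.cAwayToAtPrime A J 𝔭 g.1 g.2).range := fun i => by
    have : (x i : FSch.cAtPrime A J 𝔭) ∈
        ⨆ f : {f : A // f ∉ 𝔭}, (FSch.cAwayToAtPrime A J 𝔭 f.1 f.2).range := (x i).2
    rwa [Subring.mem_iSup_of_directed (directed_range A J 𝔭)] at this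
  choose g hg using hx
  obtain ⟨⟨g0, hg0⟩, hle⟩ := (directed_range A J 𝔭).finset_le (Finset.univ.image g)
  have hx0 : ∀ i, ∃ z : FSch.cAway A J g0,
      FSch.cAwayToAtPrime A J 𝔭 g0 hg0 z = (x i : FSch.cAtPrime A J 𝔭) := fun i =>
    hle (g i) (Finset.mem_image_of_mem _ (Finset.mem_univ i)) (hg i)
  choose z hz using hx0
  have hrelC : ∑ i, ιC A J 𝔭 (a i) * (x i : FSch.cAtPrime A J 𝔭) = 0 := by
    have := congrArg (FSch.stalkSubring A J 𝔭).subtype hrel
    rw [_root_.map_sum, _root_.map_zero] at this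
    simp only [_root_.map_mul] at this
    exact this
  have hw : FSch.cAwayToAtPrime A J 𝔭 g0 hg0 (∑ i, ι A J g0 (a i) * z i) = 0 := by
    rw [_root_.map_sum, ← hrelC]
    refine Finset.sum_congr rfl fun i _ => ?_
    rw [_root_.map_mul, hz, ← RingHom.comp_apply, cAwayToAtPrime_comp_ι]
  obtain ⟨k, hk, hρ⟩ := exists_ρ_eq_zero A J 𝔭 hJ g0 hg0 _ hw
  have hρ' : ∑ i, ι A J (g0 * k) (a i) * (fun i => ρ A J g0 (g0 * k) k rfl (z i)) i = 0 := by
    rw [← hρ, _root_.map_sum]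
    refine Finset.sum_congr rfl fun i _ => ?_
    rw [_root_.map_mul, ← RingHom.comp_apply, ρ_comp_ι]
  obtain ⟨κ, b, y, h1, h2⟩ := trivial_of_flat (ι A J (g0 * k)) (flat_ι A J (g0 * k)) a _ hρ'
  have hmem : ∀ j, FSch.cAwayToAtPrime A J 𝔭 (g0 * k) hk (y j) ∈ FSch.stalkSubring A J 𝔭 :=
    fun j => (le_iSup (fun f : {f : A // f ∉ 𝔭} => (FSch.cAwayToAtPrime A J 𝔭 f.1 f.2).range)
      ⟨g0 * k, hk⟩) ⟨y j, rfl⟩
  refine ⟨κ, b, fun j => ⟨_, hmem j⟩, fun i => ?_, h2⟩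
  apply Subtype.ext
  change (x i : FSch.cAtPrime A J 𝔭) = (FSch.stalkSubring A J 𝔭).subtype _
  rw [_root_.map_sum, ← hz i, ← cAwayToAtPrime_ρ A J 𝔭 g0 (g0 * k) k rfl hg0 hk (z i)]
  have h1i : ρ A J g0 (g0 * k) k rfl (z i) = ∑ j, ι A J (g0 * k) (b i j) * y j := h1 i
  rw [h1i, _root_.map_sum]
  refine Finset.sum_congr rfl fun j _ => ?_
  rw [_root_.map_mul, _root_.map_mul, ← RingHom.comp_apply, cAwayToAtPrime_comp_ι]
  rfl

end Stalk

end Groth.Agent.Helper2.StalkFlat
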