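import Mathlib
import Groth.Prelude
import Groth.Agent.Helper2.StalkFlat
import Groth.Agent.S0543

set_option autoImplicit false

namespace Groth.Agent.Helper2.StalkFF

open IsLocalRing AdicCompletion StalkLocal StalkFlat

universe u

variable (A : Type u) [CommRing A] (J : Ideal A) (𝔭 : Ideal A) [𝔭.IsPrime]

theorem mem_stalkSubring (g : A) (hg : g ∉ 𝔭) (y : FSch.cAway A J g) :
    FSch.cAwayToAtPrime A J 𝔭 g hg y ∈ FSch.stalkSubring A J 𝔭 :=
  (le_iSup (fun f : {f : A // f ∉ 𝔭} => (FSch.cAwayToAtPrime A J 𝔭 f.1 f.2).range)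
    ⟨g, hg⟩) ⟨y, rfl⟩

/-- finitely many elements of `A_{S}` come from a common `A_{g}`. -/
theorem exists_common {l : ℕ} (x : Fin l → FSch.stalkSubring A J 𝔭) :
    ∃ (g : A) (hg : g ∉ 𝔭) (z : Fin l → FSch.cAway A J g),
      ∀ i, FSch.cAwayToAtPrime A J 𝔭 g hg (z i) = (x i : FSch.cAtPrime A J 𝔭) := by
  classical
  haveI : Nonempty {f : A // f ∉ 𝔭} :=
    ⟨⟨1, fun h => (Ideal.IsPrime.ne_top ‹_›) ((Ideal.eq_top_iff_one _).mpr h)⟩⟩
  have hx : ∀ i, ∃ g : {f : A // f ∉ 𝔭},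
      (x i : FSch.cAtPrime A J 𝔭) ∈ (FSch.cAwayToAtPrime A J 𝔭 g.1 g.2).range := fun i => by
    have : (x i : FSch.cAtPrime A J 𝔭) ∈
        ⨆ f : {f : A // f ∉ 𝔭}, (FSch.cAwayToAtPrime A J 𝔭 f.1 f.2).range := (x i).2
    rwa [Subring.mem_iSup_of_directed (directed_range A J 𝔭)] at this
  choose g hg using hx
  obtain ⟨⟨g0, hg0⟩, hle⟩ := (directed_range A J 𝔭).finset_le (Finset.univ.image g)
  have hx0 : ∀ i, ∃ z : FSch.cAway A J g0,
      FSch.cAwayToAtPrime A J 𝔭 g0 hg0 z = (x i : FSch.cAtPrime A J 𝔭) := fun i =>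
    hle (g i) (Finset.mem_image_of_mem _ (Finset.mem_univ i)) (hg i)
  choose z hz using hx0
  exact ⟨g0, hg0, z, hz⟩

theorem flat_subtype [IsNoetherianRing A] : (FSch.stalkSubring A J 𝔭).subtype.Flat := by
  apply flat_of_trivial
  intro l d c hrel
  obtain ⟨g, hg, z, hz⟩ := exists_common A J 𝔭 d
  have hrel' : ∑ i, FSch.cAwayToAtPrime A J 𝔭 g hg (z i) * c i = 0 := by
    rw [← hrel]
    refine Finset.sum_congr rfl fun i _ => ?_
    rw [hz]; rfl
  obtain ⟨k, b, y, h1, h2⟩ := trivial_of_flat _ (flat_cAwayToAtPrime A J 𝔭 g hg) z c hrel'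
  refine ⟨k, fun i j => ⟨_, mem_stalkSubring A J 𝔭 g hg (b i j)⟩, y, fun i => ?_, fun j => ?_⟩
  · rw [h1 i]; rfl
  · apply Subtype.ext
    change (FSch.stalkSubring A J 𝔭).subtype _ = 0
    rw [_root_.map_sum, ← _root_.map_zero (FSch.cAwayToAtPrime A J 𝔭 g hg), ← h2 j, _root_.map_sum]
    refine Finset.sum_congr rfl fun i _ => ?_
    rw [_root_.map_mul, _root_.map_mul, hz]
    rfl

theorem s3871 [IsNoetherianRing A] (hJ : J ≤ 𝔭) :
    Module.FaithfullyFlat (FSch.stalkSubring A J 𝔭) (FSch.cAtPrime A J 𝔭) := by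
  obtain ⟨h1, h2⟩ := s3869 A J 𝔭 hJ
  haveI := h1
  haveI := isLocalRing_cAtPrime A J 𝔭 hJ
  haveI : IsLocalHom (algebraMap (FSch.stalkSubring A J 𝔭) (FSch.cAtPrime A J 𝔭)) := h2
  haveI : Module.Flat (FSch.stalkSubring A J 𝔭) (FSch.cAtPrime A J 𝔭) := flat_subtype A J 𝔭
  exact Module.FaithfullyFlat.of_flat_of_isLocalHom

theorem s3870 [IsNoetherianRing A] (hJ : J ≤ 𝔭) :
    IsNoetherianRing (FSch.stalkSubring A J 𝔭) := by
  haveI := s3871 A J 𝔭 hJ
  haveI : IsNoetherianRing (Localization.AtPrime 𝔭) :=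
    IsLocalization.isNoetherianRing 𝔭.primeCompl (Localization.AtPrime 𝔭) inferInstance
  haveI : IsNoetherianRing (FSch.cAtPrime A J 𝔭) := Groth.Agent.S0543.result _ _
  refine Submodule.IsNoetherian.of_isNoetherian_tensorProduct_of_faithfullyFlat
    (R := FSch.stalkSubring A J 𝔭) (M := FSch.stalkSubring A J 𝔭) (A := FSch.cAtPrime A J 𝔭) ?_
  exact isNoetherian_of_linearEquiv
    (TensorProduct.AlgebraTensorModule.rid (FSch.stalkSubring A J 𝔭) (FSch.cAtPrime A J 𝔭)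
      (FSch.cAtPrime A J 𝔭)).symm

end Groth.Agent.Helper2.StalkFF
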