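import Mathlib
import Groth.Prelude
import Groth.Agent.Helper1.HensStrictTransfer

set_option autoImplicit false
set_option linter.style.haveILetI false
set_option linter.unusedSectionVars false

/-!
# Maps out of a strict henselization into henselian local rings (non-local structure maps allowed)
-/

namespace Groth.Agent.Helper2.StrLoc

open Groth.Agent.Helper1 Groth.Agent.Helper1.Hens IsLocalRing TensorProduct

universe u

section lift

variable {O : Type u} [CommRing O] {Ω : Type u} [Field Ω] [Algebra O Ω]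
variable {T : Type u} [CommRing T] [HenselianLocalRing T] [Algebra O T]

theorem exists_liftStage (σ : Hens O Ω →ₐ[O] ResidueField T) (i : Idx O Ω) :
    ∃ χ : i.L →ₐ[O] T, ∀ x, residue T (χ x) = σ (Hens.of i x) := by
  let β : i.C →ₐ[O] ResidueField T :=
    σ.comp ((Hens.ofAlg i).comp (IsScalarTower.toAlgHom O i.C i.L))
  have hβ : ∀ c, β c = σ (Hens.of i (algebraMap i.C i.L c)) := fun _ => rfl
  obtain ⟨χ, hχ⟩ := EssEt.exists_lift_of_etale β
  have hunit : ∀ y : (pt i.γ).primeCompl, IsUnit (χ (y : i.C)) := by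
    intro y
    by_contra hnu
    have h2 : χ (y : i.C) ∈ maximalIdeal T := (mem_maximalIdeal _).2 hnu
    rw [← residue_eq_zero_iff, hχ, hβ] at h2
    have h3 : IsUnit (algebraMap i.C i.L (y : i.C)) :=
      IsLocalization.map_units (M := (pt i.γ).primeCompl) i.L y
    have h4 : IsUnit (σ (Hens.of i (algebraMap i.C i.L (y : i.C)))) :=
      (h3.map (Hens.of i)).map σ
    exact h4.ne_zero h2
  let χq : i.L →ₐ[O] T := IsLocalization.liftAlgHom (M := (pt i.γ).primeCompl) (f := χ) hunit
  have hχq : ∀ c, χq (algebraMap i.C _ c) = χ c := fun c => by simp [χq]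
  refine ⟨χq, ?_⟩
  have : ((residue T).comp χq.toRingHom) = (σ.toRingHom.comp (Hens.of i)) := by
    apply IsLocalization.ringHom_ext (pt i.γ).primeCompl
    refine RingHom.ext fun c => ?_
    simp only [RingHom.comp_apply, AlgHom.toRingHom_eq_coe, RingHom.coe_coe]
    rw [hχq, hχ, hβ]
  intro x
  exact congr($this x)

theorem stage_unique (i : Idx O Ω) (ψ ψ' : i.L →ₐ[O] T)
    (h : ∀ x, residue T (ψ x) = residue T (ψ' x)) : ψ = ψ' :=
  EssEt.algHom_eq_of_residue_eq _ _ h

noncomputable def liftStage (σ : Hens O Ω →ₐ[O] ResidueField T) (i : Idx O Ω) : i.L →ₐ[O] T :=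
  (exists_liftStage σ i).choose

theorem residue_liftStage (σ : Hens O Ω →ₐ[O] ResidueField T) (i : Idx O Ω) (x : i.L) :
    residue T (liftStage σ i x) = σ (Hens.of i x) :=
  (exists_liftStage σ i).choose_spec x

theorem exists_lift_hens (σ : Hens O Ω →ₐ[O] ResidueField T) :
    ∃ g : Hens O Ω →ₐ[O] T, ∀ z, residue T (g z) = σ z := by
  let gR : Hens O Ω →+* T :=
    Ring.DirectLimit.lift (fun i : Idx O Ω => i.L) (fun _ _ h => (Idx.trans h : _ → _)) T
      (fun i => (liftStage σ i).toRingHom) (fun i j h x => by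
        have : (liftStage σ j).comp (Idx.trans h) = liftStage σ i :=
          stage_unique i _ _ (fun x => by
            rw [AlgHom.comp_apply, residue_liftStage, residue_liftStage, Hens.of_trans])
        exact congr($this x))
  have hgR : ∀ (i : Idx O Ω) (x : i.L), gR (Hens.of i x) = liftStage σ i x := fun i x =>
    Ring.DirectLimit.lift_of (G := fun i : Idx O Ω => i.L)
      (f := fun _ _ h => (Idx.trans h : _ → _)) T _ _ i x
  let g : Hens O Ω →ₐ[O] T :=
    { gR with
      commutes' := fun r => by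
        rw [Hens.algebraMap_eq (Classical.arbitrary _) r]
        show gR (Hens.of _ _) = _
        rw [hgR, AlgHom.commutes] }
  refine ⟨g, fun z => ?_⟩
  obtain ⟨i, x, rfl⟩ := Hens.exists_of z
  show residue T (gR (Hens.of i x)) = _
  rw [hgR, residue_liftStage]

theorem lift_hens_unique (g g' : Hens O Ω →ₐ[O] T)
    (h : ∀ z, residue T (g z) = residue T (g' z)) : g = g' := by
  ext z
  obtain ⟨i, x, rfl⟩ := Hens.exists_of z
  have : g.comp (Hens.ofAlg i) = g'.comp (Hens.ofAlg i) :=
    stage_unique i _ _ (fun x => h _)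
  exact congr($this x)

end lift

section point

/-- a `K`-algebra map from an étale `K`-algebra (`K` separably closed) to a field has image `K` -/
theorem mem_bot_of_etale (K : Type u) [Field K] [IsSepClosed K] (A L : Type u) [CommRing A]
    [Algebra K A] [Algebra.Etale K A] [Field L] [Algebra K L] (ψ : A →ₐ[K] L) (a : A) :
    ψ a ∈ (⊥ : Subalgebra K L) := by
  classical
  haveI := Algebra.FormallyUnramified.finite_of_free K A
  haveI : IsArtinianRing A := isArtinian_of_tower K inferInstance
  haveI : Fintype (PrimeSpectrum A) := Fintype.ofFinite _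
  let e := Algebra.FormallyEtale.equivPiOfIsSepClosed K A
  have h1 : e a = ∑ p, (e a p) • (Pi.single p 1 : PrimeSpectrum A → K) := by
    funext q
    simp [Finset.sum_apply, Pi.single_apply]
  have h2 : a = ∑ p, (e a p) • e.symm (Pi.single p 1 : PrimeSpectrum A → K) := by
    apply e.injective
    rw [h1]
    simp only [map_sum, map_smul, AlgEquiv.apply_symm_apply]
    rw [← h1]
    funext q
    simp [Finset.sum_apply, Pi.single_apply]
  rw [h2, map_sum]
  refine Subalgebra.sum_mem _ fun p _ => ?_
  rw [map_smul]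
  refine Subalgebra.smul_mem _ ?_ _
  have hid : IsIdempotentElem (ψ (e.symm (Pi.single p 1 : PrimeSpectrum A → K))) := by
    show _ * _ = _
    rw [← map_mul, ← map_mul]
    congr 2
    funext q
    simp [Pi.single_apply]
  rcases IsIdempotentElem.iff_eq_zero_or_one.mp hid with h | h
  · rw [h]; exact Subalgebra.zero_mem _
  · rw [h]; exact Subalgebra.one_mem _

theorem exists_point {O : Type u} [CommRing O] {Ω : Type u} [Field Ω] [Algebra O Ω]
    (K : Type u) [Field K] [IsSepClosed K] [Algebra O K] [Nontrivial (K ⊗[O] Hens O Ω)] :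
    Nonempty (Hens O Ω →ₐ[O] K) := by
  obtain ⟨M, hM⟩ := Ideal.exists_maximal (K ⊗[O] Hens O Ω)
  letI := Ideal.Quotient.field M
  let π : Hens O Ω →ₐ[O] (K ⊗[O] Hens O Ω) ⧸ M :=
    (Ideal.Quotient.mkₐ O M).comp Algebra.TensorProduct.includeRight
  have hπ : ∀ z, π z ∈ (⊥ : Subalgebra K ((K ⊗[O] Hens O Ω) ⧸ M)) := by
    intro z
    obtain ⟨i, x, rfl⟩ := Hens.exists_of z
    obtain ⟨c, y, rfl⟩ := IsLocalization.exists_mk'_eq (pt i.γ).primeCompl x
    let φ : i.C →ₐ[O] (K ⊗[O] Hens O Ω) ⧸ M :=
      π.comp ((Hens.ofAlg i).comp (IsScalarTower.toAlgHom O i.C i.L))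
    have hφ : ∀ c, φ c = π (Hens.of i (algebraMap i.C i.L c)) := fun _ => rfl
    let ψ : K ⊗[O] i.C →ₐ[K] (K ⊗[O] Hens O Ω) ⧸ M :=
      Algebra.TensorProduct.lift (Algebra.ofId K _) φ (fun _ _ => Commute.all _ _)
    have hψ : ∀ c, ψ (1 ⊗ₜ c) = φ c := fun c => by simp [ψ]
    have hmem : ∀ c, φ c ∈ (⊥ : Subalgebra K ((K ⊗[O] Hens O Ω) ⧸ M)) := fun c => by
      rw [← hψ]
      exact mem_bot_of_etale K (K ⊗[O] i.C) _ ψ _
    have h3 : IsUnit (algebraMap i.C i.L (y : i.C)) :=
      IsLocalization.map_units (M := (pt i.γ).primeCompl) i.L y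
    have h4 : φ (y : i.C) ≠ 0 := by
      rw [hφ]
      exact ((h3.map (Hens.of i)).map π).ne_zero
    have h5 : π (Hens.of i (IsLocalization.mk' i.L c y)) * φ (y : i.C) = φ c := by
      rw [hφ, hφ, ← map_mul, ← map_mul, IsLocalization.mk'_spec]
    have h6 : π (Hens.of i (IsLocalization.mk' i.L c y)) = φ c / φ (y : i.C) := by
      rw [eq_div_iff h4, h5]
    rw [h6]
    obtain ⟨k₁, hk₁⟩ := Algebra.mem_bot.mp (hmem c)
    obtain ⟨k₂, hk₂⟩ := Algebra.mem_bot.mp (hmem (y : i.C))
    rw [← hk₁, ← hk₂, ← map_div₀]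
    exact Algebra.mem_bot.mpr ⟨_, rfl⟩
  have hsurj : Function.Surjective (algebraMap K ((K ⊗[O] Hens O Ω) ⧸ M)) := by
    intro l
    obtain ⟨t, rfl⟩ := Ideal.Quotient.mk_surjective l
    suffices h : Ideal.Quotient.mk M t ∈ (⊥ : Subalgebra K ((K ⊗[O] Hens O Ω) ⧸ M)) from
      Algebra.mem_bot.mp h
    induction t using TensorProduct.induction_on with
    | zero => rw [map_zero]; exact Subalgebra.zero_mem _
    | tmul k z =>
      have : Ideal.Quotient.mk M (k ⊗ₜ[O] z) = k • π z := by
        have h1 : (k ⊗ₜ[O] z : K ⊗[O] Hens O Ω) = k • ((1 : K) ⊗ₜ[O] z) := by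
          rw [TensorProduct.smul_tmul', smul_eq_mul, mul_one]
        rw [h1]
        exact map_smul (Ideal.Quotient.mkₐ K M) k _
      rw [this]
      exact Subalgebra.smul_mem _ (hπ z) k
    | add a b ha hb => rw [map_add]; exact Subalgebra.add_mem _ ha hb
  let e : K ≃ₐ[K] (K ⊗[O] Hens O Ω) ⧸ M :=
    AlgEquiv.ofBijective (Algebra.ofId K _) ⟨(algebraMap K _).injective, hsurj⟩
  exact ⟨(e.symm.toAlgHom.restrictScalars O).comp π⟩

end point

section abstract

variable (O : Type u) [CommRing O] [IsLocalRing O]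
variable (S : Type u) [CommRing S] [IsLocalRing S] [Algebra O S] [IsLocalHom (algebraMap O S)]
  [hS : Hensel.IsStrictHenselization O S]

/-- A strict henselization of `O` admits an `O`-algebra map to every separably closed field
that is an `O`-algebra (no locality assumed). -/
theorem exists_algHom_field (K : Type u) [Field K] [IsSepClosed K] [Algebra O K] :
    Nonempty (S →ₐ[O] K) := by
  let e := equivOfIsStrictHenselization O S
  haveI : Module.FaithfullyFlat O S := faithfullyFlat_of_isStrictHenselization O S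
  haveI : Module.FaithfullyFlat O (Hens O (ResidueField S)) :=
    Module.FaithfullyFlat.of_linearEquiv (R := O) (M := S) (N := Hens O (ResidueField S))
      e.symm.toLinearEquiv
  obtain ⟨σ⟩ := exists_point (O := O) (Ω := ResidueField S) K
  exact ⟨σ.comp e.toAlgHom⟩

variable (T : Type u) [CommRing T] [HenselianLocalRing T] [Algebra O T]

/-- Maps from a strict henselization of `O` to a henselian local `O`-algebra `T` (no locality
assumed) lift uniquely from the residue field of `T`. -/
theorem exists_lift (σ : S →ₐ[O] ResidueField T) :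
    ∃ g : S →ₐ[O] T, ∀ z, residue T (g z) = σ z := by
  let e := equivOfIsStrictHenselization O S
  obtain ⟨g, hg⟩ := exists_lift_hens (σ.comp e.symm.toAlgHom)
  refine ⟨g.comp e.toAlgHom, fun z => ?_⟩
  show residue T (g (e z)) = σ z
  rw [hg]
  show σ (e.symm (e z)) = σ z
  rw [e.symm_apply_apply]

theorem lift_unique (g g' : S →ₐ[O] T) (h : ∀ z, residue T (g z) = residue T (g' z)) :
    g = g' := by
  let e := equivOfIsStrictHenselization O S
  have h1 : g.comp e.symm.toAlgHom = g'.comp e.symm.toAlgHom :=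
    lift_hens_unique _ _ (fun z => h _)
  ext z
  have := congr($h1 (e z))
  simpa using this

end abstract

end Groth.Agent.Helper2.StrLoc
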