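import Mathlib
import Groth.Prelude
import Groth.Agent.Helper2.StrLocA

set_option autoImplicit false
set_option linter.style.haveILetI false
set_option linter.unusedSectionVars false

/-!
# Specialization maps between strict localizations of a scheme (S5593, S5594)
-/

namespace Groth.Agent.Helper2.StrLoc

open CategoryTheory CategoryTheory.Limits AlgebraicGeometry IsLocalRing

universe u

section general

variable (X : Scheme.{u}) (x x' : X)
  (R : Type u) [CommRing R] [Algebra (X.presheaf.stalk x) R]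

/-- any point in the image of `specOf X x R` is a generization of `x` -/
theorem specializes_of_comp {Y : Scheme.{u}} (y : Y) (a : Y ⟶ Spec (CommRingCat.of R)) :
    (a ≫ Hens2.specOf X x R) y ⤳ x := by
  have h : (a ≫ Hens2.specOf X x R) y ∈ Set.range (X.fromSpecStalk x) := by
    refine ⟨Spec.map (CommRingCat.ofHom (algebraMap (X.presheaf.stalk x) R)) (a y), ?_⟩
    rfl
  rw [Scheme.range_fromSpecStalk] at h
  exact h

theorem comp_specOf_eq_iff (hsp : x' ⤳ x) {B : Type u} [CommRing B] (γ : R →+* B)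
    (β : X.presheaf.stalk x' →+* B) :
    Spec.map (CommRingCat.ofHom γ) ≫ Hens2.specOf X x R =
        Spec.map (CommRingCat.ofHom β) ≫ X.fromSpecStalk x' ↔
      γ.comp (algebraMap (X.presheaf.stalk x) R) = β.comp (X.presheaf.stalkSpecializes hsp).hom := by
  rw [← Scheme.SpecMap_stalkSpecializes_fromSpecStalk hsp]
  show Spec.map (CommRingCat.ofHom γ) ≫
      Spec.map (CommRingCat.ofHom (algebraMap (X.presheaf.stalk x) R)) ≫ X.fromSpecStalk x = _ ↔ _
  rw [← Category.assoc, ← Category.assoc, cancel_mono, ← Spec.map_comp, ← Spec.map_comp]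
  constructor
  · intro h
    have h2 := Spec.map_injective h
    have h3 := congr(($h2).hom)
    exact h3
  · intro h
    congr 1
    ext1
    exact h

end general

section main

variable (X : Scheme.{u}) (x x' : X)
  (R : Type u) [CommRing R] [IsLocalRing R] [Algebra (X.presheaf.stalk x) R]
  [IsLocalHom (algebraMap (X.presheaf.stalk x) R)]
  [Hensel.IsStrictHenselization (X.presheaf.stalk x) R]
  (R' : Type u) [CommRing R'] [IsLocalRing R'] [Algebra (X.presheaf.stalk x') R']
  [IsLocalHom (algebraMap (X.presheaf.stalk x') R')]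
  [hR' : Hensel.IsStrictHenselization (X.presheaf.stalk x') R']

theorem specOf_closedPoint :
    Hens2.specOf X x' R' (closedPoint R') = x' := by
  show X.fromSpecStalk x' (Spec.map (CommRingCat.ofHom (algebraMap (X.presheaf.stalk x') R'))
    (closedPoint R')) = x'
  have h : Spec.map (CommRingCat.ofHom (algebraMap (X.presheaf.stalk x') R')) (closedPoint R') =
      closedPoint (X.presheaf.stalk x') :=
    IsLocalRing.comap_closedPoint (algebraMap (X.presheaf.stalk x') R')
  rw [h]
  exact Scheme.fromSpecStalk_closedPoint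

theorem specializes_of_hom (g : Spec (CommRingCat.of R') ⟶ Spec (CommRingCat.of R))
    (hg : g ≫ Hens2.specOf X x R = Hens2.specOf X x' R') : x' ⤳ x := by
  have h := specializes_of_comp X x R (closedPoint R') g
  rwa [hg, specOf_closedPoint] at h

theorem specializes_of_geomHom
    (h : Spec (CommRingCat.of (ResidueField R')) ⟶ Spec (CommRingCat.of R))
    (hh : h ≫ Hens2.specOf X x R = Hens2.geomPt X x' R') : x' ⤳ x := by
  have h1 := specializes_of_comp X x R (closedPoint (ResidueField R')) h
  rw [hh] at h1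
  have h2 : Hens2.geomPt X x' R' (closedPoint (ResidueField R')) = x' := by
    show Hens2.specOf X x' R' (Spec.map (CommRingCat.ofHom (residue R'))
      (closedPoint (ResidueField R'))) = x'
    have h3 : Spec.map (CommRingCat.ofHom (residue R')) (closedPoint (ResidueField R')) =
        closedPoint R' := IsLocalRing.comap_closedPoint (residue R')
    rw [h3, specOf_closedPoint]
  rwa [h2] at h1

theorem exists_hom_of_specializes (hsp : x' ⤳ x) :
    ∃ g : Spec (CommRingCat.of R') ⟶ Spec (CommRingCat.of R),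
      g ≫ Hens2.specOf X x R = Hens2.specOf X x' R' := by
  haveI : HenselianLocalRing R' := hR'.henselian
  haveI : IsSepClosed (ResidueField R') := hR'.isSepClosure.sep_closed
  letI : Algebra (X.presheaf.stalk x) R' :=
    ((algebraMap (X.presheaf.stalk x') R').comp (X.presheaf.stalkSpecializes hsp).hom).toAlgebra
  obtain ⟨σ⟩ := exists_algHom_field (X.presheaf.stalk x) R (ResidueField R')
  obtain ⟨γ, -⟩ := exists_lift (X.presheaf.stalk x) R R' σ
  refine ⟨Spec.map (CommRingCat.ofHom γ.toRingHom), ?_⟩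
  show _ = Spec.map (CommRingCat.ofHom (algebraMap (X.presheaf.stalk x') R')) ≫ X.fromSpecStalk x'
  rw [comp_specOf_eq_iff X x x' R hsp]
  ext r
  exact γ.commutes r

/-- S5593 -/
theorem s5593 :
    (∃ g : Spec (CommRingCat.of R') ⟶ Spec (CommRingCat.of R),
      g ≫ Hens2.specOf X x R = Hens2.specOf X x' R') ↔ x' ⤳ x :=
  ⟨fun ⟨g, hg⟩ => specializes_of_hom X x x' R R' g hg, exists_hom_of_specializes X x x' R R'⟩

theorem hom_ext_of_residue (g₁ g₂ : Spec (CommRingCat.of R') ⟶ Spec (CommRingCat.of R))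
    (h₁ : g₁ ≫ Hens2.specOf X x R = Hens2.specOf X x' R')
    (h₂ : g₂ ≫ Hens2.specOf X x R = Hens2.specOf X x' R')
    (h : Spec.map (CommRingCat.ofHom (IsLocalRing.residue R')) ≫ g₁ =
        Spec.map (CommRingCat.ofHom (IsLocalRing.residue R')) ≫ g₂) : g₁ = g₂ := by
  have hsp := specializes_of_hom X x x' R R' g₁ h₁
  haveI : HenselianLocalRing R' := hR'.henselian
  letI : Algebra (X.presheaf.stalk x) R' :=
    ((algebraMap (X.presheaf.stalk x') R').comp (X.presheaf.stalkSpecializes hsp).hom).toAlgebra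
  obtain ⟨γ₁, rfl⟩ : ∃ γ, g₁ = Spec.map γ := ⟨Spec.preimage g₁, (Spec.map_preimage g₁).symm⟩
  obtain ⟨γ₂, rfl⟩ : ∃ γ, g₂ = Spec.map γ := ⟨Spec.preimage g₂, (Spec.map_preimage g₂).symm⟩
  have e₁ : γ₁.hom.comp (algebraMap (X.presheaf.stalk x) R) =
      (algebraMap (X.presheaf.stalk x') R').comp (X.presheaf.stalkSpecializes hsp).hom :=
    (comp_specOf_eq_iff X x x' R hsp γ₁.hom _).mp h₁
  have e₂ : γ₂.hom.comp (algebraMap (X.presheaf.stalk x) R) =
      (algebraMap (X.presheaf.stalk x') R').comp (X.presheaf.stalkSpecializes hsp).hom :=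
    (comp_specOf_eq_iff X x x' R hsp γ₂.hom _).mp h₂
  let a₁ : R →ₐ[X.presheaf.stalk x] R' := { γ₁.hom with commutes' := fun r => congr($e₁ r) }
  let a₂ : R →ₐ[X.presheaf.stalk x] R' := { γ₂.hom with commutes' := fun r => congr($e₂ r) }
  have hres : γ₁ ≫ CommRingCat.ofHom (IsLocalRing.residue R') =
      γ₂ ≫ CommRingCat.ofHom (IsLocalRing.residue R') := by
    apply Spec.map_injective
    rw [Spec.map_comp, Spec.map_comp]
    exact h
  have ha : a₁ = a₂ := lift_unique (X.presheaf.stalk x) R R' a₁ a₂ (fun z => by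
    have := congr(($hres).hom z)
    exact this)
  congr 1
  ext z
  exact congr($ha z)

theorem exists_hom_of_geomHom
    (h : Spec (CommRingCat.of (IsLocalRing.ResidueField R')) ⟶ Spec (CommRingCat.of R))
    (hh : h ≫ Hens2.specOf X x R = Hens2.geomPt X x' R') :
    ∃ g : Spec (CommRingCat.of R') ⟶ Spec (CommRingCat.of R),
      g ≫ Hens2.specOf X x R = Hens2.specOf X x' R' ∧
      Spec.map (CommRingCat.ofHom (IsLocalRing.residue R')) ≫ g = h := by
  have hsp := specializes_of_geomHom X x x' R R' h hh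
  haveI : HenselianLocalRing R' := hR'.henselian
  letI : Algebra (X.presheaf.stalk x) R' :=
    ((algebraMap (X.presheaf.stalk x') R').comp (X.presheaf.stalkSpecializes hsp).hom).toAlgebra
  obtain ⟨σ₀, rfl⟩ : ∃ γ, h = Spec.map γ := ⟨Spec.preimage h, (Spec.map_preimage h).symm⟩
  have e₀ : σ₀.hom.comp (algebraMap (X.presheaf.stalk x) R) =
      ((IsLocalRing.residue R').comp (algebraMap (X.presheaf.stalk x') R')).comp
        (X.presheaf.stalkSpecializes hsp).hom := by
    refine (comp_specOf_eq_iff X x x' R hsp σ₀.hom _).mp ?_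
    refine hh.trans ?_
    show Spec.map (CommRingCat.ofHom (IsLocalRing.residue R')) ≫
      Spec.map (CommRingCat.ofHom (algebraMap (X.presheaf.stalk x') R')) ≫ X.fromSpecStalk x' = _
    rw [← Category.assoc, ← Spec.map_comp]
    rfl
  let σ : R →ₐ[X.presheaf.stalk x] ResidueField R' :=
    { σ₀.hom with commutes' := fun r => congr($e₀ r) }
  obtain ⟨γ, hγ⟩ := exists_lift (X.presheaf.stalk x) R R' σ
  refine ⟨Spec.map (CommRingCat.ofHom γ.toRingHom), ?_, ?_⟩
  · show _ = Spec.map (CommRingCat.ofHom (algebraMap (X.presheaf.stalk x') R')) ≫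
      X.fromSpecStalk x'
    rw [comp_specOf_eq_iff X x x' R hsp]
    ext r
    exact γ.commutes r
  · rw [← Spec.map_comp]
    congr 1
    ext z
    exact hγ z

/-- S5594 -/
theorem s5594 :
    (∀ g₁ g₂ : Spec (CommRingCat.of R') ⟶ Spec (CommRingCat.of R),
      g₁ ≫ Hens2.specOf X x R = Hens2.specOf X x' R' → g₂ ≫ Hens2.specOf X x R = Hens2.specOf X x' R' →
      Spec.map (CommRingCat.ofHom (IsLocalRing.residue R')) ≫ g₁ =
        Spec.map (CommRingCat.ofHom (IsLocalRing.residue R')) ≫ g₂ → g₁ = g₂) ∧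
    (∀ h : Spec (CommRingCat.of (IsLocalRing.ResidueField R')) ⟶ Spec (CommRingCat.of R),
      h ≫ Hens2.specOf X x R = Hens2.geomPt X x' R' →
      ∃ g : Spec (CommRingCat.of R') ⟶ Spec (CommRingCat.of R),
        g ≫ Hens2.specOf X x R = Hens2.specOf X x' R' ∧
        Spec.map (CommRingCat.ofHom (IsLocalRing.residue R')) ≫ g = h) :=
  ⟨hom_ext_of_residue X x x' R R', exists_hom_of_geomHom X x x' R R'⟩

end main

end Groth.Agent.Helper2.StrLoc
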