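import Mathlib

set_option autoImplicit false
universe u
open CategoryTheory CategoryTheory.Limits AlgebraicGeometry

namespace Groth.Agent.Helper2.SubDesc

lemma range_pullback {X X' : Scheme.{u}} (π : X ⟶ X') (Y' : Subobject X') :
    Set.range ((Subobject.pullback π).obj Y').arrow = π ⁻¹' Set.range Y'.arrow := by
  have sq := Subobject.isPullback π Y'
  ext x
  constructor
  · rintro ⟨z, rfl⟩
    refine ⟨Subobject.pullbackπ π Y' z, ?_⟩
    rw [← Scheme.Hom.comp_apply, ← Scheme.Hom.comp_apply, sq.w]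
  · rintro ⟨y, hy⟩
    obtain ⟨p, -, hp⟩ := Scheme.exists_preimage_of_isPullback sq y x hy
    exact ⟨p, hp⟩

lemma eq_of_range_eq {X : Scheme.{u}} (Y₁ Y₂ : Subobject X) [IsOpenImmersion Y₁.arrow]
    [IsOpenImmersion Y₂.arrow] (h : Set.range Y₁.arrow = Set.range Y₂.arrow) : Y₁ = Y₂ :=
  Subobject.eq_of_comm (IsOpenImmersion.isoOfRangeEq Y₁.arrow Y₂.arrow h)
    (IsOpenImmersion.isoOfRangeEq_hom_fac _ _ _)

instance isOpenImmersion_mk_arrow {X A : Scheme.{u}} (j : A ⟶ X) [IsOpenImmersion j] :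
    IsOpenImmersion (Subobject.mk j).arrow := by
  rw [← Subobject.underlyingIso_hom_comp_eq_mk]
  infer_instance

lemma range_mk_arrow {X A : Scheme.{u}} (j : A ⟶ X) [Mono j] :
    Set.range (Subobject.mk j).arrow = Set.range j := by
  rw [← Subobject.underlyingIso_hom_comp_eq_mk]
  ext x
  constructor
  · rintro ⟨z, rfl⟩
    exact ⟨(Subobject.underlyingIso j).hom z, by rw [Scheme.Hom.comp_apply]⟩
  · rintro ⟨a, rfl⟩
    refine ⟨(Subobject.underlyingIso j).inv a, ?_⟩
    rw [← Scheme.Hom.comp_apply, Iso.inv_hom_id_assoc]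

end Groth.Agent.Helper2.SubDesc
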