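import Mathlib
import Groth.Prelude.Def_SGA3b
import Groth.Agent.Helper2.GLikeLI

set_option autoImplicit false

namespace Groth.Agent.Helper2.SubDiag
open TensorProduct Groth.Agent.Helper2.GLikeLI SGA3b

universe u

/-- a Hopf algebra of multiplicative type over a connected base that is spanned by its
group-like elements is diagonalisable -/
theorem isDiag_of_span_groupLike_conn (R : Type u) [CommRing R] (Q : Type u) [CommRing Q]
    [HopfAlgebra R Q] (hconn : ∀ e : R, IsIdempotentElem e → e = 0 ∨ e = 1)
    (hQ : IsMultType R Q)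
    (hspan : Submodule.span R {a : Q | IsGroupLikeElem R a} = ⊤) : IsDiag R Q := by
  refine ⟨GroupLike R Q, inferInstance, ⟨(BialgEquiv.ofBijective
    (MonoidAlgebra.liftGroupLikeBialgHom (R := R) (A := Q)) ⟨?_, ?_⟩).symm⟩⟩
  · have hli := linearIndependent_groupLike hconn hQ (GroupLike.val (R := R) (A := Q))
      (fun g => g.2) GroupLike.val_injective
    have key : ∀ x : MonoidAlgebra R (GroupLike R Q),
        (MonoidAlgebra.liftGroupLikeBialgHom (R := R) (A := Q)) x =
        Finsupp.linearCombination R (GroupLike.val (R := R) (A := Q)) x.coeff := by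
      intro x
      induction x using MonoidAlgebra.induction_linear with
      | zero => simp
      | add f g hf hg => rw [map_add, hf, hg, MonoidAlgebra.coeff_add, map_add]
      | single m r => simp [MonoidAlgebra.liftGroupLikeBialgHom, Algebra.smul_def]
    rw [injective_iff_map_eq_zero]
    intro x hx
    rw [key] at hx
    have := (linearIndependent_iff.mp hli) x.coeff hx
    exact MonoidAlgebra.coeff_injective this
  · intro y
    have hy : y ∈ Submodule.span R {a : Q | IsGroupLikeElem R a} := by rw [hspan]; trivial
    induction hy using Submodule.span_induction with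
    | mem a ha => exact ⟨MonoidAlgebra.single ⟨a, ha⟩ 1, by simp [MonoidAlgebra.liftGroupLikeBialgHom]⟩
    | zero => exact ⟨0, map_zero _⟩
    | add a b _ _ ha hb =>
      obtain ⟨a', rfl⟩ := ha
      obtain ⟨b', rfl⟩ := hb
      exact ⟨a' + b', map_add _ _ _⟩
    | smul r a _ ha =>
      obtain ⟨a', rfl⟩ := ha
      exact ⟨r • a', map_smul _ _ _⟩

theorem s2983 (R : Type u) [CommRing R] (A : Type u) [CommRing A] [HopfAlgebra R A]
    (hconn : ∀ e : R, IsIdempotentElem e → e = 0 ∨ e = 1)
    (hG : IsDiagFT R A) (J : Ideal A) [J.IsHopfIdeal R] (hH : IsMultType R (A ⧸ J)) :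
    IsDiag R (A ⧸ J) := by
  apply isDiag_of_span_groupLike_conn R (A ⧸ J) hconn hH
  obtain ⟨M, _, -, ⟨ι⟩⟩ := hG
  have key : ∀ x : MonoidAlgebra R M, Bialgebra.Quotient.mkBialgHom (R := R) J (ι.symm x) ∈
      Submodule.span R {a : A ⧸ J | IsGroupLikeElem R a} := by
    intro x
    induction x using MonoidAlgebra.induction_linear with
    | zero => simp
    | add f g hf hg => rw [map_add, map_add]; exact Submodule.add_mem _ hf hg
    | single m r =>
      have h1 : (MonoidAlgebra.single m r : MonoidAlgebra R M) = r • MonoidAlgebra.single m 1 := by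
        simp
      rw [h1, map_smul, map_smul]
      apply Submodule.smul_mem
      apply Submodule.subset_span
      have h3 : IsGroupLikeElem R (ι.symm (MonoidAlgebra.single m (1 : R))) :=
        (isGroupLikeElem_map_equiv ι.symm).mpr (MonoidAlgebra.isGroupLikeElem_single_one ..)
      exact h3.map (Bialgebra.Quotient.mkBialgHom (R := R) J)
  rw [eq_top_iff]
  rintro y -
  obtain ⟨a, rfl⟩ := Ideal.Quotient.mk_surjective y
  have := key (ι a)
  rw [BialgEquiv.symm_apply_apply] at this
  exact this

end Groth.Agent.Helper2.SubDiag
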