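import Mathlib
import Groth.Prelude
import Groth.Agent.Helper2.SubfSt12
import Groth.Agent.Helper1.HensStrictNoeth

set_option autoImplicit false
set_option linter.style.haveILetI false
set_option linter.unusedSectionVars false

universe u

namespace Groth.Agent.Helper2.SubfSt

open Polynomial IsLocalRing Groth.Agent.Helper1.Hens Groth.Agent.Helper1 Groth.Agent.Helper2.EssEtSub

theorem s16434
    (A S : Type u) [CommRing A] [HenselianLocalRing A] [IsDomain A] (hA : EGA4.IsExcellent A)
    [CommRing S] [IsLocalRing S] [Algebra A S] [IsLocalHom (algebraMap A S)]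
    [Hensel.IsStrictHenselization A S] [IsDomain S] (t : Finset (FractionRing S)) :
    ∃ D : Subalgebra A S, (D : Set S) = (algebraMap S (FractionRing S)) ⁻¹'
        (Subfield.closure (Set.range (algebraMap A (FractionRing S)) ∪ (t : Set (FractionRing S))) :
          Set (FractionRing S)) ∧
      ∃ _ : IsLocalRing D, IsLocalHom (algebraMap D S) ∧ EGA4loc.IsEssentiallyEtale A D := by
  have hfg : (RingHom.ker (AlgHom.id A S).toRingHom).FG := by
    have : RingHom.ker (AlgHom.id A S).toRingHom = ⊥ := by
      ext x; simp [RingHom.mem_ker]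
    rw [this]; exact Submodule.fg_bot
  obtain ⟨j, h1, -⟩ := main_finset A S S (AlgHom.id A S) Function.surjective_id (FractionRing S) hfg t
  have hset : Set.range (fun a : A => algebraMap S (FractionRing S) (algebraMap A S a)) =
      Set.range (algebraMap A (FractionRing S)) := by
    congr 1
  rw [hset] at h1
  refine ⟨(stageHom A S j).range, ?_, isLocalRing_range A S j, ?_, isEssentiallyEtale_range A S j⟩
  · ext z
    simp only [SetLike.mem_coe, Set.mem_preimage]
    rw [h1 z]
    rfl
  · letI := isLocalRing_range A S j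
    constructor
    rintro ⟨_, ⟨z, rfl⟩⟩ hu
    have hu' : IsUnit (stageHom A S j z) := hu
    have hz : IsUnit z := isUnit_of_isUnit_stageHom A S j z hu'
    exact hz.map (stageHom A S j).rangeRestrict

theorem s16440
    (A S : Type u) [CommRing A] [HenselianLocalRing A] [IsReduced A] (hA : EGA4.IsExcellent A)
    [CommRing S] [IsLocalRing S] [Algebra A S] [IsLocalHom (algebraMap A S)]
    [Hensel.IsStrictHenselization A S] (Q : Ideal S) (hQ : Q ∈ minimalPrimes S) [Q.IsPrime]
    (t : Finset (FractionRing (S ⧸ Q))) :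
    ∃ D' : Subalgebra A (S ⧸ Q), (D' : Set (S ⧸ Q)) = (algebraMap (S ⧸ Q) (FractionRing (S ⧸ Q))) ⁻¹'
        (Subfield.closure (Set.range (algebraMap A (FractionRing (S ⧸ Q))) ∪
          (t : Set (FractionRing (S ⧸ Q)))) : Set (FractionRing (S ⧸ Q))) ∧
      Module.Finite A D' ∧ Algebra.FormallyUnramified A D' := by
  haveI : IsNoetherianRing A := hA.1
  haveI : IsNoetherianRing S := isNoetherianRing_of_isStrictHenselization A S
  have hfg : (RingHom.ker (Ideal.Quotient.mkₐ A Q).toRingHom).FG :=
    (isNoetherianRing_iff_ideal_fg S).mp inferInstance _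
  obtain ⟨j, h1, -⟩ := main_finset A S (S ⧸ Q) (Ideal.Quotient.mkₐ A Q)
    (Ideal.Quotient.mkₐ_surjective A Q) (FractionRing (S ⧸ Q)) hfg t
  have hset : Set.range (fun a : A => algebraMap (S ⧸ Q) (FractionRing (S ⧸ Q))
      (algebraMap A (S ⧸ Q) a)) = Set.range (algebraMap A (FractionRing (S ⧸ Q))) := by
    congr 1
  rw [hset] at h1
  let φ : j.L →ₐ[A] S ⧸ Q := (Ideal.Quotient.mkₐ A Q).comp (stageHom A S j)
  haveI := finite_stage A S j
  refine ⟨φ.range, ?_, ?_, ?_⟩
  · ext z
    simp only [SetLike.mem_coe, Set.mem_preimage]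
    rw [h1 z]
    rfl
  · exact Module.Finite.of_surjective φ.rangeRestrict.toLinearMap φ.rangeRestrict_surjective
  · exact Algebra.FormallyUnramified.of_surjective φ.rangeRestrict φ.rangeRestrict_surjective

end Groth.Agent.Helper2.SubfSt

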