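import Mathlib
import Groth.Prelude
import Groth.Agent.Helper2.SubfSt13
import Groth.Agent.Helper3.HensDomain
import Groth.Agent.Helper3.HensLocal
import Groth.Agent.S2651

set_option autoImplicit false
set_option linter.style.haveILetI false
set_option linter.unusedSectionVars false

universe u

namespace Groth.Agent.Helper2.SubfSt

open Polynomial IsLocalRing Groth.Agent.Helper1.Hens Groth.Agent.Helper1 Groth.Agent.Helper2.EssEtSub

theorem s16445
    (A S : Type u) [CommRing A] [HenselianLocalRing A] [IsReduced A] (hA : EGA4.IsExcellent A)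
    [CommRing S] [IsLocalRing S] [Algebra A S] [IsLocalHom (algebraMap A S)]
    [Hensel.IsStrictHenselization A S] (Q : Ideal S) (hQ : Q ∈ minimalPrimes S) [Q.IsPrime]
    (t : Finset (FractionRing (S ⧸ Q))) :
    ∃ D' : Subalgebra A (S ⧸ Q), (D' : Set (S ⧸ Q)) = (algebraMap (S ⧸ Q) (FractionRing (S ⧸ Q))) ⁻¹'
        (Subfield.closure (Set.range (algebraMap A (FractionRing (S ⧸ Q))) ∪
          (t : Set (FractionRing (S ⧸ Q)))) : Set (FractionRing (S ⧸ Q))) ∧
      EGA4.IsExcellent D' ∧ ∃ _ : HenselianLocalRing D',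
        ∀ l ∈ Subfield.closure (Set.range (algebraMap A (FractionRing (S ⧸ Q))) ∪
            (t : Set (FractionRing (S ⧸ Q)))),
          ∃ a ∈ D', ∃ b ∈ D', algebraMap (S ⧸ Q) (FractionRing (S ⧸ Q)) b ≠ 0 ∧
            l * algebraMap (S ⧸ Q) (FractionRing (S ⧸ Q)) b =
              algebraMap (S ⧸ Q) (FractionRing (S ⧸ Q)) a := by
  haveI : IsNoetherianRing A := hA.1
  haveI : IsNoetherianRing S := isNoetherianRing_of_isStrictHenselization A S
  have hfg : (RingHom.ker (Ideal.Quotient.mkₐ A Q).toRingHom).FG :=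
    (isNoetherianRing_iff_ideal_fg S).mp inferInstance _
  obtain ⟨j, h1, h2⟩ := main_finset A S (S ⧸ Q) (Ideal.Quotient.mkₐ A Q)
    (Ideal.Quotient.mkₐ_surjective A Q) (FractionRing (S ⧸ Q)) hfg t
  have hset : Set.range (fun a : A => algebraMap (S ⧸ Q) (FractionRing (S ⧸ Q))
      (algebraMap A (S ⧸ Q) a)) = Set.range (algebraMap A (FractionRing (S ⧸ Q))) := by
    congr 1
  rw [hset] at h1 h2
  let φ : j.L →ₐ[A] S ⧸ Q := (Ideal.Quotient.mkₐ A Q).comp (stageHom A S j)
  haveI := finite_stage A S j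
  haveI hfin : Module.Finite A φ.range :=
    Module.Finite.of_surjective φ.rangeRestrict.toLinearMap φ.rangeRestrict_surjective
  haveI hloc : IsLocalRing φ.range := Groth.Agent.Helper3.HensDomain.local_of_finite_domain A φ.range
  have hhens : HenselianLocalRing φ.range := Groth.Agent.Helper3.HensLocal.finite_local A φ.range
  refine ⟨φ.range, ?_, ?_, hhens, ?_⟩
  · ext z
    simp only [SetLike.mem_coe, Set.mem_preimage]
    rw [h1 z]
    rfl
  · exact Groth.Agent.S2651.result A hA φ.range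
  · intro l hl
    obtain ⟨c₁, c₂, hne, heq⟩ := h2 l hl
    refine ⟨φ c₁, ⟨c₁, rfl⟩, φ c₂, ⟨c₂, rfl⟩, ?_, heq⟩
    intro h0
    apply hne
    exact IsFractionRing.injective (S ⧸ Q) (FractionRing (S ⧸ Q)) (by rw [map_zero]; exact h0)

end Groth.Agent.Helper2.SubfSt
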