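import Mathlib
import Groth.Prelude

set_option autoImplicit false

namespace Groth.Agent.Helper2.SubmCont

open MvPolynomial Algebra

universe u

section Q

variable {A : Type u} [CommRing A] {n : ℕ} (a : Fin n → A)

/-- relations `y_i - a_i`. -/
noncomputable def rel : Fin n → MvPolynomial (Fin n) A := fun i => X i - C (a i)

/-- the pre-submersive presentation of `A[y]/(y_i - a_i)`. -/
noncomputable def preQ : PreSubmersivePresentation A
    (MvPolynomial (Fin n) A ⧸ Ideal.span (Set.range (rel a))) (Fin n) (Fin n) :=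
  PreSubmersivePresentation.naive (v := rel a) id Function.injective_id

theorem preQ_jacobian : (preQ a).jacobian = 1 := by
  classical
  rw [PreSubmersivePresentation.jacobian_eq_jacobiMatrix_det]
  have : (preQ a).jacobiMatrix = 1 := by
    ext i j
    rw [preQ, PreSubmersivePresentation.jacobiMatrix_naive]
    simp only [rel, id_eq, map_sub, pderiv_X, pderiv_C, sub_zero, Matrix.one_apply, Pi.single_apply]
    by_cases h : i = j
    · subst h; simp
    · simp [h, Ne.symm h]
  rw [this, Matrix.det_one, map_one]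

theorem span_le_ker : Ideal.span (Set.range (rel a)) ≤
    RingHom.ker (MvPolynomial.aeval a : MvPolynomial (Fin n) A →ₐ[A] A) := by
  rw [Ideal.span_le]
  rintro _ ⟨i, rfl⟩
  simp [rel]

/-- the forward map. -/
noncomputable def fwd : (MvPolynomial (Fin n) A ⧸ Ideal.span (Set.range (rel a))) →ₐ[A] A :=
  Ideal.Quotient.liftₐ _ (MvPolynomial.aeval a) (fun p hp => span_le_ker a hp)

theorem fwd_mk (p : MvPolynomial (Fin n) A) :
    fwd a (Ideal.Quotient.mk _ p) = MvPolynomial.aeval a p := rfl

theorem mk_eq_algebraMap (p : MvPolynomial (Fin n) A) :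
    (Ideal.Quotient.mk (Ideal.span (Set.range (rel a))) p) =
      algebraMap A _ (MvPolynomial.aeval a p) := by
  have h : (Ideal.Quotient.mkₐ A (Ideal.span (Set.range (rel a)))) =
      (Algebra.ofId A _).comp (MvPolynomial.aeval a) := by
    apply MvPolynomial.algHom_ext
    intro i
    simp only [AlgHom.comp_apply, Ideal.Quotient.mkₐ_eq_mk, aeval_X, Algebra.ofId_apply]
    have h1 : algebraMap A (MvPolynomial (Fin n) A ⧸ Ideal.span (Set.range (rel a))) (a i) =
        Ideal.Quotient.mk _ (C (a i)) := rfl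
    rw [h1, Ideal.Quotient.eq]
    exact Ideal.subset_span ⟨i, rfl⟩
  have := congrArg (fun F => F p) h
  simpa [Algebra.ofId_apply] using this

/-- `A[y]/(y_i - a_i) ≃ A`. -/
noncomputable def quotEquiv :
    (MvPolynomial (Fin n) A ⧸ Ideal.span (Set.range (rel a))) ≃ₐ[A] A :=
  AlgEquiv.ofBijective (fwd a) (by
    constructor
    · intro x y hxy
      obtain ⟨p, rfl⟩ := Ideal.Quotient.mk_surjective x
      obtain ⟨q, rfl⟩ := Ideal.Quotient.mk_surjective y
      rw [fwd_mk, fwd_mk] at hxy
      rw [mk_eq_algebraMap, mk_eq_algebraMap, hxy]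
    · intro y
      exact ⟨algebraMap A _ y, by rw [AlgHom.commutes]; rfl⟩)

theorem quotEquiv_mk_X (i : Fin n) : quotEquiv a (Ideal.Quotient.mk _ (X i)) = a i := by
  change fwd a (Ideal.Quotient.mk _ (X i)) = a i
  rw [fwd_mk, aeval_X]

/-- the submersive presentation of `A` over itself with generators `a_i`. -/
noncomputable def Qpres : SubmersivePresentation A A (Fin n) (Fin n) where
  __ := (preQ a).ofAlgEquiv (quotEquiv a)
  jacobian_isUnit := by
    rw [PreSubmersivePresentation.jacobian_ofAlgEquiv, preQ_jacobian, map_one]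
    exact isUnit_one

theorem Qpres_val (i : Fin n) : (Qpres a).val i = a i := by
  change quotEquiv a ((preQ a).val i) = a i
  rw [← quotEquiv_mk_X a i]
  rfl

theorem Qpres_map (i : Fin n) : (Qpres a).map i = i := rfl

end Q

theorem s6860 {R A : Type u} [CommRing R] [CommRing A] [Algebra R A]
    [Algebra.IsStandardSmooth R A] (E : Finset A) :
    ∃ (ι σ : Type) (_ : Finite ι) (_ : Finite σ) (P : Algebra.SubmersivePresentation R A ι σ),
      (↑E : Set A) ⊆ Set.range (P.val ∘ P.map) := by
  classical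
  obtain ⟨ι₀, σ₀, hσ₀, hι₀, ⟨P₀⟩⟩ := Algebra.IsStandardSmooth.out (R := R) (S := A)
  let a : Fin E.card → A := fun i => (E.equivFin.symm i : A)
  refine ⟨Fin E.card ⊕ ι₀, Fin E.card ⊕ σ₀, inferInstance, inferInstance, (Qpres a).comp P₀, ?_⟩
  intro e he
  refine ⟨Sum.inl (E.equivFin ⟨e, he⟩), ?_⟩
  change ((Qpres a).comp P₀).val (Sum.inl ((Qpres a).map (E.equivFin ⟨e, he⟩))) = e
  rw [Qpres_map]
  change (Qpres a).val (E.equivFin ⟨e, he⟩) = e
  rw [Qpres_val]
  simp [a]

end Groth.Agent.Helper2.SubmCont
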