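import Mathlib
import Groth.Prelude
import Groth.Agent.Helper2.CotTSyz
import Groth.Agent.Helper2.CotTSmooth
import Groth.Agent.Helper2.ExtOneCoker

namespace Groth.Agent.Helper2.T2Ext

open CotT Function TensorProduct Algebra IsLocalRing
open Groth.Agent.Helper2.CotTSyz Groth.Agent.Helper2.CotTIndep01 Groth.Agent.Helper2.CotTPoly

noncomputable section

universe u v w t m

section Local

variable {A : Type u} {B : Type v} [CommRing A] [CommRing B] [Algebra A B]
variable {ι : Type w} {σ : Type t} (P : Algebra.Presentation A B ι σ)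

/-- local version of `syz_of_local`: at a prime where the kernel is generated by a regular
sequence, a relation with coefficients in the kernel becomes trivial after multiplying with an
element outside the prime. -/
theorem exists_smul_mem_trivRel (𝔮 : Ideal P.toExtension.Ring) [𝔮.IsPrime]
    (hloc : ∃ (c : ℕ) (g : Fin c → Localization.AtPrime 𝔮),
        (∀ (i : Fin c) (a : Localization.AtPrime 𝔮),
          g i * a ∈ Ideal.span (g '' {j | j < i}) → a ∈ Ideal.span (g '' {j | j < i})) ∧
        Ideal.span (Set.range g) =
          P.toExtension.ker.map (algebraMap P.toExtension.Ring (Localization.AtPrime 𝔮)))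
    (q : relMod P) (hq : q ∈ relKer P) (hqI : ∀ s, q s ∈ P.toExtension.ker) :
    ∃ t, t ∉ 𝔮 ∧ t • q ∈ trivRel P := by
  have hspanI : Ideal.span (Set.range (rel P)) = P.toExtension.ker := P.span_range_relation_eq_ker
  obtain ⟨c, g, hreg, hspan⟩ := hloc
  let S := Localization.AtPrime 𝔮
  let y' : σ → S := fun s => algebraMap P.toExtension.Ring S (rel P s)
  have hspan' : Ideal.span (Set.range y') = Ideal.span (Set.range g) := by
    rw [hspan, ← hspanI, Ideal.map_span, ← Set.range_comp]
    rfl
  have hq' : SyzLocal.jy y' (Φ S q) = 0 := by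
    have h0 : Finsupp.linearCombination P.toExtension.Ring (rel P) q = 0 := hq
    change Finsupp.linearCombination S y' (Φ S q) = 0
    rw [linearCombination_Φ S (rel P) q, h0, map_zero]
  have hq'J : ∀ s, (Φ S q) s ∈ Ideal.span (Set.range y') := by
    intro s
    rw [hspan', hspan]
    exact Ideal.mem_map_of_mem _ (hqI s)
  have hk := SyzLocal.mem_kosz_of_local y' g hreg hspan' (Φ S q) hq' hq'J
  obtain ⟨u, hu, w, hw, huw⟩ := exists_smul_eq_Φ_of_mem_kosz 𝔮.primeCompl S (rel P) _ hk
  have hd : Φ S (u • q - w) = 0 := by
    rw [map_sub, map_smul, huw, sub_self]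
  obtain ⟨v, hv, hvd⟩ := exists_smul_eq_zero_of_Φ_eq_zero 𝔮.primeCompl S _ hd
  have hvu : (v * u) • q = v • w := by
    rw [smul_sub, sub_eq_zero] at hvd
    rw [mul_smul, hvd]
  refine ⟨v * u, 𝔮.primeCompl.mul_mem hv hu, ?_⟩
  rw [hvu]
  exact Submodule.smul_mem _ _ (kosz_le_trivRel P hw)

end Local

section Field

variable {k B : Type u} [Field k] [CommRing B] [Algebra k B] {ι : Type u} [Finite ι] {σ : Type t}
  (P : Algebra.Presentation k B ι σ)

/-- at a prime of the polynomial ring lying under a prime of `B` with regular local ring, the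
kernel is locally generated by a regular sequence. -/
theorem hloc_of_regular (𝔮 : Ideal P.toExtension.Ring) [𝔮.IsPrime] (𝔭 : Ideal B) [𝔭.IsPrime]
    (h : 𝔮 = 𝔭.comap (algebraMap P.toExtension.Ring B))
    (hreg : IsRegularLocalRing (Localization.AtPrime 𝔭)) :
    ∃ (c : ℕ) (g : Fin c → Localization.AtPrime 𝔮),
        (∀ (i : Fin c) (a : Localization.AtPrime 𝔮),
          g i * a ∈ Ideal.span (g '' {j | j < i}) → a ∈ Ideal.span (g '' {j | j < i})) ∧
        Ideal.span (Set.range g) =
          P.toExtension.ker.map (algebraMap P.toExtension.Ring (Localization.AtPrime 𝔮)) := by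
  haveI : IsRegularRing k := inferInstance
  haveI : IsRegularRing P.toExtension.Ring :=
    inferInstanceAs (IsRegularRing (MvPolynomial ι k))
  have hsurj : Surjective (algebraMap P.toExtension.Ring B) := P.toExtension.algebraMap_surjective
  have hI : P.toExtension.ker ≤ 𝔮 := by
    rw [h]
    intro x hx
    rw [Ideal.mem_comap]
    have : algebraMap P.toExtension.Ring B x = 0 := hx
    rw [this]
    exact Ideal.zero_mem _
  obtain ⟨e⟩ := CotTSmooth.exists_ringEquiv' hsurj 𝔮 𝔭 h
  let S := Localization.AtPrime 𝔮
  haveI : IsRegularLocalRing S := inferInstance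
  let nn : Ideal S := P.toExtension.ker.map (algebraMap P.toExtension.Ring S)
  have hnn : nn ≠ ⊤ := by
    intro htop
    have hle : nn ≤ maximalIdeal S := by
      rw [Ideal.map_le_iff_le_comap]
      have h2 := IsLocalization.AtPrime.under_maximalIdeal S 𝔮
      rw [Ideal.under] at h2
      exact hI.trans h2.ge
    exact (maximalIdeal.isMaximal S).ne_top (top_le_iff.1 (htop ▸ hle))
  have hregq : IsRegularLocalRing (S ⧸ nn) :=
    IsRegularLocalRing.of_ringEquiv e.symm
  obtain ⟨c, x, hli, hx⟩ := RegSeq3.exists_indep_generators nn hnn hregq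
  obtain ⟨hR, -⟩ := RegSeq3.isRegular_ofFn c x hli
  refine ⟨c, fun i => (x i : S), ?_, hx.symm⟩
  intro i a ha
  exact CotTReg.regular_cond_of_isWeaklyRegular (fun i => (x i : S)) hR.toIsWeaklyRegular i a ha

/-- the local ring of a reduced ring at a minimal prime is a regular local ring (a field). -/
theorem isRegularLocalRing_of_minimal [IsReduced B] (p : Ideal B) [p.IsPrime]
    (hp : p ∈ minimalPrimes B) : IsRegularLocalRing (Localization.AtPrime p) := by
  haveI : Ring.KrullDimLE 0 (Localization.AtPrime p) := .of_isLocalization _ hp _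
  haveI : IsReduced (Localization.AtPrime p) := inferInstance
  have hF : IsField (Localization.AtPrime p) := Ring.KrullDimLE.isField_of_isReduced
  letI := hF.toField
  infer_instance

end Field

end

end Groth.Agent.Helper2.T2Ext
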