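import Mathlib
import Groth.Prelude
import Groth.Agent.Helper2.CotTSyz
import Groth.Agent.Helper2.CotTSmooth
import Groth.Agent.Helper2.ExtOneCoker
import Groth.Agent.Helper2.T2ExtA

namespace Groth.Agent.Helper2.T2Ext

open CotT Function TensorProduct Algebra IsLocalRing
open Groth.Agent.Helper2.CotTSyz Groth.Agent.Helper2.CotTIndep01 Groth.Agent.Helper2.CotTPoly

noncomputable section

universe u v w t m

section Abstract

variable {R : Type*} [CommRing R] {L₂ L₁ N : Type*} [AddCommGroup L₂] [Module R L₂]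
  [AddCommGroup L₁] [Module R L₁] [AddCommGroup N] [Module R N]

/-- if every `N`-valued form on `L₂` kills `ker d`, the cokernel of `d^* : Hom(L₁,N) → Hom(L₂,N)`
is the cokernel of restriction `Hom(L₁,N) → Hom(range d, N)`. -/
theorem nonempty_quot_equiv (d : L₂ →ₗ[R] L₁) (K : Submodule R L₁) (hK : LinearMap.range d = K)
    (hN : ∀ φ : L₂ →ₗ[R] N, ∀ x, d x = 0 → φ x = 0) :
    Nonempty (((L₂ →ₗ[R] N) ⧸ LinearMap.range (LinearMap.lcomp R N d)) ≃ₗ[R]
      ((K →ₗ[R] N) ⧸ LinearMap.range (LinearMap.lcomp R N K.subtype))) := by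
  have hmem : ∀ x, d x ∈ K := fun x => hK ▸ LinearMap.mem_range_self d x
  let d' : L₂ →ₗ[R] K := d.codRestrict K hmem
  have hd'surj : Surjective d' := by
    rintro ⟨y, hy⟩
    rw [← hK] at hy
    obtain ⟨x, rfl⟩ := hy
    exact ⟨x, rfl⟩
  have hd'ker : ∀ x, d' x = 0 → d x = 0 := fun x hx => congrArg Subtype.val hx
  let Θ : (K →ₗ[R] N) →ₗ[R] (L₂ →ₗ[R] N) := LinearMap.lcomp R N d'
  have hΘinj : Injective Θ := by
    intro ψ₁ ψ₂ h
    refine LinearMap.ext fun y => ?_
    obtain ⟨x, rfl⟩ := hd'surj y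
    exact congrFun (congrArg DFunLike.coe h) x
  have hΘsurj : Surjective Θ := by
    intro φ
    let e := LinearMap.quotKerEquivOfSurjective d' hd'surj
    have hle : LinearMap.ker d' ≤ LinearMap.ker φ := fun x hx => hN φ x (hd'ker x hx)
    refine ⟨(LinearMap.ker d').liftQ φ hle ∘ₗ e.symm.toLinearMap, ?_⟩
    refine LinearMap.ext fun x => ?_
    change (LinearMap.ker d').liftQ φ hle (e.symm (d' x)) = φ x
    have : e.symm (d' x) = Submodule.Quotient.mk x := by
      rw [LinearEquiv.symm_apply_eq]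
      rfl
    rw [this, Submodule.liftQ_apply]
  let E : (K →ₗ[R] N) ≃ₗ[R] (L₂ →ₗ[R] N) := LinearEquiv.ofBijective Θ ⟨hΘinj, hΘsurj⟩
  have hmap : (LinearMap.range (LinearMap.lcomp R N K.subtype)).map (E : (K →ₗ[R] N) →ₗ[R] (L₂ →ₗ[R] N)) =
      LinearMap.range (LinearMap.lcomp R N d) := by
    rw [← LinearMap.range_comp]
    congr 1
  exact ⟨(Submodule.Quotient.equiv _ _ E hmap).symm⟩

end Abstract

section Field

variable {k B : Type u} [Field k] [CommRing B] [Algebra k B] {ι : Type u} [Finite ι] {σ : Type t}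
  (P : Algebra.Presentation k B ι σ)

/-- for reduced `B`, every linear form on `L₂` kills the kernel of `d₂`. -/
theorem map_eq_zero_of_d2_eq_zero [IsReduced B] (φ : L2 P →ₗ[B] B) (x : L2 P)
    (hx : d2 P x = 0) : φ x = 0 := by
  obtain ⟨z, rfl⟩ := Submodule.Quotient.mk_surjective _ x
  obtain ⟨q, rfl⟩ := TensorProduct.mk_surjective P.toExtension.Ring (relKer P) B
    P.toExtension.algebraMap_surjective z
  rw [TensorProduct.mk_apply] at hx ⊢
  rw [d2_mk_tmul] at hx
  have hcoord : ∀ s, (q : relMod P) s ∈ P.toExtension.ker := by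
    intro s
    have h1 := congrArg (fun v => (L1basis P).repr v s) hx
    simp only [L1basis, Algebra.TensorProduct.basis_repr_tmul, map_zero, Finsupp.zero_apply,
      one_smul, Finsupp.mapRange_apply, Finsupp.basisSingleOne_repr, LinearEquiv.refl_apply] at h1
    exact h1
  by_contra hb
  obtain ⟨p, hp, hbp⟩ : ∃ p ∈ minimalPrimes B,
      φ (Submodule.Quotient.mk ((1 : B) ⊗ₜ[P.toExtension.Ring] q)) ∉ p := by
    by_contra hall
    push Not at hall
    apply hb
    have h1 : φ (Submodule.Quotient.mk ((1 : B) ⊗ₜ[P.toExtension.Ring] q)) ∈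
        sInf (minimalPrimes B) := by
      rw [Ideal.mem_sInf]; intro p hp; exact hall p hp
    rw [minimalPrimes, Ideal.sInf_minimalPrimes] at h1
    have h2 : (⊥ : Ideal B).radical = ⊥ := by
      have := nilradical_eq_zero B
      rw [nilradical, Ideal.zero_eq_bot] at this
      exact this
    rw [h2] at h1
    exact h1
  haveI : p.IsPrime := hp.1.1
  let 𝔮 : Ideal P.toExtension.Ring := p.comap (algebraMap P.toExtension.Ring B)
  haveI : 𝔮.IsPrime := Ideal.comap_isPrime _ _
  obtain ⟨t, ht, htq⟩ := exists_smul_mem_trivRel P 𝔮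
    (hloc_of_regular P 𝔮 p rfl (isRegularLocalRing_of_minimal p hp)) q q.2 hcoord
  have hzero : (algebraMap P.toExtension.Ring B t) •
      (Submodule.Quotient.mk ((1 : B) ⊗ₜ[P.toExtension.Ring] q) : L2 P) = 0 := by
    rw [← Submodule.Quotient.mk_smul, Submodule.Quotient.mk_eq_zero]
    refine ⟨(1 : B) ⊗ₜ[P.toExtension.Ring] (⟨t • q, htq⟩ : trivRelKer P), ?_⟩
    rw [LinearMap.baseChange_tmul, TensorProduct.smul_tmul', smul_eq_mul, mul_one]
    have : (algebraMap P.toExtension.Ring B t) = t • (1 : B) := by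
      rw [Algebra.smul_def, mul_one]
    rw [this, TensorProduct.smul_tmul]
    rfl
  have h3 : algebraMap P.toExtension.Ring B t *
      φ (Submodule.Quotient.mk ((1 : B) ⊗ₜ[P.toExtension.Ring] q)) = 0 := by
    rw [← smul_eq_mul, ← map_smul, hzero, map_zero]
  have h4 : algebraMap P.toExtension.Ring B t *
      φ (Submodule.Quotient.mk ((1 : B) ⊗ₜ[P.toExtension.Ring] q)) ∈ p := by
    rw [h3]; exact Ideal.zero_mem _
  rcases Ideal.IsPrime.mem_or_mem inferInstance h4 with h5 | h5
  · exact ht h5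
  · exact hbp h5


/-- **S12269**: `T²(B/k, B) ≃ Ext¹_B(I/I², B)` for reduced `B` and a finite polynomial
presentation. -/
theorem s12269 {σ' : Type u} (P : Algebra.Presentation k B ι σ') [IsReduced B] :
    Nonempty (CotT.T2 P B ≃ₗ[B]
      CategoryTheory.Abelian.Ext (ModuleCat.of B P.toExtension.Cotangent) (ModuleCat.of B B) 1) := by
  haveI : Module.Projective B (L1 P) := Module.Projective.of_basis (L1basis P)
  obtain ⟨e₁⟩ := ExtOneCoker.nonempty_ext_one_equiv (toCot P) B (toCot_surjective P)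
  have hK : LinearMap.range (d2 P) = LinearMap.ker (toCot P) := by
    refine le_antisymm ?_ (ker_toCot_le_range_d2 P)
    rintro _ ⟨x, rfl⟩
    exact congrFun (congrArg DFunLike.coe (toCot_comp_d2 P)) x
  obtain ⟨e₂⟩ := nonempty_quot_equiv (N := B) (d2 P) (LinearMap.ker (toCot P)) hK
    (fun φ x hx => map_eq_zero_of_d2_eq_zero P φ x hx)
  exact ⟨e₂.trans e₁.symm⟩

end Field

end

end Groth.Agent.Helper2.T2Ext
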