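import Mathlib
import Groth.Prelude.Def_SGA4c
set_option autoImplicit false
universe u
open CategoryTheory CategoryTheory.Limits Opposite

namespace Groth.Agent.Helper2.ToposQC

set_option synthInstance.maxHeartbeats 20000 in
lemma isQC_of_iso {C : Type u} [SmallCategory C] {J : GrothendieckTopology C}
    {X X' : ToposFin.Sh J} (e : X' ≅ X) (h : ToposFin.IsQC X) : ToposFin.IsQC X' := by
  intro ι F π hπ
  have : HasColimitsOfSize.{u, u} (ToposFin.Sh J) := Sheaf.instHasColimitsOfSize
  have h1 : Sigma.desc (fun i => π i ≫ e.hom) = Sigma.desc π ≫ e.hom := by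
    apply Sigma.hom_ext
    intro i
    rw [Sigma.ι_desc, Sigma.ι_desc_assoc]
  have h2 : Epi (Sigma.desc (fun i => π i ≫ e.hom)) := by
    rw [h1]; exact epi_comp _ _
  obtain ⟨s, hs⟩ := h ι F (fun i => π i ≫ e.hom) h2
  refine ⟨s, ?_⟩
  have h3 : Sigma.desc (fun i : s => π i ≫ e.hom) = Sigma.desc (fun i : s => π i) ≫ e.hom := by
    apply Sigma.hom_ext
    intro i
    rw [Sigma.ι_desc, Sigma.ι_desc_assoc]
  rw [h3] at hs
  exact (epi_comp_iff_of_isIso _ e.hom).mp hs

end Groth.Agent.Helper2.ToposQC
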