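import Mathlib
import Groth.Prelude.Def_SGA4c
import Groth.Agent.Helper2.ShfEpi
import Groth.Agent.Helper2.ToposQC

set_option autoImplicit false
universe w u
open CategoryTheory CategoryTheory.Limits Opposite

namespace Groth.Agent.Helper2.TF1

variable {C : Type u} [SmallCategory C] {J : GrothendieckTopology C}

/-- locally jointly surjective family -/
def LJS {ι : Type w} {X : Sheaf J (Type u)} (F : ι → Sheaf J (Type u)) (π : ∀ i, F i ⟶ X) : Prop :=
  ∀ (U : C) (x : X.obj.obj (op U)), ∃ S ∈ J U, ∀ ⦃V : C⦄ (g : V ⟶ U), S g →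
    ∃ (i : ι) (y : (F i).obj.obj (op V)), (π i).hom.app (op V) y = X.obj.map g.op x

lemma sheaf_sep (Z : Sheaf J (Type u)) {U : C} {S : Sieve U} (hS : S ∈ J U) {t₁ t₂ : Z.obj.obj (op U)}
    (h : ∀ ⦃V : C⦄ (g : V ⟶ U), S g → Z.obj.map g.op t₁ = Z.obj.map g.op t₂) : t₁ = t₂ := by
  have hsh := (isSheaf_iff_isSheaf_of_type _ _).1 Z.property
  exact (hsh S hS).isSeparatedFor.ext (fun V g hg => h g hg)

lemma LJS.hom_ext {ι : Type w} {X Z : Sheaf J (Type u)} {F : ι → Sheaf J (Type u)}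
    {π : ∀ i, F i ⟶ X} (h : LJS F π) (a b : X ⟶ Z) (hab : ∀ i, π i ≫ a = π i ≫ b) : a = b := by
  apply Sheaf.hom_ext
  ext U x
  obtain ⟨U⟩ := U
  obtain ⟨S, hS, hx⟩ := h U x
  change a.hom.app (op U) x = b.hom.app (op U) x
  apply sheaf_sep Z hS
  intro V g hg
  obtain ⟨i, y, hy⟩ := hx g hg
  have h1 : (π i ≫ a).hom.app (op V) y = (π i ≫ b).hom.app (op V) y := by rw [hab i]
  simp only [ObjectProperty.FullSubcategory.comp_hom, NatTrans.comp_app, types_comp_apply] at h1
  rw [hy] at h1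
  have h2 := NatTrans.naturality_apply a.hom g.op x
  have h3 := NatTrans.naturality_apply b.hom g.op x
  rw [← h2, ← h3]
  exact h1

/-- jointly epimorphic family -/
def JE {ι : Type w} {X : Sheaf J (Type u)} (F : ι → Sheaf J (Type u)) (π : ∀ i, F i ⟶ X) : Prop :=
  ∀ (Z : Sheaf J (Type u)) (a b : X ⟶ Z), (∀ i, π i ≫ a = π i ≫ b) → a = b

/-- the union of images -/
def imgSub {ι : Type w} {X : Sheaf J (Type u)} (F : ι → Sheaf J (Type u)) (π : ∀ i, F i ⟶ X) :
    Subfunctor X.obj := ⨆ i, Subfunctor.range (π i).hom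

/-- the sheaf of sections locally in the union of images -/
def imgSheaf {ι : Type w} {X : Sheaf J (Type u)} (F : ι → Sheaf J (Type u)) (π : ∀ i, F i ⟶ X) :
    Sheaf J (Type u) :=
  ⟨((imgSub F π).sheafify J).toFunctor, by
    rw [isSheaf_iff_isSheaf_of_type]
    apply Subfunctor.sheafify_isSheaf
    rw [← isSheaf_iff_isSheaf_of_type]
    exact X.2⟩

def imgι {ι : Type w} {X : Sheaf J (Type u)} (F : ι → Sheaf J (Type u)) (π : ∀ i, F i ⟶ X) :
    imgSheaf F π ⟶ X := ⟨Subfunctor.ι _⟩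

instance {ι : Type w} {X : Sheaf J (Type u)} (F : ι → Sheaf J (Type u)) (π : ∀ i, F i ⟶ X) :
    Mono (imgι F π) :=
  (sheafToPresheaf J _).mono_of_mono_map (by
    change Mono (Subfunctor.ι _)
    infer_instance)

def toImg {ι : Type w} {X : Sheaf J (Type u)} (F : ι → Sheaf J (Type u)) (π : ∀ i, F i ⟶ X) (i : ι) :
    F i ⟶ imgSheaf F π :=
  ⟨Subfunctor.lift (π i).hom (by
    refine le_trans ?_ ((imgSub F π).le_sheafify J)
    exact le_iSup (fun i => Subfunctor.range (π i).hom) i)⟩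

lemma toImg_ι {ι : Type w} {X : Sheaf J (Type u)} (F : ι → Sheaf J (Type u)) (π : ∀ i, F i ⟶ X) (i : ι) :
    toImg F π i ≫ imgι F π = π i := by
  apply Sheaf.hom_ext
  rfl

lemma JE.ljs {ι : Type w} {X : Sheaf J (Type u)} {F : ι → Sheaf J (Type u)}
    {π : ∀ i, F i ⟶ X} (h : JE F π) : LJS F π := by
  have hepi : Epi (imgι F π) := by
    constructor
    intro Z a b hab
    apply h
    intro i
    rw [← toImg_ι F π i, Category.assoc, Category.assoc, hab]
  have hiso : IsIso (imgι F π) := isIso_of_mono_of_epi _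
  have hiso2 : IsIso ((sheafToPresheaf J (Type u)).map (imgι F π)) := inferInstance
  have htop : (imgSub F π).sheafify J = ⊤ := by
    rw [Subfunctor.eq_top_iff_isIso]
    exact hiso2
  intro U x
  have hx : x ∈ ((imgSub F π).sheafify J).obj (op U) := by rw [htop]; trivial
  refine ⟨_, hx, ?_⟩
  intro V g hg
  have hg' : X.obj.map g.op x ∈ (imgSub F π).obj (op V) := hg
  simp only [imgSub, Subfunctor.iSup_obj, Set.mem_iUnion] at hg'
  obtain ⟨i, y, hy⟩ := hg'
  exact ⟨i, y, hy⟩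

end Groth.Agent.Helper2.TF1
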