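import Mathlib
import Groth.Prelude.Def_SGA4c
import Groth.Agent.Helper2.ShfEpi
import Groth.Agent.Helper2.ToposQC
import Groth.Agent.Helper2.TF1

set_option autoImplicit false
universe w w' u
open CategoryTheory CategoryTheory.Limits Opposite
open Groth.Agent.Helper2

namespace Groth.Agent.Helper2.TF1

variable {C : Type u} [SmallCategory C] {J : GrothendieckTopology C}

lemma ljs_iff_je {ι : Type w} {X : Sheaf J (Type u)} {F : ι → Sheaf J (Type u)}
    {π : ∀ i, F i ⟶ X} : LJS F π ↔ JE F π :=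
  ⟨fun h Z a b hab => h.hom_ext a b hab, fun h => h.ljs⟩

lemma epi_sigma_iff_je {ι : Type w} {X : Sheaf J (Type u)} {F : ι → Sheaf J (Type u)}
    [HasCoproduct F] (π : ∀ i, F i ⟶ X) : Epi (Sigma.desc π) ↔ JE F π := by
  constructor
  · intro h Z a b hab
    rw [← cancel_epi (Sigma.desc π)]
    apply Sigma.hom_ext
    intro i
    rw [Sigma.ι_desc_assoc, Sigma.ι_desc_assoc, hab]
  · intro h
    constructor
    intro Z a b hab
    apply h
    intro i
    have := congrArg (fun t => Sigma.ι F i ≫ t) hab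
    simpa using this

lemma epi_sigma_iff_ljs {ι : Type w} {X : Sheaf J (Type u)} {F : ι → Sheaf J (Type u)}
    [HasCoproduct F] (π : ∀ i, F i ⟶ X) : Epi (Sigma.desc π) ↔ LJS F π := by
  rw [epi_sigma_iff_je, ljs_iff_je]

lemma epi_iff_ljs {X Y : Sheaf J (Type u)} (f : Y ⟶ X) :
    Epi f ↔ LJS (fun _ : PUnit.{1} => Y) (fun _ => f) := by
  rw [ljs_iff_je]
  constructor
  · intro h Z a b hab
    rw [← cancel_epi f]
    exact hab PUnit.unit
  · intro h
    constructor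
    intro Z a b hab
    exact h Z a b (fun _ => hab)

lemma LJS.pullback {ι : Type w} {X Y : Sheaf J (Type u)} {F : ι → Sheaf J (Type u)}
    {π : ∀ i, F i ⟶ X} (h : LJS F π) (g : Y ⟶ X)
    (P : ι → Sheaf J (Type u)) (p : ∀ i, P i ⟶ Y) (q : ∀ i, P i ⟶ F i)
    (hpb : ∀ i, IsPullback (p i) (q i) g (π i)) : LJS P p := by
  intro U t
  obtain ⟨S, hS, hx⟩ := h U (g.hom.app (op U) t)
  refine ⟨S, hS, ?_⟩
  intro V k hk
  obtain ⟨i, y, hy⟩ := hx k hk
  have hV := ShfEpi.isPullback_app J (hpb i) (op V)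
  obtain ⟨z, hz1, hz2⟩ := Types.exists_of_isPullback hV (Y.obj.map k.op t) y (by
    rw [hy]
    exact (NatTrans.naturality_apply g.hom k.op t))
  exact ⟨i, z, hz1⟩

lemma LJS.comp {ι : Type w} {κ : ι → Type w'} {X : Sheaf J (Type u)} {F : ι → Sheaf J (Type u)}
    {π : ∀ i, F i ⟶ X} (h : LJS F π) (G : ∀ i, κ i → Sheaf J (Type u))
    (ρ : ∀ i k, G i k ⟶ F i) (hρ : ∀ i, LJS (G i) (ρ i)) :
    LJS (fun s : Σ i, κ i => G s.1 s.2) (fun s => ρ s.1 s.2 ≫ π s.1) := by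
  intro U x
  obtain ⟨S, hS, hx⟩ := h U x
  choose i y hy using hx
  have h2 := fun (V : C) (g : V ⟶ U) (hg : S g) => hρ (i g hg) V (y g hg)
  choose T hT hT2 using h2
  refine ⟨Sieve.bind S (fun V g hg => T V g hg), J.bind_covering hS (fun V g hg => hT V g hg), ?_⟩
  intro W m hm
  obtain ⟨V, a, g, hg, ha, rfl⟩ := hm
  obtain ⟨k, z, hz⟩ := hT2 V g hg a ha
  refine ⟨⟨i g hg, k⟩, z, ?_⟩
  simp only [ObjectProperty.FullSubcategory.comp_hom, NatTrans.comp_app, types_comp_apply]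
  rw [hz]
  rw [NatTrans.naturality_apply (π (i g hg)).hom a.op (y g hg), hy g hg]
  simp

lemma LJS.of_factor {ι : Type w} {κ : Type w'} {X : Sheaf J (Type u)} {F : ι → Sheaf J (Type u)}
    {π : ∀ i, F i ⟶ X} (h : LJS F π) (G : κ → Sheaf J (Type u)) (σ : ∀ k, G k ⟶ X)
    (hfac : ∀ i, ∃ (k : κ) (t : F i ⟶ G k), t ≫ σ k = π i) : LJS G σ := by
  intro U x
  obtain ⟨S, hS, hx⟩ := h U x
  refine ⟨S, hS, ?_⟩
  intro V g hg
  obtain ⟨i, y, hy⟩ := hx g hg
  obtain ⟨k, t, ht⟩ := hfac i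
  refine ⟨k, t.hom.app (op V) y, ?_⟩
  rw [← hy, ← ht]
  rfl

end Groth.Agent.Helper2.TF1
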