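import Mathlib
import Groth.Prelude.Def_SGA4c
import Groth.Agent.Helper2.ShfEpi
import Groth.Agent.Helper2.ToposQC
import Groth.Agent.Helper2.TF1
import Groth.Agent.Helper2.TF2

set_option autoImplicit false
universe w w' u
open CategoryTheory CategoryTheory.Limits Opposite
open Groth.Agent.Helper2

namespace Groth.Agent.Helper2.TF1

variable {C : Type u} [SmallCategory C] {J : GrothendieckTopology C}

set_option synthInstance.maxHeartbeats 20000 in
noncomputable instance instHC : HasColimitsOfSize.{u, u} (Sheaf J (Type u)) :=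
  Sheaf.instHasColimitsOfSize

lemma isQC_iff (X : ToposFin.Sh J) : ToposFin.IsQC X ↔
    ∀ (ι : Type u) (F : ι → ToposFin.Sh J) (π : ∀ i, F i ⟶ X), LJS F π →
      ∃ s : Finset ι, LJS (fun i : s => F i) (fun i : s => π i) := by
  unfold ToposFin.IsQC
  constructor
  · intro h ι F π hπ
    obtain ⟨s, hs⟩ := h ι F π ((epi_sigma_iff_ljs π).2 hπ)
    exact ⟨s, (epi_sigma_iff_ljs _).1 hs⟩
  · intro h ι F π hπ
    obtain ⟨s, hs⟩ := h ι F π ((epi_sigma_iff_ljs π).1 hπ)
    exact ⟨s, (epi_sigma_iff_ljs _).2 hs⟩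

/-- a finite LJS family with quasi-compact sources has quasi-compact target -/
lemma isQC_of_finite_ljs {κ : Type w} [Finite κ] {X : ToposFin.Sh J} (F : κ → ToposFin.Sh J)
    (π : ∀ k, F k ⟶ X) (hπ : LJS F π) (hF : ∀ k, ToposFin.IsQC (F k)) : ToposFin.IsQC X := by
  classical
  rw [isQC_iff]
  intro ι G σ hσ
  have h1 : ∀ k, LJS (fun i => pullback (σ i) (π k)) (fun i => pullback.snd (σ i) (π k)) := by
    intro k
    exact hσ.pullback (π k) _ _ (fun i => pullback.fst (σ i) (π k))
      (fun i => (IsPullback.of_hasPullback (σ i) (π k)).flip)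
  have h2 := fun k => (isQC_iff (F k)).1 (hF k) ι _ _ (h1 k)
  choose s hs using h2
  have : Fintype κ := Fintype.ofFinite κ
  refine ⟨Finset.univ.biUnion s, ?_⟩
  have h3 := hπ.comp (fun k (i : s k) => pullback (σ i) (π k))
    (fun k i => pullback.snd (σ i) (π k)) hs
  refine h3.of_factor _ _ ?_
  rintro ⟨k, i⟩
  refine ⟨⟨i.1, Finset.mem_biUnion.2 ⟨k, Finset.mem_univ k, i.2⟩⟩, pullback.fst (σ i) (π k), ?_⟩
  exact pullback.condition

end Groth.Agent.Helper2.TF1
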