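import Mathlib
import Groth.Prelude.Def_SGA4c
import Groth.Agent.Helper2.TF3

set_option autoImplicit false
universe w w' u
open CategoryTheory CategoryTheory.Limits Opposite
open Groth.Agent.Helper2

namespace Groth.Agent.Helper2.TF1

variable {C : Type u} [SmallCategory C] {J : GrothendieckTopology C}

lemma isQCHom_iff {X Y : ToposFin.Sh J} (f : X ⟶ Y) : ToposFin.IsQCHom f ↔
    ∀ (P Y' : ToposFin.Sh J) (g : Y' ⟶ Y) (p : P ⟶ X) (q : P ⟶ Y'), IsPullback p q f g →
      ToposFin.IsQC Y' → ToposFin.IsQC P := by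
  constructor
  · intro h P Y' g p q hpb hY'
    exact ToposQC.isQC_of_iso hpb.isoPullback (h Y' g hY')
  · intro h Y' g hY'
    exact h _ Y' g _ _ (IsPullback.of_hasPullback f g) hY'

/-- quasi-compact morphisms as a morphism property -/
def QC : MorphismProperty (ToposFin.Sh J) := fun _ _ f => ToposFin.IsQCHom f

/-- quasi-separated morphisms as a morphism property -/
def QS : MorphismProperty (ToposFin.Sh J) := fun _ _ f => ToposFin.IsQSHom f

lemma qs_eq : (QS : MorphismProperty (ToposFin.Sh J)) = QC.diagonal := rfl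

instance : (QC : MorphismProperty (ToposFin.Sh J)).IsStableUnderBaseChange where
  of_isPullback := by
    intro X Y Y' S f g f' g' sq hg
    -- sq : IsPullback f' g' g f ; f' : Y' ⟶ Y, g' : Y' ⟶ X, g : Y ⟶ S, f : X ⟶ S
    change ToposFin.IsQCHom g'
    rw [isQCHom_iff]
    intro P T t p q hpb hT
    -- hpb : IsPullback p q g' t ; p : P ⟶ Y', q : P ⟶ T, t : T ⟶ X
    have h2 : IsPullback (p ≫ f') q g (t ≫ f) := by
      have := hpb.flip.paste_vert sq.flip
      exact this.flip
    exact (isQCHom_iff g).1 hg P T (t ≫ f) (p ≫ f') q h2 hT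

instance : (QC : MorphismProperty (ToposFin.Sh J)).IsStableUnderComposition where
  comp_mem := by
    intro X Y Z f g hf hg
    change ToposFin.IsQCHom (f ≫ g)
    rw [isQCHom_iff]
    intro P T t p q hpb hT
    -- hpb : IsPullback p q (f ≫ g) t
    have hT' : ToposFin.IsQC (pullback g t) := hg T t hT
    have h1 : IsPullback (pullback.fst g t) (pullback.snd g t) g t := IsPullback.of_hasPullback g t
    let l : P ⟶ pullback g t := pullback.lift (p ≫ f) q (by rw [Category.assoc]; exact hpb.w)
    have h2 : IsPullback p l f (pullback.fst g t) := by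
      refine IsPullback.of_bot ?_ (pullback.lift_fst _ _ _).symm h1
      have : l ≫ pullback.snd g t = q := pullback.lift_snd _ _ _
      rw [this]
      exact hpb
    exact (isQCHom_iff f).1 hf P _ _ p l h2 hT'

instance : (QC : MorphismProperty (ToposFin.Sh J)).ContainsIdentities where
  id_mem := by
    intro X Y' g hY'
    exact ToposQC.isQC_of_iso (asIso (pullback.snd (𝟙 X) g)) hY'

instance : (QC : MorphismProperty (ToposFin.Sh J)).IsMultiplicative where

lemma isQC_of_isQCHom {X Y : ToposFin.Sh J} (f : X ⟶ Y) (hf : ToposFin.IsQCHom f)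
    (hY : ToposFin.IsQC Y) : ToposFin.IsQC X := by
  exact ToposQC.isQC_of_iso (asIso (pullback.fst f (𝟙 Y))).symm (hf Y (𝟙 Y) hY)

lemma isQCHom_of_isIso {X Y : ToposFin.Sh J} (f : X ⟶ Y) [IsIso f] : ToposFin.IsQCHom f := by
  intro Y' g hY'
  exact ToposQC.isQC_of_iso (asIso (pullback.snd f g)) hY'

lemma isQSHom_of_mono {X Y : ToposFin.Sh J} (f : X ⟶ Y) [Mono f] : ToposFin.IsQSHom f :=
  isQCHom_of_isIso _

end Groth.Agent.Helper2.TF1
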