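import Mathlib
import Groth.Prelude.Def_SGA4c
import Groth.Agent.Helper2.TF4

set_option autoImplicit false
universe w w' u
open CategoryTheory CategoryTheory.Limits Opposite
open Groth.Agent.Helper2

namespace Groth.Agent.Helper2.TF1

variable {C : Type u} [SmallCategory C] {J : GrothendieckTopology C}

/-- `f ≫ g` quasi-compact and `g` quasi-separated implies `f` quasi-compact -/
lemma isQCHom_of_comp {X Y Z : ToposFin.Sh J} (f : X ⟶ Y) (g : Y ⟶ Z)
    (hg : ToposFin.IsQSHom g) (h : ToposFin.IsQCHom (f ≫ g)) : ToposFin.IsQCHom f := by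
  have : (QC : MorphismProperty (ToposFin.Sh J)).HasOfPostcompProperty QC.diagonal := by
    rw [MorphismProperty.hasOfPostcompProperty_iff_le_diagonal]
  exact this.of_postcomp f g hg h

lemma qs_diag_top : (⊤ : MorphismProperty (ToposFin.Sh J)) ≤ (QC.diagonal).diagonal := by
  intro X Y f _
  exact isQCHom_of_isIso _

/-- `f ≫ g` quasi-separated implies `f` quasi-separated -/
lemma isQSHom_of_comp {X Y Z : ToposFin.Sh J} (f : X ⟶ Y) (g : Y ⟶ Z)
    (h : ToposFin.IsQSHom (f ≫ g)) : ToposFin.IsQSHom f := by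
  have : (QC.diagonal : MorphismProperty (ToposFin.Sh J)).HasOfPostcompProperty ⊤ := by
    rw [MorphismProperty.hasOfPostcompProperty_iff_le_diagonal]
    exact qs_diag_top
  exact this.of_postcomp f g trivial h

lemma isQSHom_comp {X Y Z : ToposFin.Sh J} (f : X ⟶ Y) (g : Y ⟶ Z)
    (hf : ToposFin.IsQSHom f) (hg : ToposFin.IsQSHom g) : ToposFin.IsQSHom (f ≫ g) :=
  (QC.diagonal : MorphismProperty (ToposFin.Sh J)).comp_mem f g hf hg

lemma isQCHom_comp {X Y Z : ToposFin.Sh J} (f : X ⟶ Y) (g : Y ⟶ Z)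
    (hf : ToposFin.IsQCHom f) (hg : ToposFin.IsQCHom g) : ToposFin.IsQCHom (f ≫ g) :=
  (QC : MorphismProperty (ToposFin.Sh J)).comp_mem f g hf hg

lemma isQCHom_of_isPullback {X Y X' Y' : ToposFin.Sh J} {f : X ⟶ Y} {f' : X' ⟶ Y'} {a : X' ⟶ X}
    {b : Y' ⟶ Y} (sq : IsPullback a f' f b) (hf : ToposFin.IsQCHom f) : ToposFin.IsQCHom f' :=
  (QC : MorphismProperty (ToposFin.Sh J)).of_isPullback sq hf

lemma isQSHom_of_isPullback {X Y X' Y' : ToposFin.Sh J} {f : X ⟶ Y} {f' : X' ⟶ Y'} {a : X' ⟶ X}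
    {b : Y' ⟶ Y} (sq : IsPullback a f' f b) (hf : ToposFin.IsQSHom f) : ToposFin.IsQSHom f' :=
  (QC.diagonal : MorphismProperty (ToposFin.Sh J)).of_isPullback sq hf

/-- quasi-separated morphism to a quasi-separated object has quasi-separated source -/
lemma isQS_of_isQSHom {X Y : ToposFin.Sh J} (f : X ⟶ Y) (hf : ToposFin.IsQSHom f)
    (hY : ToposFin.IsQS Y) : ToposFin.IsQS X := by
  intro A B a b hA hB
  have h1 := pullback_map_diagonal_isPullback a b f
  have h2 : ToposFin.IsQCHom (pullback.map a b (a ≫ f) (b ≫ f) (𝟙 A) (𝟙 B) f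
      (Category.id_comp _).symm (Category.id_comp _).symm) :=
    isQCHom_of_isPullback h1 hf
  exact isQC_of_isQCHom _ h2 (hY A B (a ≫ f) (b ≫ f) hA hB)

end Groth.Agent.Helper2.TF1
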