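import Mathlib
import Groth.Prelude.Def_SGA4c
import Groth.Agent.Helper2.TF5

set_option autoImplicit false
universe w w' u
open CategoryTheory CategoryTheory.Limits Opposite
open Groth.Agent.Helper2

namespace Groth.Agent.Helper2.TF1

variable {C : Type u} [SmallCategory C] {J : GrothendieckTopology C}

/-- the canonical map `X_i ×_Z T ⟶ Y ×_Z T` induced by `f i : X i ⟶ Y` -/
noncomputable def pbL {Y Z T Xi : ToposFin.Sh J} (g : Y ⟶ Z) (t : T ⟶ Z) (fi : Xi ⟶ Y) :
    pullback (fi ≫ g) t ⟶ pullback g t :=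
  pullback.lift (pullback.fst _ _ ≫ fi) (pullback.snd _ _)
    (by rw [Category.assoc]; exact pullback.condition)

lemma pbL_isPullback {Y Z T Xi : ToposFin.Sh J} (g : Y ⟶ Z) (t : T ⟶ Z) (fi : Xi ⟶ Y) :
    IsPullback (pbL g t fi) (pullback.fst (fi ≫ g) t) (pullback.fst g t) fi := by
  refine IsPullback.of_right ?_ (pullback.lift_fst _ _ _) (IsPullback.of_hasPullback g t).flip
  have : pbL g t fi ≫ pullback.snd g t = pullback.snd (fi ≫ g) t := pullback.lift_snd _ _ _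
  rw [this]
  exact (IsPullback.of_hasPullback (fi ≫ g) t).flip

lemma ljs_pbL {ι : Type w} {Y Z T : ToposFin.Sh J} (g : Y ⟶ Z) (t : T ⟶ Z)
    {X : ι → ToposFin.Sh J} (f : ∀ i, X i ⟶ Y) (hf : LJS X f) :
    LJS (fun i => pullback (f i ≫ g) t) (fun i => pbL g t (f i)) :=
  hf.pullback (pullback.fst g t) _ _ _ (fun i => pbL_isPullback g t (f i))

/-- the canonical map `X ×_Y G_i ⟶ X ×_Y T` induced by `π i : G i ⟶ T` -/
noncomputable def pbR {X Y T Gi : ToposFin.Sh J} (f : X ⟶ Y) (t : T ⟶ Y) (πi : Gi ⟶ T) :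
    pullback f (πi ≫ t) ⟶ pullback f t :=
  pullback.lift (pullback.fst _ _) (pullback.snd _ _ ≫ πi)
    (by rw [Category.assoc]; exact pullback.condition)

lemma pbR_isPullback {X Y T Gi : ToposFin.Sh J} (f : X ⟶ Y) (t : T ⟶ Y) (πi : Gi ⟶ T) :
    IsPullback (pbR f t πi) (pullback.snd f (πi ≫ t)) (pullback.snd f t) πi := by
  refine IsPullback.of_right ?_ (pullback.lift_snd _ _ _) (IsPullback.of_hasPullback f t)
  have : pbR f t πi ≫ pullback.fst f t = pullback.fst f (πi ≫ t) := pullback.lift_fst _ _ _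
  rw [this]
  exact (IsPullback.of_hasPullback f (πi ≫ t))

lemma ljs_pbR {ι : Type w} {X Y T : ToposFin.Sh J} (f : X ⟶ Y) (t : T ⟶ Y)
    {G : ι → ToposFin.Sh J} (π : ∀ i, G i ⟶ T) (hπ : LJS G π) :
    LJS (fun i => pullback f (π i ≫ t)) (fun i => pbR f t (π i)) :=
  hπ.pullback (pullback.snd f t) _ _ _ (fun i => pbR_isPullback f t (π i))

/-- S3065: finite jointly epi family on the source -/
lemma isQCHom_of_finite_cover {κ : Type w} [Finite κ] {Y Z : ToposFin.Sh J} (g : Y ⟶ Z)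
    (X : κ → ToposFin.Sh J) (f : ∀ k, X k ⟶ Y) (hf : LJS X f)
    (h : ∀ k, ToposFin.IsQCHom (f k ≫ g)) : ToposFin.IsQCHom g := by
  intro T t hT
  exact isQC_of_finite_ljs _ _ (ljs_pbL g t f hf) (fun k => h k T t hT)

/-- restriction of LJS family to a subtype through which it factors -/
lemma LJS.restrict_finset {ι : Type w} {X : ToposFin.Sh J} {F : ι → ToposFin.Sh J}
    {π : ∀ i, F i ⟶ X} (s : Finset ι) (h : LJS (fun i : s => F i) (fun i : s => π i)) : LJS F π :=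
  h.of_factor F π (fun i => ⟨i.1, 𝟙 _, Category.id_comp _⟩)

/-- S3063 -/
lemma isQCHom_iff_generators {α : Type u} (G : α → ToposFin.Sh J)
    (hG : ∀ a, ToposFin.IsQC (G a))
    (hgen : ∀ X : ToposFin.Sh J, ∃ (ι : Type u) (a : ι → α) (π : ∀ i, G (a i) ⟶ X), Epi (Sigma.desc π))
    {X Y : ToposFin.Sh J} (f : X ⟶ Y) :
    ToposFin.IsQCHom f ↔ ∀ (a : α) (s : G a ⟶ Y), ToposFin.IsQC (pullback f s) := by
  constructor
  · intro h a s
    exact h (G a) s (hG a)
  · intro h T t hT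
    obtain ⟨ι, a, π, hπ⟩ := hgen T
    rw [epi_sigma_iff_ljs] at hπ
    obtain ⟨s, hs⟩ := (isQC_iff T).1 hT ι _ π hπ
    exact isQC_of_finite_ljs _ _ (ljs_pbR f t (fun i : s => π i) hs) (fun i => h (a i) (π i ≫ t))

end Groth.Agent.Helper2.TF1
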