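import Mathlib
import Groth.Prelude.Def_SGA4c
import Groth.Agent.Helper2.TF6

set_option autoImplicit false
universe w w' u
open CategoryTheory CategoryTheory.Limits Opposite
open Groth.Agent.Helper2

namespace Groth.Agent.Helper2.TF1

variable {C : Type u} [SmallCategory C] {J : GrothendieckTopology C}

/-- (G1) cover the right factor -/
lemma isQC_pullback_of_cover_right {ι : Type u} {X Y T : ToposFin.Sh J} (f : X ⟶ Y) (t : T ⟶ Y)
    (hT : ToposFin.IsQC T) {K : ι → ToposFin.Sh J} (π : ∀ i, K i ⟶ T) (hπ : LJS K π)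
    (h : ∀ i, ToposFin.IsQC (pullback f (π i ≫ t))) : ToposFin.IsQC (pullback f t) := by
  obtain ⟨s, hs⟩ := (isQC_iff T).1 hT ι _ π hπ
  exact isQC_of_finite_ljs _ _ (ljs_pbR f t (fun i : s => π i) hs) (fun i => h i)

/-- (G1') cover the left factor -/
lemma isQC_pullback_of_cover_left {ι : Type u} {A B Y : ToposFin.Sh J} (a : A ⟶ Y) (b : B ⟶ Y)
    (hA : ToposFin.IsQC A) {K : ι → ToposFin.Sh J} (π : ∀ i, K i ⟶ A) (hπ : LJS K π)
    (h : ∀ i, ToposFin.IsQC (pullback (π i ≫ a) b)) : ToposFin.IsQC (pullback a b) := by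
  obtain ⟨s, hs⟩ := (isQC_iff A).1 hA ι _ π hπ
  exact isQC_of_finite_ljs _ _ (ljs_pbL a b (fun i : s => π i) hs) (fun i => h i)

lemma isQC_pullback_symm {A B Y : ToposFin.Sh J} (a : A ⟶ Y) (b : B ⟶ Y)
    (h : ToposFin.IsQC (pullback a b)) : ToposFin.IsQC (pullback b a) :=
  ToposQC.isQC_of_iso (pullbackSymmetry b a) h

/-- the base change of a family along a map, as an LJS family (right legs) -/
lemma ljs_pullback_fst {ι : Type w} {A Y : ToposFin.Sh J} (a : A ⟶ Y)
    {Yi : ι → ToposFin.Sh J} (g : ∀ i, Yi i ⟶ Y) (hg : LJS Yi g) :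
    LJS (fun i => pullback a (g i)) (fun i => pullback.fst a (g i)) :=
  hg.pullback a _ _ (fun i => pullback.snd a (g i)) (fun i => IsPullback.of_hasPullback a (g i))

/-- S3068 -/
lemma isQS_iff_generators {α : Type u} (G : α → ToposFin.Sh J) (hG : ∀ a, ToposFin.IsQC (G a))
    (hgen : ∀ X : ToposFin.Sh J, ∃ (ι : Type u) (a : ι → α) (π : ∀ i, G (a i) ⟶ X), Epi (Sigma.desc π))
    (Y : ToposFin.Sh J) :
    ToposFin.IsQS Y ↔ ∀ (a : α) (s : G a ⟶ Y), ToposFin.IsQCHom s := by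
  constructor
  · intro h a s T t hT
    exact h _ _ s t (hG a) hT
  · intro h A B a b hA hB
    obtain ⟨ι, c, π, hπ⟩ := hgen A
    rw [epi_sigma_iff_ljs] at hπ
    exact isQC_pullback_of_cover_left a b hA π hπ (fun i => h (c i) (π i ≫ a) B b hB)

/-- S3075 (generators not needed) -/
lemma isQS_of_cover {ι : Type u} {Y : ToposFin.Sh J} (Yi : ι → ToposFin.Sh J) (g : ∀ i, Yi i ⟶ Y)
    (hg : LJS Yi g) (hqs : ∀ i, ToposFin.IsQS (Yi i)) (hqc : ∀ i, ToposFin.IsQCHom (g i)) :
    ToposFin.IsQS Y := by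
  intro A B a b hA hB
  -- cover A by A_i = A ×_Y Y_i
  refine isQC_pullback_of_cover_left a b hA _ (ljs_pullback_fst a g hg) (fun i => ?_)
  -- pullback (fst a (g i) ≫ a) b, rewrite fst ≫ a = snd ≫ g i
  have hAi : ToposFin.IsQC (pullback a (g i)) := isQC_pullback_symm _ _ (hqc i A a hA)
  have e : pullback.fst a (g i) ≫ a = pullback.snd a (g i) ≫ g i := pullback.condition
  refine ToposQC.isQC_of_iso (pullback.congrHom e rfl) ?_
  -- pullback (snd ≫ g i) b ≅ pullback snd (fst (g i) b)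
  have hBi : ToposFin.IsQC (pullback (g i) b) := hqc i B b hB
  have h1 : ToposFin.IsQC (pullback (pullback.snd a (g i)) (pullback.fst (g i) b)) :=
    hqs i _ _ _ _ hAi hBi
  exact ToposQC.isQC_of_iso (pullbackRightPullbackFstIso (g i) b (pullback.snd a (g i))).symm h1

end Groth.Agent.Helper2.TF1
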