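import Mathlib
import Groth.Prelude.Def_SGA4c
import Groth.Agent.Helper2.TF7

set_option autoImplicit false
universe w w' u
open CategoryTheory CategoryTheory.Limits Opposite
open Groth.Agent.Helper2

namespace Groth.Agent.Helper2.TF1

variable {C : Type u} [SmallCategory C] {J : GrothendieckTopology C}

lemma pb_mk {A B Z : ToposFin.Sh J} (u : A ⟶ Z) (v : B ⟶ Z) {V : Cᵒᵖ} (x : A.obj.obj V)
    (y : B.obj.obj V) (h : u.hom.app V x = v.hom.app V y) :
    ∃ p : (pullback u v).obj.obj V, (pullback.fst u v).hom.app V p = x ∧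
      (pullback.snd u v).hom.app V p = y :=
  Types.exists_of_isPullback (ShfEpi.isPullback_app J (IsPullback.of_hasPullback u v) V) x y h

lemma pb_ext {A B Z : ToposFin.Sh J} (u : A ⟶ Z) (v : B ⟶ Z) {V : Cᵒᵖ}
    (p p' : (pullback u v).obj.obj V)
    (h1 : (pullback.fst u v).hom.app V p = (pullback.fst u v).hom.app V p')
    (h2 : (pullback.snd u v).hom.app V p = (pullback.snd u v).hom.app V p') : p = p' :=
  Types.ext_of_isPullback (ShfEpi.isPullback_app J (IsPullback.of_hasPullback u v) V) h1 h2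

lemma comp_app_apply {A B Z : ToposFin.Sh J} (u : A ⟶ B) (v : B ⟶ Z) {V : Cᵒᵖ} (x : A.obj.obj V) :
    (u ≫ v).hom.app V x = v.hom.app V (u.hom.app V x) := rfl

lemma map_app_apply {A B : ToposFin.Sh J} (u : A ⟶ B) {V W : Cᵒᵖ} (g : V ⟶ W) (x : A.obj.obj V) :
    u.hom.app W (A.obj.map g x) = B.obj.map g (u.hom.app V x) :=
  NatTrans.naturality_apply u.hom g x

/-- covers of both factors give a cover of the fibre product -/
lemma ljs_pullback_both {ι : Type w} {κ : Type w'} {A B Z : ToposFin.Sh J} (u : A ⟶ Z) (v : B ⟶ Z)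
    {Ai : ι → ToposFin.Sh J} (a : ∀ i, Ai i ⟶ A) (ha : LJS Ai a)
    {Bj : κ → ToposFin.Sh J} (b : ∀ j, Bj j ⟶ B) (hb : LJS Bj b) :
    LJS (fun s : ι × κ => pullback (a s.1 ≫ u) (b s.2 ≫ v))
      (fun s => pullback.map (a s.1 ≫ u) (b s.2 ≫ v) u v (a s.1) (b s.2) (𝟙 Z)
        (Category.comp_id _) (Category.comp_id _)) := by
  intro U p
  obtain ⟨S₁, hS₁, h₁⟩ := ha U ((pullback.fst u v).hom.app (op U) p)
  obtain ⟨S₂, hS₂, h₂⟩ := hb U ((pullback.snd u v).hom.app (op U) p)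
  refine ⟨S₁ ⊓ S₂, J.intersection_covering hS₁ hS₂, ?_⟩
  intro V g hg
  obtain ⟨i, x', hx'⟩ := h₁ g hg.1
  obtain ⟨j, y', hy'⟩ := h₂ g hg.2
  have hcond : (a i ≫ u).hom.app (op V) x' = (b j ≫ v).hom.app (op V) y' := by
    rw [comp_app_apply, comp_app_apply, hx', hy', ← map_app_apply, ← map_app_apply,
      ← comp_app_apply, ← comp_app_apply, pullback.condition]
  obtain ⟨p', hp'1, hp'2⟩ := pb_mk (a i ≫ u) (b j ≫ v) x' y' hcond
  refine ⟨(i, j), p', ?_⟩
  apply pb_ext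
  · rw [← comp_app_apply, pullback.lift_fst, comp_app_apply, hp'1, hx', map_app_apply]
  · rw [← comp_app_apply, pullback.lift_snd, comp_app_apply, hp'2, hy', map_app_apply]

end Groth.Agent.Helper2.TF1
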