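import Mathlib
import Groth.Prelude.Def_SGA4c
import Groth.Agent.Helper2.TF8

set_option autoImplicit false
universe w w' u
open CategoryTheory CategoryTheory.Limits Opposite
open Groth.Agent.Helper2

namespace Groth.Agent.Helper2.TF1

variable {C : Type u} [SmallCategory C] {J : GrothendieckTopology C}

lemma hasQCGen_ljs (hE : ToposFin.HasQCGenerators J) (X : ToposFin.Sh J) :
    ∃ (ι : Type u) (F : ι → ToposFin.Sh J) (π : ∀ i, F i ⟶ X), (∀ i, ToposFin.IsQC (F i)) ∧ LJS F π := by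
  obtain ⟨ι, F, π, hF, hπ⟩ := hE X
  exact ⟨ι, F, π, hF, (epi_sigma_iff_ljs π).1 hπ⟩

/-- refine a pulled-back cover by quasi-compact objects -/
lemma exists_qc_refinement (hE : ToposFin.HasQCGenerators J) {ι : Type u} {T Y : ToposFin.Sh J}
    (t : T ⟶ Y) {Yi : ι → ToposFin.Sh J} (g : ∀ i, Yi i ⟶ Y) (hg : LJS Yi g) :
    ∃ (σ : Type u) (K : σ → ToposFin.Sh J) (π : ∀ s, K s ⟶ T) (j : σ → ι) (m : ∀ s, K s ⟶ Yi (j s)),
      LJS K π ∧ (∀ s, ToposFin.IsQC (K s)) ∧ ∀ s, π s ≫ t = m s ≫ g (j s) := by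
  have hc1 := ljs_pullback_fst t g hg
  have hc2 := fun i => hasQCGen_ljs hE (pullback t (g i))
  choose κ K ρ hK hρ using hc2
  refine ⟨Σ i, κ i, fun s => K s.1 s.2, fun s => ρ s.1 s.2 ≫ pullback.fst t (g s.1), fun s => s.1,
    fun s => ρ s.1 s.2 ≫ pullback.snd t (g s.1), hc1.comp K ρ hρ, fun s => hK s.1 s.2, ?_⟩
  rintro ⟨i, k⟩
  simp only [Category.assoc, pullback.condition]

/-- quasi-compactness is local on the target (pullback-square form) -/
lemma isQCHom_of_cover_target (hE : ToposFin.HasQCGenerators J) {ι : Type u} {A B : ToposFin.Sh J}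
    (h : A ⟶ B) {Bi : ι → ToposFin.Sh J} (b : ∀ i, Bi i ⟶ B) (hb : LJS Bi b)
    (Ai : ι → ToposFin.Sh J) (a : ∀ i, Ai i ⟶ A) (hi : ∀ i, Ai i ⟶ Bi i)
    (sq : ∀ i, IsPullback (a i) (hi i) h (b i)) (hqc : ∀ i, ToposFin.IsQCHom (hi i)) :
    ToposFin.IsQCHom h := by
  intro T t hT
  obtain ⟨σ, K, π, j, m, hπ, hK, hfac⟩ := exists_qc_refinement hE t b hb
  refine isQC_pullback_of_cover_right h t hT π hπ (fun s => ?_)
  refine ToposQC.isQC_of_iso (pullback.congrHom rfl (hfac s)) ?_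
  have h2 := (IsPullback.of_hasPullback (hi (j s)) (m s)).paste_horiz (sq (j s))
  exact ToposQC.isQC_of_iso h2.isoPullback.symm (hqc (j s) _ (m s) (hK s))

end Groth.Agent.Helper2.TF1
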