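import Mathlib
import Groth.Prelude.Def_SGA4c
import Groth.Agent.Helper2.TF9

set_option autoImplicit false
open CategoryTheory CategoryTheory.Limits Opposite
universe u
open ToposFin
open Groth.Agent.Helper2 Groth.Agent.Helper2.TF1

namespace Groth.Agent.Helper2.TF10

variable {C : Type u} [SmallCategory C] {J : GrothendieckTopology C}

lemma qs_of_cover_source (hE : ToposFin.HasQCGenerators J) {Y Z : ToposFin.Sh J} (g : Y ⟶ Z)
    {ι : Type u} (X : ι → ToposFin.Sh J) (f : ∀ i, X i ⟶ Y) (hf : LJS X f)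
    (hqc : ∀ i, ToposFin.IsQCHom (f i)) (hqs : ∀ i, ToposFin.IsQSHom (f i ≫ g)) :
    ToposFin.IsQSHom g := by
  refine isQCHom_of_cover_target hE (pullback.diagonal g) (ι := ι × ι)
    (Bi := fun s => pullback (f s.1 ≫ g) (f s.2 ≫ g))
    (fun s => pullback.map (f s.1 ≫ g) (f s.2 ≫ g) g g (f s.1) (f s.2) (𝟙 Z)
        (Category.comp_id _) (Category.comp_id _))
    (ljs_pullback_both g g f hf f hf)
    (fun s => pullback (f s.1) (f s.2)) (fun s => pullback.fst _ _ ≫ f s.1)
    (fun s => pullback.map (f s.1) (f s.2) (f s.1 ≫ g) (f s.2 ≫ g) (𝟙 _) (𝟙 _) g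
      (Category.id_comp _).symm (Category.id_comp _).symm)
    (fun s => pullback_map_diagonal_isPullback (f s.1) (f s.2) g) ?_
  rintro ⟨i, j⟩
  refine isQCHom_of_comp _ (pullback.fst (f i ≫ g) (f j ≫ g)) ?_ ?_
  · exact isQSHom_of_isPullback (IsPullback.of_hasPullback (f i ≫ g) (f j ≫ g)).flip (hqs j)
  · have e : pullback.map (f i) (f j) (f i ≫ g) (f j ≫ g) (𝟙 _) (𝟙 _) g
        (Category.id_comp _).symm (Category.id_comp _).symm ≫ pullback.fst (f i ≫ g) (f j ≫ g)
        = pullback.fst (f i) (f j) := by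
      rw [pullback.lift_fst, Category.comp_id]
    rw [e]
    exact isQCHom_of_isPullback (IsPullback.of_hasPullback (f i) (f j)).flip (hqc j)

end Groth.Agent.Helper2.TF10
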