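import Mathlib
import Groth.Prelude.Def_SGA4c
import Groth.Agent.Helper2.TF10

set_option autoImplicit false
open CategoryTheory CategoryTheory.Limits Opposite
universe u
open ToposFin
open Groth.Agent.Helper2 Groth.Agent.Helper2.TF1

namespace Groth.Agent.Helper2.TF11

variable {C : Type u} [SmallCategory C] {J : GrothendieckTopology C}

lemma id_comp_app_apply {A B : ToposFin.Sh J} (u : A ⟶ B) {V : Cᵒᵖ} (x : A.obj.obj V) :
    (𝟙 A ≫ u).hom.app V x = u.hom.app V x := by
  rw [Category.id_comp]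

/-- the cover of `X ×_Y X` by the `X_i ×_{Y_i} X_i` -/
lemma ljs_diag_cover {ι : Type u} {X Y : ToposFin.Sh J} (f : X ⟶ Y)
    (Yi : ι → ToposFin.Sh J) (g : ∀ i, Yi i ⟶ Y) (hg : LJS Yi g) :
    LJS (fun i => pullback (𝟙 (pullback f (g i)) ≫ pullback.snd f (g i))
        (𝟙 (pullback f (g i)) ≫ pullback.snd f (g i)))
      (fun i => pullback.map (𝟙 (pullback f (g i)) ≫ pullback.snd f (g i))
        (𝟙 (pullback f (g i)) ≫ pullback.snd f (g i)) f f
        (𝟙 (pullback f (g i)) ≫ pullback.fst f (g i)) (𝟙 (pullback f (g i)) ≫ pullback.fst f (g i)) (g i)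
        (by simp [pullback.condition]) (by simp [pullback.condition])) := by
  intro U p
  obtain ⟨S, hS, h⟩ := hg U (f.hom.app (op U) ((pullback.fst f f).hom.app (op U) p))
  refine ⟨S, hS, ?_⟩
  intro V k hk
  obtain ⟨i, yi, hyi⟩ := h k hk
  have hx : f.hom.app (op V) (X.obj.map k.op ((pullback.fst f f).hom.app (op U) p)) =
      (g i).hom.app (op V) yi := by
    rw [map_app_apply, hyi]
  have hx' : f.hom.app (op V) (X.obj.map k.op ((pullback.snd f f).hom.app (op U) p)) =
      (g i).hom.app (op V) yi := by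
    rw [map_app_apply, hyi, ← comp_app_apply, ← comp_app_apply, pullback.condition]
  obtain ⟨q₁, hq₁1, hq₁2⟩ := pb_mk f (g i) _ _ hx
  obtain ⟨q₂, hq₂1, hq₂2⟩ := pb_mk f (g i) _ _ hx'
  obtain ⟨r, hr1, hr2⟩ := pb_mk (𝟙 (pullback f (g i)) ≫ pullback.snd f (g i))
    (𝟙 (pullback f (g i)) ≫ pullback.snd f (g i)) q₁ q₂ (by
      rw [id_comp_app_apply, id_comp_app_apply, hq₁2, hq₂2])
  refine ⟨i, r, ?_⟩
  apply pb_ext
  · rw [← comp_app_apply, pullback.lift_fst, comp_app_apply, hr1, id_comp_app_apply, hq₁1,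
      map_app_apply]
  · rw [← comp_app_apply, pullback.lift_snd, comp_app_apply, hr2, id_comp_app_apply, hq₂1,
      map_app_apply]

lemma isQCHom_comp_iso_right {A B B' : ToposFin.Sh J} (h : A ⟶ B) (e : B ≅ B')
    (hq : ToposFin.IsQCHom (h ≫ e.hom)) : ToposFin.IsQCHom h := by
  have := isQCHom_comp _ _ hq (isQCHom_of_isIso e.inv)
  simpa using this

/-- quasi-separatedness is local on the target -/
lemma isQSHom_of_cover_target (hE : ToposFin.HasQCGenerators J) {ι : Type u} {X Y : ToposFin.Sh J}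
    (f : X ⟶ Y) (Yi : ι → ToposFin.Sh J) (g : ∀ i, Yi i ⟶ Y) (hg : LJS Yi g)
    (h : ∀ i, ToposFin.IsQSHom (pullback.snd f (g i))) : ToposFin.IsQSHom f := by
  refine isQCHom_of_cover_target hE (pullback.diagonal f) _ (ljs_diag_cover f Yi g hg) _ _ _
    (fun i => pullback_fst_map_snd_isPullback f (g i) (𝟙 _) (𝟙 _)) ?_
  intro i
  let e : pullback (𝟙 (pullback f (g i)) ≫ pullback.snd f (g i))
        (𝟙 (pullback f (g i)) ≫ pullback.snd f (g i)) ≅
      pullback (pullback.snd f (g i)) (pullback.snd f (g i)) :=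
    pullback.congrHom (Category.id_comp _) (Category.id_comp _)
  apply isQCHom_comp_iso_right _ e
  have e2 : pullback.map (𝟙 (pullback f (g i))) (𝟙 (pullback f (g i)))
      (𝟙 (pullback f (g i)) ≫ pullback.snd f (g i)) (𝟙 (pullback f (g i)) ≫ pullback.snd f (g i))
      (𝟙 _) (𝟙 _) (pullback.snd f (g i)) (Category.id_comp _).symm (Category.id_comp _).symm ≫ e.hom =
      pullback.fst (𝟙 (pullback f (g i))) (𝟙 (pullback f (g i))) ≫
        pullback.diagonal (pullback.snd f (g i)) := by
    apply pullback.hom_ext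
    · simp only [e, Category.assoc, pullback.congrHom_hom, pullback.diagonal_fst, Category.comp_id]
      erw [pullback.lift_fst, Category.comp_id, pullback.lift_fst, Category.comp_id]
    · simp only [e, Category.assoc, pullback.congrHom_hom, pullback.lift_snd, pullback.diagonal_snd,
        Category.comp_id]
      have := pullback.condition (f := 𝟙 (pullback f (g i))) (g := 𝟙 (pullback f (g i)))
      simpa using this.symm
  rw [e2]
  exact isQCHom_comp _ _ (isQCHom_of_isIso _) (h i)

end Groth.Agent.Helper2.TF11
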