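import Mathlib
import Groth.Prelude.Def_SGA4c
import Groth.Agent.Helper2.TF11

set_option autoImplicit false
open CategoryTheory CategoryTheory.Limits Opposite
universe u
open ToposFin
open Groth.Agent.Helper2 Groth.Agent.Helper2.TF1

namespace Groth.Agent.Helper2.TF12

variable {C : Type u} [SmallCategory C] {J : GrothendieckTopology C}

lemma isQCHom_of_qc_of_qs {A B : ToposFin.Sh J} (h : A ⟶ B) (hA : ToposFin.IsQC A)
    (hB : ToposFin.IsQS B) : ToposFin.IsQCHom h := fun T t hT => hB _ _ h t hA hT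

lemma qsHom_of_cover (hE : ToposFin.HasQCGenerators J)
    {X Y : ToposFin.Sh J} (f : X ⟶ Y) {ι : Type u} (Xi : ι → ToposFin.Sh J) (g : ∀ i, Xi i ⟶ X)
    (hg : LJS Xi g) (hqc : ∀ i, ToposFin.IsQC (Xi i))
    (hqs : ∀ i j, ToposFin.IsQS (pullback (g i ≫ f) (g j ≫ f))) (hX : ToposFin.IsQS X) :
    ToposFin.IsQSHom f := by
  refine isQCHom_of_cover_target hE (pullback.diagonal f) (ι := ι × ι)
    (Bi := fun s => pullback (g s.1 ≫ f) (g s.2 ≫ f))
    (fun s => pullback.map (g s.1 ≫ f) (g s.2 ≫ f) f f (g s.1) (g s.2) (𝟙 Y)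
        (Category.comp_id _) (Category.comp_id _))
    (ljs_pullback_both f f g hg g hg)
    (fun s => pullback (g s.1) (g s.2)) (fun s => pullback.fst _ _ ≫ g s.1)
    (fun s => pullback.map (g s.1) (g s.2) (g s.1 ≫ f) (g s.2 ≫ f) (𝟙 _) (𝟙 _) f
      (Category.id_comp _).symm (Category.id_comp _).symm)
    (fun s => pullback_map_diagonal_isPullback (g s.1) (g s.2) f) ?_
  rintro ⟨i, j⟩
  exact isQCHom_of_qc_of_qs _ (hX _ _ (g i) (g j) (hqc i) (hqc j)) (hqs i j)

end Groth.Agent.Helper2.TF12
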