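import Mathlib
import Groth.Prelude.Def_SGA4c
import Groth.Prelude.Def_ToposFin2
import Groth.Agent.Helper2.TF12

set_option autoImplicit false
open CategoryTheory CategoryTheory.Limits Opposite
universe u
open ToposFin
open Groth.Agent.Helper2 Groth.Agent.Helper2.TF1

namespace Groth.Agent.Helper2.TF13

variable {C D : Type u} [SmallCategory C] [SmallCategory D]
    {J : GrothendieckTopology C} {K : GrothendieckTopology D}

lemma je_map (F : ToposFin.Sh K ⥤ ToposFin.Sh J) (R : ToposFin.Sh J ⥤ ToposFin.Sh K) (adj : F ⊣ R)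
    {ι : Type*} {X : ToposFin.Sh K} {G : ι → ToposFin.Sh K} {π : ∀ i, G i ⟶ X} (h : JE G π) :
    JE (fun i => F.obj (G i)) (fun i => F.map (π i)) := by
  intro Z a b hab
  apply (adj.homEquiv X Z).injective
  apply h
  intro i
  rw [← adj.homEquiv_naturality_left, ← adj.homEquiv_naturality_left, hab i]

lemma ljs_map (F : ToposFin.Sh K ⥤ ToposFin.Sh J) (R : ToposFin.Sh J ⥤ ToposFin.Sh K) (adj : F ⊣ R)
    {ι : Type*} {X : ToposFin.Sh K} {G : ι → ToposFin.Sh K} {π : ∀ i, G i ⟶ X} (h : LJS G π) :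
    LJS (fun i => F.obj (G i)) (fun i => F.map (π i)) :=
  (je_map F R adj (ljs_iff_je.1 h)).ljs

/-- a qc object covered by objects whose images are qc has qc image -/
lemma isQC_map_of_cover (F : ToposFin.Sh K ⥤ ToposFin.Sh J) (R : ToposFin.Sh J ⥤ ToposFin.Sh K)
    (adj : F ⊣ R) {ι : Type u} {X : ToposFin.Sh K} (hX : ToposFin.IsQC X) {G : ι → ToposFin.Sh K}
    {π : ∀ i, G i ⟶ X} (h : LJS G π) (hG : ∀ i, ToposFin.IsQC (F.obj (G i))) :
    ToposFin.IsQC (F.obj X) := by
  obtain ⟨s, hs⟩ := (isQC_iff X).1 hX ι G π h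
  exact isQC_of_finite_ljs _ _ (ljs_map F R adj hs) (fun i => hG i)

end Groth.Agent.Helper2.TF13
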