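import Mathlib
import Groth.Prelude.Def_SGA4c
import Groth.Prelude.Def_ToposFin2
import Groth.Agent.Helper2.TF13
import Groth.Agent.S3067

set_option autoImplicit false
open CategoryTheory CategoryTheory.Limits Opposite
universe u
open ToposFin
open Groth.Agent.Helper2 Groth.Agent.Helper2.TF1 Groth.Agent.Helper2.TF13

namespace Groth.Agent.Helper2.TF14

variable {C D : Type u} [SmallCategory C] [SmallCategory D]
    {J : GrothendieckTopology C} {K : GrothendieckTopology D}

/-- if `F` preserves quasi-compact objects and sends a coherent cover to coherent objects,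
then `F X` is quasi-separated for quasi-separated `X`. -/
lemma isQS_map_of_cover (F : ToposFin.Sh K ⥤ ToposFin.Sh J) (R : ToposFin.Sh J ⥤ ToposFin.Sh K)
    (adj : F ⊣ R) [PreservesFiniteLimits F] (hE' : ToposFin.HasQCGenerators J)
    (hqc : ∀ X : ToposFin.Sh K, ToposFin.IsQC X → ToposFin.IsQC (F.obj X))
    {ι : Type u} {X : ToposFin.Sh K} (hX : ToposFin.IsQS X) {G : ι → ToposFin.Sh K}
    {π : ∀ i, G i ⟶ X} (h : LJS G π) (hG : ∀ i, ToposFin.IsQC (G i))
    (hFG : ∀ i, ToposFin.IsCoherent (F.obj (G i))) :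
    ToposFin.IsQS (F.obj X) := by
  have h1 := ljs_map F R adj h
  have h2 := (Groth.Agent.S3067.result hE' (fun i => F.obj (G i)) (fun i => F.map (π i))
    ((epi_sigma_iff_ljs _).2 h1) hFG).2
  rw [h2]
  intro i j
  exact ToposQC.isQC_of_iso (PreservesPullback.iso F (π i) (π j)).symm
    (hqc _ (hX _ _ (π i) (π j) (hG i) (hG j)))

end Groth.Agent.Helper2.TF14
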