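import Mathlib
import Groth.Prelude.Def_SGA4c
import Groth.Prelude.Def_ToposFin2
import Groth.Agent.Helper2.TF14

set_option autoImplicit false
open CategoryTheory CategoryTheory.Limits Opposite
universe u
open ToposFin
open Groth.Agent.Helper2 Groth.Agent.Helper2.TF1 Groth.Agent.Helper2.TF13 Groth.Agent.Helper2.TF12

namespace Groth.Agent.Helper2.TF15

variable {C : Type u} [SmallCategory C] {J : GrothendieckTopology C}

lemma isGenerating_ljs {S : Set (ToposFin.Sh J)} (hgen : ToposFin.IsGenerating S) (X : ToposFin.Sh J) :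
    ∃ (ι : Type u) (F : ι → ToposFin.Sh J) (π : ∀ i, F i ⟶ X), (∀ i, F i ∈ S) ∧ LJS F π := by
  obtain ⟨ι, G, π, hG, hπ⟩ := hgen X
  exact ⟨ι, G, π, hG, JE.ljs hπ⟩

lemma hasQCGenerators_of_generating {S : Set (ToposFin.Sh J)} (hqc : ∀ X ∈ S, ToposFin.IsQC X)
    (hgen : ToposFin.IsGenerating S) : ToposFin.HasQCGenerators J := by
  intro X
  obtain ⟨ι, G, π, hG, hπ⟩ := isGenerating_ljs hgen X
  exact ⟨ι, G, π, fun i => hqc _ (hG i), (epi_sigma_iff_ljs π).2 hπ⟩

/-- members of a generating set of qc objects closed under fibre products are quasi-separated -/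
lemma isQS_of_mem {S : Set (ToposFin.Sh J)} (hqc : ∀ X ∈ S, ToposFin.IsQC X)
    (hgen : ToposFin.IsGenerating S) (hpb : ToposFin.ClosedUnderPullbacks S)
    {K : ToposFin.Sh J} (hK : K ∈ S) : ToposFin.IsQS K := by
  intro A B a b hA hB
  obtain ⟨ι, Ai, α, hAi, hα⟩ := isGenerating_ljs hgen A
  obtain ⟨κ, Bj, β, hBj, hβ⟩ := isGenerating_ljs hgen B
  refine isQC_pullback_of_cover_left a b hA α hα (fun i => ?_)
  refine isQC_pullback_of_cover_right (α i ≫ a) b hB β hβ (fun j => ?_)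
  obtain ⟨P, p, q, hP, hsq⟩ := hpb (α i ≫ a) (β j ≫ b) (hAi i) (hBj j) hK
  exact ToposQC.isQC_of_iso hsq.isoPullback.symm (hqc P hP)

end Groth.Agent.Helper2.TF15
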