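import Mathlib
import Groth.Prelude.Def_SGA4c
import Groth.Prelude.Def_ToposFin2
import Groth.Agent.Helper2.TF15

set_option autoImplicit false
open CategoryTheory CategoryTheory.Limits Opposite
universe u
open ToposFin
open Groth.Agent.Helper2 Groth.Agent.Helper2.TF1 Groth.Agent.Helper2.TF13 Groth.Agent.Helper2.TF12
  Groth.Agent.Helper2.TF15 Groth.Agent.Helper2.TF11

namespace Groth.Agent.Helper2.TF16

variable {C : Type u} [SmallCategory C] {J : GrothendieckTopology C}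

/-- with a generating set of qc objects closed under fibre products: a morphism from a
quasi-separated object to a member of the generating set is quasi-separated -/
lemma isQSHom_to_mem {S : Set (ToposFin.Sh J)} (hqc : ∀ X ∈ S, ToposFin.IsQC X)
    (hgen : ToposFin.IsGenerating S) (hpb : ToposFin.ClosedUnderPullbacks S)
    {X K : ToposFin.Sh J} (hK : K ∈ S) (f : X ⟶ K) (hX : ToposFin.IsQS X) : ToposFin.IsQSHom f := by
  have hE := hasQCGenerators_of_generating hqc hgen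
  obtain ⟨ι, Xi, π, hXi, hπ⟩ := isGenerating_ljs hgen X
  refine qsHom_of_cover hE f Xi π hπ (fun i => hqc _ (hXi i)) ?_ hX
  intro i j
  obtain ⟨P, p, q, hP, hsq⟩ := hpb (π i ≫ f) (π j ≫ f) (hXi i) (hXi j) hK
  exact isQS_of_isQSHom hsq.isoPullback.inv (isQSHom_of_mono _) (isQS_of_mem hqc hgen hpb hP)


lemma isPullback_of_equalizer {A B K L Y E W : ToposFin.Sh J} (u : K ⟶ Y) (v : L ⟶ Y)
    (a' : A ⟶ pullback u v) (b' : B ⟶ pullback u v) (w₁ : W ⟶ A) (w₂ : W ⟶ B)
    (hsq : IsPullback w₁ w₂ (a' ≫ pullback.fst u v) (b' ≫ pullback.fst u v)) (e : E ⟶ W)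
    (we : e ≫ w₁ ≫ a' ≫ pullback.snd u v = e ≫ w₂ ≫ b' ≫ pullback.snd u v)
    (hlim : IsLimit (Fork.ofι e we)) : IsPullback (e ≫ w₁) (e ≫ w₂) a' b' := by
  have hcomm : (e ≫ w₁) ≫ a' = (e ≫ w₂) ≫ b' := by
    apply pullback.hom_ext
    · simp only [Category.assoc]
      rw [hsq.w]
    · simpa only [Category.assoc] using we
  have hl : ∀ s : PullbackCone a' b',
      s.fst ≫ (a' ≫ pullback.fst u v) = s.snd ≫ (b' ≫ pullback.fst u v) := by
    intro s
    rw [← Category.assoc, ← Category.assoc, s.condition]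
  have hl2 : ∀ s : PullbackCone a' b', hsq.lift s.fst s.snd (hl s) ≫ (w₁ ≫ a' ≫ pullback.snd u v) =
      hsq.lift s.fst s.snd (hl s) ≫ (w₂ ≫ b' ≫ pullback.snd u v) := by
    intro s
    rw [hsq.lift_fst_assoc, hsq.lift_snd_assoc, ← Category.assoc, s.condition, Category.assoc]
  have hle : ∀ s : PullbackCone a' b',
      Fork.IsLimit.lift hlim (hsq.lift s.fst s.snd (hl s)) (hl2 s) ≫ e =
        hsq.lift s.fst s.snd (hl s) := fun s => Fork.IsLimit.lift_ι' hlim _ _
  refine ⟨⟨hcomm⟩, ⟨PullbackCone.IsLimit.mk _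
    (fun s => Fork.IsLimit.lift hlim (hsq.lift s.fst s.snd (hl s)) (hl2 s))
    (fun s => ?_) (fun s => ?_) (fun s m h1 h2 => ?_)⟩⟩
  · rw [← Category.assoc, hle, hsq.lift_fst]
  · rw [← Category.assoc, hle, hsq.lift_snd]
  · apply Fork.IsLimit.hom_ext hlim
    change m ≫ e = _ ≫ e
    rw [hle]
    apply hsq.hom_ext
    · rw [hsq.lift_fst, Category.assoc]; exact h1
    · rw [hsq.lift_snd, Category.assoc]; exact h2

/-- (A) in an algebraic topos, fibre products of members of the generating set over any base are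
quasi-separated -/
lemma isQS_pullback_of_mem {S : Set (ToposFin.Sh J)} (hqc : ∀ X ∈ S, ToposFin.IsQC X)
    (hgen : ToposFin.IsGenerating S) (hpb : ToposFin.ClosedUnderPullbacks S)
    (heq : ToposFin.ClosedUnderEqualizers S)
    {K L Y : ToposFin.Sh J} (hK : K ∈ S) (hL : L ∈ S) (u : K ⟶ Y) (v : L ⟶ Y) :
    ToposFin.IsQS (pullback u v) := by
  intro A B a b hA hB
  obtain ⟨ι, Ai, α, hAi, hα⟩ := isGenerating_ljs hgen A
  obtain ⟨κ, Bj, β, hBj, hβ⟩ := isGenerating_ljs hgen B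
  refine isQC_pullback_of_cover_left a b hA α hα (fun i => ?_)
  refine isQC_pullback_of_cover_right (α i ≫ a) b hB β hβ (fun j => ?_)
  obtain ⟨W, w₁, w₂, hW, hsq⟩ := hpb ((α i ≫ a) ≫ pullback.fst u v) ((β j ≫ b) ≫ pullback.fst u v)
    (hAi i) (hBj j) hK
  obtain ⟨E, e, we, hE, ⟨hlim⟩⟩ := heq (w₁ ≫ (α i ≫ a) ≫ pullback.snd u v)
    (w₂ ≫ (β j ≫ b) ≫ pullback.snd u v) hW hL
  have hpbE := isPullback_of_equalizer u v (α i ≫ a) (β j ≫ b) w₁ w₂ hsq e we hlim
  exact ToposQC.isQC_of_iso hpbE.isoPullback.symm (hqc E hE)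

/-- (B) in an algebraic topos every morphism with quasi-separated source is quasi-separated -/
lemma isQSHom_of_isQS_source {S : Set (ToposFin.Sh J)} (hqc : ∀ X ∈ S, ToposFin.IsQC X)
    (hgen : ToposFin.IsGenerating S) (hpb : ToposFin.ClosedUnderPullbacks S)
    (heq : ToposFin.ClosedUnderEqualizers S)
    {X Y : ToposFin.Sh J} (f : X ⟶ Y) (hX : ToposFin.IsQS X) : ToposFin.IsQSHom f := by
  have hE := hasQCGenerators_of_generating hqc hgen
  obtain ⟨ι, Xi, π, hXi, hπ⟩ := isGenerating_ljs hgen X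
  exact qsHom_of_cover hE f Xi π hπ (fun i => hqc _ (hXi i))
    (fun i j => isQS_pullback_of_mem hqc hgen hpb heq (hXi i) (hXi j) _ _) hX

end Groth.Agent.Helper2.TF16
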