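import Mathlib
import Groth.Prelude.Def_SGA4c
import Groth.Agent.Helper2.TF16

set_option autoImplicit false
universe w w' u
open CategoryTheory CategoryTheory.Limits Opposite
open Groth.Agent.Helper2

namespace Groth.Agent.Helper2.TF1

variable {C : Type u} [SmallCategory C] {J : GrothendieckTopology C}

variable (J) in
/-- the unit `yoneda X ⟶ eps X` -/
noncomputable def eta (X : C) : yoneda.obj X ⟶ (ToposFin.eps J X).obj := toSheafify J (yoneda.obj X)

set_option synthInstance.maxHeartbeats 40000 in
instance (X : C) : Presheaf.IsLocallySurjective J (eta J X) := by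
  unfold eta; infer_instance

set_option synthInstance.maxHeartbeats 40000 in
instance (X : C) : Presheaf.IsLocallyInjective J (eta J X) := by
  unfold eta; infer_instance

variable (J) in
/-- `eps` on morphisms -/
noncomputable def epsMap {V X : C} (g : V ⟶ X) : ToposFin.eps J V ⟶ ToposFin.eps J X :=
  (presheafToSheaf J (Type u)).map (yoneda.map g)

lemma epsMap_eta {V X : C} (g : V ⟶ X) {W : C} (h : W ⟶ V) :
    (epsMap J g).hom.app (op W) ((eta J V).app (op W) h) = (eta J X).app (op W) (h ≫ g) := by
  have := toSheafify_naturality J (yoneda.map g)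
  have h2 := congrArg (fun t => t.app (op W) h) this
  simp only [NatTrans.comp_app, types_comp_apply] at h2
  exact h2.symm

lemma eta_map {X : C} {W W' : C} (m : W' ⟶ W) (h : W ⟶ X) :
    (ToposFin.eps J X).obj.map m.op ((eta J X).app (op W) h) = (eta J X).app (op W') (m ≫ h) := by
  have := NatTrans.naturality_apply (eta J X) m.op h
  exact this.symm

/-- every section of `eps X` is locally of the form `η(h)` -/
lemma eps_section_locally {X U : C} (x : (ToposFin.eps J X).obj.obj (op U)) :
    ∃ S ∈ J U, ∀ ⦃W : C⦄ (k : W ⟶ U), S k →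
      ∃ h : W ⟶ X, (eta J X).app (op W) h = (ToposFin.eps J X).obj.map k.op x := by
  refine ⟨_, Presheaf.imageSieve_mem J (eta J X) x, ?_⟩
  intro W k hk
  exact hk

/-- `η(h) = η(h')` implies `h = h'` locally -/
lemma eta_eq_locally {X W : C} (h h' : W ⟶ X)
    (e : (eta J X).app (op W) h = (eta J X).app (op W) h') :
    ∃ S ∈ J W, ∀ ⦃W' : C⦄ (m : W' ⟶ W), S m → m ≫ h = m ≫ h' := by
  refine ⟨_, Presheaf.equalizerSieve_mem J (eta J X) (X := op W) h h' e, ?_⟩
  intro W' m hm
  exact hm

end Groth.Agent.Helper2.TF1
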