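import Mathlib
import Groth.Prelude.Def_SGA4c
import Groth.Agent.Helper2.TF17

set_option autoImplicit false
open CategoryTheory CategoryTheory.Limits Opposite
universe u
open ToposFin
open Groth.Agent.Helper2 Groth.Agent.Helper2.TF1

namespace Groth.Agent.Helper2.TF18

variable {C : Type u} [SmallCategory C] {J : GrothendieckTopology C}

/-- (E2a) a covering sieve gives an LJS family of representables -/
lemma ljs_eps_of_covering {X : C} (S : Sieve X) (hS : S ∈ J X) :
    LJS (fun s : Σ V : C, {g : V ⟶ X // S g} => ToposFin.eps J s.1) (fun s => epsMap J s.2.1) := by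
  intro U x
  obtain ⟨T, hT, hTx⟩ := eps_section_locally x
  choose h hh using hTx
  refine ⟨Sieve.bind T (fun W k hk => S.pullback (h k hk)),
    J.bind_covering hT (fun W k hk => J.pullback_stable (h k hk) hS), ?_⟩
  intro W' m hm
  obtain ⟨W, a, k, hk, ha, rfl⟩ := hm
  -- ha : S (a ≫ h k hk)
  refine ⟨⟨W', ⟨a ≫ h k hk, ha⟩⟩, (eta J W').app (op W') (𝟙 W'), ?_⟩
  rw [epsMap_eta, Category.id_comp]
  rw [op_comp, Functor.map_comp]
  change _ = (ToposFin.eps J X).obj.map a.op ((ToposFin.eps J X).obj.map k.op x)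
  rw [← hh k hk, eta_map]

/-- (E2b) an LJS family of representable morphisms generates a covering sieve -/
lemma covering_of_ljs_eps {ι : Type*} {X : C} (V : ι → C) (g : ∀ k, V k ⟶ X)
    (h : LJS (fun k => ToposFin.eps J (V k)) (fun k => epsMap J (g k))) :
    Sieve.ofArrows V g ∈ J X := by
  obtain ⟨T, hT, hTx⟩ := h X ((eta J X).app (op X) (𝟙 X))
  refine J.transitive hT _ ?_
  intro W m hm
  obtain ⟨k, y, hy⟩ := hTx m hm
  rw [eta_map, Category.comp_id] at hy
  -- hy : epsMap (g k) y = η(m)
  obtain ⟨T', hT', hy'⟩ := eps_section_locally y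
  refine J.transitive hT' _ ?_
  intro W' m' hm'
  obtain ⟨c, hc⟩ := hy' m' hm'
  -- hc : η(c) = y|m'
  have e : (eta J X).app (op W') (c ≫ g k) = (eta J X).app (op W') (m' ≫ m) := by
    rw [← epsMap_eta, hc, map_app_apply, hy, eta_map]
  obtain ⟨T'', hT'', he⟩ := eta_eq_locally _ _ e
  refine J.superset_covering ?_ hT''
  intro W'' m'' hm''
  have := he m'' hm''
  change Sieve.ofArrows V g ((m'' ≫ m') ≫ m)
  rw [Category.assoc, ← this, ← Category.assoc]
  exact (Sieve.ofArrows V g).downward_closed (Sieve.ofArrows_mk V g k) (m'' ≫ c)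

end Groth.Agent.Helper2.TF18
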