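import Mathlib
import Groth.Prelude.Def_SGA4c
import Groth.Agent.Helper2.TF18
import Groth.Agent.S3056

set_option autoImplicit false
open CategoryTheory CategoryTheory.Limits Opposite
universe u
open ToposFin
open Groth.Agent.Helper2 Groth.Agent.Helper2.TF1 Groth.Agent.Helper2.TF18

namespace Groth.Agent.Helper2.TF19

variable {C : Type u} [SmallCategory C] {J : GrothendieckTopology C}

/-- the morphism `eps V ⟶ F` attached to a section of `F` over `V` -/
noncomputable def secMap {V : C} {F : ToposFin.Sh J} (s : F.obj.obj (op V)) : ToposFin.eps J V ⟶ F :=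
  ⟨sheafifyLift J (yonedaEquiv.symm s) F.2⟩

lemma secMap_eta {V W : C} {F : ToposFin.Sh J} (s : F.obj.obj (op V)) (h : W ⟶ V) :
    (secMap s).hom.app (op W) ((eta J V).app (op W) h) = F.obj.map h.op s := by
  have h1 := toSheafify_sheafifyLift J (yonedaEquiv.symm s) F.2
  have h2 := congrArg (fun t => t.app (op W) h) h1
  simp only [NatTrans.comp_app, types_comp_apply] at h2
  exact h2.trans (yonedaEquiv_symm_app_apply s (op W) h)

lemma eps_hom_ext {V : C} {F : ToposFin.Sh J} (a b : ToposFin.eps J V ⟶ F)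
    (h : a.hom.app (op V) ((eta J V).app (op V) (𝟙 V)) = b.hom.app (op V) ((eta J V).app (op V) (𝟙 V))) :
    a = b := by
  apply Sheaf.hom_ext
  apply sheafify_hom_ext J _ _ F.2
  apply yonedaEquiv.injective
  exact h

lemma epsMap_comp {U V X : C} (c : U ⟶ V) (g : V ⟶ X) :
    epsMap J (c ≫ g) = epsMap J c ≫ epsMap J g := by
  unfold epsMap
  rw [Functor.map_comp, Functor.map_comp]

/-- a morphism `eps V ⟶ eps X` whose value on the universal section is `η(h)` is `epsMap h` -/
lemma eq_epsMap {V X : C} (s : ToposFin.eps J V ⟶ ToposFin.eps J X) (h : V ⟶ X)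
    (hs : s.hom.app (op V) ((eta J V).app (op V) (𝟙 V)) = (eta J X).app (op V) h) :
    s = epsMap J h := by
  apply eps_hom_ext
  rw [hs, epsMap_eta, Category.id_comp]

/-- representables generate -/
lemma ljs_secMap (F : ToposFin.Sh J) :
    LJS (fun i : Σ V : C, F.obj.obj (op V) => ToposFin.eps J i.1) (fun i => secMap i.2) := by
  intro U x
  refine ⟨⊤, J.top_mem U, ?_⟩
  intro V g _
  exact ⟨⟨U, x⟩, (eta J U).app (op V) g, secMap_eta x g⟩

lemma ljs_eps_of_ofArrows {ι : Type*} {X : C} (V : ι → C) (g : ∀ k, V k ⟶ X)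
    (h : Sieve.ofArrows V g ∈ J X) :
    LJS (fun k => ToposFin.eps J (V k)) (fun k => epsMap J (g k)) := by
  refine (ljs_eps_of_covering _ h).of_factor _ _ ?_
  rintro ⟨W, g', hg'⟩
  obtain ⟨k, c, hc⟩ := (Sieve.mem_ofArrows_iff V g _).1 hg'
  subst hc
  exact ⟨k, epsMap J c, (epsMap_comp c (g k)).symm⟩

lemma isPullback_eps [HasPullbacks C] {V W X : C} (h : V ⟶ X) (h' : W ⟶ X) :
    IsPullback (epsMap J (pullback.fst h h')) (epsMap J (pullback.snd h h')) (epsMap J h) (epsMap J h') :=
  ((IsPullback.of_hasPullback h h').map yoneda).map (presheafToSheaf J (Type u))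

/-- a morphism `eps V ⟶ eps X` is, on a finite covering family of `V`, induced by morphisms of `C` -/
lemma exists_finite_local_rep (hC : ∀ X : C, ToposFin.IsQCSite J X) {V X : C}
    (s : ToposFin.eps J V ⟶ ToposFin.eps J X) :
    ∃ (n : ℕ) (Vk : Fin n → C) (k : ∀ j, Vk j ⟶ V) (h : ∀ j, Vk j ⟶ X),
      LJS (fun j => ToposFin.eps J (Vk j)) (fun j => epsMap J (k j)) ∧
      ∀ j, epsMap J (k j) ≫ s = epsMap J (h j) := by
  obtain ⟨T, hT, hTx⟩ := eps_section_locally (s.hom.app (op V) ((eta J V).app (op V) (𝟙 V)))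
  obtain ⟨n, Vk, k, hk, hcov⟩ := hC V T hT
  have h1 := fun j => hTx (k j) (hk j)
  choose h hh using h1
  refine ⟨n, Vk, k, h, ljs_eps_of_ofArrows Vk k hcov, ?_⟩
  intro j
  apply eq_epsMap
  rw [comp_app_apply, epsMap_eta, Category.id_comp, hh j, ← map_app_apply, eta_map, Category.comp_id]

end Groth.Agent.Helper2.TF19
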