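import Mathlib
import Groth.Prelude.Def_SGA4c
import Groth.Agent.Helper2.TF19
import Groth.Agent.S3056
import Groth.Agent.S3069

set_option autoImplicit false
open CategoryTheory CategoryTheory.Limits Opposite
universe u
open ToposFin
open Groth.Agent.Helper2 Groth.Agent.Helper2.TF1 Groth.Agent.Helper2.TF18 Groth.Agent.Helper2.TF19
  Groth.Agent.Helper2.TF12 Groth.Agent.Helper2.TF10

namespace Groth.Agent.Helper2.TF20

variable {C : Type u} [SmallCategory C] {J : GrothendieckTopology C}

lemma hasQCGen_of_site (hC : ∀ X : C, ToposFin.IsQCSite J X) : ToposFin.HasQCGenerators J := by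
  intro F
  exact ⟨Σ V : C, F.obj.obj (op V), fun i => ToposFin.eps J i.1, fun i => secMap i.2,
    fun i => (Groth.Agent.S3056.result J i.1).1 (hC i.1), (epi_sigma_iff_ljs _).2 (ljs_secMap F)⟩

/-- (R1) every morphism between representable sheaves is quasi-separated -/
lemma isQSHom_eps [HasPullbacks C] (hC : ∀ X : C, ToposFin.IsQCSite J X) {W X : C}
    (t : ToposFin.eps J W ⟶ ToposFin.eps J X) : ToposFin.IsQSHom t := by
  have hE := hasQCGen_of_site hC
  have hcoh : ∀ V : C, ToposFin.IsCoherent (ToposFin.eps J V) := fun V => Groth.Agent.S3069.result J hC V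
  -- representable morphisms are quasi-separated
  have hrep : ∀ {V Y : C} (h : V ⟶ Y), ToposFin.IsQSHom (epsMap J h) := by
    intro V Y h
    have hpb := isPullback_eps (J := J) h h
    -- diagonal = epsMap (diagonal h) ≫ iso
    have e : pullback.diagonal (epsMap J h) =
        epsMap J (pullback.diagonal h) ≫ hpb.isoPullback.hom := by
      apply pullback.hom_ext
      · rw [pullback.diagonal_fst, Category.assoc, hpb.isoPullback_hom_fst, ← epsMap_comp,
          pullback.diagonal_fst]
        unfold epsMap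
        rw [CategoryTheory.Functor.map_id, CategoryTheory.Functor.map_id]
      · rw [pullback.diagonal_snd, Category.assoc, hpb.isoPullback_hom_snd, ← epsMap_comp,
          pullback.diagonal_snd]
        unfold epsMap
        rw [CategoryTheory.Functor.map_id, CategoryTheory.Functor.map_id]
    change ToposFin.IsQCHom (pullback.diagonal (epsMap J h))
    rw [e]
    exact isQCHom_comp _ _ (isQCHom_of_qc_of_qs _ (hcoh V).1 (hcoh _).2) (isQCHom_of_isIso _)
  obtain ⟨n, Wl, k, h, hk, hkh⟩ := exists_finite_local_rep hC t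
  refine qs_of_cover_source hE t (ι := ULift.{u} (Fin n)) (fun l => ToposFin.eps J (Wl l.down))
    (fun l => epsMap J (k l.down)) ?_ (fun l => ?_) (fun l => ?_)
  · exact hk.of_factor _ _ (fun l => ⟨ULift.up l, 𝟙 _, Category.id_comp _⟩)
  · exact isQCHom_of_qc_of_qs _ (hcoh _).1 (hcoh _).2
  · rw [hkh l.down]
    exact hrep _

/-- (A'') -/
lemma isQS_pullback_eps [HasPullbacks C] (hC : ∀ X : C, ToposFin.IsQCSite J X) {V W X : C}
    (s : ToposFin.eps J V ⟶ ToposFin.eps J X) (t : ToposFin.eps J W ⟶ ToposFin.eps J X) :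
    ToposFin.IsQS (pullback s t) :=
  isQS_of_isQSHom (pullback.fst s t)
    (isQSHom_of_isPullback (IsPullback.of_hasPullback s t).flip (isQSHom_eps hC t))
    (Groth.Agent.S3069.result J hC V).2

lemma isQSHom_to_eps [HasPullbacks C] (hC : ∀ X : C, ToposFin.IsQCSite J X) {X : C}
    {G : ToposFin.Sh J} (g : G ⟶ ToposFin.eps J X) (hG : ToposFin.IsQS G) : ToposFin.IsQSHom g := by
  have hE := hasQCGen_of_site hC
  exact qsHom_of_cover hE g _ _ (ljs_secMap G) (fun i => (Groth.Agent.S3056.result J i.1).1 (hC i.1))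
    (fun i j => isQS_pullback_eps hC _ _) hG

end Groth.Agent.Helper2.TF20
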