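import Mathlib
import Groth.Prelude.Def_SGA4c
import Groth.Prelude.Def_ToposFin2
import Groth.Agent.Helper2.TF20
import Groth.Agent.S3056
import Groth.Agent.S3069
import Groth.Agent.S5590

set_option autoImplicit false
open CategoryTheory CategoryTheory.Limits Opposite
universe u
open ToposFin
open Groth.Agent.Helper2 Groth.Agent.Helper2.TF1 Groth.Agent.Helper2.TF18 Groth.Agent.Helper2.TF19
  Groth.Agent.Helper2.TF12 Groth.Agent.Helper2.TF10 Groth.Agent.Helper2.TF20

namespace Groth.Agent.Helper2.TF21

variable {C D : Type u} [SmallCategory C] [SmallCategory D]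
  (J : GrothendieckTopology C) (K : GrothendieckTopology D)
  (G : C ⥤ D) [Functor.IsContinuous G J K]

/-- the universal section -/
noncomputable def xi (J : GrothendieckTopology C) (X : C) : (ToposFin.eps J X).obj.obj (op X) :=
  (eta J X).app (op X) (𝟙 X)

lemma secMap_xi {V : C} {F : ToposFin.Sh J} (s : F.obj.obj (op V)) :
    (secMap s).hom.app (op V) (xi J V) = s := by
  unfold xi
  rw [secMap_eta]
  simp

lemma eps_hom_ext' {V : C} {F : ToposFin.Sh J} (a b : ToposFin.eps J V ⟶ F)
    (h : a.hom.app (op V) (xi J V) = b.hom.app (op V) (xi J V)) : a = b :=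
  eps_hom_ext a b h

/-- inverse image of a representable sheaf is representable -/
noncomputable def pullbackEpsIso (X : C) :
    (G.sheafPullback (Type u) J K).obj (ToposFin.eps J X) ≅ ToposFin.eps K (G.obj X) := by
  let F := G.sheafPullback (Type u) J K
  let R := G.sheafPushforwardContinuous (Type u) J K
  let adj : F ⊣ R := G.sheafAdjunctionContinuous (Type u) J K
  let u := adj.unit.app (ToposFin.eps J X)
  let s₁ : (F.obj (ToposFin.eps J X)).obj.obj (op (G.obj X)) := u.hom.app (op X) (xi J X)
  let φ : ToposFin.eps K (G.obj X) ⟶ F.obj (ToposFin.eps J X) := secMap s₁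
  let s₂ : (R.obj (ToposFin.eps K (G.obj X))).obj.obj (op X) := xi K (G.obj X)
  let ψ : F.obj (ToposFin.eps J X) ⟶ ToposFin.eps K (G.obj X) := (adj.homEquiv _ _).symm (secMap s₂)
  have hψ : adj.homEquiv _ _ ψ = secMap s₂ := Equiv.apply_symm_apply _ _
  have h1 : ψ.hom.app (op (G.obj X)) s₁ = xi K (G.obj X) := by
    have := congrArg (fun t => t.hom.app (op X) (xi J X)) hψ
    simp only [Adjunction.homEquiv_unit] at this
    rw [secMap_xi] at this
    exact this
  refine ⟨ψ, φ, ?_, ?_⟩
  · apply (adj.homEquiv _ _).injective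
    apply eps_hom_ext'
    rw [adj.homEquiv_naturality_right, hψ]
    rw [comp_app_apply, secMap_xi]
    simp only [Adjunction.homEquiv_unit, CategoryTheory.Functor.map_id, Category.comp_id]
    exact secMap_xi K s₁
  · apply eps_hom_ext'
    rw [comp_app_apply, secMap_xi]
    exact h1

end Groth.Agent.Helper2.TF21
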