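import Mathlib
import Groth.Prelude.Def_SGA4c
import Groth.Agent.Helper2.TF21

set_option autoImplicit false
universe w w' u
open CategoryTheory CategoryTheory.Limits Opposite
open Groth.Agent.Helper2

namespace Groth.Agent.Helper2.TF1

variable {C : Type u} [SmallCategory C] {J : GrothendieckTopology C}

/-- an object all of whose sections live over objects covered by the empty sieve -/
def IsEmptyObj (X : ToposFin.Sh J) : Prop := ∀ (V : C), X.obj.obj (op V) → ⊥ ∈ J V

/-- over an object covered by the empty sieve, any two sections of a sheaf agree -/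
lemma section_subsingleton {V : C} (hV : ⊥ ∈ J V) (Z : ToposFin.Sh J) (a b : Z.obj.obj (op V)) :
    a = b :=
  sheaf_sep Z hV (fun W g hg => hg.elim)

lemma isEmptyObj_of_isInitial {I : ToposFin.Sh J} (hI : IsInitial I) : IsEmptyObj I := by
  intro V x
  have hje : JE (fun e : PEmpty.{1} => (e.elim : ToposFin.Sh J)) (fun e => (e.elim : _ ⟶ I)) :=
    fun Z a b _ => hI.hom_ext a b
  obtain ⟨S, hS, h⟩ := hje.ljs V x
  refine J.superset_covering ?_ hS
  intro W g hg
  obtain ⟨e, _⟩ := h g hg
  exact e.elim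

lemma isEmptyObj_of_hom {X Y : ToposFin.Sh J} (f : X ⟶ Y) (hY : IsEmptyObj Y) : IsEmptyObj X :=
  fun V x => hY V (f.hom.app (op V) x)

/-- the empty family covers an empty object -/
lemma isQC_of_isEmptyObj {X : ToposFin.Sh J} (hX : IsEmptyObj X) : ToposFin.IsQC X := by
  rw [isQC_iff]
  intro ι F π _
  refine ⟨∅, ?_⟩
  intro U x
  exact ⟨⊥, hX U x, fun V g hg => hg.elim⟩

/-- (D4) members that are empty objects can be dropped from an LJS family -/
lemma LJS.drop_empty {ι : Type w} {X : ToposFin.Sh J} {F : ι → ToposFin.Sh J} {π : ∀ i, F i ⟶ X}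
    (h : LJS F π) (s : Set ι) (hs : ∀ i, i ∉ s → IsEmptyObj (F i)) :
    LJS (fun i : s => F i) (fun i : s => π i) := by
  intro U x
  obtain ⟨S, hS, hx⟩ := h U x
  let S' : Sieve U :=
    { arrows := fun V g => ∃ (i : s) (y : (F i).obj.obj (op V)), (π i).hom.app (op V) y = X.obj.map g.op x
      downward_closed := by
        rintro V W g ⟨i, y, hy⟩ k
        refine ⟨i, (F i).obj.map k.op y, ?_⟩
        rw [map_app_apply, hy, op_comp, Functor.map_comp]
        rfl }
  refine ⟨S', ?_, fun V g hg => hg⟩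
  refine J.transitive hS S' ?_
  intro V g hg
  obtain ⟨i, y, hy⟩ := hx g hg
  by_cases hi : i ∈ s
  · have : S' g := ⟨⟨i, hi⟩, y, hy⟩
    have h2 : S'.pullback g = ⊤ := Sieve.pullback_eq_top_of_mem S' this
    rw [h2]
    exact J.top_mem V
  · exact J.superset_covering bot_le (hs i hi V y)

variable (J) in
/-- the sheaf of closed sieves -/
noncomputable def Omega : ToposFin.Sh J :=
  ⟨(Functor.closedSieves J).toFunctor, (isSheaf_iff_isSheaf_of_type _ _).2 (classifier_isSheaf J)⟩

/-- constant map `true` -/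
noncomputable def omTrue (Z : ToposFin.Sh J) : Z ⟶ Omega J :=
  ⟨{ app := fun V => ↾(fun _ => ⟨(⊤ : Sieve V.unop), fun _ _ _ => trivial⟩)
     naturality := by
      intro V W f
      ext z
      apply Subtype.ext
      change (⊤ : Sieve W.unop) = Sieve.pullback f.unop ⊤
      rw [Sieve.pullback_top] }⟩

/-- constant map `false` -/
noncomputable def omFalse (Z : ToposFin.Sh J) : Z ⟶ Omega J :=
  ⟨{ app := fun V => ↾(fun _ => ⟨J.close (⊥ : Sieve V.unop), J.close_isClosed _⟩)
     naturality := by
      intro V W f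
      ext z
      apply Subtype.ext
      change J.close (⊥ : Sieve W.unop) = Sieve.pullback f.unop (J.close ⊥)
      rw [← J.pullback_close]
      congr 1 }⟩

lemma om_true_ne_false {Z Z' : ToposFin.Sh J} {V : C} (y : Z.obj.obj (op V)) (z : Z'.obj.obj (op V))
    (h : (omTrue Z).hom.app (op V) y = (omFalse Z').hom.app (op V) z) : ⊥ ∈ J V := by
  have h2 : (⊤ : Sieve V) = J.close ⊥ := congrArg Subtype.val h
  rw [← J.close_eq_top_iff_mem]
  exact h2.symm

/-- disjointness of the summands of a coproduct -/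
lemma cofan_disjoint {ι : Type w} {F : ι → ToposFin.Sh J} (c : Cofan F) (hc : IsColimit c)
    {i j : ι} (hij : i ≠ j) {V : C} (y : (F i).obj.obj (op V)) (z : (F j).obj.obj (op V))
    (h : (c.inj i).hom.app (op V) y = (c.inj j).hom.app (op V) z) : ⊥ ∈ J V := by
  classical
  let χ : c.pt ⟶ Omega J := Cofan.IsColimit.desc hc (fun k => if k = i then omTrue (F k) else omFalse (F k))
  have h1 : c.inj i ≫ χ = omTrue (F i) := by
    rw [Cofan.IsColimit.fac]; simp
  have h2 : c.inj j ≫ χ = omFalse (F j) := by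
    rw [Cofan.IsColimit.fac]; simp [Ne.symm hij]
  apply om_true_ne_false y z
  rw [← h1, ← h2, comp_app_apply, comp_app_apply, h]

lemma cofan_ljs {ι : Type w} {F : ι → ToposFin.Sh J} (c : Cofan F) (hc : IsColimit c) :
    LJS F c.inj :=
  JE.ljs (fun Z a b hab => Cofan.IsColimit.hom_ext hc a b hab)

end Groth.Agent.Helper2.TF1
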