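import Mathlib
import Groth.Prelude.Def_SGA4c
import Groth.Agent.Helper2.TF22

set_option autoImplicit false
open CategoryTheory CategoryTheory.Limits Opposite
universe w u
open ToposFin
open Groth.Agent.Helper2 Groth.Agent.Helper2.TF1

namespace Groth.Agent.Helper2.TF23

variable {C : Type u} [SmallCategory C] {J : GrothendieckTopology C}

/-- monomorphisms of sheaves of sets are injective on sections -/
lemma mono_app_injective {X Y : ToposFin.Sh J} (f : X ⟶ Y) [Mono f] (V : Cᵒᵖ) :
    Function.Injective (f.hom.app V) := by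
  intro a b hab
  have hk : IsPullback (𝟙 X) (𝟙 X) f f := (IsKernelPair.id_of_mono f)
  obtain ⟨z, hz1, hz2⟩ := Types.exists_of_isPullback (ShfEpi.isPullback_app J hk V) a b hab
  have h1 : z = a := hz1
  have h2 : z = b := hz2
  rw [← h1, ← h2]

lemma bot_mem_of_locally {V : C} {T : Sieve V} (hT : T ∈ J V)
    (h : ∀ ⦃W : C⦄ (g : W ⟶ V), T g → ⊥ ∈ J W) : ⊥ ∈ J V := by
  refine J.transitive hT ⊥ ?_
  intro W g hg
  exact J.superset_covering bot_le (h g hg)

/-- an empty object is isomorphic to the initial object -/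
lemma iso_initial_of_isEmptyObj {X : ToposFin.Sh J} (hX : IsEmptyObj X) :
    Nonempty (X ≅ ⊥_ (ToposFin.Sh J)) := by
  have hI : IsEmptyObj (⊥_ (ToposFin.Sh J)) := isEmptyObj_of_isInitial initialIsInitial
  have hepi : Epi (initial.to X) := by
    rw [epi_iff_ljs]
    intro U x
    exact ⟨⊥, hX U x, fun V g hg => hg.elim⟩
  have hmono : Mono (initial.to X) := by
    constructor
    intro W a b _
    apply Sheaf.hom_ext
    ext V w
    exact section_subsingleton (hI V.unop (a.hom.app V w)) _ _ _
  have := isIso_of_mono_of_epi (initial.to X)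
  exact ⟨(asIso (initial.to X)).symm⟩

lemma isEmptyObj_iff {X : ToposFin.Sh J} : IsEmptyObj X ↔ Nonempty (X ≅ ⊥_ (ToposFin.Sh J)) := by
  constructor
  · exact iso_initial_of_isEmptyObj
  · rintro ⟨e⟩
    exact isEmptyObj_of_hom e.hom (isEmptyObj_of_isInitial initialIsInitial)

/-- the inclusion of a summand is a quasi-compact morphism -/
lemma isQCHom_inj {ι : Type u} {F : ι → ToposFin.Sh J} (c : Cofan F) (hc : IsColimit c) (i : ι)
    [Mono (c.inj i)] : ToposFin.IsQCHom (c.inj i) := by
  classical
  intro T t hT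
  rw [isQC_iff]
  intro κ G σ hσ
  -- the cover of T by the pullbacks of the summands
  have hP : LJS (fun j => pullback (c.inj j) t) (fun j => pullback.snd (c.inj j) t) :=
    (cofan_ljs c hc).pullback t _ _ (fun j => pullback.fst (c.inj j) t)
      (fun j => (IsPullback.of_hasPullback (c.inj j) t).flip)
  -- step 1 : a cover of T
  let Fam : κ ⊕ {j : ι // j ≠ i} → ToposFin.Sh J :=
    Sum.elim G (fun j => pullback (c.inj j.1) t)
  let fam : ∀ m, Fam m ⟶ T := fun m => match m with
    | Sum.inl k => σ k ≫ pullback.snd (c.inj i) t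
    | Sum.inr j => pullback.snd (c.inj j.1) t
  have h1 : LJS Fam fam := by
    intro U x
    obtain ⟨S, hS, hx⟩ := hP U x
    choose j y hy using hx
    have h2 : ∀ (V : C) (g : V ⟶ U) (hg : S g), ∃ S' ∈ J V, ∀ ⦃W : C⦄ (k : W ⟶ V), S' k →
        ∃ (m : κ ⊕ {j : ι // j ≠ i}) (z : (Fam m).obj.obj (op W)),
          (fam m).hom.app (op W) z = T.obj.map k.op (T.obj.map g.op x) := by
      intro V g hg
      by_cases hj : j g hg = i
      · have y' := y g hg
        have hy' := hy g hg
        rw [hj] at y' 
        -- use the cover σ of P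
        have hji := hj
        revert hy'
        generalize y g hg = y0
        generalize j g hg = j0 at hji y0 ⊢
        subst hji
        intro hy'
        obtain ⟨S', hS', hz⟩ := hσ V y0
        refine ⟨S', hS', ?_⟩
        intro W k hk
        obtain ⟨k', z, hz'⟩ := hz k hk
        refine ⟨Sum.inl k', z, ?_⟩
        change (σ k' ≫ pullback.snd (c.inj j0) t).hom.app (op W) z = _
        rw [comp_app_apply, hz', map_app_apply, hy']
      · refine ⟨⊤, J.top_mem V, ?_⟩
        intro W k _
        refine ⟨Sum.inr ⟨j g hg, hj⟩, (pullback (c.inj (j g hg)) t).obj.map k.op (y g hg), ?_⟩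
        change (pullback.snd (c.inj (j g hg)) t).hom.app (op W) _ = _
        rw [map_app_apply, hy g hg]
    choose S' hS' hz using h2
    refine ⟨Sieve.bind S (fun V g hg => S' V g hg), J.bind_covering hS (fun V g hg => hS' V g hg), ?_⟩
    intro W m hm
    obtain ⟨V, a, g, hg, ha, rfl⟩ := hm
    obtain ⟨m', z, hz'⟩ := hz V g hg a ha
    refine ⟨m', z, ?_⟩
    rw [hz', op_comp, Functor.map_comp]
    rfl
  -- step 2 : finite subfamily
  obtain ⟨s, hs⟩ := (isQC_iff T).1 hT _ Fam fam h1
  -- step 3 : restrict to P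
  let s' : Finset κ := s.preimage Sum.inl (fun _ _ _ _ h => Sum.inl.inj h)
  refine ⟨s', ?_⟩
  intro U p
  obtain ⟨S, hS, hx⟩ := hs U ((pullback.snd (c.inj i) t).hom.app (op U) p)
  let S'' : Sieve U :=
    { arrows := fun V g => ∃ (k : s') (y : (G k).obj.obj (op V)),
        (σ k).hom.app (op V) y = (pullback (c.inj i) t).obj.map g.op p
      downward_closed := by
        rintro V W g ⟨k, y, hy⟩ l
        refine ⟨k, (G k).obj.map l.op y, ?_⟩
        rw [map_app_apply, hy, op_comp, Functor.map_comp]
        rfl }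
  refine ⟨S'', ?_, fun V g hg => hg⟩
  refine J.transitive hS S'' ?_
  intro V g hg
  obtain ⟨⟨m, hm⟩, y, hy⟩ := hx g hg
  have hmono : Mono (pullback.snd (c.inj i) t) := inferInstance
  match m, hm, y, hy with
  | Sum.inl k, hm, y, hy =>
    have hk : k ∈ s' := by
      simp only [s', Finset.mem_preimage]
      exact hm
    have : S'' g := by
      refine ⟨⟨k, hk⟩, y, ?_⟩
      apply mono_app_injective (pullback.snd (c.inj i) t)
      rw [map_app_apply]
      exact hy
    rw [Sieve.pullback_eq_top_of_mem S'' this]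
    exact J.top_mem V
  | Sum.inr j, hm, y, hy =>
    refine J.superset_covering bot_le ?_
    refine cofan_disjoint c hc j.2 ((pullback.fst (c.inj j.1) t).hom.app (op V) y)
      ((pullback.fst (c.inj i) t).hom.app (op V) ((pullback (c.inj i) t).obj.map g.op p)) ?_
    rw [← comp_app_apply, ← comp_app_apply, pullback.condition, pullback.condition,
      comp_app_apply, comp_app_apply, map_app_apply]
    exact congrArg (t.hom.app (op V)) hy

end Groth.Agent.Helper2.TF23
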