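import Mathlib
import Groth.Prelude.Def_SGA4c
import Groth.Agent.Helper2.TF23

set_option autoImplicit false
open CategoryTheory CategoryTheory.Limits Opposite
universe u
open ToposFin
open Groth.Agent.Helper2 Groth.Agent.Helper2.TF1 Groth.Agent.Helper2.TF23

namespace Groth.Agent.Helper2.TF24

variable {C : Type u} [SmallCategory C] {J : GrothendieckTopology C}

/-- quasi-compactness is local on the target for covers by quasi-compact morphisms -/
lemma isQCHom_of_qc_cover_target {ι : Type u} {A B : ToposFin.Sh J}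
    (h : A ⟶ B) {Bi : ι → ToposFin.Sh J} (b : ∀ i, Bi i ⟶ B) (hb : LJS Bi b)
    (hbqc : ∀ i, ToposFin.IsQCHom (b i))
    (Ai : ι → ToposFin.Sh J) (a : ∀ i, Ai i ⟶ A) (hi : ∀ i, Ai i ⟶ Bi i)
    (sq : ∀ i, IsPullback (a i) (hi i) h (b i)) (hqc : ∀ i, ToposFin.IsQCHom (hi i)) :
    ToposFin.IsQCHom h := by
  intro T t hT
  refine isQC_pullback_of_cover_right h t hT _ (ljs_pullback_fst t b hb) (fun i => ?_)
  have e : pullback.fst t (b i) ≫ t = pullback.snd t (b i) ≫ b i := pullback.condition
  refine ToposQC.isQC_of_iso (pullback.congrHom rfl e) ?_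
  have hTi : ToposFin.IsQC (pullback t (b i)) := isQC_pullback_symm _ _ (hbqc i T t hT)
  have h2 := (IsPullback.of_hasPullback (hi i) (pullback.snd t (b i))).paste_horiz (sq i)
  exact ToposQC.isQC_of_iso h2.isoPullback.symm (hqc i _ _ hTi)

lemma isQCHom_of_isEmptyObj {A B : ToposFin.Sh J} (h : A ⟶ B) (hA : IsEmptyObj A) :
    ToposFin.IsQCHom h := fun T t _ => isQC_of_isEmptyObj (isEmptyObj_of_hom (pullback.fst h t) hA)

lemma cofan_mono {ι : Type u} {X : ι → ToposFin.Sh J} (c : Cofan X) (hc : IsColimit c) (i : ι) :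
    Mono (c.inj i) := MonoCoprod.mono_inj X c hc i

lemma isQSHom_cofan_desc {ι : Type u} {Y : ToposFin.Sh J} (X : ι → ToposFin.Sh J) (c : Cofan X)
    (hc : IsColimit c) (f : c.pt ⟶ Y) (hf : ∀ i, ToposFin.IsQSHom (c.inj i ≫ f)) :
    ToposFin.IsQSHom f := by
  have hm := cofan_mono c hc
  have hinj : ∀ i, ToposFin.IsQCHom (c.inj i) := fun i => by
    have := hm i
    exact isQCHom_inj c hc i
  refine isQCHom_of_qc_cover_target (pullback.diagonal f) (ι := ι × ι)
    (Bi := fun s => pullback (c.inj s.1 ≫ f) (c.inj s.2 ≫ f))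
    (fun s => pullback.map (c.inj s.1 ≫ f) (c.inj s.2 ≫ f) f f (c.inj s.1) (c.inj s.2) (𝟙 Y)
        (Category.comp_id _) (Category.comp_id _))
    (ljs_pullback_both f f c.inj (cofan_ljs c hc) c.inj (cofan_ljs c hc)) ?_
    (fun s => pullback (c.inj s.1) (c.inj s.2)) (fun s => pullback.fst _ _ ≫ c.inj s.1)
    (fun s => pullback.map (c.inj s.1) (c.inj s.2) (c.inj s.1 ≫ f) (c.inj s.2 ≫ f) (𝟙 _) (𝟙 _) f
      (Category.id_comp _).symm (Category.id_comp _).symm)
    (fun s => pullback_map_diagonal_isPullback (c.inj s.1) (c.inj s.2) f) ?_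
  · rintro ⟨i, j⟩
    exact (QC : MorphismProperty (ToposFin.Sh J)).pullbackMap (f := c.inj i ≫ f) (g := c.inj j ≫ f)
      (f' := f) (g' := f) (i₁ := c.inj i) (i₂ := c.inj j) (hinj i) (hinj j) rfl rfl
  · rintro ⟨i, j⟩
    by_cases hij : i = j
    · subst hij
      have := hm i
      have e : pullback.diagonal (c.inj i) ≫ pullback.map (c.inj i) (c.inj i) (c.inj i ≫ f) (c.inj i ≫ f)
          (𝟙 _) (𝟙 _) f (Category.id_comp _).symm (Category.id_comp _).symm =
          pullback.diagonal (c.inj i ≫ f) := by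
        apply pullback.hom_ext
        · rw [Category.assoc, pullback.lift_fst, pullback.diagonal_fst_assoc, pullback.diagonal_fst]
        · rw [Category.assoc, pullback.lift_snd, pullback.diagonal_snd_assoc, pullback.diagonal_snd]
      have e2 : pullback.map (c.inj i) (c.inj i) (c.inj i ≫ f) (c.inj i ≫ f)
          (𝟙 _) (𝟙 _) f (Category.id_comp _).symm (Category.id_comp _).symm =
          inv (pullback.diagonal (c.inj i)) ≫ pullback.diagonal (c.inj i ≫ f) := by
        rw [← e, IsIso.inv_hom_id_assoc]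
      change ToposFin.IsQCHom (pullback.map (c.inj i) (c.inj i) (c.inj i ≫ f) (c.inj i ≫ f)
          (𝟙 _) (𝟙 _) f (Category.id_comp _).symm (Category.id_comp _).symm)
      rw [e2]
      exact isQCHom_comp _ _ (isQCHom_of_isIso _) (hf i)
    · apply isQCHom_of_isEmptyObj
      intro V p
      exact cofan_disjoint c hc hij ((pullback.fst (c.inj i) (c.inj j)).hom.app (op V) p)
        ((pullback.snd (c.inj i) (c.inj j)).hom.app (op V) p) (by
          rw [← comp_app_apply, ← comp_app_apply, pullback.condition])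

end Groth.Agent.Helper2.TF24
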