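import Mathlib
import Groth.Prelude.Def_Lie2
import Groth.Prelude.Def_Dyn

universe u
open TensorProduct

namespace Groth.Agent.Helper2.TangentAdd

lemma conv3_eq' {k : Type u} [CommRing k] {A : Type u} [CommRing A] [HopfAlgebra k A]
    {R : Type u} [CommRing R] [Algebra k R] (f g h : A →ₐ[k] R) :
    Dyn.conv3 k A f g h = (WithConv.toConv f * WithConv.toConv g * WithConv.toConv h).ofConv := by
  rw [AlgHom.convMul_def, AlgHom.convMul_def]
  simp only [WithConv.ofConv_toConv, Dyn.conv3]
  congr 1
  rw [← AlgHom.comp_assoc]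
  congr 1
  ext a <;> simp

lemma main {k : Type u} [CommRing k] {A : Type u} [CommRing A] [HopfAlgebra k A]
    (f g : A →ₐ[k] DualNumber k)
    (hf : ∀ a : A, TrivSqZeroExt.fst (f a) = Bialgebra.counitAlgHom k A a)
    (hg : ∀ a : A, TrivSqZeroExt.fst (g a) = Bialgebra.counitAlgHom k A a) (a : A) :
    TrivSqZeroExt.snd (Dyn.conv3 k A f g ((Algebra.ofId k (DualNumber k)).comp (Bialgebra.counitAlgHom k A)) a) =
      TrivSqZeroExt.snd (f a) + TrivSqZeroExt.snd (g a) := by
  have h1 : WithConv.toConv ((Algebra.ofId k (DualNumber k)).comp (Bialgebra.counitAlgHom k A)) =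
      (1 : WithConv (A →ₐ[k] DualNumber k)) := rfl
  have h2 : Dyn.conv3 k A f g ((Algebra.ofId k (DualNumber k)).comp (Bialgebra.counitAlgHom k A)) =
      (WithConv.toConv f * WithConv.toConv g).ofConv := by
    rw [conv3_eq', h1]
    exact congrArg WithConv.ofConv (mul_one (WithConv.toConv f * WithConv.toConv g))
  rw [h2]
  have h4 : (WithConv.toConv f * WithConv.toConv g).ofConv a =
      LinearMap.mul' k (DualNumber k) (TensorProduct.map f.toLinearMap g.toLinearMap
        (Coalgebra.comul (R := k) a)) := by
    have := AlgHom.toLinearMap_convMul (WithConv.toConv f) (WithConv.toConv g)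
    have h5 := congrArg (fun f => f.ofConv a) this
    simp only [WithConv.ofConv_toConv] at h5
    rw [LinearMap.convMul_apply] at h5
    exact h5
  rw [h4]
  have key : ∀ t : A ⊗[k] A, TrivSqZeroExt.snd (LinearMap.mul' k (DualNumber k)
      (TensorProduct.map f.toLinearMap g.toLinearMap t)) =
      TrivSqZeroExt.snd (f (TensorProduct.rid k A ((Coalgebra.counit (R := k)).lTensor A t))) +
      TrivSqZeroExt.snd (g (TensorProduct.lid k A ((Coalgebra.counit (R := k)).rTensor A t))) := by
    intro t
    induction t using TensorProduct.induction_on with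
    | zero => simp
    | add x y hx hy =>
      simp only [map_add, TrivSqZeroExt.snd_add, hx, hy]
      abel
    | tmul x y =>
      have hx := hf x
      have hy := hg y
      simp only [Bialgebra.counitAlgHom_apply] at hx hy
      simp only [TensorProduct.map_tmul, AlgHom.toLinearMap_apply, LinearMap.mul'_apply,
        TrivSqZeroExt.snd_mul, hx, hy, LinearMap.lTensor_tmul, LinearMap.rTensor_tmul,
        TensorProduct.rid_tmul, TensorProduct.lid_tmul, map_smul, TrivSqZeroExt.snd_smul]
      simp [mul_comm, add_comm]
  rw [key, Coalgebra.lTensor_counit_comul, Coalgebra.rTensor_counit_comul]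
  simp

end Groth.Agent.Helper2.TangentAdd
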