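import Mathlib

set_option autoImplicit false
universe u
open TensorProduct

namespace Groth.Agent.Helper2.TensorFGField

attribute [local instance] Algebra.TensorProduct.rightAlgebra in
lemma main (k : Type u) [Field k] (R : Type u) [CommRing R] [Algebra k R] [IsNoetherianRing R]
    (K : Type u) [Field K] [Algebra k K]
    (hK : ∃ s : Finset K, IntermediateField.adjoin k (s : Set K) = ⊤) :
    IsNoetherianRing (K ⊗[k] R) := by
  classical
  obtain ⟨s, hs⟩ := hK
  let B : Subalgebra k K := Algebra.adjoin k (s : Set K)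
  haveI hBft : Algebra.FiniteType k B := (Subalgebra.fg_iff_finiteType B).1 ⟨s, rfl⟩
  -- K is the fraction field of B
  haveI : IsFractionRing B K := by
    apply IsFractionRing.of_field
    intro z
    have hz : z ∈ IntermediateField.adjoin k (s : Set K) := by rw [hs]; trivial
    obtain ⟨x, hx, y, hy, e⟩ := IntermediateField.mem_adjoin_iff_div.mp hz
    exact ⟨⟨x, hx⟩, ⟨y, hy⟩, e⟩
  -- B ⊗ R is noetherian
  haveI : Algebra.FiniteType R (R ⊗[k] B) := inferInstance
  haveI h1 : IsNoetherianRing (R ⊗[k] B) := Algebra.FiniteType.isNoetherianRing R _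
  haveI h2 : IsNoetherianRing (B ⊗[k] R) :=
    isNoetherianRing_of_ringEquiv _ (Algebra.TensorProduct.comm k R B).toRingEquiv
  -- K ⊗_B (B ⊗ R) is a localization of B ⊗ R
  haveI h3 : IsLocalization (Algebra.algebraMapSubmonoid (B ⊗[k] R) (nonZeroDivisors B))
      (K ⊗[B] (B ⊗[k] R)) := IsLocalization.tensorRight K (nonZeroDivisors B)
  haveI h4 : IsNoetherianRing (K ⊗[B] (B ⊗[k] R)) :=
    @IsLocalization.isNoetherianRing (B ⊗[k] R) _ (Algebra.algebraMapSubmonoid (B ⊗[k] R) (nonZeroDivisors B)) (K ⊗[B] (B ⊗[k] R)) _ _ h3 h2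
  exact isNoetherianRing_of_ringEquiv _
    (Algebra.TensorProduct.cancelBaseChange k B B K R).toRingEquiv

end Groth.Agent.Helper2.TensorFGField
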