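import Mathlib

set_option autoImplicit false
universe u
open TensorProduct

namespace Groth.Agent.Helper2.TensorPiAlgHom

variable {F K L : Type u} [Field F] [Field K] [Field L]
    [Algebra F K] [Algebra F L] [FiniteDimensional F K] [Algebra.IsSeparable F K] [IsAlgClosed L]

/-- the `L`-algebra map `L ⊗ K → ∏_σ L` -/
noncomputable def Φ : L ⊗[F] K →ₐ[L] ((K →ₐ[F] L) → L) :=
  AlgHom.pi (fun σ => Algebra.TensorProduct.lift (AlgHom.id L L) σ
    (fun _ _ => Commute.all _ _))

lemma Φ_tmul (b : L) (a : K) (σ : K →ₐ[F] L) : Φ (F := F) (b ⊗ₜ[F] a) σ = b * σ a := by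
  simp [Φ]

lemma Φ_bijective : Function.Bijective (Φ (F := F) (K := K) (L := L)) := by
  classical
  have hdim : Module.finrank L (L ⊗[F] K) = Module.finrank L ((K →ₐ[F] L) → L) := by
    rw [Module.finrank_baseChange, Module.finrank_fintype_fun_eq_card]
    exact (AlgHom.card F K L).symm
  have hsurj : Function.Surjective (Φ (F := F) (K := K) (L := L)).toLinearMap := by
    rw [← LinearMap.range_eq_top]
    by_contra hne
    obtain ⟨f, hf0, hf⟩ := Submodule.exists_le_ker_of_lt_top _ (lt_top_iff_ne_top.2 hne)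
    apply hf0
    let c : (K →ₐ[F] L) → L := fun σ => f (Pi.single σ 1)
    have hc : ∀ v : (K →ₐ[F] L) → L, f v = ∑ σ, c σ * v σ := by
      intro v
      conv_lhs => rw [← Finset.univ_sum_single v]
      rw [map_sum]
      apply Finset.sum_congr rfl
      intro σ _
      have : (Pi.single σ (v σ) : (K →ₐ[F] L) → L) = v σ • Pi.single σ 1 := by
        rw [← Pi.single_smul, smul_eq_mul, mul_one]
      rw [this, map_smul, smul_eq_mul, mul_comm]
    have hzero : ∑ σ : K →ₐ[F] L, c σ • σ.toLinearMap = 0 := by
      ext a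
      have h1 : f (Φ (F := F) ((1 : L) ⊗ₜ[F] a)) = 0 := by
        have : (Φ (F := F) (K := K) (L := L)).toLinearMap ((1 : L) ⊗ₜ[F] a) ∈
            LinearMap.ker f := hf ⟨_, rfl⟩
        exact this
      rw [hc] at h1
      simp only [Φ_tmul, one_mul] at h1
      simpa [LinearMap.sum_apply] using h1
    have hli := linearIndependent_algHom_toLinearMap F K L
    have hc0 : ∀ σ, c σ = 0 := by
      intro σ
      exact (Fintype.linearIndependent_iff.1 hli) c hzero σ
    apply LinearMap.ext
    intro v
    rw [hc, LinearMap.zero_apply]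
    simp [hc0]
  have hinj : Function.Injective (Φ (F := F) (K := K) (L := L)).toLinearMap :=
    (LinearMap.injective_iff_surjective_of_finrank_eq_finrank hdim).2 hsurj
  exact ⟨hinj, hsurj⟩

end Groth.Agent.Helper2.TensorPiAlgHom
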