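import Mathlib
import Groth.Prelude.Def_CohB1
import Groth.Agent.Helper3.Rig1

set_option autoImplicit false
set_option linter.style.haveILetI false
set_option linter.unusedSectionVars false
set_option linter.unusedVariables false

open CategoryTheory CategoryTheory.Limits AlgebraicGeometry TopologicalSpace

universe u

namespace Groth.Agent.Helper2.ThickEq

open Groth.Agent.Helper3.Rig1

variable {A : Type u} [CommRing A]

/-- the structure map `A → O_{Spec A, t}` -/
noncomputable def θ (t : Spec (CommRingCat.of A)) :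
    CommRingCat.of A ⟶ (Spec (CommRingCat.of A)).presheaf.stalk t :=
  (Scheme.ΓSpecIso (CommRingCat.of A)).inv ≫ (Spec (CommRingCat.of A)).presheaf.germ ⊤ t trivial

lemma θ_mem_maximalIdeal (t : Spec (CommRingCat.of A)) (a : A) (ha : a ∈ t.asIdeal) :
    (θ t).hom a ∈ IsLocalRing.maximalIdeal ((Spec (CommRingCat.of A)).presheaf.stalk t) := by
  rw [IsLocalRing.mem_maximalIdeal, mem_nonunits_iff]
  intro hu
  have h1 : t ∈ (Spec (CommRingCat.of A)).basicOpen
      ((Scheme.ΓSpecIso (CommRingCat.of A)).inv.hom a) :=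
    ((Spec (CommRingCat.of A)).mem_basicOpen (U := ⊤) _ t trivial).2 hu
  rw [basicOpen_eq_of_affine'] at h1
  have h2 : (Scheme.ΓSpecIso (CommRingCat.of A)).hom.hom
      ((Scheme.ΓSpecIso (CommRingCat.of A)).inv.hom a) = a := by
    rw [← CommRingCat.comp_apply, Iso.inv_hom_id]; rfl
  rw [h2] at h1
  exact h1 ha

lemma σ_eq (t : Spec (CommRingCat.of A)) (n : ℕ) :
    σ t n = Spec.map (θ t ≫ CommRingCat.ofHom (Ideal.Quotient.mk
      (IsLocalRing.maximalIdeal ((Spec (CommRingCat.of A)).presheaf.stalk t) ^ (n + 1)))) := by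
  rw [σ, Spec.fromSpecStalk_eq, ← Spec.map_comp]
  rfl

/-- the infinitesimal neighbourhoods of a point of `V(I)` factor through `Spec A/I^(n+1)` -/
lemma exists_factor (I : Ideal A) (t : Spec (CommRingCat.of A)) (ht : I ≤ t.asIdeal) (n : ℕ) :
    ∃ τ : Spec (CommRingCat.of ((Spec (CommRingCat.of A)).presheaf.stalk t ⧸
        IsLocalRing.maximalIdeal ((Spec (CommRingCat.of A)).presheaf.stalk t) ^ (n + 1))) ⟶
        Spec (CommRingCat.of (A ⧸ I ^ (n + 1))),
      τ ≫ CohB1.specQuot I n = σ t n := by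
  let m := IsLocalRing.maximalIdeal ((Spec (CommRingCat.of A)).presheaf.stalk t)
  let g : A →+* ((Spec (CommRingCat.of A)).presheaf.stalk t ⧸ m ^ (n + 1)) :=
    (Ideal.Quotient.mk (m ^ (n + 1))).comp (θ t).hom
  have hg : ∀ a ∈ I ^ (n + 1), g a = 0 := by
    intro a ha
    show (Ideal.Quotient.mk (m ^ (n + 1))) ((θ t).hom a) = 0
    rw [Ideal.Quotient.eq_zero_iff_mem]
    have h1 : I.map (θ t).hom ≤ m := by
      rw [Ideal.map_le_iff_le_comap]
      intro b hb
      exact θ_mem_maximalIdeal t b (ht hb)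
    have h2 : (θ t).hom a ∈ (I ^ (n + 1)).map (θ t).hom := Ideal.mem_map_of_mem _ ha
    rw [Ideal.map_pow] at h2
    exact Ideal.pow_right_mono h1 (n + 1) h2
  refine ⟨Spec.map (CommRingCat.ofHom (Ideal.Quotient.lift (I ^ (n + 1)) g hg)), ?_⟩
  rw [CohB1.specQuot, σ_eq, ← Spec.map_comp]
  congr 1

end Groth.Agent.Helper2.ThickEq
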