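import Mathlib
import Groth.Prelude.Def_CohB1
import Groth.Agent.Helper3.Rig1
import Groth.Agent.Helper2.ThickEqA

set_option autoImplicit false
set_option linter.style.haveILetI false
set_option linter.unusedSectionVars false
set_option linter.unusedVariables false

open CategoryTheory CategoryTheory.Limits AlgebraicGeometry TopologicalSpace

universe u

namespace Groth.Agent.Helper2.ThickEq

open Groth.Agent.Helper3.Rig1

variable {A : Type u} [CommRing A]

/-- Step A: local agreement near the points over `V(I)` -/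
theorem local_agree [IsNoetherianRing A] (I : Ideal A) {X Y : Scheme.{u}}
    (f : X ⟶ Spec (CommRingCat.of A)) [LocallyOfFiniteType f] (φ ψ : X ⟶ Y)
    (e : ∀ n : ℕ, CohB1.thickι f I n ≫ φ = CohB1.thickι f I n ≫ ψ)
    (x : X) (hx : I ≤ (f x).asIdeal) :
    ∃ W : X.Opens, x ∈ W ∧ W.ι ≫ φ = W.ι ≫ ψ := by
  haveI : IsLocallyNoetherian X := LocallyOfFiniteType.isLocallyNoetherian f
  let t := f x
  -- φ x = ψ x
  have hpt : φ x = ψ x := by
    obtain ⟨τ, hτ⟩ := exists_factor I t hx 0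
    -- a point of `Spec A/I` over `t`
    let c : Spec (CommRingCat.of ((Spec (CommRingCat.of A)).presheaf.stalk t ⧸
        IsLocalRing.maximalIdeal ((Spec (CommRingCat.of A)).presheaf.stalk t) ^ (0 + 1))) :=
      Classical.choice (by
        have : Nontrivial ((Spec (CommRingCat.of A)).presheaf.stalk t ⧸
            IsLocalRing.maximalIdeal ((Spec (CommRingCat.of A)).presheaf.stalk t) ^ (0 + 1)) := by
          rw [zero_add, pow_one]
          exact Ideal.Quotient.nontrivial_iff.2 (IsLocalRing.maximalIdeal.isMaximal _).ne_top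
        exact (PrimeSpectrum.nonempty_iff_nontrivial.2 this))
    have hc : CohB1.specQuot I 0 (τ c) = f x := by
      rw [← Scheme.Hom.comp_apply, hτ]
      exact σ_apply t 0 c
    obtain ⟨z, hz1, hz2⟩ := Scheme.Pullback.exists_preimage_pullback (f := f)
      (g := CohB1.specQuot I 0) x (τ c) hc.symm
    have := congrArg (fun k : CohB1.thick f I 0 ⟶ Y => k z) (e 0)
    simp only [Scheme.Hom.comp_apply] at this
    have hz1' : CohB1.thickι f I 0 z = x := hz1
    rw [hz1'] at this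
    exact this
  obtain ⟨_, ⟨V, hV, rfl⟩, hyV, -⟩ :=
    Y.isBasis_affineOpens.exists_subset_of_mem_open (Set.mem_univ (φ x)) isOpen_univ
  obtain ⟨V', hV'⟩ : ∃ V' : Y.Opens, V' = V := ⟨V, rfl⟩
  subst hV'
  let U : X.Opens := φ ⁻¹ᵁ V' ⊓ ψ ⁻¹ᵁ V'
  have hxU : x ∈ U := ⟨hyV, by show ψ x ∈ V'; rw [← hpt]; exact hyV⟩
  have hφr : Set.range (U.ι ≫ φ) ⊆ Set.range V'.ι := by
    rw [Scheme.Opens.range_ι]
    rintro _ ⟨z, rfl⟩
    exact z.2.1
  have hψr : Set.range (U.ι ≫ ψ) ⊆ Set.range V'.ι := by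
    rw [Scheme.Opens.range_ι]
    rintro _ ⟨z, rfl⟩
    exact z.2.2
  let φ' : (U : Scheme.{u}) ⟶ V' := IsOpenImmersion.lift V'.ι (U.ι ≫ φ) hφr
  let ψ' : (U : Scheme.{u}) ⟶ V' := IsOpenImmersion.lift V'.ι (U.ι ≫ ψ) hψr
  have hφ' : φ' ≫ V'.ι = U.ι ≫ φ := IsOpenImmersion.lift_fac _ _ _
  have hψ' : ψ' ≫ V'.ι = U.ι ≫ ψ := IsOpenImmersion.lift_fac _ _ _
  haveI : IsAffine (V' : Scheme.{u}) := hV
  obtain ⟨E, ι, hι, hcond, hlift⟩ := exists_equalizer φ' ψ' (terminal.from (V' : Scheme.{u}))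
    (terminal.hom_ext _ _)
  let p : (U : Scheme.{u}) ⟶ Spec (CommRingCat.of A) := U.ι ≫ f
  obtain ⟨U', hU', g, hg⟩ := krull_nbhd p t ι (fun n => by
    obtain ⟨τ, hτ⟩ := exists_factor I t hx n
    have hw : (pullback.fst p (σ t n) ≫ U.ι) ≫ f =
        (pullback.snd p (σ t n) ≫ τ) ≫ CohB1.specQuot I n := by
      rw [Category.assoc, Category.assoc, hτ, ← pullback.condition]
    let ℓ : pullback p (σ t n) ⟶ CohB1.thick f I n :=
      pullback.lift (pullback.fst p (σ t n) ≫ U.ι) (pullback.snd p (σ t n) ≫ τ) hw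
    have hℓ : ℓ ≫ CohB1.thickι f I n = pullback.fst p (σ t n) ≫ U.ι := pullback.lift_fst _ _ _
    have heq : pullback.fst p (σ t n) ≫ φ' = pullback.fst p (σ t n) ≫ ψ' := by
      rw [← cancel_mono V'.ι, Category.assoc, Category.assoc, hφ', hψ', ← Category.assoc,
        ← Category.assoc, ← hℓ, Category.assoc, Category.assoc, e n]
    obtain ⟨l, hl⟩ := hlift (pullback.fst p (σ t n)) heq
    exact ⟨l, hl⟩)
  -- the open `U'` of `U` as an open of `X`
  let j : (U' : Scheme.{u}) ⟶ X := U'.ι ≫ U.ι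
  have hj : j ≫ φ = j ≫ ψ := by
    show (U'.ι ≫ U.ι) ≫ φ = (U'.ι ≫ U.ι) ≫ ψ
    rw [Category.assoc, Category.assoc, ← hφ', ← hψ', ← hg]
    simp only [Category.assoc]
    rw [reassoc_of% hcond]
  refine ⟨j.opensRange, ?_, ?_⟩
  · have hxU' : (⟨x, hxU⟩ : U) ∈ U' := hU' ⟨x, hxU⟩ rfl
    exact ⟨⟨⟨x, hxU⟩, hxU'⟩, rfl⟩
  · have h1 := Scheme.Hom.isoOpensRange_inv_comp j
    calc j.opensRange.ι ≫ φ = (j.isoOpensRange.inv ≫ j) ≫ φ := by rw [h1]
      _ = j.isoOpensRange.inv ≫ (j ≫ φ) := Category.assoc _ _ _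
      _ = j.isoOpensRange.inv ≫ (j ≫ ψ) := by rw [hj]
      _ = (j.isoOpensRange.inv ≫ j) ≫ ψ := (Category.assoc _ _ _).symm
      _ = j.opensRange.ι ≫ ψ := by rw [h1]

end Groth.Agent.Helper2.ThickEq
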