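import Mathlib
import Groth.Prelude.Def_CohB1
import Groth.Agent.Helper3.Rig1
import Groth.Agent.Helper2.ThickEqA
import Groth.Agent.Helper2.ThickEqB

set_option autoImplicit false
set_option linter.style.haveILetI false
set_option linter.unusedSectionVars false
set_option linter.unusedVariables false

open CategoryTheory CategoryTheory.Limits AlgebraicGeometry TopologicalSpace

universe u

namespace Groth.Agent.Helper2.ThickEq

theorem main (A : Type u) [CommRing A] [IsNoetherianRing A]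
    (I : Ideal A) [IsAdicComplete I A] {X Y : Scheme.{u}} (f : X ⟶ Spec (CommRingCat.of A))
    [IsProper f] (φ ψ : X ⟶ Y)
    (e : ∀ n : ℕ, CohB1.thickι f I n ≫ φ = CohB1.thickι f I n ≫ ψ) : φ = ψ := by
  let 𝒲 : Set X.Opens := {W | W.ι ≫ φ = W.ι ≫ ψ}
  let W₀ : X.Opens := ⨆ W : 𝒲, (W : X.Opens)
  have hW₀ : W₀ = ⊤ := by
    by_contra hne
    let Z : Set X := (W₀ : Set X)ᶜ
    have hZne : Z.Nonempty := by
      rw [Set.nonempty_compl]
      intro h
      apply hne
      ext y
      simp only [Opens.coe_top, h]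
    have hZcl : IsClosed Z := W₀.isOpen.isClosed_compl
    have hfZ : IsClosed (f '' Z) := f.isClosedMap _ hZcl
    obtain ⟨J, hJ⟩ := (PrimeSpectrum.isClosed_iff_zeroLocus_ideal _).1 hfZ
    have hJne : J ≠ ⊤ := by
      intro h
      rw [h, Submodule.top_coe, PrimeSpectrum.zeroLocus_univ] at hJ
      obtain ⟨z, hz⟩ := hZne
      have : f z ∈ f '' Z := ⟨z, hz, rfl⟩
      rw [hJ] at this
      exact this
    obtain ⟨m, hm, hJm⟩ := Ideal.exists_le_maximal J hJne
    have hmem : (⟨m, hm.isPrime⟩ : PrimeSpectrum A) ∈ f '' Z := by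
      rw [hJ]; exact hJm
    obtain ⟨x, hxZ, hx⟩ := hmem
    have hIm : I ≤ m := (IsAdicComplete.le_jacobson_bot I).trans (sInf_le ⟨bot_le, hm⟩)
    obtain ⟨W, hxW, hW⟩ := local_agree I f φ ψ e x (by rw [hx]; exact hIm)
    exact hxZ (Opens.mem_iSup.2 ⟨⟨W, hW⟩, hxW⟩)
  have hcov : IsOpenCover (fun W : 𝒲 => (W : X.Opens)) := hW₀
  exact Scheme.Cover.hom_ext (X.openCoverOfIsOpenCover _ hcov) _ _ fun W => W.2

end Groth.Agent.Helper2.ThickEq
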