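import Mathlib
import Groth.Prelude

set_option autoImplicit false

namespace Groth.Agent.Helper2.ThickLoc

universe u

theorem s9463 (A B B' : Type u) [CommRing A] [CommRing B]
    [CommRing B'] [Algebra A B] [Algebra A B'] (π : B' →ₐ[A] B)
    (hπ : OmegaSh.IsUnivThickeningRing A B B' π) (S : Submonoid A)
    (AS BS B'S : Type u) [CommRing AS] [CommRing BS] [CommRing B'S]
    [Algebra A AS] [IsLocalization S AS]
    [Algebra B BS] [IsLocalization (Algebra.algebraMapSubmonoid B S) BS]
    [Algebra B' B'S] [IsLocalization (Algebra.algebraMapSubmonoid B' S) B'S]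
    [Algebra AS BS] [Algebra A BS] [IsScalarTower A AS BS] [IsScalarTower A B BS]
    [Algebra AS B'S] [Algebra A B'S] [IsScalarTower A AS B'S] [IsScalarTower A B' B'S]
    (πS : B'S →ₐ[AS] BS) (hπS : ∀ x : B', πS (algebraMap B' B'S x) = algebraMap B BS (π x)) :
    OmegaSh.IsUnivThickeningRing AS BS B'S πS := by
  obtain ⟨hsurj, hsq, huniv⟩ := hπ
  have hmem' : ∀ s₀ ∈ S, algebraMap A B' s₀ ∈ Algebra.algebraMapSubmonoid B' S :=
    fun s₀ hs₀ => ⟨s₀, hs₀, rfl⟩
  have hmem : ∀ s₀ ∈ S, algebraMap A B s₀ ∈ Algebra.algebraMapSubmonoid B S :=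
    fun s₀ hs₀ => ⟨s₀, hs₀, rfl⟩
  -- πS on fractions
  have hπSmk : ∀ (b' : B') (s₀ : A) (hs₀ : s₀ ∈ S),
      πS (IsLocalization.mk' B'S b' ⟨algebraMap A B' s₀, hmem' s₀ hs₀⟩) =
        IsLocalization.mk' BS (π b') ⟨algebraMap A B s₀, hmem s₀ hs₀⟩ := by
    intro b' s₀ hs₀
    rw [IsLocalization.eq_mk'_iff_mul_eq]
    have h1 := IsLocalization.mk'_spec B'S b' ⟨algebraMap A B' s₀, hmem' s₀ hs₀⟩
    have h2 := congrArg πS h1
    rw [map_mul, hπS, hπS, AlgHom.commutes] at h2
    exact h2
  refine ⟨?_, ?_, ?_⟩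
  · intro y
    obtain ⟨⟨b, s⟩, rfl⟩ := IsLocalization.mk'_surjective (Algebra.algebraMapSubmonoid B S) y
    obtain ⟨_, ⟨s₀, hs₀, rfl⟩⟩ := s
    obtain ⟨b', rfl⟩ := hsurj b
    exact ⟨_, hπSmk b' s₀ hs₀⟩
  · have hker : ∀ z ∈ RingHom.ker πS.toRingHom, ∃ (x : B')
        (s : Algebra.algebraMapSubmonoid B' S), x ∈ RingHom.ker π.toRingHom ∧
          z = IsLocalization.mk' B'S x s := by
      intro z hz
      obtain ⟨⟨x, s⟩, rfl⟩ := IsLocalization.mk'_surjective (Algebra.algebraMapSubmonoid B' S) z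
      obtain ⟨_, ⟨s₀, hs₀, rfl⟩⟩ := s
      rw [RingHom.mem_ker] at hz
      change πS (IsLocalization.mk' B'S x ⟨algebraMap A B' s₀, _⟩) = 0 at hz
      rw [hπSmk x s₀ hs₀, IsLocalization.mk'_eq_zero_iff] at hz
      obtain ⟨⟨_, ⟨t₀, ht₀, rfl⟩⟩, ht⟩ := hz
      refine ⟨algebraMap A B' t₀ * x,
        ⟨algebraMap A B' (t₀ * s₀), hmem' _ (S.mul_mem ht₀ hs₀)⟩, ?_, ?_⟩
      · rw [RingHom.mem_ker]
        change π (algebraMap A B' t₀ * x) = 0
        rw [map_mul, AlgHom.commutes]
        exact ht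
      · rw [IsLocalization.mk'_eq_iff_eq]
        congr 1
        simp only [map_mul]
        ring
    rw [eq_bot_iff, pow_two, Ideal.mul_le]
    intro z₁ hz₁ z₂ hz₂
    obtain ⟨x₁, s₁, hx₁, rfl⟩ := hker z₁ hz₁
    obtain ⟨x₂, s₂, hx₂, rfl⟩ := hker z₂ hz₂
    have h0 : x₁ * x₂ = 0 := by
      have : x₁ * x₂ ∈ RingHom.ker π.toRingHom ^ 2 := by
        rw [pow_two]; exact Ideal.mul_mem_mul hx₁ hx₂
      rw [hsq] at this
      exact this
    rw [Ideal.mem_bot, ← IsLocalization.mk'_mul, h0, IsLocalization.mk'_zero]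
  · intro C _ _ I hI a
    letI : Algebra A C := Algebra.compHom C (algebraMap A AS)
    haveI : IsScalarTower A AS C := IsScalarTower.of_algebraMap_eq (fun x => rfl)
    haveI : IsScalarTower A AS (C ⧸ I) := IsScalarTower.of_algebraMap_eq (fun x => rfl)
    let a₀ : B →ₐ[A] C ⧸ I := (a.restrictScalars A).comp (IsScalarTower.toAlgHom A B BS)
    obtain ⟨b', hb', hb'uniq⟩ := huniv C I hI a₀
    have hunit : ∀ s : Algebra.algebraMapSubmonoid B' S, IsUnit ((b' : B' →+* C) s) := by
      rintro ⟨_, ⟨s₀, hs₀, rfl⟩⟩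
      change IsUnit (b' (algebraMap A B' s₀))
      rw [AlgHom.commutes, IsScalarTower.algebraMap_apply A AS C]
      exact (IsLocalization.map_units AS ⟨s₀, hs₀⟩).map (algebraMap AS C)
    let a'r : B'S →+* C := IsLocalization.lift (M := Algebra.algebraMapSubmonoid B' S)
      (g := (b' : B' →+* C)) hunit
    have ha'r : ∀ x : B', a'r (algebraMap B' B'S x) = b' x := fun x => IsLocalization.lift_eq _ x
    have hcomm : ∀ r : AS, a'r (algebraMap AS B'S r) = algebraMap AS C r := by
      have : a'r.comp (algebraMap AS B'S) = algebraMap AS C := by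
        refine IsLocalization.ringHom_ext S ?_
        refine RingHom.ext fun r => ?_
        show a'r (algebraMap AS B'S (algebraMap A AS r)) = algebraMap AS C (algebraMap A AS r)
        rw [← IsScalarTower.algebraMap_apply A AS B'S, IsScalarTower.algebraMap_apply A B' B'S,
          ha'r, AlgHom.commutes]
        rfl
      exact fun r => RingHom.congr_fun this r
    let a' : B'S →ₐ[AS] C := { a'r with commutes' := hcomm }
    have ha' : ∀ x : B', a' (algebraMap B' B'S x) = b' x := ha'r
    refine ⟨a', ?_, ?_⟩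
    · have : ((Ideal.Quotient.mkₐ AS I).comp a' : B'S →+* C ⧸ I) = (a.comp πS : B'S →+* C ⧸ I) := by
        refine IsLocalization.ringHom_ext (Algebra.algebraMapSubmonoid B' S) ?_
        refine RingHom.ext fun x => ?_
        show Ideal.Quotient.mk I (a' (algebraMap B' B'S x)) = a (πS (algebraMap B' B'S x))
        rw [ha', hπS]
        exact AlgHom.congr_fun hb' x
      exact AlgHom.ext fun x => RingHom.congr_fun this x
    · intro a'' ha''
      let b'' : B' →ₐ[A] C := (a''.restrictScalars A).comp (IsScalarTower.toAlgHom A B' B'S)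
      have hb'' : b'' = b' := by
        apply hb'uniq
        refine AlgHom.ext fun x => ?_
        show Ideal.Quotient.mk I (a'' (algebraMap B' B'S x)) = a (algebraMap B BS (π x))
        rw [← hπS]
        exact AlgHom.congr_fun ha'' (algebraMap B' B'S x)
      have : (a'' : B'S →+* C) = (a' : B'S →+* C) := by
        refine IsLocalization.ringHom_ext (Algebra.algebraMapSubmonoid B' S) ?_
        refine RingHom.ext fun x => ?_
        show a'' (algebraMap B' B'S x) = a' (algebraMap B' B'S x)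
        rw [ha']
        exact AlgHom.congr_fun hb'' x
      exact AlgHom.ext fun x => RingHom.congr_fun this x

theorem s9464 (A B B' : Type u) [CommRing A] [CommRing B]
    [CommRing B'] [Algebra A B] [Algebra A B'] (π : B' →ₐ[A] B)
    (hπ : OmegaSh.IsUnivThickeningRing A B B' π) (S : Submonoid B)
    (BS B'S : Type u) [CommRing BS] [CommRing B'S]
    [Algebra B BS] [IsLocalization S BS]
    [Algebra B' B'S] [IsLocalization (S.comap π.toRingHom.toMonoidHom) B'S]
    [Algebra A BS] [IsScalarTower A B BS] [Algebra A B'S] [IsScalarTower A B' B'S]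
    (πS : B'S →ₐ[A] BS) (hπS : ∀ x : B', πS (algebraMap B' B'S x) = algebraMap B BS (π x)) :
    OmegaSh.IsUnivThickeningRing A BS B'S πS := by
  obtain ⟨hsurj, hsq, huniv⟩ := hπ
  have hmem : ∀ s' : S.comap π.toRingHom.toMonoidHom, π (s' : B') ∈ S := fun s' => s'.2
  have hπSmk : ∀ (b' : B') (s' : S.comap π.toRingHom.toMonoidHom),
      πS (IsLocalization.mk' B'S b' s') = IsLocalization.mk' BS (π b') ⟨π (s' : B'), hmem s'⟩ := by
    intro b' s'
    rw [IsLocalization.eq_mk'_iff_mul_eq]
    have h1 := IsLocalization.mk'_spec B'S b' s'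
    have h2 := congrArg πS h1
    rw [map_mul, hπS, hπS] at h2
    exact h2
  have hlift : ∀ s : S, ∃ s' : S.comap π.toRingHom.toMonoidHom, π (s' : B') = s := by
    intro s
    obtain ⟨s', hs'⟩ := hsurj s
    exact ⟨⟨s', by show π s' ∈ S; rw [hs']; exact s.2⟩, hs'⟩
  refine ⟨?_, ?_, ?_⟩
  · intro y
    obtain ⟨⟨b, s⟩, rfl⟩ := IsLocalization.mk'_surjective S y
    obtain ⟨s', hs'⟩ := hlift s
    obtain ⟨b', rfl⟩ := hsurj b
    refine ⟨IsLocalization.mk' B'S b' s', ?_⟩
    rw [hπSmk]
    congr 1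
    exact Subtype.ext hs'
  · have hker : ∀ z ∈ RingHom.ker πS.toRingHom, ∃ (x : B')
        (s : S.comap π.toRingHom.toMonoidHom), x ∈ RingHom.ker π.toRingHom ∧
          z = IsLocalization.mk' B'S x s := by
      intro z hz
      obtain ⟨⟨x, s⟩, rfl⟩ := IsLocalization.mk'_surjective (S.comap π.toRingHom.toMonoidHom) z
      rw [RingHom.mem_ker] at hz
      change πS (IsLocalization.mk' B'S x s) = 0 at hz
      rw [hπSmk x s, IsLocalization.mk'_eq_zero_iff] at hz
      obtain ⟨t, ht⟩ := hz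
      obtain ⟨t', ht'⟩ := hlift t
      refine ⟨(t' : B') * x, t' * s, ?_, ?_⟩
      · rw [RingHom.mem_ker]
        change π ((t' : B') * x) = 0
        rw [map_mul, ht']
        exact ht
      · rw [IsLocalization.mk'_eq_iff_eq]
        congr 1
        simp only [Submonoid.coe_mul]
        ring
    rw [eq_bot_iff, pow_two, Ideal.mul_le]
    intro z₁ hz₁ z₂ hz₂
    obtain ⟨x₁, s₁, hx₁, rfl⟩ := hker z₁ hz₁
    obtain ⟨x₂, s₂, hx₂, rfl⟩ := hker z₂ hz₂
    have h0 : x₁ * x₂ = 0 := by
      have : x₁ * x₂ ∈ RingHom.ker π.toRingHom ^ 2 := by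
        rw [pow_two]; exact Ideal.mul_mem_mul hx₁ hx₂
      rw [hsq] at this
      exact this
    rw [Ideal.mem_bot, ← IsLocalization.mk'_mul, h0, IsLocalization.mk'_zero]
  · intro C _ _ I hI a
    let a₀ : B →ₐ[A] C ⧸ I := a.comp (IsScalarTower.toAlgHom A B BS)
    obtain ⟨b', hb', hb'uniq⟩ := huniv C I hI a₀
    have hunit : ∀ s : S.comap π.toRingHom.toMonoidHom, IsUnit ((b' : B' →+* C) s) := by
      intro s
      change IsUnit (b' (s : B'))
      rw [← IsNilpotent.isUnit_quotient_mk_iff (I := I) ⟨2, hI⟩]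
      have h1 : Ideal.Quotient.mk I (b' (s : B')) = a (algebraMap B BS (π (s : B'))) :=
        AlgHom.congr_fun hb' (s : B')
      rw [h1]
      exact (IsLocalization.map_units BS ⟨π (s : B'), hmem s⟩).map a
    let a'r : B'S →+* C := IsLocalization.lift (M := S.comap π.toRingHom.toMonoidHom)
      (g := (b' : B' →+* C)) hunit
    have ha'r : ∀ x : B', a'r (algebraMap B' B'S x) = b' x := fun x => IsLocalization.lift_eq _ x
    have hcomm : ∀ r : A, a'r (algebraMap A B'S r) = algebraMap A C r := by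
      intro r
      rw [IsScalarTower.algebraMap_apply A B' B'S, ha'r, AlgHom.commutes]
    let a' : B'S →ₐ[A] C := { a'r with commutes' := hcomm }
    have ha' : ∀ x : B', a' (algebraMap B' B'S x) = b' x := ha'r
    refine ⟨a', ?_, ?_⟩
    · have : ((Ideal.Quotient.mkₐ A I).comp a' : B'S →+* C ⧸ I) = (a.comp πS : B'S →+* C ⧸ I) := by
        refine IsLocalization.ringHom_ext (S.comap π.toRingHom.toMonoidHom) ?_
        refine RingHom.ext fun x => ?_
        show Ideal.Quotient.mk I (a' (algebraMap B' B'S x)) = a (πS (algebraMap B' B'S x))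
        rw [ha', hπS]
        exact AlgHom.congr_fun hb' x
      exact AlgHom.ext fun x => RingHom.congr_fun this x
    · intro a'' ha''
      let b'' : B' →ₐ[A] C := a''.comp (IsScalarTower.toAlgHom A B' B'S)
      have hb'' : b'' = b' := by
        apply hb'uniq
        refine AlgHom.ext fun x => ?_
        show Ideal.Quotient.mk I (a'' (algebraMap B' B'S x)) = a (algebraMap B BS (π x))
        rw [← hπS]
        exact AlgHom.congr_fun ha'' (algebraMap B' B'S x)
      have : (a'' : B'S →+* C) = (a' : B'S →+* C) := by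
        refine IsLocalization.ringHom_ext (S.comap π.toRingHom.toMonoidHom) ?_
        refine RingHom.ext fun x => ?_
        show a'' (algebraMap B' B'S x) = a' (algebraMap B' B'S x)
        rw [ha']
        exact AlgHom.congr_fun hb'' x
      exact AlgHom.ext fun x => RingHom.congr_fun this x

end Groth.Agent.Helper2.ThickLoc
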