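import Mathlib
import Groth.Prelude.Def_TopMod
set_option autoImplicit false
universe u v w
open Topology

namespace Groth.Agent.Helper2.TM
variable {A : Type u} {M : Type v} {N : Type w} [CommRing A] [TopologicalSpace A] [AddCommGroup M] [Module A M]
  [TopologicalSpace M] [AddCommGroup N] [Module A N] [TopologicalSpace N]

lemma isOpen_smul_top (hN : TopMod.IsDeduced A N) (J : Ideal A) (hJ : IsOpen (J : Set A)) :
    IsOpen ((J • ⊤ : Submodule A N) : Set N) := by
  have := hN.1
  have h : ((J • ⊤ : Submodule A N) : Set N) ∈ nhds (0 : N) := hN.2.mem_of_mem hJ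
  exact (J • ⊤ : Submodule A N).toAddSubgroup.isOpen_of_mem_nhds h

lemma continuous_of_le_ker {E : Type*} [AddCommGroup E] [Module A E] [TopologicalSpace E] [DiscreteTopology E]
    (hN : TopMod.IsDeduced A N) (J : Ideal A) (hJ : IsOpen (J : Set A)) (f : N →ₗ[A] E)
    (hf : (J • ⊤ : Submodule A N) ≤ LinearMap.ker f) : Continuous f := by
  have := hN.1
  rw [continuous_discrete_rng]
  intro e
  rw [isOpen_iff_mem_nhds]
  intro n hn
  have hopen : IsOpen ((fun x : N => x - n) ⁻¹' ((J • ⊤ : Submodule A N) : Set N)) :=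
    (isOpen_smul_top hN J hJ).preimage (continuous_id.sub continuous_const)
  refine Filter.mem_of_superset (hopen.mem_nhds (by simp)) ?_
  intro x hx
  have hx' : x - n ∈ (J • ⊤ : Submodule A N) := hx
  have := hf hx'
  rw [LinearMap.mem_ker, map_sub, sub_eq_zero] at this
  show f x = e
  rw [this]; exact hn

lemma map_smul_top_quot (J : Ideal A) (f : N →ₗ[A] M ⧸ (J • ⊤ : Submodule A M)) :
    (J • ⊤ : Submodule A N) ≤ LinearMap.ker f := by
  rw [Submodule.smul_le]
  intro j hj n _
  rw [LinearMap.mem_ker, map_smul]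
  obtain ⟨m, hm⟩ := Submodule.Quotient.mk_surjective _ (f n)
  rw [← hm, ← Submodule.Quotient.mk_smul, Submodule.Quotient.mk_eq_zero]
  exact Submodule.smul_mem_smul hj trivial


lemma exists_sub_mem_of_denseRange (hN : TopMod.IsDeduced A N) (u : M →L[A] N) (hu : DenseRange u)
    (J : Ideal A) (hJ : IsOpen (J : Set A)) (y : N) : ∃ x : M, y - u x ∈ (J • ⊤ : Submodule A N) := by
  have := hN.1
  have hopen : IsOpen ((fun z : N => y - z) ⁻¹' ((J • ⊤ : Submodule A N) : Set N)) :=
    (isOpen_smul_top hN J hJ).preimage (continuous_const.sub continuous_id)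
  obtain ⟨z, hz, ⟨x, rfl⟩⟩ := hu.inter_open_nonempty _ hopen ⟨y, by simp⟩
  exact ⟨x, hz⟩


end Groth.Agent.Helper2.TM
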