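import Mathlib
import Groth.Agent.Helper2.TorOne

set_option autoImplicit false
open TensorProduct Function LinearMap
universe u v w w'

namespace Groth.Agent.Helper2.TorOne2

open Groth.Agent.Helper2.TorReg Groth.Agent.Helper2.RegFlat2 Groth.Agent.Helper2.TorOne

section main
variable {R : Type u} [CommRing R] (I : Ideal R) {M : Type v} [AddCommGroup M] [Module R M]

/-- `M/QM` is flat over `R/Q` if `I^n ≤ Q`, `M/IM` is flat over `R/I` and `I ⊗ M → M` is injective. -/
theorem flat_quot_of_pow_le [Module.Flat (R ⧸ I) ((R ⧸ I) ⊗[R] M)]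
    (hI : Injective (muI (M := M) I)) (Q : Ideal R) (n : ℕ) (hQ : I ^ n ≤ Q) :
    Module.Flat (R ⧸ Q) ((R ⧸ Q) ⊗[R] M) := by
  rw [Module.Flat.iff_rTensor_injective']
  intro 𝔟
  have hC : Injective (rTensor M (𝔟.subtype.restrictScalars R)) := by
    apply rTensor_injective_of_pow_smul_mem_range I hI n (𝔟.subtype.restrictScalars R)
      𝔟.injective_subtype
    intro r hr s
    have : r • s = 0 := by
      rw [Algebra.smul_def]
      have : algebraMap R (R ⧸ Q) r = 0 := Ideal.Quotient.eq_zero_iff_mem.2 (hQ hr)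
      rw [this, zero_mul]
    rw [this]
    exact zero_mem _
  let e' := TensorProduct.AlgebraTensorModule.cancelBaseChange R (R ⧸ Q) (R ⧸ Q) 𝔟 M
  let e := TensorProduct.AlgebraTensorModule.cancelBaseChange R (R ⧸ Q) (R ⧸ Q) (R ⧸ Q) M
  rw [injective_iff_map_eq_zero]
  intro x hx
  have h1 := cancel_natural (M := M) Q 𝔟.subtype x
  rw [hx, map_zero] at h1
  have h2 : e' x = 0 := (injective_iff_map_eq_zero _).1 hC _ h1.symm
  exact e'.injective (by rw [h2, map_zero])

end main

end Groth.Agent.Helper2.TorOne2
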