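import Mathlib
import Groth.Prelude
import Groth.Agent.Helper2.FlatCL4

set_option autoImplicit false
open TensorProduct Function LinearMap
universe u

namespace Groth.Agent.Helper2.TorZero1

open Groth.Agent.Helper2.AdicFlat Groth.Agent.Helper2.FlatCL1

section Setup
variable {R : Type u} [CommRing R] (I : Ideal R) (R' : Type u) [CommRing R'] [Algebra R R']

/-- `i ↦ r' * i` as a map `I → I R'` -/
noncomputable def lam (r' : R') : I →ₗ[R] ↥(I.map (algebraMap R R')) where
  toFun i := ⟨r' * algebraMap R R' i.1, Ideal.mul_mem_left _ _ (Ideal.mem_map_of_mem _ i.2)⟩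
  map_add' x y := by ext; simp [mul_add]
  map_smul' a x := by
    ext
    change r' * algebraMap R R' (a • x.1) = a • (r' * algebraMap R R' x.1)
    rw [smul_eq_mul, map_mul, Algebra.smul_def]; ring

@[simp] lemma lam_coe (r' : R') (i : I) : ((lam I R' r' i : ↥(I.map (algebraMap R R'))) : R') =
    r' * algebraMap R R' i.1 := rfl

/-- `β : I R' → R'` as an `R`-linear map -/
noncomputable def beta : ↥(I.map (algebraMap R R')) →ₗ[R] R' :=
  (I.map (algebraMap R R')).subtype.restrictScalars R

@[simp] lemma beta_apply (x : ↥(I.map (algebraMap R R'))) : beta I R' x = x.1 := rfl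

lemma beta_injective : Injective (beta I R') := fun _ _ h => Subtype.ext h

/-- `α : (R' →₀ I) → (R' →₀ R)` -/
noncomputable def alpha : (R' →₀ I) →ₗ[R] (R' →₀ R) := Finsupp.mapRange.linearMap I.subtype

/-- `ρ : (R' →₀ R) → R'` -/
noncomputable def rho : (R' →₀ R) →ₗ[R] R' :=
  Finsupp.lsum R (fun r' => LinearMap.toSpanSingleton R R' r')

/-- `ρ₁ : (R' →₀ I) → I R'` -/
noncomputable def rho1 : (R' →₀ I) →ₗ[R] ↥(I.map (algebraMap R R')) :=
  Finsupp.lsum R (fun r' => lam I R' r')

lemma rho_single (r' : R') (r : R) : rho R' (Finsupp.single r' r) = r • r' := by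
  simp [rho]

lemma rho1_single (r' : R') (i : I) : rho1 I R' (Finsupp.single r' i) = lam I R' r' i := by
  simp [rho1]

lemma beta_rho1 : (beta I R') ∘ₗ (rho1 I R') = (rho R') ∘ₗ (alpha I R') := by
  apply Finsupp.lhom_ext
  intro r' i
  simp only [LinearMap.comp_apply, rho1_single, beta_apply, lam_coe, alpha,
    Finsupp.mapRange.linearMap_apply, Finsupp.mapRange_single, Submodule.subtype_apply, rho_single]
  rw [Algebra.smul_def, mul_comm]

lemma rho_surjective : Surjective (rho (R := R) R') := fun r' =>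
  ⟨Finsupp.single r' 1, by rw [rho_single, one_smul]⟩

lemma rho1_mapDomain (s : R') (x : R' →₀ I) :
    ((rho1 I R' (Finsupp.mapDomain (fun r' => s * r') x) : ↥(I.map (algebraMap R R'))) : R') =
      s * (rho1 I R' x : ↥(I.map (algebraMap R R'))) := by
  induction x using Finsupp.induction_linear with
  | zero => simp
  | add f g hf hg =>
    simp only [Finsupp.mapDomain_add, map_add, Submodule.coe_add, mul_add]
    rw [hf, hg]
  | single r' i =>
    simp only [Finsupp.mapDomain_single, rho1_single, lam_coe]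
    ring

lemma rho1_surjective : Surjective (rho1 I R') := by
  have key : ∀ y ∈ I.map (algebraMap R R'),
      ∃ x, ((rho1 I R' x : ↥(I.map (algebraMap R R'))) : R') = y := by
    intro y hy
    refine Submodule.span_induction ?_ ?_ ?_ ?_ hy
    · rintro _ ⟨i, hi, rfl⟩
      refine ⟨Finsupp.single 1 ⟨i, hi⟩, ?_⟩
      rw [rho1_single, lam_coe, one_mul]
    · exact ⟨0, by simp⟩
    · rintro y z _ _ ⟨x, rfl⟩ ⟨x', rfl⟩
      exact ⟨x + x', by simp⟩
    · rintro s y _ ⟨x, rfl⟩
      exact ⟨Finsupp.mapDomain (fun r' => s * r') x, by rw [rho1_mapDomain, smul_eq_mul]⟩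
  intro y
  obtain ⟨x, hx⟩ := key y.1 y.2
  exact ⟨x, Subtype.ext hx⟩

omit [CommRing R'] [Algebra R R'] in
lemma lapply_alpha (r' : R') :
    (Finsupp.lapply r') ∘ₗ (alpha I R') = I.subtype ∘ₗ (Finsupp.lapply r') := by
  refine LinearMap.ext fun x => ?_
  simp [alpha]

omit [CommRing R'] [Algebra R R'] in
/-- `F / I F` is `I`-torsion -/
lemma smul_mem_range_alpha (a : R) (ha : a ∈ I) (φ : R' →₀ R) :
    a • φ ∈ LinearMap.range (alpha I R') := by
  induction φ using Finsupp.induction_linear with
  | zero => simp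
  | add f g hf hg => rw [smul_add]; exact add_mem hf hg
  | single r' r =>
    refine ⟨Finsupp.single r' ⟨a * r, I.mul_mem_right r ha⟩, ?_⟩
    simp [alpha]

end Setup

section Chase
variable {R : Type u} [CommRing R] (I : Ideal R) (R' : Type u) [CommRing R'] [Algebra R R']
  [DecidableEq R'] {M : Type u} [AddCommGroup M] [Module R M]

/-- `lTensor M ρ₁` in coordinates -/
lemma lTensor_rho1 (z : M ⊗[R] (R' →₀ I)) :
    lTensor M (rho1 I R') z =
      (TensorProduct.finsuppRight R R M I R' z).sum (fun r' c => lTensor M (lam I R' r') c) := by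
  induction z using TensorProduct.induction_on with
  | zero => simp
  | add a b ha hb =>
    rw [map_add, map_add, ha, hb, Finsupp.sum_add_index' (by simp) (by intros; simp)]
  | tmul m p =>
    induction p using Finsupp.induction_linear with
    | zero => simp
    | add f g hf hg =>
      rw [TensorProduct.tmul_add, map_add, map_add, hf, hg,
        Finsupp.sum_add_index' (by simp) (by intros; simp)]
    | single r' i =>
      rw [TensorProduct.finsuppRight_tmul_single, Finsupp.sum_single_index (by simp),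
        LinearMap.lTensor_tmul, LinearMap.lTensor_tmul, rho1_single]

end Chase

section Abstract
variable {R : Type u} [CommRing R] (I : Ideal R) {M : Type u} [AddCommGroup M] [Module R M]
  {F₁ F X₃ X₄ : Type u} [AddCommGroup F₁] [AddCommGroup F] [AddCommGroup X₃] [AddCommGroup X₄]
  [Module R F₁] [Module R F] [Module R X₃] [Module R X₄]

/-- abstract diagram chase -/
theorem abstract_chase (hM : TorsionFlat I M)
    (α : F₁ →ₗ[R] F) (ρ : F →ₗ[R] X₄) (ρ₁ : F₁ →ₗ[R] X₃) (β : X₃ →ₗ[R] X₄)
    (hcomm : β ∘ₗ ρ₁ = ρ ∘ₗ α) (hρ : Surjective ρ) (hβ : Injective β)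
    (htors : ∀ a ∈ I, ∀ φ : F, a • φ ∈ LinearMap.range α)
    (t' : M ⊗[R] F₁) (ht : lTensor M β (lTensor M ρ₁ t') = 0) :
    ∃ t'' : M ⊗[R] F₁, lTensor M ρ₁ t'' = lTensor M ρ₁ t' ∧ lTensor M α t'' = 0 := by
  -- step 2
  let K := LinearMap.ker ρ
  let K₁ := LinearMap.ker ρ₁
  have hex : Function.Exact K.subtype ρ := LinearMap.exact_subtype_ker_map ρ
  have hex' := lTensor_exact (M := ↥K) (f := K.subtype) M hex hρ
  have h2 : lTensor M ρ (lTensor M α t') = 0 := by
    rw [← LinearMap.comp_apply, ← LinearMap.lTensor_comp, ← hcomm, LinearMap.lTensor_comp,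
      LinearMap.comp_apply, ht]
  obtain ⟨κ, hκ⟩ := (hex' _).1 h2
  -- step 3
  let Q := F ⧸ LinearMap.range α
  let K₀ : Submodule R ↥K := (LinearMap.range α).comap K.subtype
  let j : (↥K ⧸ K₀) →ₗ[R] Q := K₀.mapQ (LinearMap.range α) K.subtype le_rfl
  have hj : Injective j := by
    rw [injective_iff_map_eq_zero]
    intro x hx
    induction x using Submodule.Quotient.induction_on with
    | H k =>
      rw [Submodule.mapQ_apply, Submodule.Quotient.mk_eq_zero] at hx
      exact (Submodule.Quotient.mk_eq_zero _).2 hx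
  have hQ : Module.IsTorsionBySet R Q I := by
    intro x a
    induction x using Submodule.Quotient.induction_on with
    | H φ =>
      rw [← Submodule.Quotient.mk_smul, Submodule.Quotient.mk_eq_zero]
      exact htors a.1 a.2 φ
  have hQK : Module.IsTorsionBySet R (↥K ⧸ K₀) I := by
    intro x a
    induction x using Submodule.Quotient.induction_on with
    | H k =>
      rw [← Submodule.Quotient.mk_smul, Submodule.Quotient.mk_eq_zero]
      change K.subtype (a.1 • k) ∈ LinearMap.range α
      rw [map_smul]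
      exact htors a.1 a.2 _
  have hjM : Injective (lTensor M j) := hM _ _ hQK hQ j hj
  have h3 : lTensor M K₀.mkQ κ = 0 := by
    apply hjM
    rw [map_zero, ← LinearMap.comp_apply, ← LinearMap.lTensor_comp]
    have hjk : j ∘ₗ K₀.mkQ = (LinearMap.range α).mkQ ∘ₗ K.subtype := by
      ext k; rfl
    rw [hjk, LinearMap.lTensor_comp, LinearMap.comp_apply, hκ, ← LinearMap.comp_apply,
      ← LinearMap.lTensor_comp]
    have : (LinearMap.range α).mkQ ∘ₗ α = 0 := by
      ext x
      simp only [LinearMap.comp_apply, Submodule.mkQ_apply, LinearMap.zero_apply,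
        Submodule.Quotient.mk_eq_zero]
      exact ⟨x, rfl⟩
    rw [this, LinearMap.lTensor_zero, LinearMap.zero_apply]
  have hex0 : Function.Exact K₀.subtype K₀.mkQ := LinearMap.exact_subtype_mkQ K₀
  have hex0' := lTensor_exact (M := ↥K₀) (f := K₀.subtype) M hex0 (Submodule.mkQ_surjective K₀)
  obtain ⟨κ₀, hκ₀⟩ := (hex0' _).1 h3
  -- step 4
  have hK₁K : ∀ x : ↥K₁, α x.1 ∈ K := by
    intro x
    change ρ (α x.1) = 0
    have := LinearMap.congr_fun hcomm x.1
    simp only [LinearMap.comp_apply] at this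
    rw [← this, show ρ₁ x.1 = 0 from x.2, map_zero]
  let a1 : ↥K₁ →ₗ[R] ↥K₀ :=
    LinearMap.codRestrict K₀ (LinearMap.codRestrict K (α ∘ₗ K₁.subtype) hK₁K)
      (fun x => ⟨x.1, rfl⟩)
  have ha1 : Surjective a1 := by
    rintro ⟨⟨k, hk⟩, hk0⟩
    obtain ⟨x, hx⟩ := hk0
    have hx' : α x = k := hx
    have hxK₁ : x ∈ K₁ := by
      change ρ₁ x = 0
      apply hβ
      have := LinearMap.congr_fun hcomm x
      simp only [LinearMap.comp_apply] at this
      rw [map_zero, this, hx']
      exact hk
    refine ⟨⟨x, hxK₁⟩, ?_⟩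
    apply Subtype.ext
    apply Subtype.ext
    exact hx'
  obtain ⟨κ₁, hκ₁⟩ := LinearMap.lTensor_surjective M ha1 κ₀
  -- step 5
  refine ⟨t' - lTensor M K₁.subtype κ₁, ?_, ?_⟩
  · rw [map_sub, ← LinearMap.comp_apply, ← LinearMap.lTensor_comp]
    have : ρ₁ ∘ₗ K₁.subtype = 0 := by
      ext x
      exact x.2
    rw [this, LinearMap.lTensor_zero, LinearMap.zero_apply, sub_zero]
  · rw [map_sub, ← hκ, ← hκ₀, ← hκ₁, ← LinearMap.comp_apply, ← LinearMap.comp_apply,
      ← LinearMap.comp_apply, ← LinearMap.lTensor_comp, ← LinearMap.lTensor_comp,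
      ← LinearMap.lTensor_comp]
    have : α ∘ₗ K₁.subtype = (K.subtype ∘ₗ K₀.subtype) ∘ₗ a1 := by
      ext x; rfl
    rw [this, sub_self]

end Abstract

section Chase2
variable {R : Type u} [CommRing R] (I : Ideal R) (R' : Type u) [CommRing R'] [Algebra R R']
  [DecidableEq R'] {M : Type u} [AddCommGroup M] [Module R M]

/-- **Key chase**: the kernel of `M ⊗ I R' → M ⊗ R'` comes from the kernel of `M ⊗ I → M ⊗ R`. -/
theorem exists_kernel_decomp (hM : TorsionFlat I M)
    (t : M ⊗[R] ↥(I.map (algebraMap R R'))) (ht : lTensor M (beta I R') t = 0) :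
    ∃ c : R' →₀ (M ⊗[R] I), (∀ r', lTensor M I.subtype (c r') = 0) ∧
      t = c.sum (fun r' x => lTensor M (lam I R' r') x) := by
  obtain ⟨t', rfl⟩ := LinearMap.lTensor_surjective M (rho1_surjective I R') t
  obtain ⟨t'', h5a, h5b⟩ := abstract_chase I hM (alpha I R') (rho (R := R) R') (rho1 I R')
    (beta I R') (beta_rho1 I R') (rho_surjective R') (beta_injective I R')
    (fun a ha φ => smul_mem_range_alpha I R' a ha φ) t' ht
  refine ⟨TensorProduct.finsuppRight R R M I R' t'', ?_, ?_⟩
  · intro r'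
    rw [TensorProduct.finsuppRight_apply, ← LinearMap.comp_apply, ← LinearMap.lTensor_comp,
      ← lapply_alpha, LinearMap.lTensor_comp, LinearMap.comp_apply, h5b, map_zero]
  · rw [← h5a, lTensor_rho1]

end Chase2


end Groth.Agent.Helper2.TorZero1
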