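import Mathlib
import Groth.Prelude
import Groth.Agent.Helper2.TorZero1

set_option autoImplicit false
open TensorProduct Function LinearMap
universe u

namespace Groth.Agent.Helper2.TorZero2

open Groth.Agent.Helper2.AdicFlat Groth.Agent.Helper2.FlatCL1 Groth.Agent.Helper2.FlatCL4
  Groth.Agent.Helper2.TorZero1

section G
variable {R S R' S₁ : Type u} [CommRing R] [CommRing S] [CommRing R'] [CommRing S₁]
  [Algebra R S] [Algebra R R'] [Algebra S S₁] [Algebra R' S₁] [Algebra R S₁]
  [IsScalarTower R S S₁] [IsScalarTower R R' S₁] [Algebra.IsPushout R S R' S₁]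
  (W : Submonoid S₁)
  {M M₁ M' : Type u} [AddCommGroup M] [Module S M] [Module R M] [IsScalarTower R S M]
  [AddCommGroup M₁] [Module S₁ M₁] [Module R' M₁] [IsScalarTower R' S₁ M₁] [Module S M₁]
  [IsScalarTower S S₁ M₁]
  [AddCommGroup M'] [Module S₁ M'] [Module R' M'] [IsScalarTower R' S₁ M']
  (f₁ : M →ₗ[S] M₁) (hf₁ : IsBaseChange S₁ f₁)
  (g : M₁ →ₗ[S₁] M') [IsLocalizedModule W g]
  {X' X : Type u} [AddCommGroup X'] [Module R' X'] [Module R X'] [IsScalarTower R R' X']
  [AddCommGroup X] [Module R' X] [Module R X] [IsScalarTower R R' X]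

include hf₁ in
/-- **Lemma G**: kernels after base change and localization come from kernels before. -/
theorem exists_of_lTensor_eq_zero (ι : X' →ₗ[R'] X) (y₂ : M' ⊗[R'] X')
    (hy₂ : lTensor M' ι y₂ = 0) :
    ∃ (w : W) (y : M ⊗[R] X'), lTensor M (ι.restrictScalars R) y = 0 ∧
      w • y₂ = AlgebraTensorModule.rTensor R' X' g (psi R R' S₁ X' f₁ y) := by
  let g' := AlgebraTensorModule.rTensor R' X' g
  let g'' := AlgebraTensorModule.rTensor R' X g
  have hmap := IsLocalizedModule.map_lTensor (R := R') S₁ W ι g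
  obtain ⟨⟨z, w⟩, hz⟩ := IsLocalizedModule.surj W g' y₂
  have hz' : w • y₂ = g' z := hz
  have h1 : g'' (AlgebraTensorModule.lTensor S₁ M₁ ι z) = 0 := by
    have h2 : AlgebraTensorModule.lTensor S₁ M' ι (g' z) =
        g'' (AlgebraTensorModule.lTensor S₁ M₁ ι z) := by
      rw [← hmap, IsLocalizedModule.map_apply]
    rw [← h2, ← hz', Submonoid.smul_def, map_smul]
    change w.1 • (lTensor M' ι y₂) = 0
    rw [hy₂, smul_zero]
  obtain ⟨w', hw'⟩ := (IsLocalizedModule.eq_zero_iff W g'').1 h1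
  have h3 : lTensor M₁ ι (w' • z) = 0 := by
    change AlgebraTensorModule.lTensor S₁ M₁ ι (w' • z) = 0
    rw [Submonoid.smul_def, map_smul, ← Submonoid.smul_def]
    exact hw'
  obtain ⟨y, hy⟩ := psi_surjective R R' S₁ X' f₁ hf₁ (w' • z)
  refine ⟨w' * w, y, ?_, ?_⟩
  · apply psi_injective R R' S₁ X f₁ hf₁
    rw [map_zero, psi_natural, hy, h3]
  · rw [hy, mul_smul, hz']
    change w' • g' z = g' (w' • z)
    rw [Submonoid.smul_def, Submonoid.smul_def, map_smul]

end G

section BC
variable {R S R' S₁ : Type u} [CommRing R] [CommRing S] [CommRing R'] [CommRing S₁]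
  [Algebra R S] [Algebra R R'] [Algebra S S₁] [Algebra R' S₁] [Algebra R S₁]
  [IsScalarTower R S S₁] [IsScalarTower R R' S₁] [Algebra.IsPushout R S R' S₁]
  {M M₁ M' : Type u} [AddCommGroup M] [Module S M] [Module R M] [IsScalarTower R S M]
  [AddCommGroup M₁] [Module S₁ M₁] [Module R' M₁] [IsScalarTower R' S₁ M₁] [Module S M₁]
  [IsScalarTower S S₁ M₁]
  [AddCommGroup M'] [Module S₁ M'] [Module R' M'] [IsScalarTower R' S₁ M']
  (f₁ : M →ₗ[S] M₁) (hf₁ : IsBaseChange S₁ f₁) (I : Ideal R)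

include hf₁ in
/-- (c): `TorsionFlat` passes to the localized base change. -/
theorem torsionFlat_map (W : Submonoid S₁) (g : M₁ →ₗ[S₁] M') [IsLocalizedModule W g]
    (hM : TorsionFlat I M) :
    TorsionFlat (I.map (algebraMap R R')) M' := by
  intro X' X _ _ _ _ hX' hX ι hι
  letI : Module R X' := Module.compHom X' (algebraMap R R')
  letI : Module R X := Module.compHom X (algebraMap R R')
  haveI : IsScalarTower R R' X' := IsScalarTower.of_algebraMap_smul (fun _ _ => rfl)
  haveI : IsScalarTower R R' X := IsScalarTower.of_algebraMap_smul (fun _ _ => rfl)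
  have hX'R : Module.IsTorsionBySet R X' I := by
    intro x a
    change (algebraMap R R' a.1) • x = 0
    exact @hX' x ⟨_, Ideal.mem_map_of_mem _ a.2⟩
  have hXR : Module.IsTorsionBySet R X I := by
    intro x a
    change (algebraMap R R' a.1) • x = 0
    exact @hX x ⟨_, Ideal.mem_map_of_mem _ a.2⟩
  have hinj := hM X' X hX'R hXR (ι.restrictScalars R) hι
  rw [injective_iff_map_eq_zero]
  intro y₂ hy₂
  obtain ⟨w, y, hy, hwy⟩ := exists_of_lTensor_eq_zero (R := R) W f₁ hf₁ g ι y₂ hy₂
  have hy0 : y = 0 := hinj (by rw [hy, map_zero])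
  rw [hy0, map_zero, map_zero] at hwy
  haveI : IsLocalizedModule W (AlgebraTensorModule.rTensor R' X' g) := inferInstance
  exact IsLocalizedModule.smul_injective (AlgebraTensorModule.rTensor R' X' g) w
    (by show w • y₂ = w • 0; rw [hwy, smul_zero])

/-- the comparison map `Θ' : M ⊗[R] I → M' ⊗[R'] I R'` -/
noncomputable def theta (g : M₁ →ₗ[S₁] M') :
    M ⊗[R] I →+ M' ⊗[R'] ↥(I.map (algebraMap R R')) :=
  ((AlgebraTensorModule.rTensor R' ↥(I.map (algebraMap R R')) g).toAddMonoidHom.comp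
    (psi R R' S₁ ↥(I.map (algebraMap R R')) f₁)).comp (lTensor M (lam I R' 1)).toAddMonoidHom

omit [Algebra.IsPushout R S R' S₁] in
lemma theta_tmul (g : M₁ →ₗ[S₁] M') (m : M) (i : I) :
    theta (R' := R') f₁ I g (m ⊗ₜ[R] i) = g (f₁ m) ⊗ₜ[R'] (lam I R' 1 i) := rfl

omit [Algebra.IsPushout R S R' S₁] in
lemma rTensor_psi_lam (g : M₁ →ₗ[S₁] M') (r' : R') (c : M ⊗[R] I) :
    AlgebraTensorModule.rTensor R' ↥(I.map (algebraMap R R')) g
      (psi R R' S₁ ↥(I.map (algebraMap R R')) f₁ (lTensor M (lam I R' r') c)) =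
      r' • theta (R' := R') f₁ I g c := by
  induction c using TensorProduct.induction_on with
  | zero => simp
  | add a b ha hb => simp only [map_add, ha, hb, smul_add]
  | tmul m i =>
    rw [theta_tmul, LinearMap.lTensor_tmul, psi_tmul]
    change g (f₁ m) ⊗ₜ[R'] (lam I R' r' i) = r' • (g (f₁ m) ⊗ₜ[R'] (lam I R' 1 i))
    rw [TensorProduct.smul_tmul', TensorProduct.smul_tmul]
    congr 1
    ext
    simp

include hf₁ in
/-- (b): vanishing of the Tor map gives injectivity of `I R' ⊗ M' → M'`. -/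
theorem lTensor_injective_of_theta [DecidableEq R'] (W : Submonoid S₁) (g : M₁ →ₗ[S₁] M')
    [IsLocalizedModule W g] (hM : TorsionFlat I M)
    (h3 : ∀ c : M ⊗[R] I, lTensor M I.subtype c = 0 → theta (R' := R') f₁ I g c = 0) :
    Injective (lTensor M' (I.map (algebraMap R R')).subtype) := by
  rw [injective_iff_map_eq_zero]
  intro y₂ hy₂
  obtain ⟨w, y, hy, hwy⟩ := exists_of_lTensor_eq_zero (R := R) W f₁ hf₁ g
    ((I.map (algebraMap R R')).subtype) y₂ hy₂
  have hy' : lTensor M (beta I R') y = 0 := hy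
  obtain ⟨c, hc, hyc⟩ := exists_kernel_decomp I R' hM y hy'
  have h0 : AlgebraTensorModule.rTensor R' ↥(I.map (algebraMap R R')) g
      (psi R R' S₁ ↥(I.map (algebraMap R R')) f₁ y) = 0 := by
    rw [hyc, Finsupp.sum, map_sum, map_sum]
    apply Finset.sum_eq_zero
    intro r' _
    rw [rTensor_psi_lam, h3 _ (hc r'), smul_zero]
  rw [h0] at hwy
  haveI : IsLocalizedModule W (AlgebraTensorModule.rTensor R' ↥(I.map (algebraMap R R')) g) :=
    inferInstance
  exact IsLocalizedModule.smul_injective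
    (AlgebraTensorModule.rTensor R' ↥(I.map (algebraMap R R')) g) w (by show w • y₂ = w • 0; rw [hwy, smul_zero])

end BC

section Final
variable {R S R' S₁ : Type u} [CommRing R] [CommRing S] [CommRing R'] [CommRing S₁]
  [Algebra R S] [Algebra R R'] [Algebra S S₁] [Algebra R' S₁] [Algebra R S₁]
  [IsScalarTower R S S₁] [IsScalarTower R R' S₁] [Algebra.IsPushout R S R' S₁]
  [IsLocalRing R'] [IsNoetherianRing R']
  {M M₁ M' : Type u} [AddCommGroup M] [Module S M] [Module R M] [IsScalarTower R S M]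
  [AddCommGroup M₁] [Module S₁ M₁] [Module R' M₁] [IsScalarTower R' S₁ M₁] [Module S M₁]
  [IsScalarTower S S₁ M₁]
  [AddCommGroup M'] [Module S₁ M'] [Module R' M'] [IsScalarTower R' S₁ M']

theorem flat_of_theta (S' : Type u) [CommRing S'] [IsLocalRing S'] [IsNoetherianRing S']
    [Algebra R' S'] [IsLocalHom (algebraMap R' S')]
    [Module S' M'] [IsScalarTower R' S' M'] [Module.Finite S' M'] (f₁ : M →ₗ[S] M₁) (hf₁ : IsBaseChange S₁ f₁) (I : Ideal R)
    (W : Submonoid S₁) (g : M₁ →ₗ[S₁] M') [IsLocalizedModule W g]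
    (hI' : I.map (algebraMap R R') ≠ ⊤) (hM : TorsionFlat I M)
    (h3 : ∀ c : M ⊗[R] I, lTensor M I.subtype c = 0 → theta (R' := R') f₁ I g c = 0) :
    Module.Flat R' M' := by
  classical
  have hb := lTensor_injective_of_theta f₁ hf₁ I W g hM h3
  have hc : TorsionFlat (I.map (algebraMap R R')) M' := torsionFlat_map f₁ hf₁ I W g hM
  refine Groth.Agent.Helper2.LocCrit2.flat_of_quotient (S := S') (I.map (algebraMap R R')) hI'
    ?_ (flat_of_torsionFlat _ _ hc)
  have : rTensor M' (I.map (algebraMap R R')).subtype =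
      (TensorProduct.comm R' M' R').toLinearMap ∘ₗ
        lTensor M' (I.map (algebraMap R R')).subtype ∘ₗ
        (TensorProduct.comm R' ↥(I.map (algebraMap R R')) M').toLinearMap := by
    apply TensorProduct.ext'
    intro n m
    simp
  rw [this]
  simp only [LinearMap.coe_comp, LinearEquiv.coe_coe]
  exact (TensorProduct.comm R' M' R').injective.comp
    (hb.comp (TensorProduct.comm R' ↥(I.map (algebraMap R R')) M').injective)

end Final

end Groth.Agent.Helper2.TorZero2
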