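import Mathlib
import Groth.Prelude
import Groth.Agent.Helper2.TorZero2

set_option autoImplicit false
open TensorProduct Function LinearMap
universe u

namespace Groth.Agent.Helper2.TorZero3

open Groth.Agent.Helper2.AdicFlat Groth.Agent.Helper2.FlatCL1 Groth.Agent.Helper2.FlatCL4
  Groth.Agent.Helper2.TorZero1 Groth.Agent.Helper2.TorZero2

attribute [local instance] Algebra.TensorProduct.rightAlgebra

theorem s12233
    (R S R' S' : Type u) [CommRing R] [CommRing S] [CommRing R'] [CommRing S']
    [IsLocalRing R] [IsLocalRing S] [IsLocalRing R'] [IsLocalRing S']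
    [IsNoetherianRing R] [IsNoetherianRing S] [IsNoetherianRing R'] [IsNoetherianRing S']
    [Algebra R S] [Algebra R R'] [Algebra S S'] [Algebra R' S'] [Algebra R S']
    [IsScalarTower R S S'] [IsScalarTower R R' S']
    [IsLocalHom (algebraMap R S)] [IsLocalHom (algebraMap R R')] [IsLocalHom (algebraMap S S')]
    [IsLocalHom (algebraMap R' S')]
    (I : Ideal R) (hI : I ≠ ⊤) (M : Type u) [AddCommGroup M] [Module S M] [Module R M] [IsScalarTower R S M]
    [Module.Finite S M]
    (M' : Type u) [AddCommGroup M'] [Module S' M'] [Module R' M'] [IsScalarTower R' S' M']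
    [Module S M'] [IsScalarTower S S' M'] [Module R M'] [IsScalarTower R R' M'] [IsScalarTower R S M']
    (f : M →ₗ[S] M') (hf : IsBaseChange S' f)
    (h1 : ∃ W : Submonoid (S ⊗[R] R'),
      letI : Algebra (S ⊗[R] R') S' :=
        (Algebra.TensorProduct.lift (IsScalarTower.toAlgHom R S S') (IsScalarTower.toAlgHom R R' S')
          (fun s r => Commute.all _ _)).toRingHom.toAlgebra;
      IsLocalization W S')
    (h2 : Module.Flat (R ⧸ I) ((R ⧸ I) ⊗[R] M))
    (h3 : ∀ x : ↥I ⊗[R] M, (Submodule.subtype I).rTensor M x = 0 →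
      (TensorProduct.mapOfCompatibleSMul R' R R ↥(I.map (algebraMap R R')) M')
        ((TensorProduct.map (Algebra.idealMap R' I) (f.restrictScalars R)) x) = 0) :
    Module.Flat R' M' := by

  classical
  obtain ⟨W, hW⟩ := h1
  let S₁ := S ⊗[R] R'
  letI algS₁S' : Algebra S₁ S' :=
    (Algebra.TensorProduct.lift (IsScalarTower.toAlgHom R S S') (IsScalarTower.toAlgHom R R' S')
      (fun s r => Commute.all _ _)).toRingHom.toAlgebra
  haveI : IsLocalization W S' := hW
  have halg : ∀ (s : S) (r' : R'), algebraMap S₁ S' (s ⊗ₜ[R] r') =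
      algebraMap S S' s * algebraMap R' S' r' := by
    intro s r'
    change (Algebra.TensorProduct.lift (IsScalarTower.toAlgHom R S S')
      (IsScalarTower.toAlgHom R R' S') (fun s r => Commute.all _ _)) (s ⊗ₜ[R] r') = _
    rw [Algebra.TensorProduct.lift_tmul]
    rfl
  haveI : IsScalarTower S S₁ S' := IsScalarTower.of_algebraMap_eq (fun s => by
    rw [Algebra.TensorProduct.algebraMap_apply, halg, map_one, mul_one]
    rfl)
  haveI : IsScalarTower R' S₁ S' := IsScalarTower.of_algebraMap_eq (fun r' => by
    rw [Algebra.TensorProduct.right_algebraMap_apply, halg, map_one, one_mul])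
  -- module structures on M'
  letI : Module S₁ M' := Module.compHom M' (algebraMap S₁ S')
  haveI : IsScalarTower S₁ S' M' := IsScalarTower.of_algebraMap_smul (fun _ _ => rfl)
  haveI : IsScalarTower S S₁ M' := IsScalarTower.of_algebraMap_smul (fun s x => by
    change (algebraMap S₁ S' (algebraMap S S₁ s)) • x = s • x
    rw [← IsScalarTower.algebraMap_apply S S₁ S', algebraMap_smul])
  haveI : IsScalarTower R' S₁ M' := IsScalarTower.of_algebraMap_smul (fun r' x => by
    change (algebraMap S₁ S' (algebraMap R' S₁ r')) • x = r' • x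
    rw [← IsScalarTower.algebraMap_apply R' S₁ S', algebraMap_smul])
  -- M₁
  let M₁ := S₁ ⊗[S] M
  haveI : IsScalarTower R' S₁ M₁ := inferInstance
  let f₁ : M →ₗ[S] M₁ := TensorProduct.mk S S₁ M 1
  have hf₁ : IsBaseChange S₁ f₁ := TensorProduct.isBaseChange S M S₁
  let g : M₁ →ₗ[S₁] M' := hf₁.lift f
  have hgf : (g.restrictScalars S) ∘ₗ f₁ = f := hf₁.lift_comp f
  have hgbc : IsBaseChange S' g := by
    apply IsBaseChange.of_comp hf₁
    rw [hgf]
    exact hf
  haveI : IsLocalizedModule W g := (isLocalizedModule_iff_isBaseChange W S' g).2 hgbc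
  -- ideal
  have hloc : (IsLocalRing.maximalIdeal R).map (algebraMap R R') ≤ IsLocalRing.maximalIdeal R' :=
    ((IsLocalRing.local_hom_TFAE (algebraMap R R')).out 0 2).1 ‹IsLocalHom (algebraMap R R')›
  have hI' : I.map (algebraMap R R') ≠ ⊤ := by
    intro htop
    have h1 : I.map (algebraMap R R') ≤ IsLocalRing.maximalIdeal R' :=
      (Ideal.map_mono (IsLocalRing.le_maximalIdeal hI)).trans hloc
    rw [htop] at h1
    exact (IsLocalRing.maximalIdeal.isMaximal R').ne_top (top_le_iff.1 h1)
  have hM : TorsionFlat I M := torsionFlat_of_flat I M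
  haveI : Module.Finite S' M' := Module.Finite.equiv hf.equiv
  refine flat_of_theta S' f₁ hf₁ I W g hI' hM ?_
  intro c hc
  -- compare with h3
  let Φ : ↥I ⊗[R] M →ₗ[R] ↥(I.map (algebraMap R R')) ⊗[R'] M' :=
    (TensorProduct.mapOfCompatibleSMul R' R R ↥(I.map (algebraMap R R')) M') ∘ₗ
      (TensorProduct.map (Algebra.idealMap R' I) (f.restrictScalars R))
  have hΦ : ∀ c : M ⊗[R] I, theta (R' := R') f₁ I g c =
      TensorProduct.comm R' ↥(I.map (algebraMap R R')) M' (Φ (TensorProduct.comm R M I c)) := by
    intro c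
    induction c using TensorProduct.induction_on with
    | zero => simp
    | add a b ha hb => simp only [map_add, ha, hb]
    | tmul m i =>
      rw [theta_tmul]
      have h5 : g (f₁ m) = f m := LinearMap.congr_fun hgf m
      rw [h5]
      simp only [Φ, TensorProduct.comm_tmul, LinearMap.comp_apply, TensorProduct.map_tmul,
        TensorProduct.mapOfCompatibleSMul_tmul, LinearMap.restrictScalars_apply]
      congr 1
      ext
      simp only [lam_coe, one_mul]
      rfl
  rw [hΦ c]
  have h6 : (Submodule.subtype I).rTensor M (TensorProduct.comm R M I c) = 0 := by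
    have : (Submodule.subtype I).rTensor M ∘ₗ (TensorProduct.comm R M I).toLinearMap =
        (TensorProduct.comm R M R).toLinearMap ∘ₗ lTensor M I.subtype := by
      apply TensorProduct.ext'
      intro m i
      simp
    have h7 := LinearMap.congr_fun this c
    simp only [LinearMap.comp_apply, LinearEquiv.coe_coe] at h7
    rw [h7, hc, map_zero]
  have h8 := h3 _ h6
  change TensorProduct.comm R' _ M' (Φ _) = 0
  simp only [Φ, LinearMap.comp_apply]
  rw [h8, map_zero]

end Groth.Agent.Helper2.TorZero3
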