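import Mathlib
import Groth.Prelude.Def_SGA3b
import Groth.Agent.Helper2.TrivSub2

set_option autoImplicit false

namespace Groth.Agent.Helper2.TrivSub
open TensorProduct Groth.Agent.Helper2.MultTypeSemi Groth.Agent.Helper2.MultTypeChart
  Groth.Agent.Helper2.SemiIso Groth.Agent.Helper2.TorsDens Groth.Agent.Helper2.NilLift
  Groth.Agent.Helper2.FamDesc Groth.Agent.Helper2.TorsFin

universe u

section levelb
variable (R : Type u) [CommRing R] [IsLocalRing R] (A : Type u) [CommRing A] [HopfAlgebra R A]

/-- the finite level: a closed subgroup with trivial closed fibre has trivial `n`-torsion -/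
theorem ker_le_sup_torsion (hft : Algebra.FiniteType R A) (h : SGA3b.IsMultType R A)
    (J : Ideal A) (hJε : J ≤ RingHom.ker (Bialgebra.counitAlgHom R A))
    (hs : RingHom.ker (Bialgebra.counitAlgHom R A) ≤
      J ⊔ Ideal.map (algebraMap R A) (IsLocalRing.maximalIdeal R))
    (n : ℕ) (hn : 0 < n) :
    RingHom.ker (Bialgebra.counitAlgHom R A) ≤ J ⊔ SGA3b.torsionIdeal R A n := by
  set I : Ideal A := J ⊔ SGA3b.torsionIdeal R A n with hI
  haveI : Module.Finite R (A ⧸ SGA3b.torsionIdeal R A n) := finite_quot_torsionIdeal R A hft h n hn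
  haveI : Module.Finite R (A ⧸ I) :=
    Module.Finite.of_surjective
      ((Ideal.Quotient.factorₐ R (le_sup_right : SGA3b.torsionIdeal R A n ≤ I)).toLinearMap)
      (Ideal.Quotient.factor_surjective le_sup_right)
  have hIε : I ≤ RingHom.ker (Bialgebra.counitAlgHom R A) :=
    sup_le hJε (torsionIdeal_le_ker_counit R A n)
  -- Nakayama
  have htop : (⊤ : Submodule R (A ⧸ I)) ≤ Submodule.span R {(1 : A ⧸ I)} := by
    apply Submodule.le_of_le_smul_of_le_jacobson_bot (I := IsLocalRing.maximalIdeal R)
      Module.Finite.fg_top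
    · rw [IsLocalRing.jacobson_eq_maximalIdeal ⊥ bot_ne_top]
    · rintro b -
      obtain ⟨a, rfl⟩ := Ideal.Quotient.mk_surjective b
      have ha : a - algebraMap R A (Coalgebra.counit (R := R) a) ∈
          J ⊔ Ideal.map (algebraMap R A) (IsLocalRing.maximalIdeal R) :=
        hs (TorsFin.sub_counit_mem_ker a)
      obtain ⟨j, hj, w, hw, hjw⟩ := Submodule.mem_sup.mp ha
      have h1 : Ideal.Quotient.mk I a =
          (Coalgebra.counit (R := R) a) • (1 : A ⧸ I) + Ideal.Quotient.mk I w := by
        have h2 : a = algebraMap R A (Coalgebra.counit (R := R) a) + j + w := by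
          rw [add_assoc, hjw]; ring
        have h3 : Ideal.Quotient.mk I j = 0 :=
          Ideal.Quotient.eq_zero_iff_mem.mpr (le_sup_left (a := J) hj)
        conv_lhs => rw [h2]
        rw [map_add, map_add, h3, add_zero, Algebra.smul_def, mul_one]
        rfl
      rw [h1]
      refine Submodule.add_mem_sup (Submodule.smul_mem _ _ (Submodule.mem_span_singleton_self _)) ?_
      have hw' : w ∈ (IsLocalRing.maximalIdeal R) • (⊤ : Submodule R A) := by
        rw [Ideal.smul_top_eq_map]
        exact hw
      exact map_mem_smul_top' _ (Ideal.Quotient.mkₐ R I).toLinearMap hw'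
  intro x hx
  have hmem : Ideal.Quotient.mk I x ∈ Submodule.span R {(1 : A ⧸ I)} := htop trivial
  obtain ⟨r, hr⟩ := Submodule.mem_span_singleton.mp hmem
  have h1 : x - algebraMap R A r ∈ I := by
    rw [← Ideal.Quotient.eq_zero_iff_mem, map_sub, ← hr, Algebra.smul_def, mul_one]
    exact sub_self _
  have h2 := hIε h1
  rw [RingHom.mem_ker, map_sub, (RingHom.mem_ker).mp hx, zero_sub, AlgHom.commutes] at h2
  have hr0 : r = 0 := by simpa using h2
  rw [hr0, map_zero, sub_zero] at h1
  exact h1

end levelb

end Groth.Agent.Helper2.TrivSub
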