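import Mathlib
import Groth.Prelude.Def_SGA3b
import Groth.Agent.Helper2.TrivSub3

set_option autoImplicit false

namespace Groth.Agent.Helper2.TrivSub
open TensorProduct Groth.Agent.Helper2.MultTypeSemi Groth.Agent.Helper2.MultTypeChart
  Groth.Agent.Helper2.SemiIso Groth.Agent.Helper2.TorsDens Groth.Agent.Helper2.NilLift
  Groth.Agent.Helper2.FamDesc Groth.Agent.Helper2.TorsFin Groth.Agent.Helper2.DiagSpan

universe u

section fieldF
variable (K : Type u) [Field K] (D : Type u) [CommRing D] [HopfAlgebra K D]

lemma eq_single_one_of_trivial {M : Type*} [CommGroup M] (hM : ∀ m : M, m = 1)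
    (x : MonoidAlgebra K M) : x = MonoidAlgebra.single 1 (Coalgebra.counit (R := K) x) := by
  induction x using MonoidAlgebra.induction_linear with
  | zero => simp
  | add a b ha hb =>
    rw [map_add, MonoidAlgebra.single_add, ← ha, ← hb]
  | single m r =>
    rw [MonoidAlgebra.counit_single, hM m]
    rfl

/-- a finitely generated diagonalisable group over a field all of whose torsion subgroups are
trivial is trivial -/
theorem ker_counit_eq_bot_of_span (hft : Algebra.FiniteType K D)
    (hspan : Submodule.span K {a : D | IsGroupLikeElem K a} = ⊤)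
    (hT : ∀ n, 0 < n → RingHom.ker (Bialgebra.counitAlgHom K D) ≤ SGA3b.torsionIdeal K D n) :
    RingHom.ker (Bialgebra.counitAlgHom K D) = ⊥ := by
  obtain ⟨M, _, ⟨e⟩⟩ := isDiag_of_span_groupLike K D hspan
  haveI : Algebra.FiniteType K (MonoidAlgebra K M) :=
    Algebra.FiniteType.equiv hft (AlgEquivClass.toAlgEquiv e)
  haveI : Group.FG M := (MonoidAlgebra.finiteType_iff_group_fg (R := K)).mp inferInstance
  have hcounit : ∀ d : D, Coalgebra.counit (R := K) (e d) = Coalgebra.counit (R := K) d := by
    intro d
    exact CoalgHomClass.counit_comp_apply e d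
  have hM : ∀ m : M, m = 1 := by
    intro m
    by_contra hm
    obtain ⟨n, hn, -, hav⟩ := Groth.Agent.Helper2.AbResFin.exists_pow_avoid M 0 (Or.inl rfl)
      (fun h => absurd rfl h) m hm
    have h1 : e.symm (MonoidAlgebra.single m (1 : K) - 1) ∈
        RingHom.ker (Bialgebra.counitAlgHom K D) := by
      rw [RingHom.mem_ker]
      show Coalgebra.counit (R := K) (e.symm (MonoidAlgebra.single m (1 : K) - 1)) = 0
      rw [← hcounit, BialgEquiv.apply_symm_apply, map_sub, MonoidAlgebra.counit_single]
      simp
    have h2 := hT n hn h1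
    have h3 := Groth.Agent.Helper2.TorsDense.map_mem_torsionIdeal
      (isSemiCoalg_bialgHom K (e : D →ₐc[K] MonoidAlgebra K M)) n h2
    have h3' : MonoidAlgebra.single m (1 : K) - 1 ∈
        SGA3b.torsionIdeal K (MonoidAlgebra K M) n := by
      have h4 : (e : D →ₐc[K] MonoidAlgebra K M) (e.symm (MonoidAlgebra.single m (1 : K) - 1)) =
          MonoidAlgebra.single m (1 : K) - 1 := e.apply_symm_apply _
      rw [← h4]
      exact h3
    have h5 := torsionIdeal_le_ker K M n h3'
    rw [RingHom.mem_ker, map_sub, pi_single, map_one, MonoidAlgebra.one_def, sub_eq_zero] at h5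
    have h6 : ((m : Qn M n)) = 1 := by
      by_contra hne
      have := congrArg (fun z => z.coeff (1 : Qn M n)) h5
      simp only [MonoidAlgebra.coeff_single] at this
      rw [Finsupp.single_eq_same, Finsupp.single_eq_of_ne (Ne.symm hne)] at this
      exact zero_ne_one this
    obtain ⟨h, hh⟩ := (QuotientGroup.eq_one_iff m).mp h6
    exact hav h hh
  rw [eq_bot_iff]
  intro d hd
  rw [RingHom.mem_ker] at hd
  have hd' : Coalgebra.counit (R := K) d = 0 := hd
  have h1 := eq_single_one_of_trivial K hM (e d)
  rw [hcounit, hd', MonoidAlgebra.single_zero] at h1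
  rw [Ideal.mem_bot]
  have h2 : e d = e 0 := by rw [h1, map_zero]
  exact e.injective h2

end fieldF

end Groth.Agent.Helper2.TrivSub
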