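import Mathlib
import Groth.Prelude.Def_SGA3b
import Groth.Agent.Helper2.TrivSub4

set_option autoImplicit false

namespace Groth.Agent.Helper2.TrivSub
open TensorProduct Groth.Agent.Helper2.MultTypeSemi Groth.Agent.Helper2.MultTypeChart
  Groth.Agent.Helper2.SemiIso Groth.Agent.Helper2.TorsDens Groth.Agent.Helper2.NilLift
  Groth.Agent.Helper2.FamDesc Groth.Agent.Helper2.TorsFin Groth.Agent.Helper2.DiagSpan

universe u

section stepc
variable {R : Type u} [CommRing R] {A : Type u} [CommRing A] [HopfAlgebra R A]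
variable (J : Ideal A) [J.IsHopfIdeal R]
variable {K : Type u} [Field K] [Algebra R K] {N : Type u} [CommGroup N]
  {θ : A →ₐ[R] MonoidAlgebra K N}

/-- the map `a ↦ 1 ⊗ [a]` to the base change of the quotient -/
noncomputable def iota (R : Type u) [CommRing R] {A : Type u} [CommRing A] [HopfAlgebra R A]
    (J : Ideal A) [J.IsHopfIdeal R] (K : Type u) [Field K] [Algebra R K] :
    A →ₐ[R] K ⊗[R] (A ⧸ J) :=
  (Algebra.TensorProduct.includeRight : (A ⧸ J) →ₐ[R] K ⊗[R] (A ⧸ J)).comp
    (Ideal.Quotient.mkₐ R J)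

lemma iota_apply (a : A) : iota R J K a = (1 : K) ⊗ₜ[R] (Ideal.Quotient.mk J a) := rfl

lemma isSemiCoalg_iota : IsSemiCoalg R K (iota R J K) := by
  have h1 : IsSemiCoalg R R ((Bialgebra.Quotient.mkBialgHom J : A →ₐc[R] A ⧸ J) : A →ₐ[R] A ⧸ J) :=
    isSemiCoalg_bialgHom R (Bialgebra.Quotient.mkBialgHom J)
  have h2 := isSemiCoalg_includeRight R K (A ⧸ J)
  exact h1.comp R R K h2

include θ in
theorem span_groupLike_quot (hθ : IsSemiIso R K θ) :
    Submodule.span K {d : K ⊗[R] (A ⧸ J) | IsGroupLikeElem K d} = ⊤ := by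
  let Θ : K ⊗[R] A →ₐ[K] MonoidAlgebra K N := liftMap R K θ
  have hΘ : Function.Bijective Θ := liftMap_bijective hθ
  have hΘs : IsSemiCoalg K K Θ := isSemiCoalg_liftMap R K K hθ.1
  let q : K ⊗[R] A →ₐ[K] K ⊗[R] (A ⧸ J) := bcMap R K K (Bialgebra.Quotient.mkBialgHom J)
  have hqs : IsSemiCoalg K K q := isSemiCoalg_bcMap R K K _
  have hq : Function.Surjective q := by
    intro d
    induction d using TensorProduct.induction_on with
    | zero => exact ⟨0, map_zero _⟩
    | add x y hx hy =>
      obtain ⟨x', rfl⟩ := hx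
      obtain ⟨y', rfl⟩ := hy
      exact ⟨x' + y', map_add _ _ _⟩
    | tmul c b =>
      obtain ⟨a, rfl⟩ := Ideal.Quotient.mk_surjective b
      exact ⟨c ⊗ₜ[R] a, by simp [q]⟩
  have key : ∀ y : MonoidAlgebra K N, ∀ z, Θ z = y →
      q z ∈ Submodule.span K {d : K ⊗[R] (A ⧸ J) | IsGroupLikeElem K d} := by
    intro y
    induction y using MonoidAlgebra.induction_linear with
    | zero =>
      intro z hz
      have : z = 0 := hΘ.1 (by rw [hz, map_zero])
      rw [this, map_zero]
      exact zero_mem _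
    | add a b ha hb =>
      intro z hz
      obtain ⟨za, rfl⟩ := hΘ.2 a
      obtain ⟨zb, rfl⟩ := hΘ.2 b
      have : z = za + zb := hΘ.1 (by rw [hz, map_add])
      rw [this, map_add]
      exact add_mem (ha za rfl) (hb zb rfl)
    | single m r =>
      intro z hz
      obtain ⟨u, hu⟩ := hΘ.2 (MonoidAlgebra.single m (1 : K))
      have hgl : IsGroupLikeElem K u := by
        apply isGroupLikeElem_of_map hΘs hΘ
        rw [hu]
        exact MonoidAlgebra.isGroupLikeElem_single_one (R := K) (A := K) m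
      have : z = r • u := hΘ.1 (by
        rw [hz, map_smul, hu, MonoidAlgebra.smul_single, smul_eq_mul, mul_one])
      rw [this, map_smul]
      exact Submodule.smul_mem _ _ (Submodule.subset_span
        (isGroupLikeElem_of_isSemiCoalg K K hqs hgl))
  rw [eq_top_iff]
  rintro d -
  obtain ⟨z, rfl⟩ := hq d
  exact key (Θ z) z rfl

lemma iota_mem_torsion (n : ℕ)
    (hlev : RingHom.ker (Bialgebra.counitAlgHom R A) ≤ J ⊔ SGA3b.torsionIdeal R A n)
    (a : A) (ha : a ∈ RingHom.ker (Bialgebra.counitAlgHom R A)) :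
    iota R J K a ∈ SGA3b.torsionIdeal K (K ⊗[R] (A ⧸ J)) n := by
  obtain ⟨j, hj, t, ht, rfl⟩ := Submodule.mem_sup.mp (hlev ha)
  have h1 : iota R J K j = 0 := by
    rw [iota_apply (R := R), Ideal.Quotient.eq_zero_iff_mem.mpr hj, TensorProduct.tmul_zero]
  rw [map_add, h1, zero_add]
  exact Groth.Agent.Helper2.TorsDense.map_mem_torsionIdeal (isSemiCoalg_iota (R := R) (K := K) J) n ht

lemma sub_counit_mem_torsion (n : ℕ)
    (hlev : RingHom.ker (Bialgebra.counitAlgHom R A) ≤ J ⊔ SGA3b.torsionIdeal R A n)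
    (d : K ⊗[R] (A ⧸ J)) :
    d - algebraMap K (K ⊗[R] (A ⧸ J)) (Coalgebra.counit (R := K) d) ∈
      SGA3b.torsionIdeal K (K ⊗[R] (A ⧸ J)) n := by
  induction d using TensorProduct.induction_on with
  | zero => simp
  | add x y hx hy =>
    rw [map_add, map_add, add_sub_add_comm]
    exact add_mem hx hy
  | tmul c b =>
    obtain ⟨a, rfl⟩ := Ideal.Quotient.mk_surjective b
    have h1 : c ⊗ₜ[R] (Ideal.Quotient.mk J a) -
        algebraMap K (K ⊗[R] (A ⧸ J))
          (Coalgebra.counit (R := K) (c ⊗ₜ[R] (Ideal.Quotient.mk J a))) =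
        algebraMap K (K ⊗[R] (A ⧸ J)) c *
          iota R J K (a - algebraMap R A (Coalgebra.counit (R := R) a)) := by
      have e1 : algebraMap K (K ⊗[R] (A ⧸ J)) c *
          iota R J K (a - algebraMap R A (Coalgebra.counit (R := R) a)) =
          c ⊗ₜ[R] (Ideal.Quotient.mk J a) -
            c ⊗ₜ[R] (Ideal.Quotient.mk J (algebraMap R A (Coalgebra.counit (R := R) a))) := by
        rw [iota_apply (R := R), Algebra.TensorProduct.algebraMap_apply,
          Algebra.TensorProduct.tmul_mul_tmul, Algebra.algebraMap_self, RingHom.id_apply, mul_one,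
          one_mul, map_sub, TensorProduct.tmul_sub]
      have e2 : algebraMap K (K ⊗[R] (A ⧸ J))
          (Coalgebra.counit (R := K) (c ⊗ₜ[R] (Ideal.Quotient.mk J a))) =
          c ⊗ₜ[R] (Ideal.Quotient.mk J (algebraMap R A (Coalgebra.counit (R := R) a))) := by
        rw [TensorProduct.counit_tmul, Bialgebra.Quotient.counit_mk,
          Algebra.TensorProduct.algebraMap_apply, Algebra.algebraMap_self, RingHom.id_apply,
          CommSemiring.counit_apply, TensorProduct.smul_tmul]
        congr 1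
        rw [Algebra.smul_def, mul_one]
        rfl
      rw [e1, e2]
    rw [h1]
    exact Ideal.mul_mem_left _ _ (iota_mem_torsion J n hlev _ (TorsFin.sub_counit_mem_ker a))

include θ in
/-- over a field with a chart, the base change of a closed subgroup with trivial torsion subgroups
is trivial -/
theorem iota_eq_zero (hft : Algebra.FiniteType R A) (hθ : IsSemiIso R K θ)
    (hlev : ∀ n, 0 < n →
      RingHom.ker (Bialgebra.counitAlgHom R A) ≤ J ⊔ SGA3b.torsionIdeal R A n)
    (a : A) (ha : a ∈ RingHom.ker (Bialgebra.counitAlgHom R A)) : iota R J K a = 0 := by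
  haveI := hft
  haveI : Algebra.FiniteType R (A ⧸ J) :=
    Algebra.FiniteType.of_surjective (Ideal.Quotient.mkₐ R J) (Ideal.Quotient.mkₐ_surjective R J)
  have hftD : Algebra.FiniteType K (K ⊗[R] (A ⧸ J)) := inferInstance
  have hbot := ker_counit_eq_bot_of_span K (K ⊗[R] (A ⧸ J)) hftD (span_groupLike_quot J hθ)
    (fun n hn d hd => by
      have := sub_counit_mem_torsion J (K := K) n (hlev n hn) d
      rw [RingHom.mem_ker] at hd
      have hd' : Coalgebra.counit (R := K) d = 0 := hd
      rwa [hd', map_zero, sub_zero] at this)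
  have h1 : iota R J K a ∈ RingHom.ker (Bialgebra.counitAlgHom K (K ⊗[R] (A ⧸ J))) := by
    rw [RingHom.mem_ker]
    show Coalgebra.counit (R := K) (iota R J K a) = 0
    rw [(isSemiCoalg_iota (R := R) (K := K) J).counit]
    rw [RingHom.mem_ker] at ha
    have ha' : Coalgebra.counit (R := R) a = 0 := ha
    rw [ha', map_zero]
  rw [hbot] at h1
  exact (Ideal.mem_bot).mp h1

end stepc

end Groth.Agent.Helper2.TrivSub
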