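import Mathlib
import Groth.Prelude.Def_SGA3b
import Groth.Agent.Helper2.TrivSub5

set_option autoImplicit false

namespace Groth.Agent.Helper2.TrivSub
open TensorProduct Groth.Agent.Helper2.MultTypeSemi Groth.Agent.Helper2.MultTypeChart
  Groth.Agent.Helper2.SemiIso Groth.Agent.Helper2.TorsDens Groth.Agent.Helper2.NilLift
  Groth.Agent.Helper2.FamDesc Groth.Agent.Helper2.TorsFin Groth.Agent.Helper2.DiagSpan
  Groth.Agent.Helper2.NilSplit

universe u

section descend
variable {R : Type u} [CommRing R] {B : Type u} [CommRing B] [Algebra R B]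
variable {K₀ K : Type u} [Field K₀] [Field K] [Algebra R K₀] [Algebra R K] [Algebra K₀ K]
  [IsScalarTower R K₀ K]

/-- vanishing of `1 ⊗ b` descends along a field extension -/
lemma tmul_eq_zero_of_field_ext (b : B) (h : (1 : K) ⊗ₜ[R] b = 0) : (1 : K₀) ⊗ₜ[R] b = 0 := by
  apply Module.FaithfullyFlat.tensorProduct_mk_injective (A := K₀) (B := K) (K₀ ⊗[R] B)
  rw [map_zero, TensorProduct.mk_apply]
  apply (TensorProduct.AlgebraTensorModule.cancelBaseChange R K₀ K K B).injective
  rw [map_zero, TensorProduct.AlgebraTensorModule.cancelBaseChange_tmul, one_smul]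
  exact h

end descend

section nak
variable {R : Type u} [CommRing R] {B : Type u} [CommRing B] [Algebra R B] (ε : B →ₐ[R] R)

/-- the projection onto the augmentation ideal -/
noncomputable def rhoN : B →ₗ[R] ↥(RingHom.ker ε) where
  toFun b := ⟨b - algebraMap R B (ε b), by
    rw [RingHom.mem_ker, map_sub, AlgHom.commutes]; simp⟩
  map_add' x y := by
    apply Subtype.ext
    simp only [map_add, Submodule.coe_add]
    ring
  map_smul' r x := by
    apply Subtype.ext
    rw [RingHom.id_apply, Submodule.coe_smul_of_tower]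
    show r • x - algebraMap R B (ε (r • x)) = r • (x - algebraMap R B (ε x))
    rw [map_smul, smul_eq_mul, map_mul, smul_sub, Algebra.smul_def r (algebraMap R B (ε x))]

lemma rhoN_of_mem (b : B) (hb : b ∈ RingHom.ker ε) : rhoN ε b = ⟨b, hb⟩ := by
  apply Subtype.ext
  show b - algebraMap R B (ε b) = b
  rw [(RingHom.mem_ker).mp hb, map_zero, sub_zero]

/-- if the augmentation ideal dies after base change to the residue field at `𝔮`, it lies in
`𝔮 • N` -/
lemma mem_smul_of_tmul_eq_zero (𝔮 : Ideal B) (b : B) (hb : b ∈ RingHom.ker ε)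
    (h : (1 : B ⧸ 𝔮) ⊗ₜ[R] b = 0) :
    (⟨b, hb⟩ : ↥(RingHom.ker ε)) ∈ 𝔮 • (⊤ : Submodule B ↥(RingHom.ker ε)) := by
  have h1 : (1 : B ⧸ 𝔮) ⊗ₜ[B] (⟨b, hb⟩ : ↥(RingHom.ker ε)) = 0 := by
    have h2 := congrArg ((TensorProduct.mapOfCompatibleSMul B R R (B ⧸ 𝔮) ↥(RingHom.ker ε)) ∘ₗ
      (TensorProduct.map (LinearMap.id : (B ⧸ 𝔮) →ₗ[R] (B ⧸ 𝔮)) (rhoN ε))) h
    rw [map_zero, LinearMap.comp_apply, TensorProduct.map_tmul, LinearMap.id_apply,
      rhoN_of_mem ε b hb] at h2
    exact h2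
  have h3 := mem_smul_top_of_tmul_eq_zero B (B ⧸ 𝔮) Ideal.Quotient.mk_surjective _ h1
  have h4 : RingHom.ker (algebraMap B (B ⧸ 𝔮)) = 𝔮 := Ideal.mk_ker
  rw [h4] at h3
  exact h3

end nak

end Groth.Agent.Helper2.TrivSub
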