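import Mathlib
import Groth.Prelude.Def_SGA3b
import Groth.Agent.Helper2.TrivSub6

set_option autoImplicit false

namespace Groth.Agent.Helper2.TrivSub
open TensorProduct Groth.Agent.Helper2.MultTypeSemi Groth.Agent.Helper2.MultTypeChart
  Groth.Agent.Helper2.SemiIso Groth.Agent.Helper2.TorsDens Groth.Agent.Helper2.NilLift
  Groth.Agent.Helper2.FamDesc Groth.Agent.Helper2.TorsFin Groth.Agent.Helper2.DiagSpan
  Groth.Agent.Helper2.NilSplit

universe u

section chartfield
variable {R : Type u} [CommRing R] {A : Type u} [CommRing A] [HopfAlgebra R A]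

/-- over any field under `R` there is a field extension carrying a chart -/
theorem exists_chart_field {F : Type u} [Fintype F] [DecidableEq F] (T : F → Type u)
    [∀ f, CommRing (T f)] [∀ f, Algebra R (T f)] [Module.FaithfullyFlat R (Π f, T f)]
    (N : F → Type u) [∀ f, CommGroup (N f)] (θ : ∀ f, A →ₐ[R] MonoidAlgebra (T f) (N f))
    (hθ : ∀ f, IsSemiIso R (T f) (θ f)) (K₀ : Type u) [Field K₀] [Algebra R K₀] :
    ∃ (K : Type u) (_ : Field K) (_ : Algebra R K) (_ : Algebra K₀ K) (_ : IsScalarTower R K₀ K)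
      (N' : Type u) (_ : CommGroup N') (θ' : A →ₐ[R] MonoidAlgebra K N'), IsSemiIso R K θ' := by
  have hex : ∃ f, (1 : T f) ⊗ₜ[R] (1 : K₀) ≠ 0 := by
    by_contra hcon
    push Not at hcon
    exact one_ne_zero (joint_inj (B := R) T K₀ 1 hcon)
  obtain ⟨f, hf⟩ := hex
  haveI : Nontrivial (T f ⊗[R] K₀) := ⟨⟨(1 : T f) ⊗ₜ[R] (1 : K₀), 0, hf⟩⟩
  obtain ⟨𝔫, h𝔫⟩ := Ideal.exists_maximal (T f ⊗[R] K₀)
  letI : Field ((T f ⊗[R] K₀) ⧸ 𝔫) := Ideal.Quotient.field 𝔫
  letI : Algebra K₀ ((T f ⊗[R] K₀) ⧸ 𝔫) :=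
    ((Ideal.Quotient.mk 𝔫).comp
      ((Algebra.TensorProduct.includeRight : K₀ →ₐ[R] T f ⊗[R] K₀) : K₀ →+* T f ⊗[R] K₀)).toAlgebra
  haveI : IsScalarTower R K₀ ((T f ⊗[R] K₀) ⧸ 𝔫) :=
    IsScalarTower.of_algebraMap_eq (fun r => by
      show Ideal.Quotient.mk 𝔫 (algebraMap R (T f ⊗[R] K₀) r) =
        Ideal.Quotient.mk 𝔫 ((1 : T f) ⊗ₜ[R] (algebraMap R K₀ r))
      congr 1
      rw [Algebra.TensorProduct.algebraMap_apply, Algebra.algebraMap_eq_smul_one,
        Algebra.algebraMap_eq_smul_one (A := K₀), TensorProduct.smul_tmul])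
  exact ⟨(T f ⊗[R] K₀) ⧸ 𝔫, inferInstance, inferInstance, inferInstance, inferInstance, N f,
    inferInstance, _, isSemiIso_rho_comp (T₂ := (T f ⊗[R] K₀) ⧸ 𝔫) (hθ f)⟩

end chartfield

section final
variable (R : Type u) [CommRing R] [IsLocalRing R] (A : Type u) [CommRing A] [HopfAlgebra R A]

theorem s5254 (hft : Algebra.FiniteType R A) (hH : SGA3b.IsMultType R A) (J : Ideal A)
    [J.IsHopfIdeal R]
    (hs : J ⊔ Ideal.map (algebraMap R A) (IsLocalRing.maximalIdeal R) =
      RingHom.ker (Bialgebra.counitAlgHom R A) ⊔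
        Ideal.map (algebraMap R A) (IsLocalRing.maximalIdeal R)) :
    J = RingHom.ker (Bialgebra.counitAlgHom R A) := by
  classical
  have hJε : J ≤ RingHom.ker (Bialgebra.counitAlgHom R A) := by
    intro j hj
    have h0 : Coalgebra.counit (R := R) j = 0 :=
      Submodule.IsCoideal.counit_eq_zero (I := J.restrictScalars R) hj
    exact h0
  have hs' : RingHom.ker (Bialgebra.counitAlgHom R A) ≤
      J ⊔ Ideal.map (algebraMap R A) (IsLocalRing.maximalIdeal R) := by
    rw [hs]; exact le_sup_left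
  have hlev := fun n hn => ker_le_sup_torsion R A hft hH J hJε hs' n hn
  obtain ⟨F, _, _, T, _, _, _, N, _, θ, hθ⟩ := exists_fam_grp R A hH
  apply le_antisymm hJε
  let εB : (A ⧸ J) →ₐ[R] R := Bialgebra.counitAlgHom R (A ⧸ J)
  haveI := hft
  have hftB : Algebra.FiniteType R (A ⧸ J) :=
    Algebra.FiniteType.of_surjective (Ideal.Quotient.mkₐ R J) (Ideal.Quotient.mkₐ_surjective R J)
  have hfg : (RingHom.ker εB).FG := ker_fg_of_finiteType εB hftB
  have hmk : ∀ a ∈ RingHom.ker (Bialgebra.counitAlgHom R A),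
      Ideal.Quotient.mk J a ∈ RingHom.ker εB := by
    intro a ha
    rw [RingHom.mem_ker]
    show Coalgebra.counit (R := R) (Ideal.Quotient.mk J a) = 0
    rw [Bialgebra.Quotient.counit_mk]
    have ha' : Bialgebra.counitAlgHom R A a = 0 := ha
    exact ha'
  have hbot : RingHom.ker εB = ⊥ := by
    by_contra hne
    have hann : Module.annihilator (A ⧸ J) ↥(RingHom.ker εB) ≠ ⊤ := by
      intro htop
      apply hne
      rw [eq_bot_iff]
      intro b hb
      have h1 : (1 : A ⧸ J) ∈ Module.annihilator (A ⧸ J) ↥(RingHom.ker εB) := by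
        rw [htop]; trivial
      have h2 := (Module.mem_annihilator.mp h1) ⟨b, hb⟩
      rw [one_smul] at h2
      exact (Ideal.mem_bot).mpr (congrArg Subtype.val h2)
    obtain ⟨𝔮, h𝔮max, h𝔮le⟩ := Ideal.exists_le_maximal _ hann
    letI : Field ((A ⧸ J) ⧸ 𝔮) := Ideal.Quotient.field 𝔮
    obtain ⟨K, _, _, _, _, N', _, θ', hθ'⟩ := exists_chart_field T N θ hθ ((A ⧸ J) ⧸ 𝔮)
    have hle : (⊤ : Submodule (A ⧸ J) ↥(RingHom.ker εB)) ≤ 𝔮 • ⊤ := by
      rintro ⟨b, hb⟩ -
      obtain ⟨a, rfl⟩ := Ideal.Quotient.mk_surjective b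
      have ha : a - algebraMap R A (Coalgebra.counit (R := R) a) ∈
          RingHom.ker (Bialgebra.counitAlgHom R A) := TorsFin.sub_counit_mem_ker a
      have hεa : Coalgebra.counit (R := R) a = 0 := by
        have := (RingHom.mem_ker).mp hb
        exact this
      rw [hεa, map_zero, sub_zero] at ha
      have h0 := iota_eq_zero J hft hθ' hlev a ha
      rw [iota_apply] at h0
      exact mem_smul_of_tmul_eq_zero εB 𝔮 _ hb (tmul_eq_zero_of_field_ext (K := K) _ h0)
    obtain ⟨r, hr1, hr2⟩ := Submodule.exists_sub_one_mem_and_smul_eq_zero_of_fg_of_le_smul 𝔮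
      (⊤ : Submodule (A ⧸ J) ↥(RingHom.ker εB)) ((Submodule.fg_top _).mpr hfg) hle
    have hr : r ∈ 𝔮 := h𝔮le (Module.mem_annihilator.mpr (fun m => hr2 m trivial))
    apply h𝔮max.ne_top
    rw [Ideal.eq_top_iff_one]
    have : (1 : A ⧸ J) = r - (r - 1) := by ring
    rw [this]
    exact sub_mem hr hr1
  intro x hx
  have := hmk x hx
  rw [hbot, Ideal.mem_bot] at this
  exact Ideal.Quotient.eq_zero_iff_mem.mp this

end final

end Groth.Agent.Helper2.TrivSub
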