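import Mathlib
import Groth.Prelude

namespace Groth.Agent.Helper2.TruncDef

open Polynomial TensorProduct

universe u

section DLemmas

variable {k : Type u} [Field k] {n : ℕ} {D : Type u} [CommRing D] [Algebra k D] {τ : D}
  (e : (k[X] ⧸ Ideal.span {(X : k[X]) ^ (n + 1)}) ≃ₐ[k] D)
  (he : e (Ideal.Quotient.mk (Ideal.span {(X : k[X]) ^ (n + 1)}) X) = τ)

/-- The surjection `k[X] → D`. -/
noncomputable def π : k[X] →ₐ[k] D :=
  e.toAlgHom.comp (Ideal.Quotient.mkₐ k (Ideal.span {(X : k[X]) ^ (n + 1)}))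

theorem π_surjective : Function.Surjective (π e) :=
  e.surjective.comp (Ideal.Quotient.mkₐ_surjective k _)

include he in
theorem π_apply (p : k[X]) : π e p = aeval τ p := by
  have : π e = aeval τ := by
    apply Polynomial.algHom_ext
    rw [aeval_X]
    exact he
  rw [this]

theorem π_eq_zero_iff (p : k[X]) : π e p = 0 ↔ X ^ (n + 1) ∣ p := by
  show e (Ideal.Quotient.mk _ p) = 0 ↔ _
  rw [map_eq_zero_iff e e.injective, Ideal.Quotient.eq_zero_iff_mem, Ideal.mem_span_singleton]

include he in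
theorem aeval_eq_zero_iff (p : k[X]) : aeval τ p = 0 ↔ X ^ (n + 1) ∣ p := by
  rw [← π_apply e he, π_eq_zero_iff]

include he in
theorem exists_aeval (d : D) : ∃ p : k[X], aeval τ p = d := by
  obtain ⟨p, hp⟩ := π_surjective e d
  exact ⟨p, by rw [← π_apply e he, hp]⟩

include he in
theorem tau_pow : τ ^ (n + 1) = 0 := by
  have := (aeval_eq_zero_iff e he (X ^ (n + 1))).2 dvd_rfl
  rwa [map_pow, aeval_X] at this

include he in
theorem exists_decomp (d : D) : ∃ c : k, ∃ d' : D, d = algebraMap k D c + τ * d' := by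
  obtain ⟨p, rfl⟩ := exists_aeval e he d
  refine ⟨p.coeff 0, aeval τ p.divX, ?_⟩
  conv_lhs => rw [← Polynomial.divX_mul_X_add p]
  rw [map_add, map_mul, aeval_X, aeval_C]
  ring

include he in
theorem exists_of_pow_mul_eq_zero {a : ℕ} (ha : a ≤ n + 1) {d : D} (h : τ ^ a * d = 0) :
    ∃ d' : D, d = τ ^ (n + 1 - a) * d' := by
  obtain ⟨p, rfl⟩ := exists_aeval e he d
  have h1 : aeval τ (X ^ a * p) = 0 := by rw [map_mul, map_pow, aeval_X, h]
  rw [aeval_eq_zero_iff e he] at h1
  have h2 : (X : k[X]) ^ (n + 1) = X ^ a * X ^ (n + 1 - a) := by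
    rw [← pow_add, Nat.add_sub_cancel' ha]
  rw [h2] at h1
  obtain ⟨q, hq⟩ := (mul_dvd_mul_iff_left (pow_ne_zero a (X_ne_zero (R := k)))).1 h1
  exact ⟨aeval τ q, by rw [hq, map_mul, map_pow, aeval_X]⟩

include e in
theorem isNoetherianRing_D : IsNoetherianRing D :=
  isNoetherianRing_of_ringEquiv _ e.toRingEquiv

end DLemmas

section Fiber

variable {k : Type u} [Field k] {n : ℕ} {D : Type u} [CommRing D] [Algebra k D] {τ : D}
  (e : (k[X] ⧸ Ideal.span {(X : k[X]) ^ (n + 1)}) ≃ₐ[k] D)
  (he : e (Ideal.Quotient.mk (Ideal.span {(X : k[X]) ^ (n + 1)}) X) = τ)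
  {B : Type u} [CommRing B] [Algebra k B] [Algebra D B] [IsScalarTower k D B]
  {t : B} (ht : t = algebraMap D B τ)

include e he ht in
theorem formallySmooth_tensor (K : Type u) [CommRing K] [Algebra D K]
    (hτK : algebraMap D K τ = 0)
    [Algebra.FormallySmooth k (B ⧸ Ideal.span {t})] : Algebra.FormallySmooth K (K ⊗[D] B) := by
  refine Algebra.FormallySmooth.of_comp_surjective fun C _ _ J hJ f => ?_
  algebraize [(algebraMap K C).comp (algebraMap D K)]
  letI : Algebra k C := ((algebraMap D C).comp (algebraMap k D)).toAlgebra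
  haveI : IsScalarTower k D C := IsScalarTower.of_algebraMap_eq' rfl
  have hτC : algebraMap D C τ = 0 := by
    rw [IsScalarTower.algebraMap_apply D K C, hτK, map_zero]
  let f₀ : B →ₐ[D] C ⧸ J := (f.restrictScalars D).comp Algebra.TensorProduct.includeRight
  have hf₀t : f₀ t = 0 := by
    show f ((1 : K) ⊗ₜ[D] t) = 0
    rw [ht, Algebra.algebraMap_eq_smul_one, ← TensorProduct.smul_tmul, Algebra.smul_def, mul_one, hτK,
      TensorProduct.zero_tmul, map_zero]
  let fbar : (B ⧸ Ideal.span {t}) →ₐ[k] C ⧸ J :=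
    Ideal.Quotient.liftₐ (Ideal.span {t}) (f₀.restrictScalars k) (by
      intro a ha
      obtain ⟨c, rfl⟩ := Ideal.mem_span_singleton'.mp ha
      show f₀ (c * t) = 0
      rw [map_mul, hf₀t, mul_zero])
  obtain ⟨gbar, hgbar⟩ := Algebra.FormallySmooth.comp_surjective k (B ⧸ Ideal.span {t}) J hJ fbar
  have hgbar' : ∀ x, Ideal.Quotient.mk J (gbar x) = fbar x := fun x => congrArg (fun h => h x) hgbar
  let g₀ : B →ₐ[D] C :=
    { toRingHom := gbar.toRingHom.comp (Ideal.Quotient.mk (Ideal.span {t}))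
      commutes' := by
        intro d
        obtain ⟨c, d', rfl⟩ := exists_decomp e he d
        show gbar (Ideal.Quotient.mk _ (algebraMap D B (algebraMap k D c + τ * d'))) = _
        rw [map_add, map_mul, ← ht, ← IsScalarTower.algebraMap_apply k D B, map_add, map_mul,
          Ideal.Quotient.eq_zero_iff_mem.2 (Ideal.mem_span_singleton_self t), zero_mul, add_zero,
          map_add, map_mul, hτC, zero_mul, add_zero, ← IsScalarTower.algebraMap_apply k D C]
        exact gbar.commutes c }
  let g : K ⊗[D] B →ₐ[K] C :=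
    Algebra.TensorProduct.lift (Algebra.ofId K C) g₀ (fun _ _ => Commute.all _ _)
  have hg : ∀ x b, g (x ⊗ₜ b) = algebraMap K C x * g₀ b :=
    fun x b => Algebra.TensorProduct.lift_tmul _ _ _ x b
  refine ⟨g, ?_⟩
  apply Algebra.TensorProduct.ext'
  intro x b
  show Ideal.Quotient.mk J (g (x ⊗ₜ b)) = f (x ⊗ₜ b)
  rw [hg, map_mul]
  have h1 : Ideal.Quotient.mk J (g₀ b) = f (1 ⊗ₜ b) := hgbar' (Ideal.Quotient.mk _ b)
  have h2 : x ⊗ₜ[D] b = x • ((1 : K) ⊗ₜ[D] b) := by
    rw [TensorProduct.smul_tmul', smul_eq_mul, mul_one]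
  rw [h1, h2, map_smul, Algebra.smul_def]
  rfl

include e he ht in
theorem smooth_D_B [Algebra.FiniteType k B] [Module.Flat D B]
    (hsm : Algebra.Smooth k (B ⧸ Ideal.span {t})) : Algebra.Smooth D B := by
  haveI := isNoetherianRing_D e
  haveI : Algebra.FiniteType D B := Algebra.FiniteType.of_restrictScalars_finiteType k D B
  haveI : Algebra.FinitePresentation D B := Algebra.FinitePresentation.of_finiteType.mp inferInstance
  haveI : Algebra.FormallySmooth k (B ⧸ Ideal.span {t}) := hsm.formallySmooth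
  refine Algebra.Smooth.of_formallySmooth_fiber fun I _ => ?_
  have hτI : τ ∈ I := Ideal.IsPrime.mem_of_pow_mem ‹_› (n + 1) (by
    rw [tau_pow e he]; exact I.zero_mem)
  exact formallySmooth_tensor e he ht I.ResidueField (Ideal.algebraMap_residueField_eq_zero.mpr hτI)

end Fiber

section Kaehler

variable {k : Type u} [Field k] {D : Type u} [CommRing D] [Algebra k D] {τ : D}
  (hgen : ∀ d : D, ∃ p : k[X], aeval τ p = d)

include hgen in
theorem exists_smul_D_tau (ω : Ω[D⁄k]) : ∃ d : D, ω = d • KaehlerDifferential.D k D τ := by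
  have hω : ω ∈ Submodule.span D (Set.range (KaehlerDifferential.D k D)) := by
    rw [KaehlerDifferential.span_range_derivation]; trivial
  induction hω using Submodule.span_induction with
  | mem x hx =>
    obtain ⟨y, rfl⟩ := hx
    obtain ⟨p, rfl⟩ := hgen y
    exact ⟨aeval τ (derivative p), Derivation.map_aeval _ p τ⟩
  | zero => exact ⟨0, by rw [zero_smul]⟩
  | add x y _ _ hx hy =>
    obtain ⟨a, rfl⟩ := hx
    obtain ⟨b, rfl⟩ := hy
    exact ⟨a + b, (add_smul _ _ _).symm⟩
  | smul a x _ hx =>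
    obtain ⟨b, rfl⟩ := hx
    exact ⟨a * b, by rw [smul_smul]⟩

variable {B : Type u} [CommRing B] [Algebra k B] [Algebra D B] [IsScalarTower k D B]

include hgen in
theorem mapBaseChange_eq_smul (ξ : B ⊗[D] Ω[D⁄k]) :
    ∃ b : B, KaehlerDifferential.mapBaseChange k D B ξ =
      b • KaehlerDifferential.D k B (algebraMap D B τ) := by
  induction ξ using TensorProduct.induction_on with
  | zero => exact ⟨0, by rw [map_zero, zero_smul]⟩
  | tmul b ω =>
    obtain ⟨d, rfl⟩ := exists_smul_D_tau hgen ω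
    refine ⟨b * algebraMap D B d, ?_⟩
    rw [KaehlerDifferential.mapBaseChange_tmul, map_smul, KaehlerDifferential.map_D,
      ← algebraMap_smul B d, smul_smul]
  | add x y hx hy =>
    obtain ⟨a, ha⟩ := hx
    obtain ⟨b, hb⟩ := hy
    exact ⟨a + b, by rw [map_add, ha, hb, add_smul]⟩

include hgen in
theorem exists_smul_D_t (x : Ω[B⁄k]) (hx : KaehlerDifferential.map k D B B x = 0) :
    ∃ b : B, x = b • KaehlerDifferential.D k B (algebraMap D B τ) := by
  have h1 : x ∈ LinearMap.range (KaehlerDifferential.mapBaseChange k D B) := by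
    rw [KaehlerDifferential.range_mapBaseChange]
    exact hx
  obtain ⟨ξ, rfl⟩ := h1
  exact mapBaseChange_eq_smul hgen ξ

end Kaehler

section Partial

variable {k : Type u} [Field k] {D : Type u} [CommRing D] [Algebra k D] {τ : D} {n : ℕ}
  (hgen : ∀ d : D, ∃ p : k[X], aeval τ p = d)
  (hker : ∀ p : k[X], aeval τ p = 0 → X ^ (n + 1) ∣ p)
  {M : Type u} [AddCommGroup M] [Module D M] [Module k M] [IsScalarTower k D M]
  (m : M) (hm : τ ^ n • m = 0)

include hker hm in
theorem aeval_derivative_smul_eq {p q : k[X]} (h : aeval τ p = aeval τ q) :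
    aeval τ (derivative p) • m = aeval τ (derivative q) • m := by
  have h0 : aeval τ (p - q) = 0 := by rw [map_sub, h, sub_self]
  obtain ⟨r, hr⟩ := hker _ h0
  have hp : p = q + X ^ (n + 1) * r := by rw [← hr]; ring
  have h1 : aeval τ (derivative (X ^ (n + 1) * r)) =
      (aeval τ (C ((n + 1 : ℕ) : k) * r) + τ * aeval τ (derivative r)) * τ ^ n := by
    rw [derivative_mul, derivative_X_pow, Nat.add_sub_cancel, map_add, map_mul, map_mul, map_mul,
      map_mul, map_pow, map_pow, aeval_X, pow_succ]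
    simp only [map_natCast]
    ring
  rw [hp, derivative_add, map_add, add_smul, h1, mul_smul, hm, smul_zero, add_zero]

/-- The function underlying the derivation `d/dτ` with values in `M`. -/
noncomputable def partialFun (d : D) : M :=
  aeval τ (derivative (Classical.choose (hgen d))) • m

include hker hm in
theorem partialFun_aeval (p : k[X]) :
    partialFun hgen m (aeval τ p) = aeval τ (derivative p) • m :=
  aeval_derivative_smul_eq hker m hm (Classical.choose_spec (hgen (aeval τ p)))

/-- The derivation `D → M` with `τ ↦ m`. -/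
noncomputable def partialDer : Derivation k D M :=
  Derivation.mk'
    { toFun := partialFun hgen m
      map_add' := fun a b => by
        obtain ⟨p, rfl⟩ := hgen a
        obtain ⟨q, rfl⟩ := hgen b
        rw [← map_add, partialFun_aeval hgen hker m hm, partialFun_aeval hgen hker m hm,
          partialFun_aeval hgen hker m hm, derivative_add, map_add, add_smul]
      map_smul' := fun c a => by
        obtain ⟨p, rfl⟩ := hgen a
        rw [← map_smul, partialFun_aeval hgen hker m hm, partialFun_aeval hgen hker m hm,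
          derivative_smul, map_smul, smul_assoc, RingHom.id_apply] }
    (fun a b => by
      obtain ⟨p, rfl⟩ := hgen a
      obtain ⟨q, rfl⟩ := hgen b
      show partialFun hgen m (aeval τ p * aeval τ q) =
        aeval τ p • partialFun hgen m (aeval τ q) + aeval τ q • partialFun hgen m (aeval τ p)
      rw [← map_mul, partialFun_aeval hgen hker m hm, partialFun_aeval hgen hker m hm,
        partialFun_aeval hgen hker m hm, derivative_mul, map_add, map_mul, map_mul, add_smul,
        mul_smul, mul_smul, add_comm]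
      congr 1
      rw [smul_comm])

theorem partialDer_tau : partialDer hgen hker m hm τ = m := by
  show partialFun hgen m τ = m
  have := partialFun_aeval hgen hker m hm X
  rw [aeval_X, derivative_X, map_one, one_smul] at this
  exact this

end Partial

section Retract

variable (k D B : Type u) [Field k] [CommRing D] [Algebra k D] [CommRing B] [Algebra k B]
  [Algebra D B] [IsScalarTower k D B] [Algebra.FormallySmooth D B]

theorem mapBaseChange_injective :
    Function.Injective (KaehlerDifferential.mapBaseChange k D B) := by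
  rw [injective_iff_map_eq_zero]
  intro x hx
  obtain ⟨y, rfl⟩ := (Algebra.H1Cotangent.exact_δ_mapBaseChange k D B x).1 hx
  rw [Subsingleton.elim y 0, map_zero]

theorem exists_retraction : ∃ r : Ω[B⁄k] →ₗ[B] B ⊗[D] Ω[D⁄k],
    r ∘ₗ KaehlerDifferential.mapBaseChange k D B = LinearMap.id := by
  obtain ⟨σ, hσ⟩ := Module.projective_lifting_property (KaehlerDifferential.map k D B B)
    LinearMap.id (KaehlerDifferential.map_surjective k D B)
  have h := ((KaehlerDifferential.exact_mapBaseChange_map k D B).split_tfae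
    (mapBaseChange_injective k D B) (KaehlerDifferential.map_surjective k D B)).out 0 1
  exact h.mp ⟨σ, hσ⟩

variable {k D B}

theorem exists_Φ {τ : D} {n : ℕ} (hgen : ∀ d : D, ∃ p : k[X], aeval τ p = d)
    (hker : ∀ p : k[X], aeval τ p = 0 → X ^ (n + 1) ∣ p) (t : B) (ht : t = algebraMap D B τ) :
    ∃ Φ : (B ⧸ Ideal.span {t ^ n}) ⊗[B] Ω[B⁄k] →ₗ[B ⧸ Ideal.span {t ^ n}]
        (B ⧸ Ideal.span {t ^ n}),
      Φ (1 ⊗ₜ KaehlerDifferential.D k B t) = 1 := by
  obtain ⟨r, hr⟩ := exists_retraction k D B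
  have hm : τ ^ n • (1 : B ⧸ Ideal.span {t ^ n}) = 0 := by
    rw [Algebra.smul_def, mul_one, IsScalarTower.algebraMap_apply D B (B ⧸ Ideal.span {t ^ n}),
      map_pow, ← ht, Ideal.Quotient.algebraMap_eq, Ideal.Quotient.eq_zero_iff_mem]
    exact Ideal.mem_span_singleton_self _
  let φ₁ : Ω[D⁄k] →ₗ[D] (B ⧸ Ideal.span {t ^ n}) :=
    (partialDer hgen hker (1 : B ⧸ Ideal.span {t ^ n}) hm).liftKaehlerDifferential
  let φ₂ : B ⊗[D] Ω[D⁄k] →ₗ[B] (B ⧸ Ideal.span {t ^ n}) := φ₁.liftBaseChange B
  let φ₃ : Ω[B⁄k] →ₗ[B] (B ⧸ Ideal.span {t ^ n}) := φ₂ ∘ₗ r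
  refine ⟨φ₃.liftBaseChange (B ⧸ Ideal.span {t ^ n}), ?_⟩
  rw [LinearMap.liftBaseChange_tmul, one_smul]
  have h1 : KaehlerDifferential.D k B t =
      KaehlerDifferential.mapBaseChange k D B (1 ⊗ₜ KaehlerDifferential.D k D τ) := by
    rw [KaehlerDifferential.mapBaseChange_tmul, one_smul, KaehlerDifferential.map_D, ht]
  have h2 : r (KaehlerDifferential.mapBaseChange k D B (1 ⊗ₜ KaehlerDifferential.D k D τ)) =
      1 ⊗ₜ KaehlerDifferential.D k D τ := LinearMap.congr_fun hr _
  show φ₂ (r (KaehlerDifferential.D k B t)) = 1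
  rw [h1, h2]
  show φ₁.liftBaseChange B (1 ⊗ₜ KaehlerDifferential.D k D τ) = 1
  rw [LinearMap.liftBaseChange_tmul, one_smul]
  show (partialDer hgen hker (1 : B ⧸ Ideal.span {t ^ n}) hm).liftKaehlerDifferential
    (KaehlerDifferential.D k D τ) = 1
  rw [Derivation.liftKaehlerDifferential_comp_D, partialDer_tau]

end Retract

section Seq

variable {k D B : Type u} [Field k] [CommRing D] [Algebra k D] [CommRing B] [Algebra k B]
  [Algebra D B] [IsScalarTower k D B]
  {τ : D} {n : ℕ} (hgen : ∀ d : D, ∃ p : k[X], aeval τ p = d)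
  (hker : ∀ p : k[X], aeval τ p = 0 → X ^ (n + 1) ∣ p) (t : B) (ht : t = algebraMap D B τ)

include hgen hker ht in
theorem g_injective [Algebra.FormallySmooth D B] : Function.Injective
    (LinearMap.toSpanSingleton (B ⧸ Ideal.span {t ^ n}) ((B ⧸ Ideal.span {t ^ n}) ⊗[B] Ω[B⁄k])
      ((1 : (B ⧸ Ideal.span {t ^ n})) ⊗ₜ[B] KaehlerDifferential.D k B t)) := by
  obtain ⟨Φ, hΦ⟩ := exists_Φ hgen hker t ht
  intro a b hab
  have := congrArg Φ hab
  simp only [LinearMap.toSpanSingleton_apply, map_smul, hΦ, smul_eq_mul, mul_one] at this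
  exact this

theorem π'_surjective (I : Ideal B) : Function.Surjective
    (LinearMap.baseChange (B ⧸ I) (KaehlerDifferential.map k D B B)) := by
  rw [LinearMap.baseChange_eq_ltensor]
  exact LinearMap.lTensor_surjective _ (KaehlerDifferential.map_surjective k D B)

include hgen ht in
theorem exact_g_π' : Function.Exact
    (LinearMap.toSpanSingleton (B ⧸ Ideal.span {t ^ n}) ((B ⧸ Ideal.span {t ^ n}) ⊗[B] Ω[B⁄k])
      ((1 : (B ⧸ Ideal.span {t ^ n})) ⊗ₜ[B] KaehlerDifferential.D k B t))
    (LinearMap.baseChange (B ⧸ Ideal.span {t ^ n}) (KaehlerDifferential.map k D B B)) := by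
  intro x
  constructor
  · intro hx
    rw [LinearMap.baseChange_eq_ltensor] at hx
    have hex := lTensor_exact (B ⧸ Ideal.span {t ^ n})
      (KaehlerDifferential.exact_mapBaseChange_map k D B) (KaehlerDifferential.map_surjective k D B)
    obtain ⟨ζ, rfl⟩ := (hex x).1 hx
    clear hx
    induction ζ using TensorProduct.induction_on with
    | zero => exact ⟨0, by rw [map_zero, map_zero]⟩
    | tmul b' ξ =>
      obtain ⟨b, hb⟩ := mapBaseChange_eq_smul hgen (B := B) ξ
      refine ⟨b • b', ?_⟩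
      rw [LinearMap.lTensor_tmul, hb, ← ht, LinearMap.toSpanSingleton_apply, TensorProduct.tmul_smul,
        TensorProduct.smul_tmul', TensorProduct.smul_tmul', smul_eq_mul, mul_one]
    | add x y hx hy =>
      obtain ⟨a, ha⟩ := hx
      obtain ⟨b, hb⟩ := hy
      exact ⟨a + b, by rw [map_add, ha, hb, map_add]⟩
  · rintro ⟨b', rfl⟩
    have h0 : KaehlerDifferential.D D B t = 0 := by rw [ht, Derivation.map_algebraMap]
    rw [LinearMap.toSpanSingleton_apply, map_smul, LinearMap.baseChange_tmul,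
      KaehlerDifferential.map_D, Algebra.algebraMap_self, RingHom.id_apply, h0,
      TensorProduct.tmul_zero, smul_zero]

include hgen hker ht in
theorem projective_tensor [Algebra.FormallySmooth D B] :
    Module.Projective (B ⧸ Ideal.span {t ^ n}) ((B ⧸ Ideal.span {t ^ n}) ⊗[B] Ω[B⁄k]) := by
  obtain ⟨σ, hσ⟩ := Module.projective_lifting_property
    (LinearMap.baseChange (B ⧸ Ideal.span {t ^ n}) (KaehlerDifferential.map k D B B))
    LinearMap.id (π'_surjective (k := k) (D := D) (Ideal.span {t ^ n}))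
  have h := ((exact_g_π' (k := k) (n := n) hgen t ht).split_tfae (g_injective hgen hker t ht)
    (π'_surjective (k := k) (D := D) (Ideal.span {t ^ n}))).out 0 2
  obtain ⟨e, -, -⟩ := h.mp ⟨σ, hσ⟩
  exact Module.Projective.of_equiv e.symm

end Seq

theorem s18837 (k : Type u) [Field k] (n : ℕ)
    (D : Type u) [CommRing D] [Algebra k D] (τ : D)
    (e : (k[X] ⧸ Ideal.span {(X : k[X]) ^ (n + 1)}) ≃ₐ[k] D)
    (he : e (Ideal.Quotient.mk (Ideal.span {(X : k[X]) ^ (n + 1)}) X) = τ)
    (B : Type u) [CommRing B] [Algebra k B] [Algebra D B] [IsScalarTower k D B]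
    [Algebra.FiniteType k B] [Module.Flat D B]
    (t : B) (ht : t = algebraMap D B τ) (hsm : Algebra.Smooth k (B ⧸ Ideal.span {t})) :
    Module.Projective B (Ω[B⁄D]) ∧
    Module.Projective (B ⧸ Ideal.span {t ^ n}) ((B ⧸ Ideal.span {t ^ n}) ⊗[B] Ω[B⁄k]) ∧
    Function.Injective
      (LinearMap.toSpanSingleton (B ⧸ Ideal.span {t ^ n}) ((B ⧸ Ideal.span {t ^ n}) ⊗[B] Ω[B⁄k])
        ((1 : (B ⧸ Ideal.span {t ^ n})) ⊗ₜ[B] KaehlerDifferential.D k B t)) ∧
    Function.Exact
      (LinearMap.toSpanSingleton (B ⧸ Ideal.span {t ^ n}) ((B ⧸ Ideal.span {t ^ n}) ⊗[B] Ω[B⁄k])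
        ((1 : (B ⧸ Ideal.span {t ^ n})) ⊗ₜ[B] KaehlerDifferential.D k B t))
      (LinearMap.baseChange (B ⧸ Ideal.span {t ^ n}) (KaehlerDifferential.map k D B B)) ∧
    Function.Surjective
      (LinearMap.baseChange (B ⧸ Ideal.span {t ^ n}) (KaehlerDifferential.map k D B B)) := by
  haveI : Algebra.Smooth D B := smooth_D_B e he ht hsm
  haveI : Algebra.FormallySmooth D B := Algebra.Smooth.formallySmooth
  have hgen := exists_aeval e he
  have hker : ∀ p : k[X], aeval τ p = 0 → X ^ (n + 1) ∣ p :=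
    fun p hp => (aeval_eq_zero_iff e he p).1 hp
  exact ⟨inferInstance, projective_tensor hgen hker t ht, g_injective hgen hker t ht,
    exact_g_π' hgen t ht, π'_surjective _⟩

end Groth.Agent.Helper2.TruncDef
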