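import Mathlib
import Groth.Prelude
import Groth.Agent.Helper2.TruncDef

namespace Groth.Agent.Helper2.TruncDef

open Polynomial TensorProduct

universe u

section FlatAnn

variable {k : Type u} [Field k] {n : ℕ} {D : Type u} [CommRing D] [Algebra k D] {τ : D}
  (e : (k[X] ⧸ Ideal.span {(X : k[X]) ^ (n + 1)}) ≃ₐ[k] D)
  (he : e (Ideal.Quotient.mk (Ideal.span {(X : k[X]) ^ (n + 1)}) X) = τ)
  {B : Type u} [CommRing B] [Algebra D B] [Module.Flat D B]
  {t : B} (ht : t = algebraMap D B τ)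

include e he ht in
theorem flat_ann {a : ℕ} (ha : a ≤ n + 1) {b : B} (h : t ^ a * b = 0) :
    ∃ b' : B, b = t ^ (n + 1 - a) * b' := by
  obtain ⟨m, c, y, hx, hc⟩ := Module.Flat.isTrivialRelation_of_sum_smul_eq_zero (R := D) (M := B)
    (f := fun _ : Unit => τ ^ a) (x := fun _ : Unit => b) (by
      simp [Algebra.smul_def, ← ht, h])
  have hb : b = ∑ j, c () j • y j := hx ()
  have hc' : ∀ j, ∃ d' : D, c () j = τ ^ (n + 1 - a) * d' := fun j =>
    exists_of_pow_mul_eq_zero e he ha (by simpa using hc j)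
  choose d' hd' using hc'
  refine ⟨∑ j, d' j • y j, ?_⟩
  rw [hb, Finset.mul_sum]
  refine Finset.sum_congr rfl fun j _ => ?_
  rw [hd', Algebra.smul_def, Algebra.smul_def, map_mul, map_pow, ← ht]
  ring

include e he ht in
theorem t_pow_succ : t ^ (n + 1) = 0 := by
  rw [ht, ← map_pow, tau_pow e he, map_zero]

end FlatAnn

section Range

variable (k : Type u) {B : Type u} [CommRing k] [CommRing B] [Algebra k B] (I : Ideal B)

theorem range_mu_eq :
    Set.range (fun f : B =>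
      ((Ideal.Quotient.mk I f, (1 : B ⧸ I) ⊗ₜ[B] KaehlerDifferential.D k B f) :
        (B ⧸ I) × ((B ⧸ I) ⊗[B] Ω[B⁄k]))) =
      {p | KaehlerDifferential.D k (B ⧸ I) p.1 =
        KaehlerDifferential.mapBaseChange k B (B ⧸ I) p.2} := by
  ext p
  constructor
  · rintro ⟨f, rfl⟩
    show KaehlerDifferential.D k (B ⧸ I) (Ideal.Quotient.mk I f) =
      KaehlerDifferential.mapBaseChange k B (B ⧸ I) (1 ⊗ₜ KaehlerDifferential.D k B f)
    rw [KaehlerDifferential.mapBaseChange_tmul, one_smul, KaehlerDifferential.map_D]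
    rfl
  · intro hp
    obtain ⟨g, hg⟩ := Ideal.Quotient.mk_surjective p.1
    have hp' : KaehlerDifferential.D k (B ⧸ I) p.1 =
        KaehlerDifferential.mapBaseChange k B (B ⧸ I) p.2 := hp
    have h0 : KaehlerDifferential.mapBaseChange k B (B ⧸ I)
        (p.2 - 1 ⊗ₜ KaehlerDifferential.D k B g) = 0 := by
      rw [map_sub, KaehlerDifferential.mapBaseChange_tmul, one_smul, KaehlerDifferential.map_D,
        ← hp', ← hg]
      exact sub_self _
    obtain ⟨ζ, hζ⟩ := (KaehlerDifferential.exact_kerCotangentToTensor_mapBaseChange k B (B ⧸ I)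
      Ideal.Quotient.mk_surjective _).1 h0
    obtain ⟨x, rfl⟩ := Ideal.toCotangent_surjective _ ζ
    rw [KaehlerDifferential.kerCotangentToTensor_toCotangent] at hζ
    have hx0 : Ideal.Quotient.mk I x.1 = 0 := RingHom.mem_ker.mp x.2
    refine ⟨g + x.1, Prod.ext ?_ ?_⟩
    · show Ideal.Quotient.mk I (g + x.1) = p.1
      rw [map_add, hx0, add_zero, hg]
    · show (1 : B ⧸ I) ⊗ₜ[B] KaehlerDifferential.D k B (g + x.1) = p.2
      rw [map_add, TensorProduct.tmul_add, hζ]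
      abel

end Range

section Inj

variable {k : Type u} [Field k] [CharZero k] {n : ℕ} (hn : 1 ≤ n)
  {D : Type u} [CommRing D] [Algebra k D] {τ : D}
  (e : (k[X] ⧸ Ideal.span {(X : k[X]) ^ (n + 1)}) ≃ₐ[k] D)
  (he : e (Ideal.Quotient.mk (Ideal.span {(X : k[X]) ^ (n + 1)}) X) = τ)
  {B : Type u} [CommRing B] [Algebra k B] [Algebra D B] [IsScalarTower k D B]
  [Module.Flat D B] [Algebra.FormallySmooth D B]
  {t : B} (ht : t = algebraMap D B τ)

include hn e he ht in
theorem mu_injective : Function.Injective (fun f : B =>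
      ((Ideal.Quotient.mk (Ideal.span {t ^ n}) f,
        (1 : (B ⧸ Ideal.span {t ^ n})) ⊗ₜ[B] KaehlerDifferential.D k B f) :
        (B ⧸ Ideal.span {t ^ n}) × ((B ⧸ Ideal.span {t ^ n}) ⊗[B] Ω[B⁄k]))) := by
  have hgen := exists_aeval e he
  have hker : ∀ p : k[X], aeval τ p = 0 → X ^ (n + 1) ∣ p :=
    fun p hp => (aeval_eq_zero_iff e he p).1 hp
  intro f₁ f₂ h
  have h1 : Ideal.Quotient.mk (Ideal.span {t ^ n}) f₁ = Ideal.Quotient.mk (Ideal.span {t ^ n}) f₂ :=
    congrArg Prod.fst h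
  have h2 : (1 : (B ⧸ Ideal.span {t ^ n})) ⊗ₜ[B] KaehlerDifferential.D k B f₁ =
      1 ⊗ₜ[B] KaehlerDifferential.D k B f₂ := congrArg Prod.snd h
  rw [Ideal.Quotient.eq] at h1
  obtain ⟨c, hc⟩ := Ideal.mem_span_singleton'.mp h1
  have h3 : (1 : (B ⧸ Ideal.span {t ^ n})) ⊗ₜ[B] KaehlerDifferential.D k B (f₁ - f₂) = 0 := by
    rw [map_sub, TensorProduct.tmul_sub, h2, sub_self]
  -- compute d(c t^n)
  have h4 : (1 : (B ⧸ Ideal.span {t ^ n})) ⊗ₜ[B] KaehlerDifferential.D k B (c * t ^ n) =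
      (Ideal.Quotient.mk (Ideal.span {t ^ n}) ((n : B) * c * t ^ (n - 1))) •
        ((1 : (B ⧸ Ideal.span {t ^ n})) ⊗ₜ[B] KaehlerDifferential.D k B t) := by
    have hsm : ∀ (b : B) (ω : Ω[B⁄k]), (1 : (B ⧸ Ideal.span {t ^ n})) ⊗ₜ[B] (b • ω) =
        Ideal.Quotient.mk (Ideal.span {t ^ n}) b • ((1 : (B ⧸ Ideal.span {t ^ n})) ⊗ₜ[B] ω) := by
      intro b ω
      rw [TensorProduct.tmul_smul, ← algebraMap_smul (B ⧸ Ideal.span {t ^ n}) b,
        Ideal.Quotient.algebraMap_eq]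
    have h5 : Ideal.Quotient.mk (Ideal.span {t ^ n}) (t ^ n) = 0 :=
      Ideal.Quotient.eq_zero_iff_mem.2 (Ideal.mem_span_singleton_self _)
    rw [Derivation.leibniz, Derivation.leibniz_pow, ← Nat.cast_smul_eq_nsmul B, smul_smul, smul_smul,
      TensorProduct.tmul_add, hsm, hsm, h5, zero_smul, add_zero]
    congr 2
    ring
  rw [← hc, h4] at h3
  have h6 := g_injective (n := n) hgen hker t ht (a₁ := Ideal.Quotient.mk (Ideal.span {t ^ n})
    ((n : B) * c * t ^ (n - 1))) (a₂ := 0) (by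
      rw [LinearMap.toSpanSingleton_apply, LinearMap.toSpanSingleton_apply, zero_smul]
      exact h3)
  rw [Ideal.Quotient.eq_zero_iff_mem] at h6
  -- n invertible
  have hn0 : (n : k) ≠ 0 := Nat.cast_ne_zero.mpr (by omega)
  have h7 : c * t ^ (n - 1) ∈ Ideal.span {t ^ n} := by
    have h8 := (Ideal.span {t ^ n}).smul_mem (algebraMap k B ((n : k)⁻¹)) h6
    have h9 : algebraMap k B ((n : k)⁻¹) • ((n : B) * c * t ^ (n - 1)) = c * t ^ (n - 1) := by
      rw [smul_eq_mul, ← mul_assoc, ← mul_assoc, ← map_natCast (algebraMap k B), ← map_mul,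
        inv_mul_cancel₀ hn0, map_one, one_mul]
    rwa [h9] at h8
  obtain ⟨u, hu⟩ := Ideal.mem_span_singleton'.mp h7
  have h10 : t ^ (n - 1) * (c - u * t) = 0 := by
    have : t ^ n = t ^ (n - 1) * t := by rw [← pow_succ, Nat.sub_add_cancel hn]
    rw [this] at hu
    linear_combination -hu
  obtain ⟨v, hv⟩ := flat_ann e he ht (a := n - 1) (by omega) h10
  have h11 : n + 1 - (n - 1) = 2 := by omega
  rw [h11] at hv
  have h12 : c * t ^ n = (u + t * v) * t ^ (n + 1) := by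
    have : c = u * t + t ^ 2 * v := by linear_combination hv
    rw [this]; ring
  rw [h12, t_pow_succ e he ht, mul_zero] at hc
  exact sub_eq_zero.mp hc.symm

end Inj

theorem s18838 (k : Type u) [Field k] [CharZero k] (n : ℕ) (hn : 1 ≤ n)
    (D : Type u) [CommRing D] [Algebra k D] (τ : D)
    (e : (k[X] ⧸ Ideal.span {(X : k[X]) ^ (n + 1)}) ≃ₐ[k] D)
    (he : e (Ideal.Quotient.mk (Ideal.span {(X : k[X]) ^ (n + 1)}) X) = τ)
    (B : Type u) [CommRing B] [Algebra k B] [Algebra D B] [IsScalarTower k D B]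
    [Algebra.FiniteType k B] [Module.Flat D B]
    (t : B) (ht : t = algebraMap D B τ) (hsm : Algebra.Smooth k (B ⧸ Ideal.span {t})) :
    Function.Injective (fun f : B =>
      ((Ideal.Quotient.mk (Ideal.span {t ^ n}) f,
        (1 : (B ⧸ Ideal.span {t ^ n})) ⊗ₜ[B] KaehlerDifferential.D k B f) :
        (B ⧸ Ideal.span {t ^ n}) × ((B ⧸ Ideal.span {t ^ n}) ⊗[B] Ω[B⁄k]))) ∧
    Set.range (fun f : B =>
      ((Ideal.Quotient.mk (Ideal.span {t ^ n}) f,
        (1 : (B ⧸ Ideal.span {t ^ n})) ⊗ₜ[B] KaehlerDifferential.D k B f) :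
        (B ⧸ Ideal.span {t ^ n}) × ((B ⧸ Ideal.span {t ^ n}) ⊗[B] Ω[B⁄k]))) =
      {p | KaehlerDifferential.D k (B ⧸ Ideal.span {t ^ n}) p.1 =
        KaehlerDifferential.mapBaseChange k B (B ⧸ Ideal.span {t ^ n}) p.2} := by
  haveI : Algebra.Smooth D B := smooth_D_B e he ht hsm
  haveI : Algebra.FormallySmooth D B := Algebra.Smooth.formallySmooth
  exact ⟨mu_injective hn e he ht, range_mu_eq k (Ideal.span {t ^ n})⟩

end Groth.Agent.Helper2.TruncDef
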