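import Mathlib
import Groth.Prelude
import Groth.Agent.Helper2.TruncDef2

namespace Groth.Agent.Helper2.TruncDef

open Polynomial TensorProduct

universe u

section Nat

variable (k D : Type u) {B : Type u} [CommRing k] [CommRing D] [Algebra k D] [CommRing B]
  [Algebra k B] [Algebra D B] [IsScalarTower k D B] (I : Ideal B)

/-- The two natural maps `Ω[B⁄k] → Ω[(B⧸I)⁄D]` agree. -/
theorem map_map_eq (η : Ω[B⁄k]) :
    KaehlerDifferential.map D D B (B ⧸ I) (KaehlerDifferential.map k D B B η) =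
      KaehlerDifferential.map k D (B ⧸ I) (B ⧸ I) (KaehlerDifferential.map k k B (B ⧸ I) η) := by
  have hη : η ∈ Submodule.span B (Set.range (KaehlerDifferential.D k B)) := by
    rw [KaehlerDifferential.span_range_derivation]; trivial
  induction hη using Submodule.span_induction with
  | mem x hx =>
    obtain ⟨b, rfl⟩ := hx
    rw [KaehlerDifferential.map_D, KaehlerDifferential.map_D, KaehlerDifferential.map_D,
      KaehlerDifferential.map_D]
    rfl
  | zero => simp only [map_zero]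
  | add x y _ _ hx hy => simp only [map_add, hx, hy]
  | smul a x _ hx =>
    rw [map_smul, map_smul, hx]
    conv_rhs => rw [map_smul, ← algebraMap_smul (B ⧸ I) a, map_smul, algebraMap_smul]

theorem psi_pi' (β : (B ⧸ I) ⊗[B] Ω[B⁄k]) :
    KaehlerDifferential.mapBaseChange D B (B ⧸ I)
      (LinearMap.baseChange (B ⧸ I) (KaehlerDifferential.map k D B B) β) =
    KaehlerDifferential.map k D (B ⧸ I) (B ⧸ I) (KaehlerDifferential.mapBaseChange k B (B ⧸ I) β) := by
  induction β using TensorProduct.induction_on with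
  | zero => simp only [map_zero]
  | tmul b' ω =>
    rw [LinearMap.baseChange_tmul, KaehlerDifferential.mapBaseChange_tmul,
      KaehlerDifferential.mapBaseChange_tmul, map_smul, map_map_eq]
  | add x y hx hy => simp only [map_add, hx, hy]

theorem one_tmul_smul (R : Type u) [CommRing R] [Algebra R B] (b : B) (ω : Ω[B⁄R]) :
    (1 : B ⧸ I) ⊗ₜ[B] (b • ω) = Ideal.Quotient.mk I b • ((1 : B ⧸ I) ⊗ₜ[B] ω) := by
  rw [TensorProduct.tmul_smul, ← algebraMap_smul (B ⧸ I) b, Ideal.Quotient.algebraMap_eq]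

theorem psi_injective {τ : D} {n : ℕ} (t : B) (ht : t = algebraMap D B τ) :
    Function.Injective (KaehlerDifferential.mapBaseChange D B (B ⧸ Ideal.span {t ^ n})) := by
  rw [injective_iff_map_eq_zero]
  intro x hx
  obtain ⟨ζ, rfl⟩ := (KaehlerDifferential.exact_kerCotangentToTensor_mapBaseChange D B
    (B ⧸ Ideal.span {t ^ n}) Ideal.Quotient.mk_surjective x).1 hx
  obtain ⟨y, rfl⟩ := Ideal.toCotangent_surjective _ ζ
  rw [KaehlerDifferential.kerCotangentToTensor_toCotangent]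
  have hy : y.1 ∈ Ideal.span {t ^ n} := by
    have h0 : Ideal.Quotient.mk (Ideal.span {t ^ n}) y.1 = 0 := RingHom.mem_ker.mp y.2
    rwa [Ideal.Quotient.eq_zero_iff_mem] at h0
  obtain ⟨c, hc⟩ := Ideal.mem_span_singleton'.mp hy
  have h1 : KaehlerDifferential.D D B (t ^ n) = 0 := by
    rw [ht, ← map_pow, Derivation.map_algebraMap]
  have h2 : Ideal.Quotient.mk (Ideal.span {t ^ n}) (t ^ n) = 0 :=
    Ideal.Quotient.eq_zero_iff_mem.2 (Ideal.mem_span_singleton_self _)
  rw [← hc, Derivation.leibniz, h1, smul_zero, zero_add, one_tmul_smul, h2, zero_smul]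

end Nat

section Nu

variable {k : Type u} [Field k] [CharZero k] {n : ℕ}
  {D : Type u} [CommRing D] [Algebra k D] {τ : D}
  (e : (k[X] ⧸ Ideal.span {(X : k[X]) ^ (n + 1)}) ≃ₐ[k] D)
  (he : e (Ideal.Quotient.mk (Ideal.span {(X : k[X]) ^ (n + 1)}) X) = τ)
  {B : Type u} [CommRing B] [Algebra k B] [Algebra D B] [IsScalarTower k D B]
  [Module.Flat D B] [Algebra.FormallySmooth D B]
  {t : B} (ht : t = algebraMap D B τ)

include e he ht in
theorem t_pow_smul_dt : t ^ n • KaehlerDifferential.D k B t = 0 := by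
  have h1 : KaehlerDifferential.D k B (t ^ (n + 1)) = 0 := by
    rw [t_pow_succ e he ht, map_zero]
  rw [Derivation.leibniz_pow, Nat.add_sub_cancel] at h1
  have h2 : ((n + 1 : ℕ) : k) • (t ^ n • KaehlerDifferential.D k B t) = 0 := by
    rw [Nat.cast_smul_eq_nsmul]; exact h1
  exact (smul_eq_zero.mp h2).resolve_left (Nat.cast_ne_zero.mpr (Nat.succ_ne_zero n))

include e he ht in
theorem nu_injective : Function.Injective (fun η : Ω[B⁄k] =>
      ((KaehlerDifferential.map k D B B η, (1 : (B ⧸ Ideal.span {t ^ n})) ⊗ₜ[B] η) :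
        Ω[B⁄D] × ((B ⧸ Ideal.span {t ^ n}) ⊗[B] Ω[B⁄k]))) := by
  have hgen := exists_aeval e he
  have hker : ∀ p : k[X], aeval τ p = 0 → X ^ (n + 1) ∣ p :=
    fun p hp => (aeval_eq_zero_iff e he p).1 hp
  intro η₁ η₂ h
  have h1a : KaehlerDifferential.map k D B B η₁ = KaehlerDifferential.map k D B B η₂ :=
    congrArg Prod.fst h
  have h2a : (1 : (B ⧸ Ideal.span {t ^ n})) ⊗ₜ[B] η₁ = 1 ⊗ₜ[B] η₂ := congrArg Prod.snd h
  have h1 : KaehlerDifferential.map k D B B (η₁ - η₂) = 0 := by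
    rw [map_sub, h1a, sub_self]
  have h2 : (1 : (B ⧸ Ideal.span {t ^ n})) ⊗ₜ[B] (η₁ - η₂) = 0 := by
    rw [TensorProduct.tmul_sub, h2a, sub_self]
  obtain ⟨b, hb⟩ := exists_smul_D_t hgen (η₁ - η₂) h1
  rw [← ht] at hb
  rw [hb, one_tmul_smul] at h2
  have h3 : Ideal.Quotient.mk (Ideal.span {t ^ n}) b = 0 :=
    g_injective (n := n) hgen hker t ht (a₁ := Ideal.Quotient.mk (Ideal.span {t ^ n}) b) (a₂ := 0)
      (by rw [LinearMap.toSpanSingleton_apply, LinearMap.toSpanSingleton_apply, zero_smul]; exact h2)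
  obtain ⟨c, hc⟩ := Ideal.mem_span_singleton'.mp (Ideal.Quotient.eq_zero_iff_mem.mp h3)
  rw [← hc, mul_smul, t_pow_smul_dt e he ht, smul_zero] at hb
  exact sub_eq_zero.mp hb

include e he ht in
theorem range_nu_eq :
    Set.range (fun η : Ω[B⁄k] =>
      ((KaehlerDifferential.map k D B B η, (1 : (B ⧸ Ideal.span {t ^ n})) ⊗ₜ[B] η) :
        Ω[B⁄D] × ((B ⧸ Ideal.span {t ^ n}) ⊗[B] Ω[B⁄k]))) =
      {p | KaehlerDifferential.map D D B (B ⧸ Ideal.span {t ^ n}) p.1 =
        KaehlerDifferential.map k D (B ⧸ Ideal.span {t ^ n}) (B ⧸ Ideal.span {t ^ n})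
          (KaehlerDifferential.mapBaseChange k B (B ⧸ Ideal.span {t ^ n}) p.2)} := by
  have hgen := exists_aeval e he
  ext p
  constructor
  · rintro ⟨η, rfl⟩
    show KaehlerDifferential.map D D B (B ⧸ Ideal.span {t ^ n}) (KaehlerDifferential.map k D B B η) =
      KaehlerDifferential.map k D (B ⧸ Ideal.span {t ^ n}) (B ⧸ Ideal.span {t ^ n})
        (KaehlerDifferential.mapBaseChange k B (B ⧸ Ideal.span {t ^ n}) (1 ⊗ₜ η))
    rw [KaehlerDifferential.mapBaseChange_tmul, one_smul, map_map_eq]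
  · intro hp
    have hp' : KaehlerDifferential.map D D B (B ⧸ Ideal.span {t ^ n}) p.1 =
        KaehlerDifferential.map k D (B ⧸ Ideal.span {t ^ n}) (B ⧸ Ideal.span {t ^ n})
          (KaehlerDifferential.mapBaseChange k B (B ⧸ Ideal.span {t ^ n}) p.2) := hp
    obtain ⟨η₀, hη₀⟩ := KaehlerDifferential.map_surjective k D B p.1
    have h1 : LinearMap.baseChange (B ⧸ Ideal.span {t ^ n}) (KaehlerDifferential.map k D B B)
        (p.2 - 1 ⊗ₜ η₀) = 0 := by
      apply psi_injective D t ht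
      rw [psi_pi', map_zero, map_sub, map_sub, ← hp', KaehlerDifferential.mapBaseChange_tmul,
        one_smul, ← map_map_eq, hη₀, sub_self]
    obtain ⟨b', hb'⟩ := (exact_g_π' (k := k) (n := n) hgen t ht (p.2 - 1 ⊗ₜ η₀)).1 h1
    obtain ⟨b, rfl⟩ := Ideal.Quotient.mk_surjective b'
    have h0 : KaehlerDifferential.D D B t = 0 := by rw [ht, Derivation.map_algebraMap]
    refine ⟨η₀ + b • KaehlerDifferential.D k B t, Prod.ext ?_ ?_⟩
    · show KaehlerDifferential.map k D B B (η₀ + b • KaehlerDifferential.D k B t) = p.1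
      rw [map_add, map_smul, KaehlerDifferential.map_D, Algebra.algebraMap_self, RingHom.id_apply, h0,
        smul_zero, add_zero, hη₀]
    · show (1 : (B ⧸ Ideal.span {t ^ n})) ⊗ₜ[B] (η₀ + b • KaehlerDifferential.D k B t) = p.2
      rw [TensorProduct.tmul_add, one_tmul_smul, ← LinearMap.toSpanSingleton_apply, hb']
      abel

end Nu

theorem s18839 (k : Type u) [Field k] [CharZero k] (n : ℕ)
    (D : Type u) [CommRing D] [Algebra k D] (τ : D)
    (e : (k[X] ⧸ Ideal.span {(X : k[X]) ^ (n + 1)}) ≃ₐ[k] D)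
    (he : e (Ideal.Quotient.mk (Ideal.span {(X : k[X]) ^ (n + 1)}) X) = τ)
    (B : Type u) [CommRing B] [Algebra k B] [Algebra D B] [IsScalarTower k D B]
    [Algebra.FiniteType k B] [Module.Flat D B]
    (t : B) (ht : t = algebraMap D B τ) (hsm : Algebra.Smooth k (B ⧸ Ideal.span {t})) :
    Function.Injective (fun η : Ω[B⁄k] =>
      ((KaehlerDifferential.map k D B B η, (1 : (B ⧸ Ideal.span {t ^ n})) ⊗ₜ[B] η) :
        Ω[B⁄D] × ((B ⧸ Ideal.span {t ^ n}) ⊗[B] Ω[B⁄k]))) ∧
    Set.range (fun η : Ω[B⁄k] =>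
      ((KaehlerDifferential.map k D B B η, (1 : (B ⧸ Ideal.span {t ^ n})) ⊗ₜ[B] η) :
        Ω[B⁄D] × ((B ⧸ Ideal.span {t ^ n}) ⊗[B] Ω[B⁄k]))) =
      {p | KaehlerDifferential.map D D B (B ⧸ Ideal.span {t ^ n}) p.1 =
        KaehlerDifferential.map k D (B ⧸ Ideal.span {t ^ n}) (B ⧸ Ideal.span {t ^ n})
          (KaehlerDifferential.mapBaseChange k B (B ⧸ Ideal.span {t ^ n}) p.2)} := by
  haveI : Algebra.Smooth D B := smooth_D_B e he ht hsm
  haveI : Algebra.FormallySmooth D B := Algebra.Smooth.formallySmooth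
  exact ⟨nu_injective e he ht, range_nu_eq e he ht⟩

end Groth.Agent.Helper2.TruncDef
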