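import Mathlib

set_option autoImplicit false
open TensorProduct Function LinearMap
universe u v

namespace Groth.Agent.Helper2.TruncFlat

section gen
variable {W : Type u} [CommRing W] (π : W) {M : Type v} [AddCommGroup M] [Module W M]

/-- If all truncations of `M` are flat and `π` is a nonzerodivisor on `W`, then `π`-torsion of `M`
lies in `⋂ πⁿM`. -/
lemma mem_pow_smul_top_of_flat_trunc (hπ : π ∈ nonZeroDivisors W) (n : ℕ)
    [Module.Flat (W ⧸ Ideal.span {π} ^ (n + 1)) ((W ⧸ Ideal.span {π} ^ (n + 1)) ⊗[W] M)]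
    (a : M) (ha : π • a = 0) : a ∈ (Ideal.span {π} ^ n • ⊤ : Submodule W M) := by
  set J : Ideal W := Ideal.span {π} ^ (n + 1) with hJ
  set S := W ⧸ J
  -- relation in S ⊗ M
  have hrel : ∑ i : Fin 1, (fun _ : Fin 1 => (Ideal.Quotient.mk J π : S)) i •
      (fun _ : Fin 1 => ((1 : S) ⊗ₜ[W] a : S ⊗[W] M)) i = 0 := by
    simp only [Finset.univ_unique, Finset.sum_singleton]
    rw [TensorProduct.smul_tmul', smul_eq_mul, mul_one]
    have : (Ideal.Quotient.mk J π : S) = π • (1 : S) := by
      rw [Algebra.smul_def, mul_one]; rfl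
    rw [this, TensorProduct.smul_tmul, ha, tmul_zero]
  obtain ⟨k, c, y, hy, hc⟩ := Module.Flat.isTrivialRelation_of_sum_smul_eq_zero hrel
  -- each c 0 j is a multiple of π^n
  have hcj : ∀ j, ∃ w : W, c 0 j = Ideal.Quotient.mk J (π ^ n * w) := by
    intro j
    have h1 := hc j
    simp only [Finset.univ_unique, Finset.sum_singleton] at h1
    obtain ⟨w, hw⟩ := Ideal.Quotient.mk_surjective (c default j)
    have hd : (default : Fin 1) = 0 := rfl
    rw [hd] at hw h1
    rw [← hw, ← map_mul, Ideal.Quotient.eq_zero_iff_mem, hJ, Ideal.span_singleton_pow,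
      Ideal.mem_span_singleton'] at h1
    obtain ⟨w', hw'⟩ := h1
    refine ⟨w', ?_⟩
    rw [← hw]
    congr 1
    have h2 : π * w = π * (π ^ n * w') := by
      rw [← hw', pow_succ]; ring
    have hreg : IsLeftRegular π := (isRegular_iff_mem_nonZeroDivisors.2 hπ).left
    exact hreg h2
  choose w hw using hcj
  -- the quotient description
  let e := TensorProduct.quotTensorEquivQuotSMul M J
  have h1 : e ((1 : S) ⊗ₜ[W] a) = Submodule.Quotient.mk a := by
    have : (1 : S) = Ideal.Quotient.mk J 1 := rfl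
    rw [this, TensorProduct.quotTensorEquivQuotSMul_mk_tmul, one_smul]
  have h2 : (1 : S) ⊗ₜ[W] a = ∑ j, c 0 j • y j := hy 0
  choose y' hy' using fun j => Submodule.Quotient.mk_surjective _ (e (y j))
  have h3 : e ((1 : S) ⊗ₜ[W] a) = Submodule.Quotient.mk (∑ j, (π ^ n * w j) • y' j) := by
    rw [h2, map_sum]
    have : (Submodule.Quotient.mk (∑ j, (π ^ n * w j) • y' j) : M ⧸ (J • ⊤ : Submodule W M)) =
        ∑ j, (π ^ n * w j) • Submodule.Quotient.mk (y' j) := by
      rw [← Submodule.mkQ_apply, map_sum]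
      rfl
    rw [this]
    apply Finset.sum_congr rfl
    intro j _
    rw [hy' j, hw j]
    have : (Ideal.Quotient.mk J (π ^ n * w j) : S) • y j = (π ^ n * w j) • y j := by
      rw [← Ideal.Quotient.algebraMap_eq, algebraMap_smul]
    rw [this, map_smul]
  rw [h1, Submodule.Quotient.eq] at h3
  have h4 : (J • ⊤ : Submodule W M) ≤ Ideal.span {π} ^ n • ⊤ :=
    Submodule.smul_mono_left (Ideal.pow_le_pow_right (Nat.le_succ n))
  have h5 : ∑ j, (π ^ n * w j) • y' j ∈ (Ideal.span {π} ^ n • ⊤ : Submodule W M) := by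
    apply Submodule.sum_mem
    intro j _
    rw [mul_smul]
    exact Submodule.smul_mem_smul (Ideal.pow_mem_pow (Ideal.mem_span_singleton_self π) n) trivial
  have := add_mem (h4 h3) h5
  simpa using this

end gen

end Groth.Agent.Helper2.TruncFlat
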