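import Mathlib
import Groth.Prelude.Def_SGA3b
import Groth.Agent.Helper2.UnipMor1
import Groth.Agent.Helper2.UnipDiagHom
import Groth.Agent.Helper3.RosAlg
import Groth.Agent.Helper3.HopfDomB
import Groth.Agent.Helper1.EtRed
import Groth.Agent.S7951

set_option autoImplicit false
set_option linter.style.haveILetI false
universe u
open scoped TensorProduct

namespace Groth.Agent.Helper2.UnipMor

/-- over an algebraically closed field: a unit of a connected reduced unipotent group is constant. -/
theorem unit_const (K : Type u) [Field K] [IsAlgClosed K] (A : Type u) [CommRing A] [HopfAlgebra K A]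
    [Algebra.FiniteType K A] [IsReduced A] (hconn : ∀ e : A, IsIdempotentElem e → e = 0 ∨ e = 1)
    (hU : HopfRep.IsUnipotent K A) (a : A) (ha : IsUnit a) :
    a = Coalgebra.counit (R := K) a • (1 : A) := by
  haveI : IsDomain A := Groth.Agent.Helper3.HopfDomB.isDomain_of_connected K hconn
  set c : K := Coalgebra.counit (R := K) a with hc
  have hcu : IsUnit c := ha.map (Bialgebra.counitAlgHom K A)
  have hc0 : c ≠ 0 := hcu.ne_zero
  have h1 : IsUnit (c⁻¹ • a) := by
    have : c⁻¹ • a = algebraMap K A c⁻¹ * a := by rw [Algebra.smul_def]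
    rw [this]
    exact ((hcu.inv).map (algebraMap K A)).mul ha
  have h2 : Coalgebra.counit (R := K) (c⁻¹ • a) = 1 := by
    rw [map_smul, ← hc, smul_eq_mul, inv_mul_cancel₀ hc0]
  have hgl := Groth.Agent.Helper3.RosAlg.isGroupLikeElem_of_isUnit K A _ h1 h2
  have h3 := Groth.Agent.Helper2.UnipDiagHom.groupLike_eq_one hU _ hgl
  calc a = c • (c⁻¹ • a) := by rw [smul_smul, mul_inv_cancel₀ hc0, one_smul]
    _ = c • 1 := by rw [h3]

end Groth.Agent.Helper2.UnipMor
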