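import Mathlib
import Groth.Prelude.Def_SGA3b
import Groth.Prelude.Def_HopfRep
import Groth.Agent.Helper2.UnipMor1
import Groth.Agent.Helper1.EtRed
import Groth.Agent.S7951

set_option autoImplicit false
set_option linter.style.haveILetI false
universe u
open scoped TensorProduct

namespace Groth.Agent.Helper2.UnipMor

theorem main_of_const
    (hconst : ∀ (K : Type u) [Field K] [IsAlgClosed K] (A : Type u) [CommRing A] [HopfAlgebra K A]
      [Algebra.FiniteType K A] [IsReduced A], (∀ e : A, IsIdempotentElem e → e = 0 ∨ e = 1) →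
      HopfRep.IsUnipotent K A → ∀ a : A, IsUnit a → a = Coalgebra.counit (R := K) a • (1 : A))
    (k : Type u) [Field k] (C B : Type u) [CommRing C] [HopfAlgebra k C] [Algebra.FiniteType k C]
    [Algebra.FormallySmooth k C] (hconn : ∀ e : C, IsIdempotentElem e → e = 0 ∨ e = 1)
    (hU : HopfRep.IsUnipotent k C) [CommRing B] [HopfAlgebra k B]
    (hB : SGA3b.IsMultTypeConst k B) (f : B →ₐ[k] C) :
    ∀ b : B, f b = algebraMap k C (Bialgebra.counitAlgHom k C (f b)) := by
  classical
  obtain ⟨R', _, _, hff, M, _, ⟨e⟩⟩ := hB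
  haveI : Nontrivial R' := by
    haveI := hff
    haveI : Nontrivial (k ⊗[k] R') := inferInstance
    exact (TensorProduct.lid k R').symm.toEquiv.nontrivial
  obtain ⟨m, hm⟩ := Ideal.exists_maximal R'
  letI : Field (R' ⧸ m) := Ideal.Quotient.field m
  let K := AlgebraicClosure (R' ⧸ m)
  haveI : IsScalarTower k R' K := inferInstance
  haveI : Algebra.FinitePresentation k C :=
    Algebra.FinitePresentation.of_finiteType.mp inferInstance
  haveI : Algebra.Smooth k C := ⟨inferInstance, inferInstance⟩
  haveI : Algebra.Smooth K (K ⊗[k] C) := inferInstance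
  haveI : IsReduced (K ⊗[k] C) := Groth.Agent.Helper1.EtRed.isReduced_of_smooth K _
  have hconnK : ∀ e : K ⊗[k] C, IsIdempotentElem e → e = 0 ∨ e = 1 := by
    intro e he
    let τ := Algebra.TensorProduct.comm k K C
    have := noIdem_baseChange k C (Bialgebra.counitAlgHom k C) hconn K (τ e) (he.map τ)
    rcases this with h | h
    · left; exact τ.injective (by rw [h, map_zero])
    · right; exact τ.injective (by rw [h, map_one])
  have hUK : HopfRep.IsUnipotent K (K ⊗[k] C) := (Groth.Agent.S7951.result k K C).mp hU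
  let fK : K ⊗[k] B →ₐ[K] K ⊗[k] C := Algebra.TensorProduct.map (AlgHom.id K K) f
  let ψ : R' ⊗[k] B →ₐ[k] K ⊗[k] B :=
    Algebra.TensorProduct.map (IsScalarTower.toAlgHom k R' K) (AlgHom.id k B)
  let S : Submodule K (K ⊗[k] B) :=
    { carrier := {y | fK y = Coalgebra.counit (R := K) (fK y) • (1 : K ⊗[k] C)}
      add_mem' := by
        intro x y hx hy
        simp only [Set.mem_setOf_eq] at *
        rw [map_add, map_add, add_smul, ← hx, ← hy]
      zero_mem' := by simp
      smul_mem' := by
        intro c x hx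
        simp only [Set.mem_setOf_eq] at *
        rw [map_smul, map_smul, smul_eq_mul, mul_smul, ← hx] }
  have hψsmul : ∀ (r : R') (z : R' ⊗[k] B), ψ (r • z) = algebraMap R' K r • ψ z := by
    intro r z
    induction z using TensorProduct.induction_on with
    | zero => simp
    | tmul a b =>
      simp only [ψ, TensorProduct.smul_tmul', Algebra.TensorProduct.map_tmul, smul_eq_mul, map_mul,
        IsScalarTower.coe_toAlgHom', AlgHom.coe_id, id_eq]
    | add x y hx hy => simp only [smul_add, map_add, hx, hy]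
  let ea : (R' ⊗[k] B) ≃ₐ[R'] MonoidAlgebra R' M := (e : (R' ⊗[k] B) ≃ₐ[R'] MonoidAlgebra R' M)
  have hunit : ∀ g : M, ψ (ea.symm (MonoidAlgebra.single g 1)) ∈ S := by
    intro g
    have hu : IsUnit (MonoidAlgebra.single g (1 : R')) := by
      refine ⟨⟨MonoidAlgebra.single g 1, MonoidAlgebra.single g⁻¹ 1, ?_, ?_⟩, rfl⟩
      · rw [MonoidAlgebra.single_mul_single, mul_inv_cancel, mul_one]; rfl
      · rw [MonoidAlgebra.single_mul_single, inv_mul_cancel, mul_one]; rfl
    have hu2 : IsUnit (fK (ψ (ea.symm (MonoidAlgebra.single g 1)))) :=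
      ((hu.map ea.symm).map ψ).map fK
    exact hconst K (K ⊗[k] C) hconnK hUK _ hu2
  have hS : ∀ z : R' ⊗[k] B, ψ z ∈ S := by
    intro z
    obtain ⟨w, rfl⟩ := ea.symm.surjective z
    induction w using MonoidAlgebra.induction_on with
    | of g => exact hunit g
    | add a b ha hb =>
      rw [map_add, map_add]
      exact S.add_mem ha hb
    | smul r a ha =>
      rw [map_smul, hψsmul]
      exact S.smul_mem _ ha
  have htop : S = ⊤ := by
    rw [eq_top_iff]
    rintro y -
    induction y using TensorProduct.induction_on with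
    | zero => exact S.zero_mem
    | tmul c b =>
      have : c ⊗ₜ[k] b = c • ψ ((1 : R') ⊗ₜ[k] b) := by
        simp [ψ, TensorProduct.smul_tmul']
      rw [this]
      exact S.smul_mem c (hS _)
    | add x y hx hy => exact S.add_mem hx hy
  intro b
  have h1 : (1 : K) ⊗ₜ[k] b ∈ S := htop ▸ Submodule.mem_top
  have h2 : fK ((1 : K) ⊗ₜ[k] b) =
      Coalgebra.counit (R := K) (fK ((1 : K) ⊗ₜ[k] b)) • (1 : K ⊗[k] C) := h1
  have h3 : fK ((1 : K) ⊗ₜ[k] b) = (1 : K) ⊗ₜ[k] f b := by
    simp [fK]
  rw [h3, TensorProduct.counit_tmul] at h2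
  apply Algebra.TensorProduct.includeRight_injective (R := k) (A := K) (B := C)
    (algebraMap k K).injective
  show (1 : K) ⊗ₜ[k] f b = (1 : K) ⊗ₜ[k] algebraMap k C (Bialgebra.counitAlgHom k C (f b))
  rw [h2, Algebra.TensorProduct.one_def, TensorProduct.smul_tmul', Algebra.algebraMap_eq_smul_one,
    TensorProduct.tmul_smul]
  congr 1
  simp

end Groth.Agent.Helper2.UnipMor
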