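import Mathlib

namespace Groth.Agent.Helper2.UnramAdic

universe u

open KaehlerDifferential

variable {A B : Type u} [CommRing A] [CommRing B] [Algebra A B]

lemma top_le_pow_smul {R M : Type*} [CommRing R] [AddCommGroup M] [Module R M] (I : Ideal R)
    (h : (⊤ : Submodule R M) ≤ I • ⊤) (m : ℕ) : (⊤ : Submodule R M) ≤ I ^ m • ⊤ := by
  induction m with
  | zero => simp
  | succ m ih =>
    calc (⊤ : Submodule R M) ≤ I • ⊤ := h
      _ ≤ I • (I ^ m • ⊤) := Submodule.smul_mono le_rfl ih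
      _ = I ^ (m + 1) • ⊤ := by rw [← Submodule.mul_smul, ← pow_succ']

/-- If `Ω[B⁄A] = 𝔠 Ω[B⁄A]`, two `A`-algebra maps `B → E` which agree modulo a nilpotent ideal
and one of which kills a power of `𝔠` are equal. -/
theorem eq_of_kaehler_eq_smul (𝔠 : Ideal B)
    (hΩ : (⊤ : Submodule B (Ω[B⁄A])) ≤ 𝔠 • ⊤)
    {E : Type u} [CommRing E] [Algebra A E] (J : Ideal E) (hJ : IsNilpotent J)
    (v₁ v₂ : B →ₐ[A] E) (hv : ∀ b, Ideal.Quotient.mk J (v₁ b) = Ideal.Quotient.mk J (v₂ b))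
    (hc : ∃ m : ℕ, ∀ x ∈ 𝔠 ^ m, v₁ x = 0) : v₁ = v₂ := by
  obtain ⟨m, hm⟩ := hc
  have key : ∀ t : ℕ, ∀ b, v₁ b - v₂ b ∈ J ^ (t + 1) := by
    intro t
    induction t with
    | zero =>
      intro b
      rw [zero_add, pow_one, ← Ideal.Quotient.eq]
      exact hv b
    | succ t ih =>
      intro b
      let Q := E ⧸ J ^ (t + 1 + 1)
      let algBQ : Algebra B Q := ((Ideal.Quotient.mk (J ^ (t + 1 + 1))).comp v₁.toRingHom).toAlgebra
      have hsmul : ∀ (x : B) (q : Q), x • q = Ideal.Quotient.mk (J ^ (t + 1 + 1)) (v₁ x) * q :=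
        fun x q => rfl
      have tower : IsScalarTower A B Q := IsScalarTower.of_algebraMap_eq (fun a => by
        show Ideal.Quotient.mk _ (algebraMap A E a) = Ideal.Quotient.mk _ (v₁ (algebraMap A B a))
        rw [AlgHom.commutes])
      let D₀ : B →ₗ[A] Q :=
        (Ideal.Quotient.mkₐ A (J ^ (t + 1 + 1))).toLinearMap ∘ₗ (v₁.toLinearMap - v₂.toLinearMap)
      have hD₀ : ∀ x, D₀ x = Ideal.Quotient.mk (J ^ (t + 1 + 1)) (v₁ x - v₂ x) := fun x => rfl
      let D : Derivation A B Q := Derivation.mk' D₀ (by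
        intro x y
        rw [hD₀, hD₀, hD₀, hsmul, hsmul, ← map_mul, ← map_mul, ← map_add, Ideal.Quotient.eq]
        have : v₁ (x * y) - v₂ (x * y) - (v₁ x * (v₁ y - v₂ y) + v₁ y * (v₁ x - v₂ x)) =
            -((v₁ y - v₂ y) * (v₁ x - v₂ x)) := by
          rw [map_mul, map_mul]; ring
        rw [this]
        apply Ideal.neg_mem_iff _ |>.mpr
        have h2 : (v₁ y - v₂ y) * (v₁ x - v₂ x) ∈ J ^ (t + 1) * J ^ (t + 1) :=
          Ideal.mul_mem_mul (ih y) (ih x)
        rw [← pow_add] at h2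
        exact Ideal.pow_le_pow_right (by omega) h2)
      let φ : Ω[B⁄A] →ₗ[B] Q := D.liftKaehlerDifferential
      have hφ : ∀ x, φ (KaehlerDifferential.D A B x) = D x := fun x =>
        Derivation.liftKaehlerDifferential_comp_D D x
      have hφ0 : ∀ ω, φ ω = 0 := by
        intro ω
        have hω : ω ∈ (𝔠 ^ m • ⊤ : Submodule B (Ω[B⁄A])) := top_le_pow_smul 𝔠 hΩ m trivial
        refine Submodule.smul_induction_on hω ?_ ?_
        · intro x hx ω' _
          rw [map_smul, hsmul, hm x hx, map_zero, zero_mul]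
        · intro x y hx hy
          rw [map_add, hx, hy, add_zero]
      have : D b = 0 := by rw [← hφ, hφ0]
      have h3 : Ideal.Quotient.mk (J ^ (t + 1 + 1)) (v₁ b - v₂ b) = 0 := this
      exact Ideal.Quotient.eq_zero_iff_mem.mp h3
  obtain ⟨n, hn⟩ := hJ
  ext b
  have := key n b
  rw [pow_succ, hn, Ideal.zero_eq_bot, Ideal.bot_mul, Ideal.mem_bot, sub_eq_zero] at this
  exact this


open TensorProduct in
theorem top_le_smul_of_subsingleton (𝔪 : Ideal A)
    (h : Subsingleton (Ω[B ⧸ 𝔪.map (algebraMap A B)⁄A ⧸ 𝔪])) :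
    (⊤ : Submodule B (Ω[B⁄A])) ≤ (𝔪.map (algebraMap A B)) • ⊤ := by
  set I := 𝔪.map (algebraMap A B) with hI
  have h1 : Algebra.FormallyUnramified (A ⧸ 𝔪) (B ⧸ I) := ⟨h⟩
  have h2 : Algebra.FormallyUnramified A (B ⧸ I) :=
    Algebra.FormallyUnramified.comp A (A ⧸ 𝔪) (B ⧸ I)
  have h3 : Subsingleton (Ω[B ⧸ I⁄A]) := h2.1
  have hsurj : Function.Surjective (algebraMap B (B ⧸ I)) := Ideal.Quotient.mk_surjective
  have hex := KaehlerDifferential.exact_kerCotangentToTensor_mapBaseChange A B (B ⧸ I) hsurj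
  have hP : ∀ x ∈ I, (1 : B ⧸ I) ⊗ₜ[B] KaehlerDifferential.D A B x = 0 := by
    intro x hx
    refine Submodule.span_induction (p := fun x _ => (1 : B ⧸ I) ⊗ₜ[B] KaehlerDifferential.D A B x = 0)
      ?_ ?_ ?_ ?_ hx
    · rintro _ ⟨a, -, rfl⟩
      rw [Derivation.map_algebraMap, TensorProduct.tmul_zero]
    · rw [map_zero, TensorProduct.tmul_zero]
    · intro x y _ _ hx hy
      rw [map_add, TensorProduct.tmul_add, hx, hy, add_zero]
    · intro b x hx' hx
      rw [smul_eq_mul, Derivation.leibniz, TensorProduct.tmul_add, TensorProduct.tmul_smul,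
        hx, smul_zero, zero_add, ← TensorProduct.smul_tmul]
      have : x • (1 : B ⧸ I) = 0 := by
        rw [Algebra.smul_def, mul_one]
        exact Ideal.Quotient.eq_zero_iff_mem.mpr hx'
      rw [this, TensorProduct.zero_tmul]
  have hzero : ∀ y : (B ⧸ I) ⊗[B] Ω[B⁄A], y = 0 := by
    intro y
    have : KaehlerDifferential.mapBaseChange A B (B ⧸ I) y = 0 := Subsingleton.elim _ _
    obtain ⟨c, rfl⟩ := (hex y).mp this
    obtain ⟨x, rfl⟩ := Ideal.toCotangent_surjective _ c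
    rw [KaehlerDifferential.kerCotangentToTensor_toCotangent]
    apply hP
    have := x.2
    rw [RingHom.mem_ker] at this
    exact Ideal.Quotient.eq_zero_iff_mem.mp this
  intro ω _
  have : TensorProduct.mk B (B ⧸ I) (Ω[B⁄A]) 1 ω = 0 := hzero _
  rw [← LinearMap.mem_ker, LinearMap.ker_tensorProductMk] at this
  exact this

end Groth.Agent.Helper2.UnramAdic
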