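import Mathlib
import Groth.Agent.Helper3.UnramBC
import Groth.Agent.Helper3.StalkNbhd
import Groth.Agent.Helper3.StalkNbhd2

set_option autoImplicit false
universe u
open CategoryTheory CategoryTheory.Limits AlgebraicGeometry TopologicalSpace

namespace Groth.Agent.Helper2.UnramFib

theorem stalk_of_formallyUnramified {X Y : Scheme.{u}} (f : X ⟶ Y) [LocallyOfFiniteType f]
    [FormallyUnramified f] (x : X) : (f.stalkMap x).hom.FormallyUnramified := by
  exact FormallyUnramified.stalkMap f x

theorem formallyUnramified_iff_fibres {X Y S : Scheme.{u}} (g : Y ⟶ S) (f : X ⟶ Y)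
    [LocallyOfFiniteType f] :
    FormallyUnramified f ↔ ∀ s : ↥S, FormallyUnramified (pullback.snd f (g.fiberι s)) := by
  constructor
  · intro hf s; exact MorphismProperty.pullback_snd (P := @FormallyUnramified) _ _ hf
  · intro H
    apply Groth.Agent.Helper3.StalkNbhd.of_forall_exists_nbhd (P := @FormallyUnramified)
    intro x
    rw [Groth.Agent.Helper3.StalkNbhd.formallyUnramified_nbhd_iff]
    obtain ⟨x', hx1, hx2⟩ := Scheme.Pullback.exists_preimage_pullback (f := f)
      (g := g.fiberι (g (f x))) x (g.asFiber (f x)) (by rw [g.fiberι_asFiber])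
    have h1 := stalk_of_formallyUnramified (pullback.snd f (g.fiberι (g (f x)))) x'
    have h2 := (Groth.Agent.Helper3.UnramBC.stalkMap_snd_formallyUnramified_iff f
      (g.fiberι (g (f x))) x').mp h1
    rw [RingHom.FormallyUnramified.respectsIso.arrow_mk_iso_iff (f.arrowStalkMapIsoOfEq hx1.symm)]
    exact h2

end Groth.Agent.Helper2.UnramFib
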