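import Mathlib

set_option autoImplicit false
universe u
open CategoryTheory CategoryTheory.Limits AlgebraicGeometry

namespace Groth.Agent.Helper2.Veronese

open DirectSum

variable {R A : Type u} [CommRing R] [CommRing A] [Algebra R A] (𝒜 : ℕ → Submodule R A)
  [GradedAlgebra 𝒜] (d : ℕ)

/-- projection onto the degrees divisible by `d` -/
noncomputable def π : A →+ A :=
  (DirectSum.toAddMonoid (fun k => if d ∣ k then (𝒜 k).subtype.toAddMonoidHom else 0)).comp
    (DirectSum.decomposeAddEquiv 𝒜).toAddMonoidHom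

lemma π_of_mem {k : ℕ} {a : A} (ha : a ∈ 𝒜 k) : π 𝒜 d a = if d ∣ k then a else 0 := by
  classical
  unfold π
  simp only [AddMonoidHom.coe_comp, Function.comp_apply]
  have : (DirectSum.decomposeAddEquiv 𝒜).toAddMonoidHom a = DirectSum.of (fun i => 𝒜 i) k ⟨a, ha⟩ :=
    DirectSum.decompose_of_mem 𝒜 ha
  rw [this, DirectSum.toAddMonoid_of]
  split_ifs <;> rfl

variable {B : Type u} [CommRing B] [Algebra R B] (ℬ : ℕ → Submodule R B) [GradedAlgebra ℬ]
  (φ : B →ₐ[R] A) (hdeg : ∀ n : ℕ, Submodule.map φ.toLinearMap (ℬ n) = 𝒜 (n * d))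

include hdeg in
lemma φ_mem {n : ℕ} {b : B} (hb : b ∈ ℬ n) : φ b ∈ 𝒜 (n * d) := by
  rw [← hdeg n]
  exact ⟨b, hb, rfl⟩

include hdeg in
lemma π_φ (b : B) : π 𝒜 d (φ b) = φ b := by
  induction b using DirectSum.Decomposition.inductionOn ℬ with
  | zero => simp
  | homogeneous m =>
    rw [π_of_mem 𝒜 d (φ_mem 𝒜 d ℬ φ hdeg m.2), if_pos (Dvd.intro_left _ rfl)]
  | add m m' h h' => rw [map_add, map_add, h, h']

include hdeg in
lemma π_mem_range (hd : 0 < d) (a : A) : π 𝒜 d a ∈ Set.range φ := by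
  induction a using DirectSum.Decomposition.inductionOn 𝒜 with
  | zero => exact ⟨0, by simp⟩
  | @homogeneous k m =>
    rw [π_of_mem 𝒜 d m.2]
    split_ifs with h
    · obtain ⟨n, rfl⟩ := h
      have : (m : A) ∈ 𝒜 (n * d) := by rw [mul_comm]; exact m.2
      rw [← hdeg n] at this
      obtain ⟨b, -, hb⟩ := this
      exact ⟨b, hb⟩
    · exact ⟨0, by simp⟩
  | add m m' h h' =>
    obtain ⟨b, hb⟩ := h
    obtain ⟨b', hb'⟩ := h'
    exact ⟨b + b', by rw [map_add, map_add, hb, hb']⟩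

include hdeg in
lemma π_mul (hd : 0 < d) (b : B) (a : A) : π 𝒜 d (a * φ b) = π 𝒜 d a * φ b := by
  induction b using DirectSum.Decomposition.inductionOn ℬ with
  | zero => simp
  | @homogeneous n m =>
    induction a using DirectSum.Decomposition.inductionOn 𝒜 with
    | zero => simp
    | @homogeneous k m' =>
      have h1 : (m' : A) * φ m ∈ 𝒜 (k + n * d) :=
        SetLike.mul_mem_graded m'.2 (φ_mem 𝒜 d ℬ φ hdeg m.2)
      rw [π_of_mem 𝒜 d h1, π_of_mem 𝒜 d m'.2]
      have : d ∣ k + n * d ↔ d ∣ k := (Nat.dvd_add_left (Dvd.intro_left _ rfl))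
      by_cases hk : d ∣ k
      · rw [if_pos hk, if_pos (this.mpr hk)]
      · rw [if_neg hk, if_neg (fun h => hk (this.mp h)), zero_mul]
    | add x y hx hy => rw [add_mul, map_add, map_add, hx, hy, add_mul]
  | add m m' h h' => rw [map_add, mul_add, map_add, h, h', mul_add]

include hdeg in
theorem comap_map_le (hd : 0 < d) (hφ : Function.Injective φ) (I : Ideal B) :
    (I.map φ).comap φ ≤ I := by
  intro x hx
  rw [Ideal.mem_comap] at hx
  have key : ∀ y ∈ I.map φ, ∀ a : A, ∃ i ∈ I, φ i = π 𝒜 d (a * y) := by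
    intro y hy
    refine Submodule.span_induction ?_ ?_ ?_ ?_ hy
    · rintro _ ⟨i, hi, rfl⟩ a
      obtain ⟨b, hb⟩ := π_mem_range 𝒜 d ℬ φ hdeg hd a
      refine ⟨b * i, I.mul_mem_left b hi, ?_⟩
      have h := π_mul 𝒜 d ℬ φ hdeg hd i a
      change π 𝒜 d (a * φ i) = π 𝒜 d a * φ i at h
      change φ (b * i) = π 𝒜 d (a * φ i)
      rw [h, map_mul, hb]
    · intro a
      exact ⟨0, I.zero_mem, by simp⟩
    · intro y z _ _ hy hz a
      obtain ⟨i, hi, hi'⟩ := hy a
      obtain ⟨j, hj, hj'⟩ := hz a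
      exact ⟨i + j, I.add_mem hi hj, by rw [map_add, mul_add, map_add, hi', hj']⟩
    · intro c y _ hy a
      obtain ⟨i, hi, hi'⟩ := hy (a * c)
      exact ⟨i, hi, by rw [hi', smul_eq_mul, mul_assoc]⟩
  obtain ⟨i, hi, hi'⟩ := key _ hx 1
  rw [one_mul, π_φ 𝒜 d ℬ φ hdeg] at hi'
  rw [← hφ hi']
  exact hi

end Groth.Agent.Helper2.Veronese
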