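import Mathlib
import Groth.Agent.Helper2.Veronese

set_option autoImplicit false
universe u
open Groth.Agent.Helper2.Veronese

namespace Groth.Agent.Helper2.VeroneseFT

open DirectSum

theorem main {R A : Type u} [CommRing R] [CommRing A] [Algebra R A] (𝒜 : ℕ → Submodule R A)
    [GradedAlgebra 𝒜] [Algebra.FiniteType (𝒜 0) A]
    {B : Type u} [CommRing B] [Algebra R B] (ℬ : ℕ → Submodule R B) [GradedAlgebra ℬ]
    (d : ℕ) (hd : 0 < d) (φ : B →ₐ[R] A) (hφ : Function.Injective φ)
    (hdeg : ∀ n : ℕ, Submodule.map φ.toLinearMap (ℬ n) = 𝒜 (n * d)) :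
    Algebra.FiniteType (ℬ 0) B := by
  classical
  obtain ⟨s, hs, hs'⟩ := GradedAlgebra.exists_finset_adjoin_eq_top_and_homogeneous_ne_zero 𝒜
  -- `g ^ d` lies in the image of `φ`
  have hpow : ∀ g ∈ s, ∃ b : B, φ b = g ^ d := by
    intro g hg
    obtain ⟨n, -, hgn⟩ := hs' g hg
    have : g ^ d ∈ 𝒜 (n * d) := by
      have := SetLike.pow_mem_graded d hgn
      rwa [smul_eq_mul, mul_comm] at this
    rw [← hdeg n] at this
    obtain ⟨b, -, hb⟩ := this
    exact ⟨b, hb⟩
  choose! β hβ using hpow
  -- the subalgebra `C`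
  let C : Subalgebra (ℬ 0) B := Algebra.adjoin (ℬ 0) ((s.image β : Finset B) : Set B)
  have hCft : Algebra.FiniteType (ℬ 0) C :=
    (Subalgebra.fg_iff_finiteType C).mp (Subalgebra.fg_adjoin_finset _)
  -- algebra structures
  letI : Algebra B A := φ.toRingHom.toAlgebra
  have hBA : ∀ b : B, algebraMap B A b = φ b := fun _ => rfl
  have hCA : ∀ c : C, algebraMap C A c = φ (c : B) := fun _ => rfl
  -- the elements of `s` are integral over `C`
  have hint : ∀ g ∈ (s : Set A), IsIntegral C g := by
    intro g hg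
    have hβC : β g ∈ C := Algebra.subset_adjoin (by
      simp only [Finset.coe_image, Set.mem_image, Finset.mem_coe]
      exact ⟨g, hg, rfl⟩)
    have hmonic : Polynomial.Monic ((Polynomial.X ^ d - Polynomial.C (⟨β g, hβC⟩ : C) : Polynomial C)) :=
      Polynomial.monic_X_pow_sub_C (R := C) ⟨β g, hβC⟩ hd.ne'
    refine ⟨(Polynomial.X ^ d - Polynomial.C (⟨β g, hβC⟩ : C) : Polynomial C), hmonic, ?_⟩
    rw [Polynomial.eval₂_sub, Polynomial.eval₂_pow, Polynomial.eval₂_X, Polynomial.eval₂_C, hCA,
      hβ g hg, sub_self]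
  -- `A` is generated by `s` over `C`
  have htop : Algebra.adjoin C (s : Set A) = ⊤ := by
    rw [eq_top_iff]
    intro x _
    have hx : x ∈ Algebra.adjoin (𝒜 0) (s : Set A) := by rw [hs]; trivial
    induction hx using Algebra.adjoin_induction with
    | mem x hx => exact Algebra.subset_adjoin hx
    | algebraMap r =>
      have hr : (r : A) ∈ 𝒜 (0 * d) := by rw [zero_mul]; exact r.2
      rw [← hdeg 0] at hr
      obtain ⟨b0, hb0, hb0'⟩ := hr
      have : algebraMap (𝒜 0) A r = algebraMap C A (algebraMap (ℬ 0) C ⟨b0, hb0⟩) := by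
        rw [hCA]
        exact hb0'.symm
      rw [this]
      exact Subalgebra.algebraMap_mem _ _
    | add x y _ _ hx hy => exact Subalgebra.add_mem _ (hx trivial) (hy trivial)
    | mul x y _ _ hx hy => exact Subalgebra.mul_mem _ (hx trivial) (hy trivial)
  haveI hfinA : Module.Finite C A := by
    have := fg_adjoin_of_finite s.finite_toSet hint
    rw [htop] at this
    exact ⟨by simpa using this⟩
  -- the `C`-linear projection
  let πC : A →ₗ[C] A :=
    { toFun := π 𝒜 d
      map_add' := map_add _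
      map_smul' := by
        intro c a
        simp only [RingHom.id_apply]
        rw [Algebra.smul_def, Algebra.smul_def, hCA, mul_comm, π_mul 𝒜 d ℬ φ hdeg hd, mul_comm] }
  let φC : B →ₗ[C] A := (IsScalarTower.toAlgHom C B A).toLinearMap
  have hφC : ∀ b, φC b = φ b := fun _ => rfl
  have hrange : LinearMap.range φC = LinearMap.range πC := by
    apply le_antisymm
    · rintro _ ⟨b, rfl⟩
      exact ⟨φ b, π_φ 𝒜 d ℬ φ hdeg b⟩
    · rintro _ ⟨a, rfl⟩
      obtain ⟨b, hb⟩ := π_mem_range 𝒜 d ℬ φ hdeg hd a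
      exact ⟨b, hb⟩
  haveI : Module.Finite C (LinearMap.range φC) := by
    rw [hrange]
    infer_instance
  haveI : Module.Finite C B :=
    Module.Finite.equiv (LinearEquiv.ofInjective φC hφ).symm
  exact Algebra.FiniteType.trans hCft inferInstance

end Groth.Agent.Helper2.VeroneseFT
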