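import Mathlib

set_option autoImplicit false
set_option linter.style.haveILetI false
set_option linter.unusedSectionVars false

namespace Groth.Agent.Helper2.Vers

open IsLocalRing

universe u

variable {A : Type u} [CommRing A] (m : Ideal A) [hm : m.IsMaximal] (j : ℕ)

theorem isUnit_mk_iff (hj : 1 ≤ j) (a : A) :
    IsUnit (Ideal.Quotient.mk (m ^ j) a) ↔ a ∉ m := by
  constructor
  · intro hu ha
    have hle : m ^ j ≤ m := Ideal.pow_le_self (by omega)
    have h1 : Ideal.Quotient.mk (m ^ j) a ∈ m.map (Ideal.Quotient.mk (m ^ j)) :=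
      Ideal.mem_map_of_mem _ ha
    have h2 := Ideal.eq_top_of_isUnit_mem _ h1 hu
    have h3 : (m.map (Ideal.Quotient.mk (m ^ j))).comap (Ideal.Quotient.mk (m ^ j)) = m := by
      rw [Ideal.comap_map_of_surjective' _ Ideal.Quotient.mk_surjective, Ideal.mk_ker,
        sup_eq_left.mpr hle]
    rw [h2, Ideal.comap_top] at h3
    exact hm.ne_top h3.symm
  · intro ha
    obtain ⟨y, i, hi, hyi⟩ := Ideal.IsMaximal.exists_inv_pow m ha j
    refine IsUnit.of_mul_eq_one (Ideal.Quotient.mk (m ^ j) y) ?_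
    rw [← map_mul, ← map_one (Ideal.Quotient.mk (m ^ j)), Ideal.Quotient.eq, ← hyi]
    have : a * y - (y * a + i) = -i := by ring
    rw [this]
    exact Ideal.neg_mem_iff _ |>.mpr hi

theorem isLocalRing_quot (hj : 1 ≤ j) : IsLocalRing (A ⧸ m ^ j) := by
  haveI : Nontrivial (A ⧸ m ^ j) := by
    apply Ideal.Quotient.nontrivial_iff.mpr
    intro h
    have hle : m ^ j ≤ m := Ideal.pow_le_self (by omega)
    rw [h] at hle
    exact hm.ne_top (top_le_iff.mp hle)
  apply IsLocalRing.of_nonunits_add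
  intro x y hx hy
  obtain ⟨a, rfl⟩ := Ideal.Quotient.mk_surjective x
  obtain ⟨b, rfl⟩ := Ideal.Quotient.mk_surjective y
  rw [mem_nonunits_iff, isUnit_mk_iff m j hj, not_not] at hx hy
  rw [← map_add, mem_nonunits_iff, isUnit_mk_iff m j hj, not_not]
  exact m.add_mem hx hy

theorem mk_mem_maximalIdeal_iff (hj : 1 ≤ j) (a : A) :
    letI := isLocalRing_quot m j hj
    Ideal.Quotient.mk (m ^ j) a ∈ maximalIdeal (A ⧸ m ^ j) ↔ a ∈ m := by
  letI := isLocalRing_quot m j hj
  rw [mem_maximalIdeal, mem_nonunits_iff, isUnit_mk_iff m j hj, not_not]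

theorem isArtinianRing_quot [IsNoetherianRing A] (hj : 1 ≤ j) : IsArtinianRing (A ⧸ m ^ j) := by
  letI := isLocalRing_quot m j hj
  rw [isArtinianRing_iff_isNilpotent_maximalIdeal]
  refine ⟨j, ?_⟩
  rw [Ideal.zero_eq_bot, eq_bot_iff]
  have h1 : maximalIdeal (A ⧸ m ^ j) ≤ m.map (Ideal.Quotient.mk (m ^ j)) := by
    intro x hx
    obtain ⟨a, rfl⟩ := Ideal.Quotient.mk_surjective x
    exact Ideal.mem_map_of_mem _ ((mk_mem_maximalIdeal_iff m j hj a).mp hx)
  refine le_trans (Ideal.pow_right_mono h1 j) ?_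
  rw [← Ideal.map_pow, Ideal.map_quotient_self]

theorem residue_surjective_quot {k : Type u} [Field k] [Algebra k A] (hj : 1 ≤ j)
    (hsurj : Function.Surjective (fun c : k => Ideal.Quotient.mk m (algebraMap k A c))) :
    letI := isLocalRing_quot m j hj
    Function.Surjective (fun c : k => IsLocalRing.residue (A ⧸ m ^ j)
      (algebraMap k (A ⧸ m ^ j) c)) := by
  letI := isLocalRing_quot m j hj
  intro z
  obtain ⟨x, rfl⟩ := IsLocalRing.residue_surjective z
  obtain ⟨a, rfl⟩ := Ideal.Quotient.mk_surjective x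
  obtain ⟨c, hc⟩ := hsurj (Ideal.Quotient.mk m a)
  refine ⟨c, ?_⟩
  change IsLocalRing.residue _ (algebraMap k (A ⧸ m ^ j) c) = _
  rw [← sub_eq_zero, ← map_sub, IsLocalRing.residue_eq_zero_iff]
  have h1 : algebraMap k (A ⧸ m ^ j) c - Ideal.Quotient.mk (m ^ j) a =
      Ideal.Quotient.mk (m ^ j) (algebraMap k A c - a) := by
    rw [map_sub]; rfl
  rw [h1, mk_mem_maximalIdeal_iff m j hj]
  exact Ideal.Quotient.eq.mp hc

end Groth.Agent.Helper2.Vers
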