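import Mathlib
import Groth.Agent.Helper2.VersA

set_option autoImplicit false
set_option linter.style.haveILetI false
set_option linter.unusedSectionVars false

noncomputable section

namespace Groth.Agent.Helper2.Vers

open IsLocalRing CategoryTheory

universe u

variable {k : Type u} [Field k] (F : CommAlgCat.{u} k ⥤ Type u)
  {R : Type u} [CommRing R] [Algebra k R] (ξ : F.obj (CommAlgCat.of k R))

/-- versality of a formal object. -/
abbrev IsVersal : Prop :=
  ∀ (B B₀ : Type u) [CommRing B] [Algebra k B] [IsLocalRing B] [IsArtinianRing B]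
    [CommRing B₀] [Algebra k B₀] [IsLocalRing B₀] [IsArtinianRing B₀],
    Function.Surjective (fun c : k => IsLocalRing.residue B (algebraMap k B c)) →
    ∀ (π : B →ₐ[k] B₀), Function.Surjective π →
      ∀ (g₀ : R →ₐ[k] B₀) (y : F.obj (CommAlgCat.of k B)),
        F.map (CommAlgCat.ofHom π) y = F.map (CommAlgCat.ofHom g₀) ξ →
          ∃ g : R →ₐ[k] B, π.comp g = g₀ ∧ F.map (CommAlgCat.ofHom g) ξ = y

variable {A : Type u} [CommRing A] [Algebra k A] (m : Ideal A) (η : F.obj (CommAlgCat.of k A))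

/-- a stage of the compatible system of maps. -/
def Stage (n : ℕ) : Type u :=
  {g : R →ₐ[k] A ⧸ m ^ (n + 2) // F.map (CommAlgCat.ofHom g) ξ =
    F.map (CommAlgCat.ofHom (Ideal.Quotient.mkₐ k (m ^ (n + 2)))) η}

variable [IsNoetherianRing A] [hm : m.IsMaximal]
  (hsurj : Function.Surjective (fun c : k => Ideal.Quotient.mk m (algebraMap k A c)))
  (hvers : IsVersal F ξ)

include hsurj hvers in
theorem step (n : ℕ) (g : Stage F ξ m η n) :
    ∃ g' : Stage F ξ m η (n + 1),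
      (Ideal.Quotient.factorₐ k (Ideal.pow_le_pow_right (by omega : n + 2 ≤ n + 1 + 2))).comp g'.1 =
        g.1 := by
  letI := isLocalRing_quot m (n + 1 + 2) (by omega)
  haveI := isArtinianRing_quot m (n + 1 + 2) (by omega)
  letI := isLocalRing_quot m (n + 2) (by omega)
  haveI := isArtinianRing_quot m (n + 2) (by omega)
  have hres := residue_surjective_quot (k := k) m (n + 1 + 2) (by omega) hsurj
  let π : (A ⧸ m ^ (n + 1 + 2)) →ₐ[k] (A ⧸ m ^ (n + 2)) :=
    Ideal.Quotient.factorₐ k (Ideal.pow_le_pow_right (by omega : n + 2 ≤ n + 1 + 2))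
  have hπ : Function.Surjective π :=
    Ideal.Quotient.factor_surjective (Ideal.pow_le_pow_right (by omega : n + 2 ≤ n + 1 + 2))
  let y : F.obj (CommAlgCat.of k (A ⧸ m ^ (n + 1 + 2))) :=
    F.map (CommAlgCat.ofHom (Ideal.Quotient.mkₐ k (m ^ (n + 1 + 2)))) η
  have hy : F.map (CommAlgCat.ofHom π) y = F.map (CommAlgCat.ofHom g.1) ξ := by
    rw [g.2]
    simp only [y]
    rw [← FunctorToTypes.map_comp_apply, ← CommAlgCat.ofHom_comp]
    rfl
  obtain ⟨g', hg'1, hg'2⟩ := hvers _ _ hres π hπ g.1 y hy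
  exact ⟨⟨g', hg'2⟩, hg'1⟩

/-- the compatible system of maps. -/
def seq (g₀ : Stage F ξ m η 0) : ∀ n, Stage F ξ m η n
  | 0 => g₀
  | n + 1 => Classical.choose (step F ξ m η hsurj hvers n (seq g₀ n))

theorem seq_zero (g₀ : Stage F ξ m η 0) : seq F ξ m η hsurj hvers g₀ 0 = g₀ := rfl

theorem seq_succ (g₀ : Stage F ξ m η 0) (n : ℕ) :
    (Ideal.Quotient.factorₐ k (Ideal.pow_le_pow_right (by omega : n + 2 ≤ n + 1 + 2))).comp
      (seq F ξ m η hsurj hvers g₀ (n + 1)).1 = (seq F ξ m η hsurj hvers g₀ n).1 :=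
  Classical.choose_spec (step F ξ m η hsurj hvers n (seq F ξ m η hsurj hvers g₀ n))

theorem seq_le (g₀ : Stage F ξ m η 0) {a b : ℕ} (hab : a ≤ b) :
    (Ideal.Quotient.factorₐ k (Ideal.pow_le_pow_right (by omega : a + 2 ≤ b + 2))).comp
      (seq F ξ m η hsurj hvers g₀ b).1 = (seq F ξ m η hsurj hvers g₀ a).1 := by
  induction b, hab using Nat.le_induction with
  | base =>
    rw [Ideal.Quotient.factorₐ_refl]
    rfl
  | succ b hab ih =>
    rw [← ih, ← seq_succ F ξ m η hsurj hvers g₀ b, ← AlgHom.comp_assoc,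
      Ideal.Quotient.factorₐ_comp]

/-- the compatible family at all levels. -/
def fam (g₀ : Stage F ξ m η 0) (n : ℕ) : R →ₐ[k] A ⧸ m ^ n :=
  (Ideal.Quotient.factorₐ k (Ideal.pow_le_pow_right (by omega : n ≤ n + 2))).comp
    (seq F ξ m η hsurj hvers g₀ n).1

theorem fam_compat (g₀ : Stage F ξ m η 0) {a b : ℕ} (hab : a ≤ b) :
    (Ideal.Quotient.factorₐ k (Ideal.pow_le_pow_right hab)).comp (fam F ξ m η hsurj hvers g₀ b) =
      fam F ξ m η hsurj hvers g₀ a := by
  unfold fam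
  rw [← seq_le F ξ m η hsurj hvers g₀ hab, ← AlgHom.comp_assoc, ← AlgHom.comp_assoc,
    Ideal.Quotient.factorₐ_comp, Ideal.Quotient.factorₐ_comp]

theorem fam_F (g₀ : Stage F ξ m η 0) (n : ℕ) :
    F.map (CommAlgCat.ofHom (fam F ξ m η hsurj hvers g₀ n)) ξ =
      F.map (CommAlgCat.ofHom (Ideal.Quotient.mkₐ k (m ^ n))) η := by
  unfold fam
  rw [CommAlgCat.ofHom_comp, FunctorToTypes.map_comp_apply, (seq F ξ m η hsurj hvers g₀ n).2,
    ← FunctorToTypes.map_comp_apply, ← CommAlgCat.ofHom_comp]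
  rfl

theorem fam_two (g₀ : Stage F ξ m η 0) (r : R) :
    fam F ξ m η hsurj hvers g₀ 2 r = g₀.1 r := by
  have h1 := seq_le F ξ m η hsurj hvers g₀ (Nat.zero_le 2)
  have h2 := DFunLike.congr_fun h1 r
  rw [seq_zero] at h2
  rw [← h2]
  change Ideal.Quotient.factor (Ideal.pow_le_pow_right (by omega : 2 ≤ 2 + 2))
      ((seq F ξ m η hsurj hvers g₀ 2).1 r) =
    Ideal.Quotient.factor (Ideal.pow_le_pow_right (by omega : 0 + 2 ≤ 2 + 2))
      ((seq F ξ m η hsurj hvers g₀ 2).1 r)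
  obtain ⟨a, ha⟩ := Ideal.Quotient.mk_surjective ((seq F ξ m η hsurj hvers g₀ 2).1 r)
  rw [← ha]

end Groth.Agent.Helper2.Vers
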