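import Mathlib
import Groth.Agent.Helper2.GrFunB

set_option autoImplicit false
set_option linter.style.haveILetI false
set_option linter.unusedSectionVars false

namespace Groth.Agent.Helper2.Vers

open Polynomial AssocGr FiltBl Groth.Agent.Helper2.GrFun

universe u

section Noeth

variable {A : Type u} [CommRing A] (I : Ideal A)

instance isNoetherianRing_rees [IsNoetherianRing A] :
    IsNoetherianRing (IdealFiltration.adic I).rees := by
  rw [Rees.adic_rees_eq]
  infer_instance

theorem isNoetherianRing_grRing [IsNoetherianRing A] :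
    IsNoetherianRing (GrRing (IdealFiltration.adic I)) :=
  isNoetherianRing_of_surjective _ _ (mkG (IdealFiltration.adic I)).toRingHom
    (mkG_surjective _)

end Noeth

section Levelwise

variable {A Q : Type u} [CommRing A] [CommRing Q] (θ : A →+* Q) (I : Ideal A) (K : Ideal Q)

/-- a monomial of the Rees algebra. -/
noncomputable def reesMonomial (n : ℕ) (a : A) (ha : a ∈ I ^ n) : (IdealFiltration.adic I).rees :=
  ⟨monomial n a, fun j => by
    rw [coeff_monomial]
    split_ifs with h
    · subst h; exact ha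
    · exact Ideal.zero_mem _⟩

theorem coeff_reesMonomial (n : ℕ) (a : A) (ha : a ∈ I ^ n) (j : ℕ) :
    ((reesMonomial I n a ha : (IdealFiltration.adic I).rees) : A[X]).coeff j =
      if n = j then a else 0 :=
  coeff_monomial

theorem hinj_of_grMap_injective (hIK : I.map θ ≤ K)
    (h : Function.Injective (grMap θ I K hIK)) (n : ℕ) (a : A) (ha : θ a ∈ K ^ n) :
    a ∈ I ^ n := by
  induction n with
  | zero => simp
  | succ n ih =>
    have ha' : a ∈ I ^ n := ih (Ideal.pow_le_pow_right (Nat.le_succ n) ha)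
    have h0 : grMap θ I K hIK (mkG _ (reesMonomial I n a ha')) = 0 := by
      rw [grMap_eq_zero_iff]
      intro j
      rw [coeff_reesMonomial]
      split_ifs with hj
      · subst hj; exact ha
      · rw [map_zero]; exact Ideal.zero_mem _
    have h1 : mkG _ (reesMonomial I n a ha') = 0 := h (by rw [h0, map_zero])
    rw [mkG_eq_zero_iff, mem_succIdeal_iff] at h1
    have h2 := h1 n
    rw [coeff_reesMonomial, if_pos rfl] at h2
    exact h2

theorem injective_of_grMap_injective [IsHausdorff I A] (hIK : I.map θ ≤ K)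
    (h : Function.Injective (grMap θ I K hIK)) : Function.Injective θ := by
  rw [injective_iff_map_eq_zero]
  intro a ha
  apply IsHausdorff.haus (I := I) ‹_›
  intro n
  rw [SModEq.zero, smul_eq_mul, Ideal.mul_top]
  apply hinj_of_grMap_injective θ I K hIK h
  rw [ha]
  exact Ideal.zero_mem _

theorem surjective_of_levelwise [IsPrecomplete I A] [IsHausdorff K Q] (hIK : I.map θ ≤ K)
    (hsurj : ∀ (n : ℕ) (q : Q), q ∈ K ^ n → ∃ a ∈ I ^ n, θ a - q ∈ K ^ (n + 1)) :
    Function.Surjective θ := by
  intro x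
  have step : ∀ (n : ℕ) (p : {r : A // x - θ r ∈ K ^ n}),
      ∃ p' : {r : A // x - θ r ∈ K ^ (n + 1)}, p'.1 - p.1 ∈ I ^ n := by
    intro n p
    obtain ⟨a, ha, h⟩ := hsurj n _ p.2
    refine ⟨⟨p.1 + a, ?_⟩, ?_⟩
    · have : x - θ (p.1 + a) = -(θ a - (x - θ p.1)) := by rw [map_add]; ring
      rw [this]
      exact Ideal.neg_mem_iff _ |>.mpr h
    · simpa using ha
  let s : ∀ n, {r : A // x - θ r ∈ K ^ n} := fun n =>
    Nat.rec (motive := fun n => {r : A // x - θ r ∈ K ^ n}) ⟨0, by simp⟩
      (fun n p => Classical.choose (step n p)) n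
  have hs : ∀ n, (s (n + 1)).1 - (s n).1 ∈ I ^ n := fun n =>
    Classical.choose_spec (step n (s n))
  have hcauchy : ∀ {a b : ℕ}, a ≤ b → (s b).1 - (s a).1 ∈ I ^ a := by
    intro a b hab
    induction b, hab using Nat.le_induction with
    | base => simp
    | succ b hab ih =>
      have : (s (b + 1)).1 - (s a).1 = ((s (b + 1)).1 - (s b).1) + ((s b).1 - (s a).1) := by ring
      rw [this]
      exact Ideal.add_mem _ (Ideal.pow_le_pow_right hab (hs b)) ih
  obtain ⟨L, hL⟩ := IsPrecomplete.prec (I := I) ‹_› (f := fun n => (s n).1) (by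
    intro a b hab
    rw [SModEq.sub_mem, smul_eq_mul, Ideal.mul_top]
    have := hcauchy hab
    rw [← Ideal.neg_mem_iff] at this
    simpa using this)
  refine ⟨L, ?_⟩
  rw [← sub_eq_zero]
  apply IsHausdorff.haus (I := K) ‹_›
  intro n
  rw [SModEq.zero, smul_eq_mul, Ideal.mul_top]
  have h1 := hL n
  rw [SModEq.sub_mem, smul_eq_mul, Ideal.mul_top] at h1
  have h2 : θ L - x = -(θ ((s n).1 - L)) - (x - θ (s n).1) := by
    rw [map_sub]; ring
  rw [h2]
  exact Ideal.sub_mem _ (Ideal.neg_mem_iff _ |>.mpr (map_pow_le θ I K hIK n _ h1)) (s n).2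

end Levelwise

end Groth.Agent.Helper2.Vers
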