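import Mathlib
import Groth.Agent.Helper2.VersC
import Groth.Agent.Helper2.ComplEquiv

set_option autoImplicit false
set_option linter.style.haveILetI false
set_option linter.unusedSectionVars false

namespace Groth.Agent.Helper2.Vers

open Polynomial AssocGr FiltBl Groth.Agent.Helper2.GrFun

universe u

section Cpl

variable {A : Type u} [CommRing A] (I : Ideal A)

/-- the ideal generated by `I` in the completion. -/
noncomputable abbrev KC : Ideal (AdicCompletion I A) := I.map (algebraMap A (AdicCompletion I A))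

theorem mem_KC_pow_iff (hfg : I.FG) (k : ℕ) (t : AdicCompletion I A) :
    t ∈ (KC I) ^ k ↔ AdicCompletion.evalₐ I k t = 0 := by
  have h1 : t ∈ (KC I) ^ k ↔ AdicCompletion.eval I A k t = 0 := by
    rw [← Ideal.map_pow, ← LinearMap.mem_ker, ← AdicCompletion.pow_smul_top_eq_ker_eval hfg,
      Ideal.smul_top_eq_map, Submodule.restrictScalars_mem]
  rw [h1]
  have hle1 : I ^ k ≤ (I ^ k • ⊤ : Ideal A) := by
    rw [smul_eq_mul, Ideal.mul_top]
  have hle2 : (I ^ k • ⊤ : Ideal A) ≤ I ^ k := by
    rw [smul_eq_mul, Ideal.mul_top]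
  constructor
  · intro h
    rw [← AdicCompletion.factor_eval_eq_evalₐ _ t hle2, h, map_zero]
  · intro h
    rw [← AdicCompletion.factor_evalₐ_eq_eval _ t hle1, h, map_zero]

theorem isHausdorff_KC (hfg : I.FG) : IsHausdorff (KC I) (AdicCompletion I A) := by
  refine ⟨fun x hx => ?_⟩
  apply AdicCompletion.ext_evalₐ
  intro n
  rw [map_zero, ← mem_KC_pow_iff I hfg]
  have := hx n
  rw [SModEq.zero, smul_eq_mul, Ideal.mul_top] at this
  exact this

theorem evalₐ_algebraMap (n : ℕ) (a : A) :
    AdicCompletion.evalₐ I n (algebraMap A (AdicCompletion I A) a) = Ideal.Quotient.mk (I ^ n) a :=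
  AdicCompletion.evalₐ_of I n a

theorem exists_grEquiv_cpl (hfg : I.FG) :
    ∃ e : GrRing (IdealFiltration.adic (KC I)) ≃+* GrRing (IdealFiltration.adic I),
      (∀ (n : ℕ) (y : GrRing (IdealFiltration.adic (KC I))),
        y ∈ gr (IdealFiltration.adic (KC I)) n → e y ∈ gr (IdealFiltration.adic I) n) ∧
      (∀ r : A, e (algebraMap (AdicCompletion I A) _ (algebraMap A (AdicCompletion I A) r)) =
        algebraMap A _ r) := by
  refine exists_grEquiv_of_levelwise (algebraMap A (AdicCompletion I A)) I (KC I) le_rfl ?_ ?_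
  · intro n a ha
    rw [mem_KC_pow_iff I hfg, evalₐ_algebraMap] at ha
    exact Ideal.Quotient.eq_zero_iff_mem.mp ha
  · intro n q hq
    obtain ⟨a, ha⟩ := Ideal.Quotient.mk_surjective (AdicCompletion.evalₐ I (n + 1) q)
    refine ⟨a, ?_, ?_⟩
    · rw [mem_KC_pow_iff I hfg] at hq
      have h1 : Ideal.Quotient.factor (Ideal.pow_le_pow_right (Nat.le_succ n))
          (AdicCompletion.evalₐ I (n + 1) q) = AdicCompletion.evalₐ I n q :=
        ComplEquiv.factor_evalₐ I (Nat.le_succ n) q
      rw [← ha, hq] at h1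
      exact Ideal.Quotient.eq_zero_iff_mem.mp h1
    · rw [mem_KC_pow_iff I hfg, map_sub, evalₐ_algebraMap, ha, sub_self]

end Cpl

end Groth.Agent.Helper2.Vers
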