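import Mathlib
import Groth.Agent.Helper2.VersD
import Groth.Agent.Helper2.EtApxF

set_option autoImplicit false
set_option linter.style.haveILetI false
set_option linter.unusedSectionVars false

namespace Groth.Agent.Helper2.Vers

open Polynomial AssocGr FiltBl Groth.Agent.Helper2.GrFun

universe u

section Bij

variable {R A : Type u} [CommRing R] [CommRing A] [IsNoetherianRing R]
  (J : Ideal R) [IsAdicComplete J R] (I : Ideal A) (hfg : I.FG)
  (θ : R →+* AdicCompletion I A) (hIK : J.map θ ≤ KC I)
  (hsurj : ∀ (n : ℕ) (q : AdicCompletion I A), q ∈ (KC I) ^ n →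
    ∃ a ∈ J ^ n, θ a - q ∈ (KC I) ^ (n + 1))
  (e : GrRing (IdealFiltration.adic J) ≃+* GrRing (IdealFiltration.adic I))

include hfg hIK hsurj e in
theorem bijective_of_levelwise : Function.Bijective θ := by
  constructor
  · apply injective_of_grMap_injective θ J (KC I) hIK
    obtain ⟨e', -, -⟩ := exists_grEquiv_cpl I hfg
    have hγ := grMap_surjective θ J (KC I) hIK hsurj
    let Ψ : GrRing (IdealFiltration.adic J) →+* GrRing (IdealFiltration.adic J) :=
      (e.symm.toRingHom.comp e'.toRingHom).comp (grMap θ J (KC I) hIK)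
    have hΨs : Function.Surjective Ψ :=
      (e.symm.surjective.comp e'.surjective).comp hγ
    haveI := isNoetherianRing_grRing J
    have hΨi := EtApx.injective_of_surjective_endo Ψ hΨs
    intro x y hxy
    apply hΨi
    change e.symm (e' (grMap θ J (KC I) hIK x)) = e.symm (e' (grMap θ J (KC I) hIK y))
    rw [hxy]
  · haveI := isHausdorff_KC I hfg
    exact surjective_of_levelwise θ J (KC I) hIK hsurj

end Bij

end Groth.Agent.Helper2.Vers
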