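import Mathlib
import Groth.Agent.Helper2.VersE
import Groth.Agent.Helper2.VersA

set_option autoImplicit false
set_option linter.style.haveILetI false
set_option linter.unusedSectionVars false

namespace Groth.Agent.Helper2.Vers

open Polynomial AssocGr FiltBl Groth.Agent.Helper2.GrFun IsLocalRing

universe u

section Spec

variable {k : Type u} [Field k] {R : Type u} [CommRing R] [Algebra k R] [IsLocalRing R]
  {A : Type u} [CommRing A] [Algebra k A] (m : Ideal A) [hm : m.IsMaximal] (hfg : m.FG)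
  (hsurj : Function.Surjective (fun c : k => Ideal.Quotient.mk m (algebraMap k A c)))
  (α₀ : R →ₐ[k] AdicCompletion m A)
  (φ : (R ⧸ maximalIdeal R ^ 2) ≃ₐ[k] (A ⧸ m ^ 2))
  (hφ : ∀ r : R, AdicCompletion.evalₐ m 2 (α₀ r) = φ (Ideal.Quotient.mk _ r))

include hm hfg in
theorem KC_ne_top : (1 : AdicCompletion m A) ∉ KC m := by
  intro h
  have h1 : (1 : AdicCompletion m A) ∈ (KC m) ^ 1 := by rwa [pow_one]
  rw [mem_KC_pow_iff m hfg, map_one] at h1
  have h2 : (1 : A) ∈ m ^ 1 := by
    rw [← Ideal.Quotient.eq_zero_iff_mem, map_one]; exact h1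
  rw [pow_one] at h2
  exact hm.ne_top ((Ideal.eq_top_iff_one m).mpr h2)

include hm hfg in
theorem mem_maximalIdeal_of_mem_KC (r : R) (h : α₀ r ∈ KC m) : r ∈ maximalIdeal R := by
  by_contra hr
  have hu : IsUnit r := by
    rwa [mem_maximalIdeal, mem_nonunits_iff, not_not] at hr
  have hu' : IsUnit (α₀ r) := hu.map α₀
  have := Ideal.eq_top_of_isUnit_mem _ h hu'
  exact KC_ne_top m hfg ((Ideal.eq_top_iff_one _).mp this)

theorem evalₐ_algebraMap_k (n : ℕ) (c : k) :
    AdicCompletion.evalₐ m n (algebraMap k (AdicCompletion m A) c) =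
      Ideal.Quotient.mk (m ^ n) (algebraMap k A c) :=
  AdicCompletion.evalₐ_of m n (algebraMap k A c)

include hfg hsurj in
theorem exists_scalar (q : AdicCompletion m A) :
    ∃ c : k, algebraMap k (AdicCompletion m A) c - q ∈ KC m := by
  obtain ⟨a, ha⟩ := Ideal.Quotient.mk_surjective (AdicCompletion.evalₐ m 1 q)
  obtain ⟨c, hc⟩ := hsurj (Ideal.Quotient.mk m a)
  refine ⟨c, ?_⟩
  have h1 : algebraMap k (AdicCompletion m A) c - q ∈ (KC m) ^ 1 := by
    rw [mem_KC_pow_iff m hfg, map_sub, evalₐ_algebraMap_k, ← ha, ← map_sub,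
      Ideal.Quotient.eq_zero_iff_mem, pow_one]
    exact Ideal.Quotient.eq.mp hc
  rwa [pow_one] at h1

include hm hfg hsurj in
theorem map_le_KC : (maximalIdeal R).map α₀.toRingHom ≤ KC m := by
  rw [Ideal.map_le_iff_le_comap]
  intro r hr
  rw [Ideal.mem_comap]
  change α₀ r ∈ KC m
  obtain ⟨c, hc⟩ := exists_scalar m hfg hsurj (α₀ r)
  have h1 : α₀ (algebraMap k R c - r) ∈ KC m := by
    rw [map_sub, AlgHom.commutes]; exact hc
  have h2 := mem_maximalIdeal_of_mem_KC m hfg α₀ _ h1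
  have h3 : algebraMap k R c ∈ maximalIdeal R := by
    have := Ideal.add_mem _ h2 hr
    rwa [sub_add_cancel] at this
  have h4 : c = 0 := by
    by_contra hc0
    have hu : IsUnit (algebraMap k R c) := (IsUnit.mk0 c hc0).map (algebraMap k R)
    exact (mem_maximalIdeal _).mp h3 hu
  rw [h4, map_zero, zero_sub] at hc
  exact Ideal.neg_mem_iff _ |>.mp hc

include hm hfg hφ in
theorem exists_level_one (q : AdicCompletion m A) (hq : q ∈ KC m) :
    ∃ r ∈ maximalIdeal R, α₀ r - q ∈ (KC m) ^ 2 := by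
  obtain ⟨rb, hrb⟩ := φ.surjective (AdicCompletion.evalₐ m 2 q)
  obtain ⟨r, rfl⟩ := Ideal.Quotient.mk_surjective rb
  have h1 : α₀ r - q ∈ (KC m) ^ 2 := by
    rw [mem_KC_pow_iff m hfg, map_sub, hφ, hrb, sub_self]
  refine ⟨r, ?_, h1⟩
  apply mem_maximalIdeal_of_mem_KC m hfg α₀
  have h2 : α₀ r - q ∈ KC m := Ideal.pow_le_self (by norm_num) h1
  have := Ideal.add_mem _ h2 hq
  rwa [sub_add_cancel] at this

include hm hfg hsurj hφ in
theorem exists_level (n : ℕ) (q : AdicCompletion m A) (hq : q ∈ (KC m) ^ n) :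
    ∃ r ∈ maximalIdeal R ^ n, α₀.toRingHom r - q ∈ (KC m) ^ (n + 1) := by
  induction n generalizing q with
  | zero =>
    obtain ⟨c, hc⟩ := exists_scalar m hfg hsurj q
    refine ⟨algebraMap k R c, by simp, ?_⟩
    change α₀ (algebraMap k R c) - q ∈ _
    rw [AlgHom.commutes, zero_add, pow_one]
    exact hc
  | succ n ih =>
    rw [pow_succ] at hq
    refine Submodule.smul_induction_on
      (p := fun q => ∃ r ∈ maximalIdeal R ^ (n + 1),
        α₀.toRingHom r - q ∈ (KC m) ^ (n + 1 + 1)) hq ?_ ?_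
    · intro x hx y hy
      obtain ⟨rx, hrx, hx'⟩ := ih x hx
      obtain ⟨ry, hry, hy'⟩ := exists_level_one m hfg α₀ φ hφ y hy
      refine ⟨rx * ry, ?_, ?_⟩
      · rw [pow_succ]; exact Ideal.mul_mem_mul hrx hry
      · have hrx' : α₀.toRingHom rx ∈ (KC m) ^ n :=
          map_pow_le α₀.toRingHom _ _ (map_le_KC m hfg hsurj α₀) n rx hrx
        have e1 : α₀.toRingHom (rx * ry) - x • y =
            α₀.toRingHom rx * (α₀ ry - y) + (α₀.toRingHom rx - x) * y := by
          rw [map_mul, smul_eq_mul]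
          change α₀ rx * α₀ ry - x * y = α₀ rx * (α₀ ry - y) + (α₀ rx - x) * y
          ring
        rw [e1]
        refine Ideal.add_mem _ ?_ ?_
        · have : (KC m) ^ (n + 1 + 1) = (KC m) ^ n * (KC m) ^ 2 := by
            rw [← pow_add]
          rw [this]
          exact Ideal.mul_mem_mul hrx' hy'
        · rw [pow_succ _ (n + 1)]
          exact Ideal.mul_mem_mul hx' hy
    · rintro x y ⟨rx, hrx, hx'⟩ ⟨ry, hry, hy'⟩
      refine ⟨rx + ry, Ideal.add_mem _ hrx hry, ?_⟩
      have e1 : α₀.toRingHom (rx + ry) - (x + y) =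
          (α₀.toRingHom rx - x) + (α₀.toRingHom ry - y) := by
        rw [map_add]; ring
      rw [e1]
      exact Ideal.add_mem _ hx' hy'

end Spec

end Groth.Agent.Helper2.Vers
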