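import Mathlib
import Groth.Agent.Helper2.VersF
import Groth.Agent.Helper2.VersB
import Groth.Agent.Helper2.CdJK

set_option autoImplicit false
set_option linter.style.haveILetI false
set_option linter.unusedSectionVars false

namespace Groth.Agent.Helper2.Vers

open CategoryTheory CategoryTheory.Limits IsLocalRing

universe u

theorem s17372 (k : Type u) [Field k]
    (F : CommAlgCat.{u} k ⥤ Type u)
    (hF : ∀ (J : Type u) [SmallCategory J] [IsFiltered J], PreservesColimitsOfShape J F)
    (R : Type u) [CommRing R] [Algebra k R] [IsLocalRing R] [IsNoetherianRing R]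
    [IsAdicComplete (IsLocalRing.maximalIdeal R) R]
    (hres : Function.Surjective (fun c : k => IsLocalRing.residue R (algebraMap k R c)))
    (ξ : F.obj (CommAlgCat.of k R))
    (hvers : ∀ (B B₀ : Type u) [CommRing B] [Algebra k B] [IsLocalRing B] [IsArtinianRing B]
        [CommRing B₀] [Algebra k B₀] [IsLocalRing B₀] [IsArtinianRing B₀],
        Function.Surjective (fun c : k => IsLocalRing.residue B (algebraMap k B c)) →
        ∀ (π : B →ₐ[k] B₀), Function.Surjective π →
          ∀ (g₀ : R →ₐ[k] B₀) (y : F.obj (CommAlgCat.of k B)),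
            F.map (CommAlgCat.ofHom π) y = F.map (CommAlgCat.ofHom g₀) ξ →
              ∃ g : R →ₐ[k] B, π.comp g = g₀ ∧ F.map (CommAlgCat.ofHom g) ξ = y) :
    ∃ (A : Type u) (_ : CommRing A) (_ : Algebra k A) (_ : Algebra.FiniteType k A)
      (m : Ideal A) (_ : m.IsMaximal)
      (_ : Function.Surjective (fun c : k => Ideal.Quotient.mk m (algebraMap k A c)))
      (η : F.obj (CommAlgCat.of k A))
      (α : R ≃+* AdicCompletion m A),
      (∀ c : k, α (algebraMap k R c) = algebraMap A (AdicCompletion m A) (algebraMap k A c)) ∧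
      ∀ (n : ℕ) (ψ : R →ₐ[k] A ⧸ m ^ (n + 1)),
        ψ.toRingHom = (AdicCompletion.evalₐ m (n + 1) :
            AdicCompletion m A →ₐ[A] A ⧸ m ^ (n + 1)).toRingHom.comp α.toRingHom →
          F.map (CommAlgCat.ofHom ψ) ξ =
            F.map (CommAlgCat.ofHom (Ideal.Quotient.mkₐ k (m ^ (n + 1)))) η := by
  obtain ⟨A, iA, aA, hft, m, hm, hsurj, η, φ, hφ, e, -, -⟩ :=
    Groth.Agent.Helper2.CdJ.s17371 k F hF R hres ξ 1
  haveI : IsNoetherianRing A := Algebra.FiniteType.isNoetherianRing k A
  have hfg : m.FG := Ideal.fg_of_isNoetherianRing m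
  let g₀ : Stage F ξ m η 0 := ⟨φ.toAlgHom.comp (Ideal.Quotient.mkₐ k (maximalIdeal R ^ (1 + 1))), hφ⟩
  let α₀ : R →ₐ[k] AdicCompletion m A :=
    AdicCompletion.liftAlgHom m (fam F ξ m η hsurj hvers g₀)
      (fun hab => fam_compat F ξ m η hsurj hvers g₀ hab)
  have hev : ∀ (n : ℕ) (r : R), AdicCompletion.evalₐ m n (α₀ r) = fam F ξ m η hsurj hvers g₀ n r :=
    fun n r => AdicCompletion.evalₐ_liftAlgHom m _ _ n r
  have hφ2 : ∀ r : R, AdicCompletion.evalₐ m 2 (α₀ r) = φ (Ideal.Quotient.mk _ r) := by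
    intro r
    rw [hev, fam_two]
    rfl
  have hbij : Function.Bijective α₀.toRingHom :=
    bijective_of_levelwise (maximalIdeal R) m hfg α₀.toRingHom
      (map_le_KC m hfg hsurj α₀) (exists_level m hfg hsurj α₀ φ hφ2) e
  refine ⟨A, iA, aA, hft, m, hm, hsurj, η, RingEquiv.ofBijective α₀.toRingHom hbij, ?_, ?_⟩
  · intro c
    change α₀ (algebraMap k R c) = _
    rw [AlgHom.commutes]
    rfl
  · intro n ψ hψ
    have h1 : ψ = fam F ξ m η hsurj hvers g₀ (n + 1) := by
      apply AlgHom.ext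
      intro r
      have h2 := DFunLike.congr_fun hψ r
      change ψ r = AdicCompletion.evalₐ m (n + 1) (α₀ r) at h2
      rw [h2, hev]
    rw [h1]
    exact fam_F F ξ m η hsurj hvers g₀ (n + 1)

end Groth.Agent.Helper2.Vers
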