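import Mathlib

set_option autoImplicit false
universe u

namespace Groth.Agent.Helper2

variable {X : Type u} [TopologicalSpace X]

/-- Locally quasi-constructible: locally a finite union of locally closed subsets. -/
def LQC (Z : Set X) : Prop :=
  ∀ x : X, ∃ U : Set X, IsOpen U ∧ x ∈ U ∧ ∃ T : Set (Set X), T.Finite ∧ (∀ t ∈ T, IsLocallyClosed t) ∧ U ∩ Z = ⋃₀ T

/-- Given a point `z` outside a finite union of locally closed sets and a locally closed `L₀ ∋ z`,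
shrink `L₀` to a locally closed set through `z` missing the union. -/
theorem exists_isLocallyClosed_disjoint_sUnion (T : Set (Set X)) (hT : T.Finite)
    (hTl : ∀ t ∈ T, IsLocallyClosed t) (z : X) (hz : z ∉ ⋃₀ T) (L₀ : Set X) (hL₀ : IsLocallyClosed L₀)
    (hzL₀ : z ∈ L₀) :
    ∃ L : Set X, IsLocallyClosed L ∧ z ∈ L ∧ L ⊆ L₀ ∧ L ∩ ⋃₀ T = ∅ := by
  induction T, hT using Set.Finite.induction_on with
  | empty => exact ⟨L₀, hL₀, hzL₀, subset_rfl, by simp⟩
  | @insert a s _ _ ih =>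
    have hz' : z ∉ ⋃₀ s := fun h => hz (by
      obtain ⟨t, ht, hzt⟩ := h
      exact ⟨t, Set.mem_insert_of_mem a ht, hzt⟩)
    obtain ⟨L, hL, hzL, hLL₀, hLs⟩ := ih (fun t ht => hTl t (Set.mem_insert_of_mem a ht)) hz'
    have hza : z ∉ a := fun h => hz ⟨a, Set.mem_insert a s, h⟩
    obtain ⟨O, C, hO, hC, rfl⟩ := hTl _ (Set.mem_insert _ s)
    by_cases hzO : z ∈ O
    · have hzC : z ∉ C := fun h => hza ⟨hzO, h⟩
      refine ⟨L ∩ Cᶜ, hL.inter hC.isOpen_compl.isLocallyClosed, ⟨hzL, hzC⟩,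
        Set.inter_subset_left.trans hLL₀, ?_⟩
      rw [Set.sUnion_insert, Set.inter_union_distrib_left]
      have h1 : L ∩ Cᶜ ∩ (O ∩ C) = ∅ := by
        ext w; simp only [Set.mem_inter_iff, Set.mem_compl_iff, Set.mem_empty_iff_false, iff_false]
        tauto
      have h2 : L ∩ Cᶜ ∩ ⋃₀ s = ∅ := by
        apply Set.eq_empty_of_subset_empty
        rw [← hLs]
        exact Set.inter_subset_inter_left _ Set.inter_subset_left
      rw [h1, h2, Set.union_empty]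
    · refine ⟨L ∩ Oᶜ, hL.inter hO.isClosed_compl.isLocallyClosed, ⟨hzL, hzO⟩,
        Set.inter_subset_left.trans hLL₀, ?_⟩
      rw [Set.sUnion_insert, Set.inter_union_distrib_left]
      have h1 : L ∩ Oᶜ ∩ (O ∩ C) = ∅ := by
        ext w; simp only [Set.mem_inter_iff, Set.mem_compl_iff, Set.mem_empty_iff_false, iff_false]
        tauto
      have h2 : L ∩ Oᶜ ∩ ⋃₀ s = ∅ := by
        apply Set.eq_empty_of_subset_empty
        rw [← hLs]
        exact Set.inter_subset_inter_left _ Set.inter_subset_left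
      rw [h1, h2, Set.union_empty]

/-- If `X₀` meets every nonempty locally closed set, then a locally quasi-constructible set
`Z` is contained in any locally quasi-constructible `Z'` with `Z ∩ X₀ ⊆ Z'`. -/
theorem LQC.subset_of_inter_subset (X₀ : Set X)
    (h : ∀ Z : Set X, IsLocallyClosed Z → Z.Nonempty → (Z ∩ X₀).Nonempty)
    {Z Z' : Set X} (hZ : LQC Z) (hZ' : LQC Z') (e : Z ∩ X₀ ⊆ Z') : Z ⊆ Z' := by
  intro z hzZ
  by_contra hzZ'
  obtain ⟨U, hU, hzU, T, hT, hTl, hUT⟩ := hZ z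
  obtain ⟨U', hU', hzU', T', hT', hTl', hUT'⟩ := hZ' z
  have hz1 : z ∈ ⋃₀ T := by rw [← hUT]; exact ⟨hzU, hzZ⟩
  obtain ⟨t₀, ht₀, hzt₀⟩ := hz1
  have hz2 : z ∉ ⋃₀ T' := by rw [← hUT']; exact fun h => hzZ' h.2
  obtain ⟨L, hL, hzL, hLsub, hLdisj⟩ := exists_isLocallyClosed_disjoint_sUnion T' hT' hTl' z hz2
    (t₀ ∩ U') ((hTl t₀ ht₀).inter hU'.isLocallyClosed) ⟨hzt₀, hzU'⟩
  obtain ⟨w, hwL, hwX₀⟩ := h L hL ⟨z, hzL⟩
  have hw1 : w ∈ U ∩ Z := by rw [hUT]; exact ⟨t₀, ht₀, (hLsub hwL).1⟩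
  have hw2 : w ∈ Z' := e ⟨hw1.2, hwX₀⟩
  have hw3 : w ∈ ⋃₀ T' := by rw [← hUT']; exact ⟨(hLsub hwL).2, hw2⟩
  have : w ∈ L ∩ ⋃₀ T' := ⟨hwL, hw3⟩
  rw [hLdisj] at this
  exact this

theorem LQC.eq_of_inter_eq (X₀ : Set X)
    (h : ∀ Z : Set X, IsLocallyClosed Z → Z.Nonempty → (Z ∩ X₀).Nonempty)
    {Z Z' : Set X} (hZ : LQC Z) (hZ' : LQC Z') (e : Z ∩ X₀ = Z' ∩ X₀) : Z = Z' :=
  subset_antisymm
    (hZ.subset_of_inter_subset X₀ h hZ' (e ▸ Set.inter_subset_left))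
    (hZ'.subset_of_inter_subset X₀ h hZ (e ▸ Set.inter_subset_left))

theorem LQC.open_inter {Z : Set X} (hZ : LQC Z) {O : Set X} (hO : IsOpen O) : LQC (O ∩ Z) := by
  intro x
  obtain ⟨U, hU, hxU, T, hT, hTl, hUT⟩ := hZ x
  refine ⟨U, hU, hxU, (fun t => O ∩ t) '' T, hT.image _, ?_, ?_⟩
  · rintro _ ⟨t, ht, rfl⟩
    exact hO.isLocallyClosed.inter (hTl t ht)
  · rw [Set.sUnion_image, ← Set.inter_iUnion₂, ← Set.sUnion_eq_biUnion, ← hUT]
    ext w; simp only [Set.mem_inter_iff]; tauto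

/-- Injectivity of `U ↦ U ∩ X₀` on opens implies that `X₀` meets every nonempty locally closed set. -/
theorem veryDense_of_opens_inj (X₀ : Set X)
    (h : ∀ U V : Set X, IsOpen U → IsOpen V → U ∩ X₀ = V ∩ X₀ → U = V) :
    ∀ Z : Set X, IsLocallyClosed Z → Z.Nonempty → (Z ∩ X₀).Nonempty := by
  intro Z hZ hne
  obtain ⟨U, F, hU, hF, rfl⟩ := hZ
  by_contra hemp
  rw [Set.not_nonempty_iff_eq_empty] at hemp
  have e : U ∩ X₀ = (U ∩ Fᶜ) ∩ X₀ := by
    ext x
    constructor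
    · rintro ⟨hx1, hx2⟩
      refine ⟨⟨hx1, fun hxF => ?_⟩, hx2⟩
      have : x ∈ U ∩ F ∩ X₀ := ⟨⟨hx1, hxF⟩, hx2⟩
      rw [hemp] at this
      exact this
    · rintro ⟨⟨hx1, _⟩, hx2⟩
      exact ⟨hx1, hx2⟩
  have := h U (U ∩ Fᶜ) hU (hU.inter hF.isOpen_compl) e
  obtain ⟨z, hz1, hz2⟩ := hne
  rw [this] at hz1
  exact hz1.2 hz2

/-- For a map `f`, equality of preimages is equality of traces on the range. -/
theorem preimage_eq_iff_inter_range_eq {X₀ : Type*} (f : X₀ → X) (U V : Set X) :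
    f ⁻¹' U = f ⁻¹' V ↔ U ∩ Set.range f = V ∩ Set.range f := by
  constructor
  · intro e
    ext x
    constructor
    · rintro ⟨hx, a, rfl⟩
      refine ⟨?_, a, rfl⟩
      have : a ∈ f ⁻¹' U := hx
      rw [e] at this
      exact this
    · rintro ⟨hx, a, rfl⟩
      refine ⟨?_, a, rfl⟩
      have : a ∈ f ⁻¹' V := hx
      rw [← e] at this
      exact this
  · intro e
    ext a
    constructor
    · intro ha
      have : f a ∈ U ∩ Set.range f := ⟨ha, a, rfl⟩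
      rw [e] at this
      exact this.1
    · intro ha
      have : f a ∈ V ∩ Set.range f := ⟨ha, a, rfl⟩
      rw [← e] at this
      exact this.1

/-- A quasi-homeomorphism (injective on opens by preimage) has very dense range; hence preimage
is injective on locally quasi-constructible sets. -/
theorem LQC.eq_of_preimage_eq {X₀ : Type*} (f : X₀ → X)
    (hinj : ∀ U₁ U₂ : Set X, IsOpen U₁ → IsOpen U₂ → f ⁻¹' U₁ = f ⁻¹' U₂ → U₁ = U₂)
    {Z Z' : Set X} (hZ : LQC Z) (hZ' : LQC Z') (e : f ⁻¹' Z = f ⁻¹' Z') : Z = Z' := by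
  have hvd := veryDense_of_opens_inj (Set.range f) (fun U V hU hV e' =>
    hinj U V hU hV ((preimage_eq_iff_inter_range_eq f U V).mpr e'))
  exact hZ.eq_of_inter_eq (Set.range f) hvd hZ' ((preimage_eq_iff_inter_range_eq f Z Z').mp e)

end Groth.Agent.Helper2
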