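import Mathlib
import Groth.Prelude
import Groth.Agent.Helper2.FlatHens1
import Groth.Agent.Helper5.WAss2

set_option autoImplicit false
set_option linter.style.haveILetI false
set_option linter.unusedSectionVars false

/-! Weakly associated primes and (strict) henselization (S1234) -/

universe u

namespace Groth.Agent.Helper2.WAssHens

open TensorProduct IsLocalRing Groth.Agent.Helper1.Hens Groth.Agent.Helper1
  Groth.Agent.Helper2.EssEtSub
open Groth.Agent.Helper4.WeakAss (ann mem_ann minimal_of_le)
open Groth.Agent.Helper5.WAss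

section flatann

variable {L H : Type u} [CommRing L] [CommRing H] [Algebra L H] [Module.Flat L H]
  {P : Type u} [AddCommGroup P] [Module L P]

theorem ann_tmul_eq_map (y : P) : ann H ((1 : H) ⊗ₜ[L] y) = (ann L y).map (algebraMap L H) := by
  apply le_antisymm
  · intro h hh
    rw [mem_ann, TensorProduct.smul_tmul', smul_eq_mul, mul_one] at hh
    exact mem_map_ann_of_tmul_eq_zero y h hh
  · rw [Ideal.map_le_iff_le_comap]
    intro l hl
    rw [Ideal.mem_comap, mem_ann, algebraMap_smul, TensorProduct.smul_tmul', TensorProduct.smul_tmul,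
      mem_ann.mp hl, TensorProduct.tmul_zero]

/-- going down for minimal primes over an extended ideal -/
theorem under_mem_minimalPrimes_of_flat (I : Ideal L) (Q : Ideal H) [Q.IsPrime]
    (hQ : Q ∈ (I.map (algebraMap L H)).minimalPrimes) : Q.under L ∈ I.minimalPrimes := by
  refine ⟨⟨inferInstance, ?_⟩, ?_⟩
  · rw [Ideal.under_def, ← Ideal.map_le_iff_le_comap]
    exact hQ.1.2
  · rintro P' ⟨hP'prime, hIP'⟩ hP'le
    haveI := hP'prime
    haveI : Q.LiesOver (Q.under L) := ⟨rfl⟩
    obtain ⟨Q', hQ'le, hQ'prime, hQ'over⟩ :=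
      Ideal.exists_ideal_le_liesOver_of_le (S := H) (p := P') (q := Q.under L) Q hP'le
    have h1 : I.map (algebraMap L H) ≤ Q' := by
      rw [Ideal.map_le_iff_le_comap]
      have := hQ'over.over
      rw [Ideal.under_def] at this
      rw [← this]
      exact hIP'
    have h2 : Q ≤ Q' := hQ.2 ⟨hQ'prime, h1⟩ hQ'le
    have h3 : Q' = Q := le_antisymm hQ'le h2
    rw [hQ'over.over, h3]

end flatann

section tower

variable {R L H : Type u} [CommRing R] [CommRing L] [CommRing H] [Algebra R L] [Algebra R H]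
  [Algebra L H] [IsScalarTower R L H] (N : Type u) [AddCommGroup N] [Module R N]

theorem cancelBaseChange_tmul' (h : H) (w : L ⊗[R] N) :
    TensorProduct.AlgebraTensorModule.cancelBaseChange R L H H N (h ⊗ₜ[L] w) =
      h • (LinearMap.rTensor N (IsScalarTower.toAlgHom R L H).toLinearMap w) := by
  induction w using TensorProduct.induction_on with
  | zero => simp
  | tmul l n =>
    rw [TensorProduct.AlgebraTensorModule.cancelBaseChange_tmul, LinearMap.rTensor_tmul,
      TensorProduct.smul_tmul', smul_eq_mul, Algebra.smul_def, mul_comm]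
    rfl
  | add w₁ w₂ h₁ h₂ =>
    rw [TensorProduct.tmul_add, map_add, h₁, h₂, map_add, smul_add]

variable [Module.Flat L H]

theorem ann_rTensor_eq_map (w : L ⊗[R] N) :
    ann H (LinearMap.rTensor N (IsScalarTower.toAlgHom R L H).toLinearMap w) =
      (ann L w).map (algebraMap L H) := by
  rw [← ann_tmul_eq_map (L := L) (H := H) w]
  ext h
  rw [mem_ann, mem_ann, ← cancelBaseChange_tmul', TensorProduct.smul_tmul', smul_eq_mul, mul_one,
    LinearEquiv.map_eq_zero_iff]

end tower

section main

variable {R : Type u} [CommRing R] [IsLocalRing R] {Ω : Type u} [Field Ω] [Algebra R Ω]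
  [IsLocalHom (algebraMap R Ω)]
  (H : Type u) [CommRing H] [IsLocalRing H] [Algebra R H]
  (ψ : ∀ i : Idx R Ω, i.L →ₐ[R] H)
  (N : Type u) [AddCommGroup N] [Module R N]

theorem pt_under_eq {C : Type u} [CommRing C] [Algebra R C] (γ : C →ₐ[R] Ω) :
    (pt γ).under R = maximalIdeal R := by
  ext x
  rw [Ideal.under_def, Ideal.mem_comap, mem_pt, AlgHom.commutes]
  constructor
  · intro h
    rw [mem_maximalIdeal, mem_nonunits_iff]
    intro hu
    have := hu.map (algebraMap R Ω)
    rw [h] at this
    exact not_isUnit_zero this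
  · intro h
    by_contra h0
    have hu : IsUnit (algebraMap R Ω x) := isUnit_iff_ne_zero.2 h0
    exact ((mem_maximalIdeal x).1 h) (isUnit_of_map_unit (algebraMap R Ω) x hu)

/-- descent of weak associatedness of the closed point from a union of local-étale stages -/
theorem maximalIdeal_mem_weakAss_of_tensor
    (hlift : ∀ F : Finset H, ∃ i : Idx R Ω, ∀ h ∈ F, h ∈ (ψ i).range)
    (hflat : ∀ i : Idx R Ω, letI : Algebra i.L H := (ψ i).toRingHom.toAlgebra; Module.Flat i.L H)
    (hloc : ∀ i (y : i.L), IsUnit (ψ i y) → IsUnit y)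
    (h : maximalIdeal H ∈ FlatCA.weakAss H (H ⊗[R] N)) :
    maximalIdeal R ∈ FlatCA.weakAss R N := by
  classical
  obtain ⟨z, hz⟩ := h
  obtain ⟨T, hT⟩ := TensorProduct.exists_finset z
  obtain ⟨i, hi⟩ := hlift (T.image Prod.fst)
  have hex : ∀ p : H × N, ∃ y : i.L, p ∈ T → ψ i y = p.1 := by
    intro p
    by_cases hp : p ∈ T
    · obtain ⟨y, hy⟩ := hi p.1 (Finset.mem_image_of_mem _ hp)
      exact ⟨y, fun _ => hy⟩
    · exact ⟨0, fun h => absurd h hp⟩
  choose y hy using hex
  letI : Algebra i.L H := (ψ i).toRingHom.toAlgebra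
  haveI : IsScalarTower R i.L H := IsScalarTower.of_algHom (ψ i)
  haveI : Module.Flat i.L H := hflat i
  let w : i.L ⊗[R] N := T.sum fun p => y p ⊗ₜ[R] p.2
  have hw : LinearMap.rTensor N (IsScalarTower.toAlgHom R i.L H).toLinearMap w = z := by
    rw [hT, map_sum]
    refine Finset.sum_congr rfl fun p hp => ?_
    rw [LinearMap.rTensor_tmul]
    congr 1
    exact hy p hp
  have hann : ann H z = (ann i.L w).map (algebraMap i.L H) := by
    rw [← hw]
    exact ann_rTensor_eq_map N w
  have hz' : maximalIdeal H ∈ (ann H z).minimalPrimes := hz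
  rw [hann] at hz'
  have h1 := under_mem_minimalPrimes_of_flat (ann i.L w) (maximalIdeal H) hz' 
  have h2 : (maximalIdeal H).under i.L = maximalIdeal i.L := by
    ext x
    rw [Ideal.under_def, Ideal.mem_comap, mem_maximalIdeal, mem_maximalIdeal, mem_nonunits_iff,
      mem_nonunits_iff]
    constructor
    · intro hx hu
      exact hx (hu.map (algebraMap i.L H))
    · intro hx hu
      exact hx (hloc i x hu)
  rw [h2] at h1
  have h3 : maximalIdeal i.L ∈ FlatCA.weakAss i.L (i.L ⊗[R] N) := ⟨w, h1⟩
  haveI := isLocalizedModule_tensorMap (A := R) (R := i.C) (R' := i.L) (pt i.γ).primeCompl N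
  rw [mem_weakAss_localized_iff (pt i.γ).primeCompl
    (tensorMap (A := R) (R := i.C) (R' := i.L) N)] at h3
  have h4 : (maximalIdeal i.L).under i.C = pt i.γ :=
    IsLocalization.AtPrime.under_maximalIdeal i.L (pt i.γ)
  rw [h4] at h3
  have h5 := under_mem_weakAss_of_etale N (pt i.γ) h3
  rw [pt_under_eq] at h5
  exact h5

omit [IsLocalHom (algebraMap R Ω)] in
/-- ascent along a flat local homomorphism with `m_R H = m_H` -/
theorem maximalIdeal_mem_weakAss_tensor [Module.Flat R H]
    (hm : (maximalIdeal R).map (algebraMap R H) = maximalIdeal H)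
    (h : maximalIdeal R ∈ FlatCA.weakAss R N) :
    maximalIdeal H ∈ FlatCA.weakAss H (H ⊗[R] N) := by
  obtain ⟨n, hn⟩ := h
  refine ⟨(1 : H) ⊗ₜ[R] n, ?_⟩
  show maximalIdeal H ∈ (ann H ((1 : H) ⊗ₜ[R] n)).minimalPrimes
  rw [ann_tmul_eq_map]
  have hn' : maximalIdeal R ∈ (ann R n).minimalPrimes := hn
  refine ⟨⟨inferInstance, ?_⟩, ?_⟩
  · rw [← hm]
    exact Ideal.map_mono hn'.1.2
  · rintro P ⟨hPprime, hPle⟩ hPm
    haveI := hPprime
    have h1 : ann R n ≤ P.under R := by
      rw [Ideal.under_def, ← Ideal.map_le_iff_le_comap]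
      exact hPle
    have h2 : P.under R ≤ maximalIdeal R := IsLocalRing.le_maximalIdeal (Ideal.IsPrime.ne_top inferInstance)
    have h3 : maximalIdeal R ≤ P.under R := hn'.2 ⟨inferInstance, h1⟩ h2
    rw [← hm, Ideal.map_le_iff_le_comap]
    exact h3

end main

section strict

variable (A S N : Type u) [CommRing A] [IsLocalRing A] [CommRing S] [IsLocalRing S] [Algebra A S]
  [IsLocalHom (algebraMap A S)] [AddCommGroup N] [Module A N]

theorem weakAss_strict_iff [Hensel.IsStrictHenselization A S] :
    maximalIdeal S ∈ FlatCA.weakAss S (S ⊗[A] N) ↔ maximalIdeal A ∈ FlatCA.weakAss A N := by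
  constructor
  · refine maximalIdeal_mem_weakAss_of_tensor (Ω := ResidueField S) S (stageHom A S) N ?_ ?_ ?_
    · intro F
      obtain ⟨i, hi⟩ := exists_stage_of_finset A S F
      exact ⟨i, fun h hh => hi hh⟩
    · intro i
      exact (flat_stageHom A S i).toFlat
    · intro i y hy
      exact isUnit_of_isUnit_stageHom A S i y hy
  · haveI : Module.Flat A S := (Hens.faithfullyFlat_of_isStrictHenselization A S).toFlat
    exact maximalIdeal_mem_weakAss_tensor S N (Hens.map_maximalIdeal_of_isStrictHenselization A S)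

theorem weakAss_hens_iff [Hensel.IsHenselization A S] :
    maximalIdeal S ∈ FlatCA.weakAss S (S ⊗[A] N) ↔ maximalIdeal A ∈ FlatCA.weakAss A N := by
  haveI : Module.Flat A S := (Hens.faithfullyFlat_of_isHenselization A S).toFlat
  constructor
  · let e := equivOfIsHenselization (R := A) S
    let ψ : ∀ i : Idx A (ResidueField A), i.L →ₐ[A] S := fun i =>
      (e.symm : Hh A →ₐ[A] S).comp (Hens.ofAlg i)
    have hψ : ∀ i (y : i.L), e (ψ i y) = Hens.ofAlg i y := fun i y => by simp [ψ]
    refine maximalIdeal_mem_weakAss_of_tensor (Ω := ResidueField A) S ψ N ?_ ?_ ?_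
    · intro F
      obtain ⟨i, x', hx'⟩ := Hens.exists_of_family (fun k : F => e (k : S))
      refine ⟨i, fun h hh => ⟨x' ⟨h, hh⟩, ?_⟩⟩
      apply e.injective
      show e (ψ i (x' ⟨h, hh⟩)) = e h
      rw [hψ]
      exact hx' ⟨h, hh⟩
    · intro i
      exact FlatUnram.flat_of_algHom (ψ i)
    · intro i y hy
      apply isUnit_of_isUnit_ofAlg i
      rw [← hψ]
      exact hy.map e
  · exact maximalIdeal_mem_weakAss_tensor S N (Hens.map_maximalIdeal_of_isHenselization A S)

end strict

theorem s1234 {A : Type u} [CommRing A] (M : Type u) [AddCommGroup M] [Module A M] (p : Ideal A)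
    [p.IsPrime]
    (Ah Ash : Type u) [CommRing Ah] [IsLocalRing Ah] [CommRing Ash] [IsLocalRing Ash]
    [Algebra (Localization.AtPrime p) Ah] [IsLocalHom (algebraMap (Localization.AtPrime p) Ah)]
    [Hensel.IsHenselization (Localization.AtPrime p) Ah]
    [Algebra (Localization.AtPrime p) Ash] [IsLocalHom (algebraMap (Localization.AtPrime p) Ash)]
    [Hensel.IsStrictHenselization (Localization.AtPrime p) Ash] :
    [p ∈ FlatCA.weakAss A M,
     maximalIdeal (Localization.AtPrime p) ∈
       FlatCA.weakAss (Localization.AtPrime p) (LocalizedModule p.primeCompl M),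
     maximalIdeal Ah ∈
       FlatCA.weakAss Ah (Ah ⊗[Localization.AtPrime p] LocalizedModule p.primeCompl M),
     maximalIdeal Ash ∈
       FlatCA.weakAss Ash (Ash ⊗[Localization.AtPrime p] LocalizedModule p.primeCompl M)].TFAE := by
  have h12 : maximalIdeal (Localization.AtPrime p) ∈
       FlatCA.weakAss (Localization.AtPrime p) (LocalizedModule p.primeCompl M) ↔
      p ∈ FlatCA.weakAss A M := by
    rw [mem_weakAss_localized_iff p.primeCompl (LocalizedModule.mkLinearMap p.primeCompl M)]
    have h1 : (maximalIdeal (Localization.AtPrime p)).under A = p :=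
      IsLocalization.AtPrime.under_maximalIdeal (Localization.AtPrime p) p
    rw [h1]
  have h23 := weakAss_hens_iff (Localization.AtPrime p) Ah (LocalizedModule p.primeCompl M)
  have h24 := weakAss_strict_iff (Localization.AtPrime p) Ash (LocalizedModule p.primeCompl M)
  tfae_have 1 ↔ 2 := h12.symm
  tfae_have 2 ↔ 3 := h23.symm
  tfae_have 2 ↔ 4 := h24.symm
  tfae_finish

end Groth.Agent.Helper2.WAssHens

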