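import Mathlib
import Groth.Prelude.Def_FlatCA
import Groth.Agent.Helper5.WAss2
import Groth.Agent.Helper2.WAssHens1

set_option autoImplicit false
universe u
open TensorProduct Polynomial

namespace Groth.Agent.Helper2.WAssPoly

open Groth.Agent.Helper4.WeakAss (ann mem_ann minimal_of_le)

section minimal

variable {R : Type*} [CommRing R]

/-- elements of a minimal prime over `I` are nilpotent modulo `I` after localizing -/
theorem exists_mul_pow_mem {I p : Ideal R} (hp : p ∈ I.minimalPrimes) {x : R} (hx : x ∈ p) :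
    ∃ s ∉ p, ∃ n : ℕ, s * x ^ n ∈ I := by
  obtain ⟨⟨hp₁, hp₂⟩, hp₃⟩ := hp
  haveI := hp₁
  have : p.map (algebraMap R (Localization.AtPrime p)) ≤
      (I.map (algebraMap R (Localization.AtPrime p))).radical := by
    rw [Ideal.radical_eq_sInf, le_sInf_iff]
    rintro q ⟨hq', hq⟩
    obtain ⟨h₁, h₂⟩ := ((IsLocalization.AtPrime.orderIsoOfPrime _ p) ⟨q, hq⟩).2
    rw [Ideal.map_le_iff_le_comap] at hq' ⊢
    exact hp₃ ⟨h₁, hq'⟩ h₂
  obtain ⟨n, hn⟩ := this (Ideal.mem_map_of_mem _ hx)
  rw [IsLocalization.mem_map_algebraMap_iff (M := p.primeCompl)] at hn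
  obtain ⟨⟨a, b⟩, hn⟩ := hn
  rw [← map_pow, ← map_mul, IsLocalization.eq_iff_exists p.primeCompl] at hn
  obtain ⟨t, ht⟩ := hn
  refine ⟨t * b, (t * b).2, n, ?_⟩
  simp only at ht
  have : (t.1 * b.1) * x ^ n = t.1 * a := by
    rw [← ht]; ring
  show (t.1 * b.1) * x ^ n ∈ I
  rw [this]
  exact I.mul_mem_left _ a.2

end minimal

section mccoy

variable {A : Type u} [CommRing A] {M : Type u} [AddCommGroup M] [Module A M]

theorem coeff_smul' (a : A) (z : PolynomialModule A M) (n : ℕ) :
    (a • z).coeff n = a • z.coeff n := rfl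

theorem C_smul' (a : A) (z : PolynomialModule A M) : (C a : A[X]) • z = a • z := by
  rw [← Polynomial.algebraMap_eq, algebraMap_smul]

/-- McCoy's theorem for polynomial modules. -/
theorem mccoy_aux (g : A[X]) : ∀ (n : ℕ) (z : PolynomialModule A M), z ≠ 0 →
    (∀ j, n < j → z.coeff j = 0) → g • z = 0 → ∃ m : M, m ≠ 0 ∧ ∀ i, g.coeff i • m = 0 := by
  classical
  intro n
  induction n with
  | zero =>
    intro z hz hsupp h
    refine ⟨z.coeff 0, ?_, ?_⟩
    · intro h0
      apply hz
      apply PolynomialModule.coeff_injective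
      ext j
      rcases Nat.eq_zero_or_pos j with rfl | hj
      · simpa using h0
      · simpa using hsupp j hj
    · intro i
      have h1 := congrArg (fun w => w.coeff i) h
      simp only [PolynomialModule.smul_apply] at h1
      rw [Finset.sum_eq_single (i, 0)] at h1
      · simpa using h1
      · rintro ⟨a, b⟩ hab hne
        have hb : 0 < b := by
          rcases Nat.eq_zero_or_pos b with rfl | hb
          · exfalso; apply hne
            rw [Finset.HasAntidiagonal.mem_antidiagonal] at hab
            simp only [add_zero] at hab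
            rw [hab]
          · exact hb
        show g.coeff a • z.coeff b = 0
        rw [hsupp b hb, smul_zero]
      · intro hni
        exfalso; apply hni
        rw [Finset.HasAntidiagonal.mem_antidiagonal]
        simp
  | succ n ih =>
    intro z hz hsupp h
    by_cases hzn : z.coeff (n + 1) = 0
    · refine ih z hz (fun j hj => ?_) h
      rcases Nat.lt_or_ge (n + 1) j with h1 | h1
      · exact hsupp j h1
      · have : j = n + 1 := by omega
        rw [this]; exact hzn
    by_cases hall : ∀ i, g.coeff i • z = 0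
    · refine ⟨z.coeff (n + 1), hzn, fun i => ?_⟩
      rw [← coeff_smul', hall i]; rfl
    · push Not at hall
      obtain ⟨i₁, hi₁⟩ := hall
      have hi₁le : i₁ ≤ g.natDegree := by
        by_contra hlt
        push Not at hlt
        rw [Polynomial.coeff_eq_zero_of_natDegree_lt hlt, zero_smul] at hi₁
        exact hi₁ rfl
      set P : ℕ → Prop := fun i => g.coeff i • z ≠ 0 with hP
      set i₀ := Nat.findGreatest P g.natDegree with hi₀
      have hP₀ : P i₀ := Nat.findGreatest_spec (P := P) hi₁le hi₁
      have hgt : ∀ a, i₀ < a → g.coeff a • z = 0 := by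
        intro a ha
        by_cases hale : a ≤ g.natDegree
        · have := Nat.findGreatest_is_greatest (P := P) ha hale
          simpa [hP] using this
        · push Not at hale
          rw [Polynomial.coeff_eq_zero_of_natDegree_lt hale, zero_smul]
      have hkill : g.coeff i₀ • z.coeff (n + 1) = 0 := by
        have h1 := congrArg (fun w => w.coeff (i₀ + (n + 1))) h
        simp only [PolynomialModule.smul_apply] at h1
        rw [Finset.sum_eq_single (i₀, n + 1)] at h1
        · simpa using h1
        · rintro ⟨a, b⟩ hab hne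
          rw [Finset.HasAntidiagonal.mem_antidiagonal] at hab
          simp only at hab
          show g.coeff a • z.coeff b = 0
          rcases Nat.lt_trichotomy b (n + 1) with hb | hb | hb
          · have ha : i₀ < a := by omega
            rw [← coeff_smul', hgt a ha]; rfl
          · exfalso; apply hne
            have : a = i₀ := by omega
            rw [this, hb]
          · rw [hsupp b hb, smul_zero]
        · intro hni
          exfalso; apply hni
          rw [Finset.HasAntidiagonal.mem_antidiagonal]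
      refine ih (g.coeff i₀ • z) hP₀ (fun j hj => ?_) ?_
      · rw [coeff_smul']
        rcases Nat.lt_or_ge (n + 1) j with h1 | h1
        · rw [hsupp j h1, smul_zero]
        · have : j = n + 1 := by omega
          rw [this]; exact hkill
      · rw [← C_smul', smul_smul, mul_comm, mul_smul, h, smul_zero]

theorem mccoy (g : A[X]) (z : PolynomialModule A M) (hz : z ≠ 0) (h : g • z = 0) :
    ∃ m : M, m ≠ 0 ∧ ∀ i, g.coeff i • m = 0 := by
  classical
  refine mccoy_aux g (z.coeff.support.sup id) z hz (fun j hj => ?_) h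
  by_contra hne
  have : j ∈ z.coeff.support := Finsupp.mem_support_iff.mpr hne
  have := Finset.le_sup (f := id) this
  simp only [id] at this
  omega

end mccoy

section loc

variable {A : Type u} [CommRing A] [IsLocalRing A] (M : Type u) [AddCommGroup M] [Module A M]

theorem regular_of_not_mem (g : A[X])
    (hg : g ∉ (IsLocalRing.maximalIdeal A).map (C : A →+* A[X]))
    (w : PolynomialModule A M) (h : g • w = 0) : w = 0 := by
  by_contra hw
  obtain ⟨m, hm, hgm⟩ := mccoy g w hw h
  apply hg
  rw [Ideal.mem_map_C_iff]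
  intro i
  by_contra hni
  have hu : IsUnit (g.coeff i) := by
    by_contra hnu; exact hni ((IsLocalRing.mem_maximalIdeal _).mpr hnu)
  apply hm
  have := hgm i
  rwa [hu.smul_eq_zero] at this

theorem local_poly (Q : Ideal A[X]) [hQp : Q.IsPrime]
    (hQ : Q.comap (C : A →+* A[X]) = IsLocalRing.maximalIdeal A)
    (h : Q ∈ FlatCA.weakAss A[X] (PolynomialModule A M)) :
    IsLocalRing.maximalIdeal A ∈ FlatCA.weakAss A M := by
  obtain ⟨z, hz⟩ := h
  have hz0 : z ≠ 0 := by
    rintro rfl
    apply hQp.ne_top
    rw [eq_top_iff]; refine le_trans ?_ hz.1.2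
    intro r _; rw [mem_ann, smul_zero]
  have hQle : Q ≤ (IsLocalRing.maximalIdeal A).map C := by
    intro g hg
    obtain ⟨y, hy, hgy⟩ := Ideal.exists_mul_mem_of_mem_minimalPrimes hz hg
    by_contra hgn
    apply hy
    rw [mem_ann] at hgy ⊢
    rw [mul_smul] at hgy
    exact regular_of_not_mem M g hgn _ hgy
  have hleQ : (IsLocalRing.maximalIdeal A).map C ≤ Q := by
    rw [Ideal.map_le_iff_le_comap, hQ]
  have hQeq : Q = (IsLocalRing.maximalIdeal A).map C := le_antisymm hQle hleQ
  have hpow : ∀ a ∈ IsLocalRing.maximalIdeal A, ∃ n : ℕ, a ^ n • z = 0 := by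
    intro a ha
    have hCa : C a ∈ Q := hleQ (Ideal.mem_map_of_mem _ ha)
    obtain ⟨s, hs, n, hsn⟩ := exists_mul_pow_mem hz hCa
    refine ⟨n, ?_⟩
    rw [mem_ann, mul_smul] at hsn
    have := regular_of_not_mem M s (by rwa [← hQeq]) _ hsn
    rw [← C_pow, C_smul'] at this
    exact this
  obtain ⟨i, hi⟩ : ∃ i, z.coeff i ≠ 0 := by
    by_contra hall
    push Not at hall
    apply hz0
    apply PolynomialModule.coeff_injective
    ext j
    simpa using hall j
  refine ⟨z.coeff i, ⟨⟨inferInstance, ?_⟩, ?_⟩⟩
  · apply IsLocalRing.le_maximalIdeal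
    rw [Ne, Helper4.WeakAss.ann_eq_top_iff]; exact hi
  · rintro p' ⟨hp', hle⟩ _
    intro a ha
    obtain ⟨n, hn⟩ := hpow a ha
    have : a ^ n ∈ ann A (z.coeff i) := by
      rw [mem_ann, ← coeff_smul', hn]; rfl
    exact hp'.mem_of_pow_mem n (hle this)

end loc

section general

variable {A : Type u} [CommRing A] (M : Type u) [AddCommGroup M] [Module A M]

attribute [local instance] Polynomial.algebra

theorem poly_tensor (Q : Ideal A[X]) [hQp : Q.IsPrime]
    (h : Q ∈ FlatCA.weakAss A[X] (A[X] ⊗[A] M)) :
    Q.comap (C : A →+* A[X]) ∈ FlatCA.weakAss A M := by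
  set p := Q.comap (C : A →+* A[X]) with hp
  haveI hpp : p.IsPrime := Ideal.comap_isPrime _ _
  let Ap := Localization.AtPrime p
  let S : Submonoid A[X] := p.primeCompl.map (C : A →+* A[X])
  haveI : IsLocalization S Ap[X] := Polynomial.isLocalization p.primeCompl Ap
  have hdisj : Disjoint (S : Set A[X]) (Q : Set A[X]) := by
    rw [Set.disjoint_left]
    rintro _ ⟨a, ha, rfl⟩ haQ
    exact ha haQ
  let Q' : Ideal Ap[X] := Q.map (algebraMap A[X] Ap[X])
  haveI hQ'p : Q'.IsPrime := IsLocalization.isPrime_of_isPrime_disjoint S Ap[X] Q hQp hdisj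
  have hunder : Q'.under A[X] = Q :=
    IsLocalization.under_map_of_isPrime_disjoint S Ap[X] hQp hdisj
  haveI := Helper5.WAss.isLocalizedModule_tensorMap (A := A) (R := A[X]) (R' := Ap[X]) S M
  have h1 : Q' ∈ FlatCA.weakAss Ap[X] (Ap[X] ⊗[A] M) := by
    rw [Helper5.WAss.mem_weakAss_localized_iff S
      (Helper5.WAss.tensorMap (A := A) (R := A[X]) (R' := Ap[X]) M), hunder]
    exact h
  let e1 : Ap[X] ⊗[Ap] (Ap ⊗[A] M) ≃ₗ[Ap[X]] Ap[X] ⊗[A] M :=
    TensorProduct.AlgebraTensorModule.cancelBaseChange A Ap Ap[X] Ap[X] M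
  let e2 := PolynomialModule.polynomialTensorProductLEquivPolynomialModule Ap (Ap ⊗[A] M)
  have h2 : Q' ∈ FlatCA.weakAss Ap[X] (PolynomialModule Ap (Ap ⊗[A] M)) :=
    Helper5.WAss.mem_weakAss_of_linearEquiv (e1.symm ≪≫ₗ e2) h1
  have hQ'C : Q'.comap (C : Ap →+* Ap[X]) = IsLocalRing.maximalIdeal Ap := by
    rw [← Localization.AtPrime.eq_maximalIdeal_iff_under_eq (I := p)]
    rw [Ideal.under_def, Ideal.comap_comap]
    have hcomp : (C : Ap →+* Ap[X]).comp (algebraMap A Ap) =
        (algebraMap A[X] Ap[X]).comp (C : A →+* A[X]) := by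
      ext a
      simp [Polynomial.algebraMap_def]
    rw [hcomp, ← Ideal.comap_comap]
    have : Q'.comap (algebraMap A[X] Ap[X]) = Q := hunder
    rw [this]
  have h3 := local_poly (Ap ⊗[A] M) Q' hQ'C h2
  haveI : IsLocalizedModule p.primeCompl (TensorProduct.mk A Ap M 1) :=
    (isLocalizedModule_iff_isBaseChange p.primeCompl Ap _).mpr (TensorProduct.isBaseChange A M Ap)
  have h4 := (Helper5.WAss.mem_weakAss_localized_iff p.primeCompl (TensorProduct.mk A Ap M 1)
    (IsLocalRing.maximalIdeal Ap)).mp h3
  have h5 : (IsLocalRing.maximalIdeal Ap).under A = p :=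
    IsLocalization.AtPrime.under_maximalIdeal Ap p
  rwa [h5] at h4

end general

end Groth.Agent.Helper2.WAssPoly
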