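import Mathlib
import Groth.Prelude.Def_FlatCA
import Groth.Agent.Helper2.WAssPoly1

set_option autoImplicit false
universe u
open TensorProduct Polynomial

namespace Groth.Agent.Helper2.WAssPoly

open Groth.Agent.Helper4.WeakAss (ann mem_ann minimal_of_le)

/-- weakly associated primes of base changes along `A → A'` contract to weakly associated primes -/
def Good (A A' : Type u) [CommRing A] [CommRing A'] [Algebra A A'] : Prop :=
  ∀ (M M' : Type u) [AddCommGroup M] [AddCommGroup M'] [Module A M] [Module A' M'] [Module A M']
    [IsScalarTower A A' M'] (f : M →ₗ[A] M') (_ : IsBaseChange A' f) (q : Ideal A') [q.IsPrime],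
    q ∈ FlatCA.weakAss A' M' → q.comap (algebraMap A A') ∈ FlatCA.weakAss A M

section good

variable {A A' : Type u} [CommRing A] [CommRing A'] [Algebra A A']

theorem good_of_tensor
    (h : ∀ (M : Type u) [AddCommGroup M] [Module A M] (q : Ideal A') [q.IsPrime],
      q ∈ FlatCA.weakAss A' (A' ⊗[A] M) → q.comap (algebraMap A A') ∈ FlatCA.weakAss A M) :
    Good A A' := by
  intro M M' _ _ _ _ _ _ f hf q _ hq
  exact h M q (Helper5.WAss.mem_weakAss_of_linearEquiv hf.equiv.symm hq)

theorem Good.of_finite_flat [Module.Finite A A'] [Module.Flat A A'] : Good A A' :=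
  good_of_tensor (fun M _ _ q _ hq => by
    haveI : (q.comap (algebraMap A A')).IsPrime := Ideal.comap_isPrime _ _
    haveI : q.LiesOver (q.comap (algebraMap A A')) := ⟨rfl⟩
    exact (Helper5.WAss.s1232 M (q.comap (algebraMap A A')) q).mp hq)

theorem Good.of_bijective (h : Function.Bijective (algebraMap A A')) : Good A A' := by
  haveI : Module.Finite A A' := Module.Finite.of_surjective (Algebra.linearMap A A') h.2
  haveI : Module.Flat A A' :=
    Module.Flat.of_linearEquiv (LinearEquiv.ofBijective (Algebra.linearMap A A') h).symm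
  exact Good.of_finite_flat

theorem Good.of_isLocalization (S : Submonoid A) [IsLocalization S A'] : Good A A' := by
  intro M M' _ _ _ _ _ _ f hf q _ hq
  haveI : IsLocalizedModule S f := (isLocalizedModule_iff_isBaseChange S A' f).mpr hf
  exact (Helper5.WAss.mem_weakAss_localized_iff S f q).mp hq

theorem Good.polynomial : Good A A[X] :=
  good_of_tensor (fun M _ _ q _ hq => poly_tensor M q hq)

theorem Good.trans {B C : Type u} [CommRing B] [CommRing C] [Algebra A B] [Algebra B C]
    [Algebra A C] [IsScalarTower A B C] (h1 : Good A B) (h2 : Good B C) : Good A C := by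
  intro M M'' _ _ _ _ _ _ f hf q _ hq
  letI : Module B M'' := Module.compHom M'' (algebraMap B C)
  haveI : IsScalarTower B C M'' := IsScalarTower.of_compHom B C M''
  haveI : IsScalarTower A B M'' := ⟨fun a b m => by
    change algebraMap B C (a • b) • m = a • (algebraMap B C b • m)
    rw [Algebra.smul_def, map_mul, ← IsScalarTower.algebraMap_apply, mul_smul, algebraMap_smul]⟩
  have hf₁ : IsBaseChange B (TensorProduct.mk A B M 1) := TensorProduct.isBaseChange A M B
  let g : B ⊗[A] M →ₗ[B] M'' := hf₁.lift f
  have hg : IsBaseChange C g := by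
    apply IsBaseChange.of_comp hf₁
    have : (g.restrictScalars A) ∘ₗ (TensorProduct.mk A B M 1) = f := hf₁.lift_comp f
    rw [this]
    exact hf
  have h3 := h2 (B ⊗[A] M) M'' g hg q hq
  haveI : (q.comap (algebraMap B C)).IsPrime := Ideal.comap_isPrime _ _
  have h4 := h1 M (B ⊗[A] M) (TensorProduct.mk A B M 1) hf₁ (q.comap (algebraMap B C)) h3
  rwa [Ideal.comap_comap, ← IsScalarTower.algebraMap_eq] at h4

end good

/-- universal version: for every pushout -/
def UG (k k' : Type u) [CommRing k] [CommRing k'] [Algebra k k'] : Prop :=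
  ∀ (R R' : Type u) [CommRing R] [CommRing R'] [Algebra k R] [Algebra k R'] [Algebra k' R']
    [Algebra R R'] [IsScalarTower k k' R'] [IsScalarTower k R R'] [Algebra.IsPushout k k' R R'],
    Good R R'

section ug

variable {k k' : Type u} [CommRing k] [CommRing k'] [Algebra k k']

theorem UG.of_finite_flat [Module.Finite k k'] [Module.Flat k k'] : UG k k' := by
  intro R R' _ _ _ _ _ _ _ _ hpo
  haveI : Algebra.IsPushout k R k' R' := hpo.symm
  let e : R ⊗[k] k' ≃ₐ[R] R' := Algebra.IsPushout.equiv k R k' R'
  haveI : Module.Finite R R' := Module.Finite.equiv e.toLinearEquiv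
  haveI : Module.Flat R R' := Module.Flat.of_linearEquiv e.toLinearEquiv.symm
  exact Good.of_finite_flat

theorem UG.of_bijective (h : Function.Bijective (algebraMap k k')) : UG k k' := by
  haveI : Module.Finite k k' := Module.Finite.of_surjective (Algebra.linearMap k k') h.2
  haveI : Module.Flat k k' :=
    Module.Flat.of_linearEquiv (LinearEquiv.ofBijective (Algebra.linearMap k k') h).symm
  exact UG.of_finite_flat

theorem UG.of_isLocalization (S : Submonoid k) [IsLocalization S k'] : UG k k' := by
  intro R R' _ _ _ _ _ _ _ _ hpo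
  haveI : Algebra.IsPushout k R k' R' := hpo.symm
  haveI : IsLocalization (Algebra.algebraMapSubmonoid R S) R' :=
    (Algebra.isLocalization_iff_isPushout S k').mpr inferInstance
  exact Good.of_isLocalization (Algebra.algebraMapSubmonoid R S)

attribute [local instance] Polynomial.algebra in
theorem UG.polynomial : UG k k[X] := by
  intro R R' _ _ _ _ _ _ _ _ hpo
  haveI : Algebra.IsPushout k R k[X] R' := hpo.symm
  let e1 : R ⊗[k] k[X] ≃ₐ[R] R[X] := Algebra.IsPushout.equiv k R k[X] R[X]
  let e2 : R ⊗[k] k[X] ≃ₐ[R] R' := Algebra.IsPushout.equiv k R k[X] R'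
  let e : R[X] ≃ₐ[R] R' := e1.symm.trans e2
  letI : Algebra R[X] R' := e.toAlgHom.toRingHom.toAlgebra
  haveI : IsScalarTower R R[X] R' := IsScalarTower.of_algebraMap_eq (fun r => (e.commutes r).symm)
  have hbij : Function.Bijective (algebraMap R[X] R') := e.bijective
  exact Good.trans Good.polynomial (Good.of_bijective hbij)

end ug

end Groth.Agent.Helper2.WAssPoly
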