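import Mathlib
import Groth.Prelude.Def_FlatCA
import Groth.Agent.Helper2.WAssPoly2

set_option autoImplicit false
universe u
open TensorProduct Polynomial

namespace Groth.Agent.Helper2.WAssPoly

open Groth.Agent.Helper4.WeakAss (ann mem_ann minimal_of_le)

section mid

variable (k k' k'' : Type u) [CommRing k] [CommRing k'] [CommRing k''] [Algebra k k']
  [Algebra k' k''] [Algebra k k''] [IsScalarTower k k' k'']
  (R R'' : Type u) [CommRing R] [CommRing R''] [Algebra k R] [Algebra k R''] [Algebra k'' R'']
  [Algebra R R''] [IsScalarTower k k'' R''] [IsScalarTower k R R''] [Algebra.IsPushout k k'' R R'']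

attribute [local instance] Algebra.TensorProduct.rightAlgebra in
/-- the intermediate pushout -/
theorem exists_mid :
    ∃ (R' : Type u) (_ : CommRing R') (_ : Algebra k R') (_ : Algebra k' R') (_ : Algebra R R')
      (_ : Algebra R' R'') (_ : Algebra k' R'') (_ : IsScalarTower k k' R')
      (_ : IsScalarTower k R R') (_ : IsScalarTower R R' R'') (_ : IsScalarTower k' R' R'')
      (_ : IsScalarTower k' k'' R'') (_ : Algebra.IsPushout k k' R R'),
      Algebra.IsPushout k' k'' R' R'' := by
  letI a1 : Algebra k' R'' := ((algebraMap k'' R'').comp (algebraMap k' k'')).toAlgebra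
  haveI t1 : IsScalarTower k' k'' R'' := IsScalarTower.of_algebraMap_eq (fun _ => rfl)
  haveI t2 : IsScalarTower k k' R'' := IsScalarTower.of_algebraMap_eq (fun x => by
    rw [IsScalarTower.algebraMap_apply k k'' R'', IsScalarTower.algebraMap_apply k k' k'']
    rfl)
  let φ : k' ⊗[k] R →ₐ[k'] R'' :=
    Algebra.TensorProduct.lift (Algebra.ofId k' R'') (IsScalarTower.toAlgHom k R R'')
      (fun _ _ => Commute.all _ _)
  letI a2 : Algebra (k' ⊗[k] R) R'' := φ.toRingHom.toAlgebra
  haveI t3 : IsScalarTower k' (k' ⊗[k] R) R'' :=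
    IsScalarTower.of_algebraMap_eq (fun x => (φ.commutes x).symm)
  haveI t4 : IsScalarTower R (k' ⊗[k] R) R'' := IsScalarTower.of_algebraMap_eq (fun x => by
    change algebraMap R R'' x = φ ((1 : k') ⊗ₜ[k] x)
    rw [Algebra.TensorProduct.lift_tmul, map_one, one_mul]
    rfl)
  haveI t5 : IsScalarTower k (k' ⊗[k] R) R'' := IsScalarTower.of_algebraMap_eq (fun x => by
    rw [IsScalarTower.algebraMap_apply k k' (k' ⊗[k] R),
      ← IsScalarTower.algebraMap_apply k' (k' ⊗[k] R) R'', ← IsScalarTower.algebraMap_apply k k' R''])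
  refine ⟨k' ⊗[k] R, inferInstance, inferInstance, inferInstance, inferInstance, a2, a1,
    inferInstance, inferInstance, t4, t3, t1, inferInstance, ?_⟩
  exact (Algebra.IsPushout.comp_iff k k' R (S' := k' ⊗[k] R) (T := k'') (T' := R'')).mp inferInstance

end mid

section trans

variable {k k' k'' : Type u} [CommRing k] [CommRing k'] [CommRing k''] [Algebra k k']
  [Algebra k' k''] [Algebra k k''] [IsScalarTower k k' k'']

theorem UG.trans (h1 : UG k k') (h2 : UG k' k'') : UG k k'' := by
  intro R R'' _ _ _ _ _ _ _ _ hpo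
  obtain ⟨R', i1, i2, i3, i4, i5, i6, i7, i8, i9, i10, i11, i12, i13⟩ := exists_mid k k' k'' R R''
  haveI : IsScalarTower k' k' R' := inferInstance
  exact Good.trans (h1 R R') (h2 R' R'')

end trans

section fields

variable {k K : Type u} [Field k] [Field K] [Algebra k K]

theorem UG.of_algEquiv {k k' k'' : Type u} [CommRing k] [CommRing k'] [CommRing k''] [Algebra k k']
    [Algebra k k''] (e : k' ≃ₐ[k] k'') (h : UG k k') : UG k k'' := by
  letI : Algebra k' k'' := e.toAlgHom.toRingHom.toAlgebra
  haveI : IsScalarTower k k' k'' := IsScalarTower.of_algebraMap_eq (fun r => (e.commutes r).symm)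
  have hbij : Function.Bijective (algebraMap k' k'') := e.bijective
  exact UG.trans h (UG.of_bijective hbij)

theorem UG.ratFunc (L : Type u) [Field L] : UG L (RatFunc L) :=
  UG.trans (UG.polynomial (k := L)) (UG.of_isLocalization (nonZeroDivisors L[X]))

open IntermediateField in
theorem UG.adjoin_simple (L : Type u) [Field L] [Algebra L K] (x : K) : UG L L⟮x⟯ := by
  by_cases hx : IsAlgebraic L x
  · haveI : FiniteDimensional L L⟮x⟯ := IntermediateField.adjoin.finiteDimensional hx.isIntegral
    exact UG.of_finite_flat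
  · exact UG.of_algEquiv (RatFunc.algEquivOfTranscendental x hx) (UG.ratFunc L)

theorem UG.of_fg (L : IntermediateField k K) (hL : L.FG) : UG k L := by
  refine IntermediateField.induction_on_adjoin_fg (fun L => UG k L) ?_ ?_ L hL
  · exact UG.of_bijective (IntermediateField.botEquiv k K).symm.bijective
  · intro L x hLk
    have h2 : UG L (IntermediateField.adjoin L {x}) := UG.adjoin_simple L x
    have h3 : UG k (IntermediateField.adjoin L {x}) := UG.trans hLk h2
    exact h3

end fields

section general

/-- every element of the base change is a `K`-combination of elements coming from `M` -/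
theorem exists_finsupp (k : Type u) {K : Type u} [Field k] [Field K] [Algebra k K]
    {R R' : Type u} [CommRing R] [CommRing R'] [Algebra k R] [Algebra k R'] [Algebra K R']
    [Algebra R R'] [IsScalarTower k K R'] [IsScalarTower k R R'] [Algebra.IsPushout k K R R']
    {M M' : Type u} [AddCommGroup M] [AddCommGroup M'] [Module R M] [Module R' M'] [Module R M']
    [IsScalarTower R R' M'] (f : M →ₗ[R] M') (hf : IsBaseChange R' f) (z : M') :
    ∃ c : M →₀ K, (c.sum fun m a => algebraMap K R' a • f m) = z := by
  letI : Module K M' := Module.compHom M' (algebraMap K R')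
  haveI : IsScalarTower K R' M' := IsScalarTower.of_compHom K R' M'
  let N : Submodule K M' := Submodule.span K (Set.range f)
  have hR' : IsBaseChange K (IsScalarTower.toAlgHom k R R').toLinearMap := Algebra.IsPushout.out
  have hgen : ∀ (r' : R') (m : M), r' • f m ∈ N := by
    intro r' m
    refine hR'.inductionOn r' (fun r' => r' • f m ∈ N) ?_ ?_ ?_ ?_
    · rw [zero_smul]; exact N.zero_mem
    · intro r
      have : (IsScalarTower.toAlgHom k R R').toLinearMap r • f m = f (r • m) := by
        rw [map_smul]
        exact algebraMap_smul R' r (f m)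
      rw [this]
      exact Submodule.subset_span ⟨_, rfl⟩
    · intro a r' ih
      rw [smul_assoc]
      exact N.smul_mem a ih
    · intro r₁ r₂ h1 h2
      rw [add_smul]
      exact N.add_mem h1 h2
  have hsmul : ∀ (r' : R') (w : M'), w ∈ N → r' • w ∈ N := by
    intro r' w hw
    induction hw using Submodule.span_induction with
    | mem w hw =>
      obtain ⟨m, rfl⟩ := hw
      exact hgen r' m
    | zero => rw [smul_zero]; exact N.zero_mem
    | add w1 w2 _ _ h1 h2 => rw [smul_add]; exact N.add_mem h1 h2
    | smul a w _ h =>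
      have : r' • (a • w) = a • (r' • w) := by
        change r' • (algebraMap K R' a • w) = algebraMap K R' a • (r' • w)
        rw [smul_smul, smul_smul, mul_comm]
      rw [this]
      exact N.smul_mem a h
  have hall : z ∈ N := by
    refine hf.inductionOn z (fun z => z ∈ N) N.zero_mem ?_ ?_ ?_
    · intro m; exact Submodule.subset_span ⟨_, rfl⟩
    · intro r' w hw; exact hsmul r' w hw
    · intro w1 w2 h1 h2; exact N.add_mem h1 h2
  obtain ⟨c, hc⟩ := (Finsupp.mem_span_range_iff_exists_finsupp).mp hall
  exact ⟨c, hc⟩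

end general

section main

variable {k K : Type u} [Field k] [Field K] [Algebra k K]

theorem UG.field : UG k K := by
  classical
  intro R R' _ _ _ _ _ _ _ _ hpo M M' _ _ _ _ _ _ f hf q hqp hq
  obtain ⟨z, hz⟩ := hq
  obtain ⟨c, hc⟩ := exists_finsupp k (K := K) f hf z
  let L : IntermediateField k K :=
    IntermediateField.adjoin k ((c.support.image c : Finset K) : Set K)
  have hL : L.FG := IntermediateField.fg_adjoin_finset _
  have hcL : ∀ m ∈ c.support, c m ∈ L := fun m hm =>
    IntermediateField.subset_adjoin k _ (Finset.mem_coe.mpr (Finset.mem_image_of_mem c hm))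
  obtain ⟨RL, i1, i2, i3, i4, i5, i6, i7, i8, i9, i10, i11, i12, i13⟩ := exists_mid k L K R R'
  have hf₁ : IsBaseChange RL (TensorProduct.mk R RL M 1) := TensorProduct.isBaseChange R M RL
  letI : Module RL M' := Module.compHom M' (algebraMap RL R')
  haveI : IsScalarTower RL R' M' := IsScalarTower.of_compHom RL R' M'
  haveI : IsScalarTower R RL M' := ⟨fun a b m => by
    change algebraMap RL R' (a • b) • m = a • (algebraMap RL R' b • m)
    rw [Algebra.smul_def, map_mul, ← IsScalarTower.algebraMap_apply, mul_smul, algebraMap_smul]⟩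
  let g : RL ⊗[R] M →ₗ[RL] M' := hf₁.lift f
  have hgf : ∀ m, g ((1 : RL) ⊗ₜ[R] m) = f m := fun m => hf₁.lift_eq f m
  have hg : IsBaseChange R' g := by
    apply IsBaseChange.of_comp hf₁
    have : (g.restrictScalars R) ∘ₗ (TensorProduct.mk R RL M 1) = f := hf₁.lift_comp f
    rw [this]
    exact hf
  let y : RL ⊗[R] M := ∑ m ∈ c.support.attach,
    algebraMap L RL ⟨c m.1, hcL m.1 m.2⟩ • ((1 : RL) ⊗ₜ[R] m.1)
  have hgy : g y = z := by
    rw [← hc, Finsupp.sum, ← Finset.sum_attach, map_sum]
    refine Finset.sum_congr rfl (fun m _ => ?_)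
    rw [map_smul, hgf]
    change algebraMap RL R' (algebraMap L RL ⟨c m.1, hcL m.1 m.2⟩) • f m.1 = _
    rw [← IsScalarTower.algebraMap_apply L RL R', IsScalarTower.algebraMap_apply L K R']
    rfl
  haveI : Algebra.IsPushout L RL K R' := i13.symm
  let e : RL ⊗[L] K ≃ₐ[RL] R' := Algebra.IsPushout.equiv L RL K R'
  haveI : Module.Flat RL R' := Module.Flat.of_linearEquiv e.toLinearEquiv.symm
  have hann : ann R' z = (ann RL y).map (algebraMap RL R') := by
    have h1 : hg.equiv ((1 : R') ⊗ₜ[RL] y) = z := by
      rw [IsBaseChange.equiv_tmul, one_smul, hgy]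
    rw [← h1, Helper5.WAss.ann_linearEquiv]
    exact WAssHens.ann_tmul_eq_map y
  have h5 : q.under RL ∈ (ann RL y).minimalPrimes := by
    apply WAssHens.under_mem_minimalPrimes_of_flat (ann RL y) q
    rw [← hann]
    exact hz
  haveI : (q.under RL).IsPrime := Ideal.comap_isPrime _ _
  have h6 : q.under RL ∈ FlatCA.weakAss RL (RL ⊗[R] M) := ⟨y, h5⟩
  have h7 := UG.of_fg L hL R RL M (RL ⊗[R] M) (TensorProduct.mk R RL M 1) hf₁ (q.under RL) h6
  rwa [Ideal.under_def, Ideal.comap_comap, ← IsScalarTower.algebraMap_eq] at h7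

end main

end Groth.Agent.Helper2.WAssPoly
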