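import Mathlib
import Groth.Prelude.Def_CurvBase
import Groth.Prelude.Def_Coh
import Groth.Agent.Lead.StalkPull2
import Groth.Agent.Helper2.WAssPoly3

set_option autoImplicit false
universe u
open CategoryTheory CategoryTheory.Limits AlgebraicGeometry TopologicalSpace Opposite TensorProduct

namespace Groth.Agent.Helper2.WAssBC

open Groth.Agent.Lead.ModDict Groth.Agent.Helper4 Groth.Agent.Helper8.TildeBC Scheme.Modules
open Groth.Agent.Lead.StalkPull Groth.Agent.Helper2.WAssPoly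

section alg

variable {A : Type u} [CommRing A] [IsLocalRing A]

theorem radical_eq_maximalIdeal_iff (I : Ideal A) :
    I.radical = IsLocalRing.maximalIdeal A ↔ IsLocalRing.maximalIdeal A ∈ I.minimalPrimes := by
  constructor
  · intro h
    refine ⟨⟨inferInstance, ?_⟩, ?_⟩
    · rw [← h]; exact Ideal.le_radical
    · rintro p ⟨hp, hIp⟩ _
      rw [← h]
      exact hp.radical_le_iff.mpr hIp
  · intro hm
    apply le_antisymm
    · exact hm.1.1.radical_le_iff.mpr hm.1.2
    · rw [Ideal.radical_eq_sInf]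
      apply le_sInf
      rintro p ⟨hIp, hp⟩
      exact hm.2 ⟨hp, hIp⟩ (IsLocalRing.le_maximalIdeal hp.ne_top)

theorem local_weakAss_iff (N : Type u) [AddCommGroup N] [Module A N] :
    (∃ n : N, Ideal.radical (LinearMap.ker (LinearMap.toSpanSingleton A N n)) =
      IsLocalRing.maximalIdeal A) ↔ IsLocalRing.maximalIdeal A ∈ FlatCA.weakAss A N := by
  have key : ∀ n : N, LinearMap.ker (LinearMap.toSpanSingleton A N n) =
      Helper4.WeakAss.ann A n := by
    intro n
    ext r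
    rw [LinearMap.mem_ker, LinearMap.toSpanSingleton_apply, Helper4.WeakAss.mem_ann]
  constructor
  · rintro ⟨n, hn⟩
    refine ⟨n, ?_⟩
    rw [key, radical_eq_maximalIdeal_iff] at hn
    exact hn
  · rintro ⟨n, hn⟩
    refine ⟨n, ?_⟩
    rw [key, radical_eq_maximalIdeal_iff]
    exact hn

end alg

section geom

variable {X : Scheme.{u}} (F : X.Modules) [F.IsQuasicoherent] {U : X.Opens} (hU : IsAffineOpen U)

set_option backward.isDefEq.respectTransparency false in
theorem isWeakAssPoint_iff_affine (x : X) (hx : x ∈ U) :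
    Curv2.IsWeakAssPoint F x ↔
      (hU.primeIdealOf ⟨x, hx⟩).asIdeal ∈ FlatCA.weakAss Γ(X, U) ((secF hU).obj F) := by
  letI a3 : Algebra Γ(X, U) (X.presheaf.stalk x) := X.presheaf.algebra_section_stalk ⟨x, hx⟩
  haveI l2 := hU.isLocalization_stalk ⟨x, hx⟩
  letI m1 := StalkDict.sectionModStalk F x hx
  haveI s1 : IsScalarTower Γ(X, U) (X.presheaf.stalk x) (F.presheaf.stalk x) :=
    ⟨fun a s m => by
      change (X.presheaf.germ U x hx a * s) • m = X.presheaf.germ U x hx a • (s • m)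
      rw [mul_smul]⟩
  haveI := StalkDict.isLocalizedModule_germ hU F x hx
  let g₁ : ((secF hU).obj F) →ₗ[Γ(X, U)] F.presheaf.stalk x :=
    (StalkDict.germLin F x hx) ∘ₗ (secFEquiv hU F).symm.toLinearMap
  haveI : IsLocalizedModule (hU.primeIdealOf ⟨x, hx⟩).asIdeal.primeCompl g₁ :=
    IsLocalizedModule.of_linearEquiv_right _ _ _
  unfold Curv2.IsWeakAssPoint
  rw [local_weakAss_iff,
    Helper5.WAss.mem_weakAss_localized_iff (hU.primeIdealOf ⟨x, hx⟩).asIdeal.primeCompl g₁,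
    IsLocalization.AtPrime.under_maximalIdeal (X.presheaf.stalk x)
      (hU.primeIdealOf ⟨x, hx⟩).asIdeal]

end geom

section main

variable (k : Type u) [Field k] (K : Type u) [Field K] [Algebra k K] (X : Scheme.{u})
  [X.Over (Spec (CommRingCat.of k))]

set_option backward.isDefEq.respectTransparency false in
theorem main (F : X.Modules) (hF : Coh.IsQCoh F) (y : ↥(Curv2.bc k X K))
    (hy : Curv2.IsWeakAssPoint ((Scheme.Modules.pullback (Curv2.bcFst k X K)).obj F) y) :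
    Curv2.IsWeakAssPoint F (Curv2.bcFst k X K y) := by
  haveI : F.IsQuasicoherent := hF
  set f := Curv2.bcFst k X K with hf
  haveI := isQuasicoherent_pullbackObj f F
  haveI : IsAffineHom f := MorphismProperty.pullback_fst _ _ inferInstance
  obtain ⟨_, ⟨U, hU : IsAffineOpen U, rfl⟩, hx, -⟩ :=
    X.isBasis_affineOpens.exists_subset_of_mem_open (Set.mem_univ (f y)) isOpen_univ
  set V : (Curv2.bc k X K).Opens := f ⁻¹ᵁ U with hVdef
  have hV : IsAffineOpen V := hU.preimage f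
  have hyV : y ∈ V := hx
  have e : V ≤ f ⁻¹ᵁ U := le_rfl
  rw [isWeakAssPoint_iff_affine F hU (f y) hx]
  rw [isWeakAssPoint_iff_affine _ hV y hyV] at hy
  let iX : X ⟶ Spec (CommRingCat.of k) := X ↘ Spec (CommRingCat.of k)
  let iY : Curv2.bc k X K ⟶ Spec (CommRingCat.of K) := Curv2.bcSnd k X K
  let fK : Spec (CommRingCat.of K) ⟶ Spec (CommRingCat.of k) :=
    Spec.map (CommRingCat.ofHom (algebraMap k K))
  have H : IsPullback f iY iX fK := IsPullback.of_hasPullback _ _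
  have hUY : V = f ⁻¹ᵁ U ⊓ iY ⁻¹ᵁ ⊤ := by simp [hVdef]
  have hUST : (⊤ : (Spec (CommRingCat.of K)).Opens) ≤ fK ⁻¹ᵁ ⊤ := by simp
  have hUSX : U ≤ iX ⁻¹ᵁ ⊤ := by simp
  have hpo0 := (isIso_pushoutSection_iff H hUST hUSX hUY).mp
    (isIso_pushoutSection_of_isAffineOpen H hUST hUSX hUY (isAffineOpen_top _)
      (isAffineOpen_top _) hU)
  let ψk : CommRingCat.of k ⟶ Γ(X, U) :=
    (Scheme.ΓSpecIso (CommRingCat.of k)).inv ≫ iX.appLE ⊤ U hUSX
  let ψK : CommRingCat.of K ⟶ Γ(Curv2.bc k X K, V) :=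
    (Scheme.ΓSpecIso (CommRingCat.of K)).inv ≫ iY.appLE ⊤ V (by simp [hUY])
  let φ : Γ(X, U) ⟶ Γ(Curv2.bc k X K, V) := f.appLE U V e
  have hpo1 : IsPushout (CommRingCat.ofHom (algebraMap k K)) ψk ψK φ := by
    refine hpo0.flip.of_iso (Scheme.ΓSpecIso _) (Scheme.ΓSpecIso _) (Iso.refl _) (Iso.refl _)
      ?_ ?_ ?_ ?_
    · have h1 : Scheme.Hom.appLE fK ⊤ ⊤ hUST = fK.appTop := Scheme.Hom.appLE_eq_app fK
      rw [h1]
      exact Scheme.ΓSpecIso_naturality _
    · simp only [Iso.refl_hom, Category.comp_id, ψk, Iso.hom_inv_id_assoc]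
    · simp only [Iso.refl_hom, Category.comp_id, ψK, Iso.hom_inv_id_assoc]
    · simp only [Iso.refl_hom, Category.comp_id, Category.id_comp, φ]
  letI a1 : Algebra Γ(X, U) Γ(Curv2.bc k X K, V) := φ.hom.toAlgebra
  letI a2 : Algebra k Γ(X, U) := ψk.hom.toAlgebra
  letI a3 : Algebra K Γ(Curv2.bc k X K, V) := ψK.hom.toAlgebra
  letI a4 : Algebra k Γ(Curv2.bc k X K, V) := (ψk ≫ φ).hom.toAlgebra
  haveI t1 : IsScalarTower k Γ(X, U) Γ(Curv2.bc k X K, V) :=
    IsScalarTower.of_algebraMap_eq (fun _ => rfl)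
  haveI t2 : IsScalarTower k K Γ(Curv2.bc k X K, V) :=
    IsScalarTower.of_algebraMap_eq (fun a => by
      have := congrArg (fun ψ => ψ.hom a) hpo1.w
      exact this.symm)
  haveI po : Algebra.IsPushout k K Γ(X, U) Γ(Curv2.bc k X K, V) :=
    CommRingCat.isPushout_iff_isPushout.mp hpo1
  have hgood : Good Γ(X, U) Γ(Curv2.bc k X K, V) :=
    UG.field (k := k) (K := K) Γ(X, U) Γ(Curv2.bc k X K, V)
  let E : (secF hV).obj ((Scheme.Modules.pullback f).obj F) ≃ₗ[Γ(Curv2.bc k X K, V)]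
      Γ(Curv2.bc k X K, V) ⊗[Γ(X, U)] ((secF hU).obj F) :=
    (secFPullbackIso f hU hV e F).toLinearEquiv
  have h1 := Helper5.WAss.mem_weakAss_of_linearEquiv E hy
  have h2 := hgood ((secF hU).obj F) (Γ(Curv2.bc k X K, V) ⊗[Γ(X, U)] ((secF hU).obj F))
    (TensorProduct.mk Γ(X, U) Γ(Curv2.bc k X K, V) ((secF hU).obj F) 1)
    (TensorProduct.isBaseChange Γ(X, U) ((secF hU).obj F) Γ(Curv2.bc k X K, V))
    (hV.primeIdealOf ⟨y, hyV⟩).asIdeal h1
  have h3 := IsAffineOpen.comap_primeIdealOf_appLE (f := f) U hU V hV e hyV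
  rw [← h3]
  exact h2

end main

end Groth.Agent.Helper2.WAssBC
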