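import Mathlib
import Groth.Agent.Helper9.WittHomog
import Groth.Agent.Helper9.WittFilAux
import Groth.Agent.Helper9.WittTeich
import Groth.Prelude.Def_W4c6katofiltaWFil

/-!
# Filtered pieces of truncated Witt vectors over `A[1/π]`, `π` prime (helper2)
General lemmas: root closure of `A` in `A[1/π]`, strictness, subgroup property.
-/

set_option autoImplicit false

namespace Groth.Agent.Helper2.WittGr

section Away

variable {A B : Type*} [CommRing A] [IsDomain A] [CommRing B] [Algebra A B] (π : A)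
  [IsLocalization.Away π B]

include π in
theorem algebraMap_injective (hπ : π ≠ 0) : Function.Injective (algebraMap A B) :=
  IsLocalization.injective B (powers_le_nonZeroDivisors_of_noZeroDivisors hπ)

/-- `a · u^{-t} ∈ A` iff `π^t ∣ a`. -/
theorem mul_zpow_neg_mem_range_iff (hπ : π ≠ 0) (u : Bˣ) (hu : (u : B) = algebraMap A B π)
    (a : A) (t : ℕ) :
    algebraMap A B a * ((u ^ (-(t : ℤ)) : Bˣ) : B) ∈ (algebraMap A B).range ↔ π ^ t ∣ a := by
  have hinj := algebraMap_injective (B := B) π hπ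
  constructor
  · rintro ⟨c, hc⟩
    refine ⟨c, ?_⟩
    apply hinj
    have h1 : algebraMap A B a = algebraMap A B c * ((u ^ (t : ℤ) : Bˣ) : B) := by
      rw [hc, mul_assoc, ← Units.val_mul, ← zpow_add]
      simp
    rw [h1, map_mul, map_pow, ← hu, zpow_natCast, Units.val_pow_eq_pow_val, mul_comm]
  · rintro ⟨c, rfl⟩
    refine ⟨c, ?_⟩
    rw [map_mul, map_pow, ← hu, ← Units.val_pow_eq_pow_val, ← zpow_natCast, mul_comm,
      ← mul_assoc, ← Units.val_mul, ← zpow_add]
    simp

theorem mul_zpow_natCast_mem_range (u : Bˣ) (hu : (u : B) = algebraMap A B π)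
    (a : A) (t : ℕ) :
    algebraMap A B a * ((u ^ (t : ℤ) : Bˣ) : B) ∈ (algebraMap A B).range := by
  refine ⟨a * π ^ t, ?_⟩
  rw [map_mul, map_pow, ← hu, zpow_natCast, Units.val_pow_eq_pow_val]

/-- `π^{kN} ∣ a^N → π^k ∣ a` for a prime `π`. -/
theorem pow_dvd_of_pow_mul_dvd_pow (hπ : Prime π) (a : A) (k N : ℕ) (hN : N ≠ 0)
    (h : π ^ (k * N) ∣ a ^ N) : π ^ k ∣ a := by
  rw [pow_dvd_iff_le_emultiplicity] at h ⊢
  rw [emultiplicity_pow hπ] at h
  cases he : emultiplicity π a with
  | top => exact le_top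
  | coe l =>
    rw [he] at h
    have h' : k * N ≤ N * l := by exact_mod_cast h
    have : k ≤ l := by
      by_contra hlt
      push_neg at hlt
      have : N * l < k * N := by
        rw [mul_comm k N]
        exact Nat.mul_lt_mul_of_pos_left hlt (Nat.pos_of_ne_zero hN)
      omega
    exact_mod_cast this

/-- root closure of `A` in `A[1/π]` for a prime `π` -/
theorem mem_range_of_pow_mem_range (hπ : Prime π) (z : B) (N : ℕ) (hN : N ≠ 0)
    (hz : z ^ N ∈ (algebraMap A B).range) : z ∈ (algebraMap A B).range := by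
  have hinj := algebraMap_injective (B := B) π hπ.ne_zero
  obtain ⟨k, a, hka⟩ := IsLocalization.Away.surj π z
  obtain ⟨a', ha'⟩ := hz
  have h1 : a' * π ^ (k * N) = a ^ N := by
    apply hinj
    rw [map_mul, map_pow, map_pow, ha', ← hka, mul_pow, ← pow_mul]
  have h3 : π ^ k ∣ a := pow_dvd_of_pow_mul_dvd_pow π hπ a k N hN ⟨a', by rw [← h1, mul_comm]⟩
  obtain ⟨a'', rfl⟩ := h3
  refine ⟨a'', ?_⟩
  have hu : IsUnit (algebraMap A B π ^ k) :=
    (IsLocalization.Away.algebraMap_isUnit π).pow k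
  apply hu.mul_left_injective
  show algebraMap A B a'' * algebraMap A B π ^ k = z * algebraMap A B π ^ k
  rw [hka, map_mul, map_pow, mul_comm]

/-- strictness: if `b^q u^{-k} ∈ A` and `q ∤ k` then `b^q u^{-k-1} ∈ A`. -/
theorem strict_of_not_dvd (hπ : Prime π) (u : Bˣ) (hu : (u : B) = algebraMap A B π)
    (b : B) (q : ℕ) (hq : q ≠ 0) (k : ℤ) (hk : ¬ (q : ℤ) ∣ k)
    (h : b ^ q * ((u ^ (-k) : Bˣ) : B) ∈ (algebraMap A B).range) :
    b ^ q * ((u ^ (-k - 1) : Bˣ) : B) ∈ (algebraMap A B).range := by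
  obtain ⟨r, a, hra⟩ := IsLocalization.Away.surj π b
  have hb : b = algebraMap A B a * ((u ^ (-(r : ℤ)) : Bˣ) : B) := by
    rw [← hra, ← hu, ← Units.val_pow_eq_pow_val, ← zpow_natCast, mul_assoc,
      ← Units.val_mul, ← zpow_add]
    simp
  have hbq : ∀ l : ℤ, b ^ q * ((u ^ l : Bˣ) : B) =
      algebraMap A B (a ^ q) * ((u ^ (-(r : ℤ) * q + l) : Bˣ) : B) := by
    intro l
    rw [hb, mul_pow, ← Units.val_pow_eq_pow_val, ← zpow_natCast, ← zpow_mul, mul_assoc,
      ← Units.val_mul, ← zpow_add, map_pow]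
  rw [hbq] at h ⊢
  set e : ℤ := -(r : ℤ) * q + -k with he
  have hqe : ¬ (q : ℤ) ∣ e := by
    intro hd
    apply hk
    have : (q : ℤ) ∣ -(r : ℤ) * q := Dvd.intro_left _ rfl
    have h2 := (Int.dvd_add_right this).mp hd
    exact (Int.dvd_neg).mp h2
  have he1 : -(r : ℤ) * q + (-k - 1) = e - 1 := by rw [he]; ring
  rw [he1]
  rcases le_or_gt 0 e with h0 | h0
  · have h1 : 1 ≤ e := by
      rcases h0.eq_or_lt with h | h
      · exact absurd (h ▸ dvd_zero _) hqe
      · omega
    obtain ⟨t, ht⟩ := Int.eq_ofNat_of_zero_le (by omega : 0 ≤ e - 1)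
    rw [ht]
    exact mul_zpow_natCast_mem_range π u hu _ t
  · obtain ⟨t, ht⟩ := Int.eq_ofNat_of_zero_le (by omega : 0 ≤ -e)
    have het : e = -(t : ℤ) := by omega
    have het1 : e - 1 = -((t + 1 : ℕ) : ℤ) := by push_cast; omega
    rw [het] at h
    rw [het1]
    rw [mul_zpow_neg_mem_range_iff π hπ.ne_zero u hu] at h ⊢
    rw [pow_dvd_iff_le_emultiplicity, emultiplicity_pow hπ] at h ⊢
    cases hem : emultiplicity π a with
    | top =>
      rw [ENat.mul_top (by exact_mod_cast hq)]
      exact le_top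
    | coe l =>
      rw [hem] at h
      have h' : t ≤ q * l := by exact_mod_cast h
      have hne : t ≠ q * l := by
        intro heq
        apply hqe
        rw [het, heq]
        push_cast
        exact (Int.dvd_neg).mpr (Dvd.intro _ rfl)
      have : t + 1 ≤ q * l := by omega
      exact_mod_cast this

end Away

section Sub

open MvPolynomial

variable (p : ℕ) [Fact p.Prime] {A B : Type*} [CommRing A] [CommRing B] [Algebra A B] [CharP B p]

/-- subgroup property of the filtered pieces, given root closure -/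
theorem sub_mem_fil
    (hroot : ∀ (z : B) (N : ℕ), N ≠ 0 → z ^ N ∈ (algebraMap A B).range →
      z ∈ (algebraMap A B).range) (c : B) (m : ℕ)
    (a b : TruncatedWittVector p m B) (ha : a ∈ WittFil.fil p m (A := A) c)
    (hb : b ∈ WittFil.fil p m (A := A) c) :
    a - b ∈ WittFil.fil p m (A := A) c := by
  classical
  let E : Multiplicative ℕ →* B := powersHom B c
  have hE : ∀ t : ℕ, E (Multiplicative.ofAdd t) = c ^ t := fun t => by
    simp [E, powersHom]
  have hΦ : ∀ k, MvPolynomial.IsWeightedHomogeneous (fun i : Fin 2 × ℕ => p ^ i.2)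
      (wittStructureInt p (MvPolynomial.X (0 : Fin 2) - MvPolynomial.X 1) k) (p ^ k • 1) := by
    intro k
    apply Groth.Agent.Helper9.wittStructureInt_isWeightedHomogeneous'
    intro l
    rw [map_sub, MvPolynomial.bind₁_X_right, MvPolynomial.bind₁_X_right]
    exact (Groth.Agent.Helper9.rename_wittPolynomial_isWeightedHomogeneous' p _ 0 1
      (fun i => by simp) l).sub
      (Groth.Agent.Helper9.rename_wittPolynomial_isWeightedHomogeneous' p _ 1 1
      (fun i => by simp) l)
  have hout : ∀ (z : TruncatedWittVector p m B) (i : ℕ),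
      z.out.coeff i = if h : i < m then z.coeff ⟨i, h⟩ else 0 := fun z i => rfl
  have hmem : ∀ z : TruncatedWittVector p m B, z ∈ WittFil.fil p m (A := A) c →
      ∀ i, z.out.coeff i ∈ Groth.Agent.Helper9.filSub (A := A) p E (m - 1) (p ^ i) := by
    intro z hz i
    rw [Groth.Agent.Helper9.mem_filSub, hE, hout]
    by_cases hi : i < m
    · rw [dif_pos hi]
      have h := hz ⟨i, hi⟩
      have e : z.coeff ⟨i, hi⟩ ^ p ^ (m - 1) * c ^ p ^ i =
          (z.coeff ⟨i, hi⟩ ^ p ^ (m - 1 - i) * c) ^ p ^ i := by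
        rw [mul_pow, ← pow_mul, ← pow_add]
        congr 3
        omega
      rw [e]
      exact pow_mem h _
    · rw [dif_neg hi, zero_pow (pow_ne_zero _ (Fact.out : p.Prime).ne_zero), zero_mul]
      exact zero_mem _
  intro j
  have hab : a - b = WittVector.truncate m (a.out - b.out) := by
    rw [map_sub]
    congr 1
    · exact (TruncatedWittVector.truncateFun_out a).symm
    · exact (TruncatedWittVector.truncateFun_out b).symm
  have key := Groth.Agent.Helper9.peval_wittStructureInt_mem (A := A) p hroot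
    (MvPolynomial.X (0 : Fin 2) - MvPolynomial.X 1) (fun i : Fin 2 × ℕ => p ^ i.2) 1 hΦ E m
    a.out b.out (hmem a ha) (hmem b hb) (j : ℕ) j.2
  rw [hE, pow_one] at key
  rw [hab, WittVector.coeff_truncate, WittVector.sub_coeff]
  exact key

omit [CharP B p] in
theorem zero_mem_fil (c : B) (m : ℕ) :
    (0 : TruncatedWittVector p m B) ∈ WittFil.fil p m (A := A) c := by
  intro j
  rw [TruncatedWittVector.coeff_zero, zero_pow (pow_ne_zero _ (Fact.out : p.Prime).ne_zero),
    zero_mul]
  exact zero_mem _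

theorem add_mem_fil
    (hroot : ∀ (z : B) (N : ℕ), N ≠ 0 → z ^ N ∈ (algebraMap A B).range →
      z ∈ (algebraMap A B).range) (c : B) (m : ℕ)
    (a b : TruncatedWittVector p m B) (ha : a ∈ WittFil.fil p m (A := A) c)
    (hb : b ∈ WittFil.fil p m (A := A) c) :
    a + b ∈ WittFil.fil p m (A := A) c := by
  have h0 := sub_mem_fil p hroot c m 0 b (zero_mem_fil p c m) hb
  have := sub_mem_fil p hroot c m a (0 - b) ha h0
  rwa [zero_sub, sub_neg_eq_add] at this

end Sub

end Groth.Agent.Helper2.WittGr
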