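import Mathlib
import Groth.Agent.Helper2.WittGr1

/-!
# Graded pieces of the filtration on truncated Witt vectors of `S((π))` (helper2)
-/

set_option autoImplicit false
universe u

namespace Groth.Agent.Helper2.WittGr

open WittVector

section Main

variable (p : ℕ) [Fact p.Prime] {S B : Type u} [CommRing S] [IsDomain S] [CharP S p] [CommRing B]
  [Algebra (PowerSeries S) B] [Algebra S B] [IsScalarTower S (PowerSeries S) B]
  [IsLocalization.Away (PowerSeries.X : PowerSeries S) B] (u : Bˣ)

/-- `u^k` as an element of `B` -/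
def U (k : ℤ) : B := ((u ^ k : Bˣ) : B)

omit [IsDomain S] [Algebra (PowerSeries S) B] [Algebra S B] [IsScalarTower S (PowerSeries S) B]
  [IsLocalization.Away (PowerSeries.X : PowerSeries S) B] [CommRing S] in
theorem U_add (a b : ℤ) : U u (a + b) = U u a * U u b := by
  unfold U; rw [zpow_add, Units.val_mul]

omit [IsDomain S] [Algebra (PowerSeries S) B] [Algebra S B] [IsScalarTower S (PowerSeries S) B]
  [IsLocalization.Away (PowerSeries.X : PowerSeries S) B] [CommRing S] in
theorem U_pow (a : ℤ) (n : ℕ) : U u a ^ n = U u (a * n) := by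
  unfold U; rw [← Units.val_pow_eq_pow_val, ← zpow_natCast, ← zpow_mul]

omit [IsDomain S] [Algebra (PowerSeries S) B] [Algebra S B] [IsScalarTower S (PowerSeries S) B]
  [IsLocalization.Away (PowerSeries.X : PowerSeries S) B] [CommRing S] in
theorem U_zero : U u 0 = 1 := by simp [U]

omit [IsDomain S] [Algebra (PowerSeries S) B] [Algebra S B] [IsScalarTower S (PowerSeries S) B]
  [IsLocalization.Away (PowerSeries.X : PowerSeries S) B] [CommRing S] in
theorem U_one : U u 1 = (u : B) := by simp [U]

include S in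
theorem charP_B : CharP B p := by
  have hinj : Function.Injective (algebraMap S B) := by
    rw [IsScalarTower.algebraMap_eq S (PowerSeries S) B]
    exact (algebraMap_injective (B := B) (PowerSeries.X : PowerSeries S)
      PowerSeries.X_ne_zero).comp PowerSeries.C_injective
  exact charP_of_injective_algebraMap hinj p

theorem hroot (z : B) (N : ℕ) (hN : N ≠ 0)
    (hz : z ^ N ∈ (algebraMap (PowerSeries S) B).range) :
    z ∈ (algebraMap (PowerSeries S) B).range :=
  mem_range_of_pow_mem_range (PowerSeries.X : PowerSeries S) PowerSeries.X_prime z N hN hz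

/-- the filtration condition on an untruncated Witt vector -/
def Fil (m : ℕ) (k : ℤ) (x : WittVector p B) : Prop :=
  ∀ j < m, x.coeff j ^ p ^ (m - 1 - j) * U u k ∈ (algebraMap (PowerSeries S) B).range

theorem fil_iff (m : ℕ) (k : ℤ) (x : WittVector p B) :
    WittVector.truncate m x ∈ WittFil.fil p m (A := PowerSeries S) ((u ^ k : Bˣ) : B) ↔
      Fil (S := S) p u m k x := by
  constructor
  · intro h j hj
    have := h ⟨j, hj⟩
    rwa [WittVector.coeff_truncate] at this
  · intro h j
    rw [WittVector.coeff_truncate]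
    exact h j j.2

theorem Fil_sub (m : ℕ) (k : ℤ) (x y : WittVector p B) (hx : Fil (S := S) p u m k x)
    (hy : Fil (S := S) p u m k y) : Fil (S := S) p u m k (x - y) := by
  haveI := charP_B (S := S) (B := B) p
  rw [← fil_iff] at hx hy ⊢
  rw [map_sub]
  exact sub_mem_fil p (hroot (S := S)) _ m _ _ hx hy

theorem Fil_add (m : ℕ) (k : ℤ) (x y : WittVector p B) (hx : Fil (S := S) p u m k x)
    (hy : Fil (S := S) p u m k y) : Fil (S := S) p u m k (x + y) := by
  haveI := charP_B (S := S) (B := B) p
  rw [← fil_iff] at hx hy ⊢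
  rw [map_add]
  exact add_mem_fil p (hroot (S := S)) _ m _ _ hx hy

theorem Fil_congr (m : ℕ) (k : ℤ) (x y : WittVector p B)
    (h : ∀ j < m, x.coeff j = y.coeff j) (hx : Fil (S := S) p u m k x) :
    Fil (S := S) p u m k y := by
  intro j hj
  rw [← h j hj]
  exact hx j hj

/-- the untruncated version of `vShiftTeich` -/
noncomputable def fullPhi (s : ℕ) (v : B) (c : WittVector p S) : WittVector p B :=
  (WittVector.verschiebung)^[s]
    (WittVector.map (algebraMap S B) c * WittVector.teichmuller p v)

omit [IsDomain S] [CharP S p] [Algebra (PowerSeries S) B] [IsScalarTower S (PowerSeries S) B]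
  [IsLocalization.Away (PowerSeries.X : PowerSeries S) B] in
theorem vShiftTeich_eq (m s : ℕ) (v : B) (c : WittVector p S) :
    WittFil.vShiftTeich p m s v c = WittVector.truncate m (fullPhi p s v c) := rfl

omit [IsDomain S] [CharP S p] [Algebra (PowerSeries S) B] [IsScalarTower S (PowerSeries S) B]
  [IsLocalization.Away (PowerSeries.X : PowerSeries S) B] in
theorem fullPhi_coeff_lt (s : ℕ) (v : B) (c : WittVector p S) (j : ℕ) (h : j < s) :
    (fullPhi p s v c).coeff j = 0 :=
  iterate_verschiebung_coeff_eq_zero _ h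

omit [IsDomain S] [CharP S p] [Algebra (PowerSeries S) B] [IsScalarTower S (PowerSeries S) B]
  [IsLocalization.Away (PowerSeries.X : PowerSeries S) B] in
theorem fullPhi_coeff_ge (s : ℕ) (v : B) (c : WittVector p S) (k : ℕ) :
    (fullPhi p s v c).coeff (k + s) = algebraMap S B (c.coeff k) * v ^ p ^ k := by
  unfold fullPhi
  rw [iterate_verschiebung_coeff, Groth.Agent.Helper9.mul_teichmuller_coeff,
    WittVector.map_coeff]

omit [IsDomain S] [CharP S p] [Algebra (PowerSeries S) B] [IsScalarTower S (PowerSeries S) B]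
  [IsLocalization.Away (PowerSeries.X : PowerSeries S) B] in
theorem fullPhi_succ (s : ℕ) (v : B) (c : WittVector p S) :
    fullPhi p (s + 1) v c = WittVector.verschiebung (fullPhi p s v c) := by
  unfold fullPhi
  rw [Function.iterate_succ_apply']

omit [IsDomain S] [Algebra (PowerSeries S) B] [Algebra S B] [IsScalarTower S (PowerSeries S) B]
  [IsLocalization.Away (PowerSeries.X : PowerSeries S) B] [CommRing S] [CharP S p] in
/-- the key exponent computation -/
theorem pow_key (i : ℤ) (k e M : ℕ) (h : k + e = M) (l : ℤ) :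
    ((U u i) ^ p ^ k) ^ p ^ e * U u (-((p : ℤ) ^ M * i) + l) = U u l := by
  rw [← pow_mul, ← pow_add, h, U_pow, ← U_add]
  congr 1
  push_cast
  ring

theorem algebraMap_S_pow_mem (a : S) (q : ℕ) :
    algebraMap S B a ^ q ∈ (algebraMap (PowerSeries S) B).range :=
  ⟨algebraMap S (PowerSeries S) a ^ q, by
    rw [map_pow, ← IsScalarTower.algebraMap_apply]⟩

/-- part (1) -/
theorem part1 (m s : ℕ) (hs : s < m) (i : ℤ) (c : WittVector p S) :
    Fil (S := S) p u m (-((p : ℤ) ^ (m - 1 - s) * i)) (fullPhi p s (U u i) c) := by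
  intro j hj
  by_cases hjs : j < s
  · rw [fullPhi_coeff_lt p s _ c j hjs, zero_pow (pow_ne_zero _ (Fact.out : p.Prime).ne_zero),
      zero_mul]
    exact zero_mem _
  · obtain ⟨k, rfl⟩ : ∃ k, j = k + s := ⟨j - s, by omega⟩
    rw [fullPhi_coeff_ge, mul_pow, mul_assoc]
    have := pow_key p u i k (m - 1 - (k + s)) (m - 1 - s) (by omega) 0
    rw [add_zero, U_zero] at this
    rw [this, mul_one]
    exact algebraMap_S_pow_mem (c.coeff k) _


variable (hu : (u : B) = algebraMap (PowerSeries S) B PowerSeries.X)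

include hu in
/-- part (2) -/
theorem part2 (m s : ℕ) (hs : s < m) (i : ℤ) (c : WittVector p S) :
    Fil (S := S) p u m (-((p : ℤ) ^ (m - 1 - s) * i) - 1) (fullPhi p s (U u i) c) ↔
      WittVector.truncate (m - s) c = 0 := by
  have hp0 : p ≠ 0 := (Fact.out : p.Prime).ne_zero
  constructor
  · intro h
    ext k
    rw [WittVector.coeff_truncate, TruncatedWittVector.coeff_zero]
    have hk := k.2
    have h1 := h ((k : ℕ) + s) (by omega)
    rw [fullPhi_coeff_ge, mul_pow, mul_assoc, sub_eq_add_neg] at h1
    have := pow_key p u i k (m - 1 - ((k : ℕ) + s)) (m - 1 - s) (by omega) (-1)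
    rw [this] at h1
    have h2 : algebraMap S B (c.coeff k) ^ p ^ (m - 1 - ((k : ℕ) + s)) * U u (-1) =
        algebraMap (PowerSeries S) B
          (algebraMap S (PowerSeries S) (c.coeff k ^ p ^ (m - 1 - ((k : ℕ) + s)))) *
          ((u ^ (-((1 : ℕ) : ℤ)) : Bˣ) : B) := by
      rw [← IsScalarTower.algebraMap_apply, map_pow]
      rfl
    rw [h2, mul_zpow_neg_mem_range_iff (PowerSeries.X : PowerSeries S) PowerSeries.X_ne_zero u hu,
      pow_one, PowerSeries.X_dvd_iff, PowerSeries.algebraMap_eq,
      PowerSeries.constantCoeff_C] at h1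
    exact pow_eq_zero_iff (pow_ne_zero _ hp0) |>.mp h1
  · intro h j hj
    by_cases hjs : j < s
    · rw [fullPhi_coeff_lt p s _ c j hjs, zero_pow (pow_ne_zero _ hp0), zero_mul]
      exact zero_mem _
    · obtain ⟨k, rfl⟩ : ∃ k, j = k + s := ⟨j - s, by omega⟩
      have hk : k < m - s := by omega
      have h0 : c.coeff k = 0 := by
        have := congrArg (fun w => TruncatedWittVector.coeff ⟨k, hk⟩ w) h
        simpa [WittVector.coeff_truncate, TruncatedWittVector.coeff_zero] using this
      rw [fullPhi_coeff_ge, h0, map_zero, zero_mul, zero_pow (pow_ne_zero _ hp0), zero_mul]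
      exact zero_mem _

omit [IsDomain S] [CharP S p] [Algebra S B] [IsScalarTower S (PowerSeries S) B]
  [IsLocalization.Away (PowerSeries.X : PowerSeries S) B] in
theorem Fil_teich (m : ℕ) (k : ℤ) (t : B)
    (h : t ^ p ^ (m - 1 - 0) * U u k ∈ (algebraMap (PowerSeries S) B).range) :
    Fil (S := S) p u m k (WittVector.teichmuller p t) := by
  intro j hj
  rcases Nat.eq_zero_or_pos j with rfl | hj0
  · rw [WittVector.teichmuller_coeff_zero]
    exact h
  · rw [WittVector.teichmuller_coeff_pos p t j hj0,
      zero_pow (pow_ne_zero _ (Fact.out : p.Prime).ne_zero), zero_mul]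
    exact zero_mem _

omit [IsDomain S] [CharP S p] [Algebra S B] [IsScalarTower S (PowerSeries S) B]
  [IsLocalization.Away (PowerSeries.X : PowerSeries S) B] in
theorem Fil_V (m : ℕ) (k : ℤ) (w : WittVector p B) (h : Fil (S := S) p u m k w) :
    Fil (S := S) p u (m + 1) k (WittVector.verschiebung w) := by
  intro j hj
  cases j with
  | zero =>
    rw [WittVector.verschiebung_coeff_zero,
      zero_pow (pow_ne_zero _ (Fact.out : p.Prime).ne_zero), zero_mul]
    exact zero_mem _
  | succ j =>
    rw [WittVector.verschiebung_coeff_succ]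
    have e : m + 1 - 1 - (j + 1) = m - 1 - j := by omega
    rw [e]
    exact h j (by omega)

include hu in
/-- part (3), case `s = 0` -/
theorem part3_zero (m : ℕ) (i : ℤ) (x : WittVector p B)
    (hx : Fil (S := S) p u m (-((p : ℤ) ^ (m - 1) * i)) x) :
    ∃ c : WittVector p S,
      Fil (S := S) p u m (-((p : ℤ) ^ (m - 1) * i) - 1) (x - fullPhi p 0 (U u i) c) := by
  classical
  have hp0 : p ≠ 0 := (Fact.out : p.Prime).ne_zero
  have h1 : ∀ j, ∃ a : PowerSeries S, j < m →
      algebraMap (PowerSeries S) B a = x.coeff j * U u (-(i * (p : ℤ) ^ j)) := by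
    intro j
    by_cases hj : j < m
    · have h := hx j hj
      have h2 : (x.coeff j * U u (-(i * (p : ℤ) ^ j))) ^ p ^ (m - 1 - j) ∈
          (algebraMap (PowerSeries S) B).range := by
        rw [mul_pow, U_pow]
        have e : -(i * (p : ℤ) ^ j) * ((p ^ (m - 1 - j) : ℕ) : ℤ) = -((p : ℤ) ^ (m - 1) * i) := by
          have : (p : ℤ) ^ j * (p : ℤ) ^ (m - 1 - j) = (p : ℤ) ^ (m - 1) := by
            rw [← pow_add]; congr 1; omega
          push_cast
          rw [← this]; ring
        rw [e]
        exact h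
      obtain ⟨a, ha⟩ := hroot (S := S) _ _ (pow_ne_zero _ hp0) h2
      exact ⟨a, fun _ => ha⟩
    · exact ⟨0, fun h => absurd h hj⟩
  choose a ha using h1
  set At : WittVector p (PowerSeries S) := WittVector.mk p a with hAt
  set c : WittVector p S := WittVector.map (PowerSeries.constantCoeff (R := S)) At with hc
  set D : WittVector p (PowerSeries S) :=
    At - WittVector.map (algebraMap S (PowerSeries S)) c with hD
  have hD0 : ∀ j, PowerSeries.constantCoeff (D.coeff j) = 0 := by
    intro j
    have h0 : WittVector.map (PowerSeries.constantCoeff (R := S)) D = 0 := by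
      rw [hD, map_sub]
      have : WittVector.map (PowerSeries.constantCoeff (R := S))
          (WittVector.map (algebraMap S (PowerSeries S)) c) = c := by
        ext n
        simp [WittVector.map_coeff]
      rw [this, ← hc, sub_self]
    have := congrArg (fun w => w.coeff j) h0
    simpa [WittVector.map_coeff] using this
  refine ⟨c, ?_⟩
  set x' : WittVector p B :=
    WittVector.teichmuller p (U u i) * WittVector.map (algebraMap (PowerSeries S) B) At with hx'
  have hxx' : ∀ j < m, x.coeff j = x'.coeff j := by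
    intro j hj
    rw [hx', Groth.Agent.Helper9.teichmuller_mul_coeff, WittVector.map_coeff, hAt,
      WittVector.coeff_mk, ha j hj, U_pow, mul_comm, mul_assoc, ← U_add]
    have : -(i * (p : ℤ) ^ j) + i * ((p ^ j : ℕ) : ℤ) = 0 := by push_cast; ring
    rw [this, U_zero, mul_one]
  have hphi : fullPhi p 0 (U u i) c = WittVector.teichmuller p (U u i) *
      WittVector.map (algebraMap (PowerSeries S) B)
        (WittVector.map (algebraMap S (PowerSeries S)) c) := by
    unfold fullPhi
    rw [Function.iterate_zero, id, mul_comm]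
    congr 1
    ext n
    simp only [WittVector.map_coeff]
    rw [← IsScalarTower.algebraMap_apply]
  have hdiff : x' - fullPhi p 0 (U u i) c = WittVector.teichmuller p (U u i) *
      WittVector.map (algebraMap (PowerSeries S) B) D := by
    rw [hphi, hx', hD, map_sub, mul_sub]
  have hfinal : Fil (S := S) p u m (-((p : ℤ) ^ (m - 1) * i) - 1)
      (x' - fullPhi p 0 (U u i) c) := by
    rw [hdiff]
    intro j hj
    rw [Groth.Agent.Helper9.teichmuller_mul_coeff, WittVector.map_coeff]
    obtain ⟨e, he⟩ := PowerSeries.X_dvd_iff.mpr (hD0 j)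
    rw [he, map_mul, ← hu, ← U_one]
    set q := p ^ (m - 1 - j) with hq
    have hq1 : 1 ≤ q := Nat.one_le_pow _ _ (Nat.pos_of_ne_zero hp0)
    have e1 : (U u i ^ p ^ j * (U u 1 * algebraMap (PowerSeries S) B e)) ^ q *
        U u (-((p : ℤ) ^ (m - 1) * i) - 1) =
        algebraMap (PowerSeries S) B (e ^ q) * ((u ^ ((q - 1 : ℕ) : ℤ) : Bˣ) : B) := by
      rw [mul_pow, mul_pow, U_pow, U_pow, U_pow, map_pow]
      have : algebraMap (PowerSeries S) B e ^ q * ((u ^ ((q - 1 : ℕ) : ℤ) : Bˣ) : B) =
          algebraMap (PowerSeries S) B e ^ q * U u ((q - 1 : ℕ) : ℤ) := rfl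
      rw [this]
      have e2 : U u ((q - 1 : ℕ) : ℤ) = U u (i * ((p ^ j : ℕ) : ℤ) * (q : ℤ)) *
          U u (1 * (q : ℤ)) * U u (-((p : ℤ) ^ (m - 1) * i) - 1) := by
        rw [← U_add, ← U_add]
        congr 1
        have h3 : (p : ℤ) ^ j * (q : ℤ) = (p : ℤ) ^ (m - 1) := by
          rw [hq]; push_cast; rw [← pow_add]; congr 1; omega
        push_cast [Nat.cast_sub hq1]
        linear_combination (-i) * h3
      rw [e2]
      ring
    rw [e1]
    exact mul_zpow_natCast_mem_range (PowerSeries.X : PowerSeries S) u hu _ _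
  intro j hj
  have hco : (x - fullPhi p 0 (U u i) c).coeff j = (x' - fullPhi p 0 (U u i) c).coeff j := by
    have ht : WittVector.truncate m x = WittVector.truncate m x' := by
      ext k
      rw [WittVector.coeff_truncate, WittVector.coeff_truncate]
      exact hxx' k k.2
    have h2 : WittVector.truncate m (x - fullPhi p 0 (U u i) c) =
        WittVector.truncate m (x' - fullPhi p 0 (U u i) c) := by
      rw [map_sub, map_sub, ht]
    have h3 : TruncatedWittVector.coeff ⟨j, hj⟩
        (WittVector.truncate m (x - fullPhi p 0 (U u i) c)) =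
        TruncatedWittVector.coeff ⟨j, hj⟩
        (WittVector.truncate m (x' - fullPhi p 0 (U u i) c)) := by rw [h2]
    rw [WittVector.coeff_truncate, WittVector.coeff_truncate] at h3
    exact h3
  rw [hco]
  exact hfinal j hj

include hu in
/-- part (3) -/
theorem part3 : ∀ (s m : ℕ) (_ : s < m) (i : ℤ) (_ : s = 0 ∨ ¬ ((p : ℤ) ∣ i))
    (x : WittVector p B) (_ : Fil (S := S) p u m (-((p : ℤ) ^ (m - 1 - s) * i)) x),
    ∃ c : WittVector p S,
      Fil (S := S) p u m (-((p : ℤ) ^ (m - 1 - s) * i) - 1) (x - fullPhi p s (U u i) c) := by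
  intro s
  induction s with
  | zero =>
    intro m _ i _ x hx
    rw [Nat.sub_zero] at hx ⊢
    exact part3_zero p u hu m i x hx
  | succ s ih =>
    intro m hs i hsi x hx
    have hp0 : p ≠ 0 := (Fact.out : p.Prime).ne_zero
    have hpi : ¬ ((p : ℤ) ∣ i) := by
      rcases hsi with h | h
      · omega
      · exact h
    obtain ⟨m', rfl⟩ : ∃ m', m = m' + 1 := ⟨m - 1, by omega⟩
    have hexp : m' + 1 - 1 - (s + 1) = m' - 1 - s := by omega
    rw [hexp] at hx ⊢
    set N : ℤ := (p : ℤ) ^ (m' - 1 - s) * i with hN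
    -- the zeroth coordinate
    have h0 := hx 0 (by omega)
    have hnd : ¬ (((p ^ (m' + 1 - 1 - 0) : ℕ) : ℤ) ∣ N) := by
      intro hd
      apply hpi
      have e : ((p ^ (m' + 1 - 1 - 0) : ℕ) : ℤ) = (p : ℤ) ^ (m' - 1 - s) * (p : ℤ) ^ (s + 1) := by
        push_cast
        rw [← pow_add]; congr 1; omega
      rw [e, hN] at hd
      have h2 : (p : ℤ) ^ (s + 1) ∣ i :=
        (mul_dvd_mul_iff_left (pow_ne_zero _ (by exact_mod_cast hp0))).mp hd
      exact (dvd_pow_self (p : ℤ) (Nat.succ_ne_zero s)).trans h2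
    have h0' : x.coeff 0 ^ p ^ (m' + 1 - 1 - 0) * U u (-N - 1) ∈
        (algebraMap (PowerSeries S) B).range :=
      strict_of_not_dvd (PowerSeries.X : PowerSeries S) PowerSeries.X_prime u hu (x.coeff 0)
        (p ^ (m' + 1 - 1 - 0)) (pow_ne_zero _ hp0) N hnd h0
    set b' : WittVector p B := WittVector.teichmuller p (x.coeff 0) with hb'
    have hb1 : Fil (S := S) p u (m' + 1) (-N) b' := Fil_teich p u (m' + 1) (-N) _ h0
    have hb2 : Fil (S := S) p u (m' + 1) (-N - 1) b' := Fil_teich p u (m' + 1) (-N - 1) _ h0'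
    have hd : Fil (S := S) p u (m' + 1) (-N) (x - b') := Fil_sub p u _ _ _ _ hx hb1
    have hd0 : (x - b').coeff 0 = 0 := by
      have h1 : x.coeff 0 = (x - b').coeff 0 + b'.coeff 0 := by
        rw [← WittVector.add_coeff_zero, sub_add_cancel]
      rw [hb', WittVector.teichmuller_coeff_zero] at h1
      exact (add_eq_right.mp h1.symm)
    set y' : WittVector p B := (x - b').shift 1 with hy'
    have hV : WittVector.verschiebung y' = x - b' := by
      rw [hy', WittVector.verschiebung_shift (x - b') 0 (fun i hi => by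
        have : i = 0 := by omega
        rw [this]; exact hd0)]
      ext k
      rw [WittVector.shift_coeff, zero_add]
    have hy'fil : Fil (S := S) p u m' (-N) y' := by
      intro j hj
      rw [hy', WittVector.shift_coeff]
      have h := hd (1 + j) (by omega)
      have e : m' + 1 - 1 - (1 + j) = m' - 1 - j := by omega
      rw [e] at h
      exact h
    obtain ⟨c, hc⟩ := ih m' (by omega) i (Or.inr hpi) y' hy'fil
    refine ⟨c, ?_⟩
    have hfin : x - fullPhi p (s + 1) (U u i) c =
        b' + WittVector.verschiebung (y' - fullPhi p s (U u i) c) := by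
      rw [fullPhi_succ, map_sub, hV]
      ring
    rw [hfin]
    exact Fil_add p u _ _ _ _ hb2 (Fil_V p u m' _ _ hc)

include hu in
theorem main (m s : ℕ) (hs : s < m) (i : ℤ) (hsi : s = 0 ∨ ¬ ((p : ℤ) ∣ i)) :
    (∀ c : WittVector p S,
        WittFil.vShiftTeich p m s ((u ^ i : Bˣ) : B) c ∈
          WittFil.fil p m (A := PowerSeries S) ((u ^ (-((p : ℤ) ^ (m - 1 - s) * i)) : Bˣ) : B)) ∧
      (∀ c : WittVector p S,
        WittFil.vShiftTeich p m s ((u ^ i : Bˣ) : B) c ∈
            WittFil.fil p m (A := PowerSeries S)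
              ((u ^ (-((p : ℤ) ^ (m - 1 - s) * i) - 1) : Bˣ) : B) ↔
          WittVector.truncate (m - s) c = 0) ∧
      (∀ y ∈ WittFil.fil p m (A := PowerSeries S)
          ((u ^ (-((p : ℤ) ^ (m - 1 - s) * i)) : Bˣ) : B),
        ∃ c : WittVector p S,
          y - WittFil.vShiftTeich p m s ((u ^ i : Bˣ) : B) c ∈
            WittFil.fil p m (A := PowerSeries S)
              ((u ^ (-((p : ℤ) ^ (m - 1 - s) * i) - 1) : Bˣ) : B)) := by
  refine ⟨fun c => ?_, fun c => ?_, fun y hy => ?_⟩
  · rw [vShiftTeich_eq, fil_iff]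
    exact part1 p u m s hs i c
  · rw [vShiftTeich_eq, fil_iff]
    exact part2 p u hu m s hs i c
  · have hy' : WittVector.truncate m y.out = y := TruncatedWittVector.truncateFun_out y
    rw [← hy', fil_iff] at hy
    obtain ⟨c, hc⟩ := part3 p u hu s m hs i hsi y.out hy
    refine ⟨c, ?_⟩
    rw [vShiftTeich_eq, ← hy', ← map_sub, fil_iff]
    exact hc

end Main

end Groth.Agent.Helper2.WittGr
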