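import Mathlib
import Groth.Prelude

set_option autoImplicit false

namespace Groth.Agent.Helper2.WittTeich

open WittVector Function

variable {p : ℕ} [hp : Fact p.Prime]
local notation "𝕎" => WittVector p

section General
variable {R : Type*} [CommRing R]

lemma eq_teich_add_V (x : 𝕎 R) :
    x = teichmuller p (x.coeff 0) + verschiebung (x.shift 1) := by
  ext k
  rw [coeff_add_of_disjoint]
  · cases k with
    | zero => simp [teichmuller_coeff_zero, verschiebung_coeff_zero]
    | succ k =>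
      rw [teichmuller_coeff_pos p _ _ (Nat.succ_pos _), verschiebung_coeff_succ, shift_coeff,
        zero_add, add_comm]
  · intro n
    cases n with
    | zero => right; exact verschiebung_coeff_zero _
    | succ n => left; exact teichmuller_coeff_pos p _ _ (Nat.succ_pos _)

lemma iterV_add (n : ℕ) (x y : 𝕎 R) :
    (verschiebung : 𝕎 R →+ 𝕎 R)^[n] (x + y) =
      (verschiebung : 𝕎 R →+ 𝕎 R)^[n] x + (verschiebung : 𝕎 R →+ 𝕎 R)^[n] y :=
  iterate_map_add _ n x y

lemma iterV_sub (n : ℕ) (x y : 𝕎 R) :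
    (verschiebung : 𝕎 R →+ 𝕎 R)^[n] (x - y) =
      (verschiebung : 𝕎 R →+ 𝕎 R)^[n] x - (verschiebung : 𝕎 R →+ 𝕎 R)^[n] y :=
  iterate_map_sub _ n x y

lemma iterV_sum {ι : Type*} (s : Finset ι) (g : ι → 𝕎 R) (n : ℕ) :
    (verschiebung : 𝕎 R →+ 𝕎 R)^[n] (∑ i ∈ s, g i) =
      ∑ i ∈ s, (verschiebung : 𝕎 R →+ 𝕎 R)^[n] (g i) := by
  classical
  induction s using Finset.induction with
  | empty => simp [iterate_map_zero]
  | insert a s ha ih => rw [Finset.sum_insert ha, Finset.sum_insert ha, iterV_add, ih]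

lemma shift_shift_one (x : 𝕎 R) (N : ℕ) : (x.shift N).shift 1 = x.shift (N + 1) := by
  ext k
  simp only [shift_coeff]
  congr 1
  omega

lemma eq_sum_teich_add_V (x : 𝕎 R) (N : ℕ) :
    x = ∑ i ∈ Finset.range N, (verschiebung : 𝕎 R →+ 𝕎 R)^[i] (teichmuller p (x.coeff i)) +
      (verschiebung : 𝕎 R →+ 𝕎 R)^[N] (x.shift N) := by
  induction N with
  | zero =>
    simp only [Finset.range_zero, Finset.sum_empty, iterate_zero, id_eq, zero_add]
    ext k
    simp [shift_coeff]
  | succ N ih =>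
    rw [Finset.sum_range_succ, add_assoc]
    conv_lhs => rw [ih]
    congr 1
    conv_lhs => rw [eq_teich_add_V (x.shift N)]
    rw [iterV_add, shift_coeff, add_zero, shift_shift_one, iterate_succ_apply]

variable [CharP R p]

lemma iterF_teich (b : R) (m : ℕ) :
    (frobenius : 𝕎 R →+* 𝕎 R)^[m] (teichmuller p b) = teichmuller p (b ^ p ^ m) := by
  ext k
  rw [iterate_frobenius_coeff]
  cases k with
  | zero => rw [teichmuller_coeff_zero, teichmuller_coeff_zero]
  | succ k =>
    rw [teichmuller_coeff_pos p _ _ (Nat.succ_pos _), teichmuller_coeff_pos p _ _ (Nat.succ_pos _),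
      zero_pow]
    exact pow_ne_zero _ hp.out.ne_zero

lemma iterV_mul_teich (b : R) (m : ℕ) (x : 𝕎 R) :
    (verschiebung : 𝕎 R →+ 𝕎 R)^[m] x * teichmuller p b =
      (verschiebung : 𝕎 R →+ 𝕎 R)^[m] (x * teichmuller p (b ^ p ^ m)) := by
  rw [iterate_verschiebung_mul_left, iterF_teich]

lemma iterV_coeff_lt (x : 𝕎 R) {M k : ℕ} (h : k < M) :
    ((verschiebung : 𝕎 R →+ 𝕎 R)^[M] x).coeff k = 0 :=
  iterate_verschiebung_coeff_eq_zero x h

/-- two Witt vectors agreeing modulo `V^M` for all `M` are equal. -/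
lemma eq_of_forall_modV {x y : 𝕎 R}
    (h : ∀ M : ℕ, ∃ s : 𝕎 R, x - y = (verschiebung : 𝕎 R →+ 𝕎 R)^[M] s) : x = y := by
  rw [← sub_eq_zero]
  have : x - y ∈ (⊥ : Ideal (𝕎 R)) := by
    rw [← TruncatedWittVector.iInf_ker_truncate, Ideal.mem_iInf]
    intro M
    obtain ⟨s, hs⟩ := h M
    rw [mem_ker_truncate]
    intro i hi
    rw [hs]
    exact iterV_coeff_lt s hi
  simpa using this

end General


section Decomp
variable {A B : Type*} [CommRing A] [CommRing B] (f : A →+* B)

lemma exists_decomp (Z : Finset B) (hZ : ∀ b : B, ∃ α : B → A, b = ∑ z ∈ Z, f (α z) * z)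
    (η : 𝕎 B) :
    ∃ (α : ℕ → B → A) (ρ : ℕ → 𝕎 B), ∀ N,
      η = ∑ i ∈ Finset.range N, (verschiebung : 𝕎 B →+ 𝕎 B)^[i]
            (∑ z ∈ Z, teichmuller p (f (α i z) * z)) +
        (verschiebung : 𝕎 B →+ 𝕎 B)^[N] (ρ N) := by
  classical
  choose αf hαf using hZ
  let S : 𝕎 B → 𝕎 B := fun r => ∑ z ∈ Z, teichmuller p (f (αf (r.coeff 0) z) * z)
  let g : 𝕎 B → 𝕎 B := fun r => (r - S r).shift 1
  have hg : ∀ r, r = S r + verschiebung (g r) := by
    intro r
    have hS0 : (S r).coeff 0 = r.coeff 0 := by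
      have h1 : (S r).coeff 0 = constantCoeff (S r) := rfl
      rw [h1]
      simp only [S, map_sum, constantCoeff_apply, teichmuller_coeff_zero]
      exact (hαf (r.coeff 0)).symm
    have h0 : (r - S r).coeff 0 = 0 := by
      have h1 : (r - S r).coeff 0 = constantCoeff (r - S r) := rfl
      rw [h1, map_sub, constantCoeff_apply, constantCoeff_apply, hS0, sub_self]
    have h2 := eq_iterate_verschiebung (x := r - S r) (n := 1)
      (by intro i hi; interval_cases i; exact h0)
    rw [iterate_one] at h2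
    have : r = S r + (r - S r) := by ring
    conv_lhs => rw [this, h2]
  let ρ : ℕ → 𝕎 B := fun N => g^[N] η
  refine ⟨fun i => αf ((ρ i).coeff 0), ρ, ?_⟩
  intro N
  induction N with
  | zero => simp [ρ]
  | succ N ih =>
    rw [Finset.sum_range_succ, add_assoc]
    conv_lhs => rw [ih]
    congr 1
    rw [iterate_succ_apply, ← iterV_add]
    congr 1
    have : ρ (N + 1) = g (ρ N) := by
      simp only [ρ]
      rw [iterate_succ_apply']
    rw [this]
    exact hg (ρ N)

end Decomp


section Expand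
variable {B : Type*} [CommRing B] [CharP B p]

lemma expand_sum (S : ℕ → 𝕎 B) (ρ : 𝕎 B) (b : B) (n N : ℕ) :
    (verschiebung : 𝕎 B →+ 𝕎 B)^[n] (∑ i ∈ Finset.range N, (verschiebung : 𝕎 B →+ 𝕎 B)^[i] (S i) +
        (verschiebung : 𝕎 B →+ 𝕎 B)^[N] ρ) * teichmuller p b =
      ∑ i ∈ Finset.range N, (verschiebung : 𝕎 B →+ 𝕎 B)^[n + i]
          (S i * teichmuller p (b ^ p ^ (n + i))) +
        (verschiebung : 𝕎 B →+ 𝕎 B)^[n + N] (ρ * teichmuller p (b ^ p ^ (n + N))) := by
  rw [iterV_add, iterV_sum, add_mul, Finset.sum_mul]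
  congr 1
  · apply Finset.sum_congr rfl
    intro i _
    rw [← iterate_add_apply, iterV_mul_teich]
  · rw [← iterate_add_apply, iterV_mul_teich]

lemma expand_term (W : 𝕎 B) (b : B) (n N : ℕ) :
    (verschiebung : 𝕎 B →+ 𝕎 B)^[n] W * teichmuller p b =
      ∑ i ∈ Finset.range N, (verschiebung : 𝕎 B →+ 𝕎 B)^[n + i]
          (teichmuller p (W.coeff i * b ^ p ^ (n + i))) +
        (verschiebung : 𝕎 B →+ 𝕎 B)^[n + N] (W.shift N * teichmuller p (b ^ p ^ (n + N))) := by
  conv_lhs => rw [eq_sum_teich_add_V W N]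
  rw [expand_sum]
  congr 1
  apply Finset.sum_congr rfl
  intro i _
  rw [map_mul]

end Expand

lemma map_iterV {A B : Type*} [CommRing A] [CommRing B] (f : A →+* B) (n : ℕ) (x : 𝕎 A) :
    WittVector.map f ((verschiebung : 𝕎 A →+ 𝕎 A)^[n] x) =
      (verschiebung : 𝕎 B →+ 𝕎 B)^[n] (WittVector.map f x) := by
  induction n with
  | zero => rfl
  | succ n ih => rw [iterate_succ_apply', iterate_succ_apply', map_verschiebung, ih]


section Main
universe u

theorem main (p : ℕ) [hp : Fact p.Prime] (ℓ n : ℕ) (hℓ : 0 < ℓ) (hpℓ : ¬ p ∣ ℓ)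
    (A B : Type u) [CommRing A] [CommRing B] [IsDomain A] [IsDomain B] [Algebra A B]
    [CharP A p] [CharP B p] (hinj : Function.Injective (algebraMap A B))
    (y : Finset B) (hspan : Submodule.span A (y : Set B) = ⊤)
    (hpow : ∀ b ∈ y, b ^ ℓ ∈ Set.range (algebraMap A B))
    (η : WittVector p B) :
    ∃ a : A, a ≠ 0 ∧ WittVector.teichmuller p (algebraMap A B a) *
        (verschiebung : WittVector p B →+ WittVector p B)^[n] η ∈
      Ideal.span (Set.range (fun x : WittVector p A =>
        WittVector.map (algebraMap A B)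
          ((verschiebung : WittVector p A →+ WittVector p A)^[n] x))) := by
  classical
  set f := algebraMap A B with hf
  have hZ : ∀ b : B, ∃ α : B → A, b = ∑ z ∈ y, f (α z) * z := by
    intro b
    have hb : b ∈ Submodule.span A (y : Set B) := by rw [hspan]; trivial
    obtain ⟨α, -, hα⟩ := Submodule.mem_span_finset.1 hb
    refine ⟨α, ?_⟩
    rw [← hα]
    exact Finset.sum_congr rfl (fun z _ => Algebra.smul_def (α z) z)
  have hc' : ∀ z : B, ∃ c : A, z ∈ y → z ^ ℓ = f c := by
    intro z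
    by_cases h : z ∈ y
    · obtain ⟨c, hc⟩ := hpow z h
      exact ⟨c, fun _ => hc.symm⟩
    · exact ⟨0, fun h' => absurd h' h⟩
  choose c hc using hc'
  obtain ⟨α, ρ, hαρ⟩ := exists_decomp (p := p) f y hZ η
  set u := Nat.totient ℓ with hu_def
  have hu : 0 < u := Nat.totient_pos.2 hℓ
  have hcop : Nat.Coprime p ℓ := (Nat.Prime.coprime_iff_not_dvd hp.out).2 hpℓ
  have hpu : p ^ u ≡ 1 [MOD ℓ] := Nat.ModEq.pow_totient hcop
  have hq' : ∀ k : ℕ, ∃ q : ℕ, p ^ (u * k) = 1 + ℓ * q := by
    intro k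
    have h1 : p ^ (u * k) ≡ 1 [MOD ℓ] := by
      rw [pow_mul]; simpa using hpu.pow k
    have h2 : 1 ≤ p ^ (u * k) := Nat.one_le_pow _ _ hp.out.pos
    obtain ⟨q, hq⟩ := (Nat.modEq_iff_dvd' h2).1 h1.symm
    exact ⟨q, by omega⟩
  choose q hq using hq'
  let jj : ℕ → ℕ := fun m => u - m % u
  let kk : ℕ → ℕ := fun m => m / u + 1
  have hjk : ∀ m, m + jj m = u * kk m := by
    intro m
    have h1 := Nat.div_add_mod m u
    have h2 := Nat.mod_lt m hu
    simp only [jj, kk, Nat.mul_add, mul_one]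
    omega
  have hj_le : ∀ m, jj m ≤ u := fun m => Nat.sub_le _ _
  have hpowid : ∀ z ∈ y, ∀ m, (z ^ p ^ jj m) ^ p ^ m = z * f (c z) ^ q (kk m) := by
    intro z hz m
    rw [← pow_mul, ← pow_add, add_comm, hjk m, hq, pow_add, pow_one, pow_mul, hc z hz]
  set a0 : A := ∏ z ∈ y.filter (fun z => z ≠ 0), c z with ha0
  have hc_ne : ∀ z ∈ y, z ≠ 0 → c z ≠ 0 := by
    intro z hz hz0 hcz
    have := hc z hz
    rw [hcz, map_zero] at this
    exact hz0 ((pow_eq_zero_iff (hℓ.ne')).1 this)
  have ha0_ne : a0 ≠ 0 := Finset.prod_ne_zero_iff.2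
    (fun z hz => hc_ne z (Finset.mem_filter.1 hz).1 (Finset.mem_filter.1 hz).2)
  set a : A := a0 ^ p ^ u with ha
  have ha_ne : a ≠ 0 := pow_ne_zero _ ha0_ne
  have hdiv : ∀ z ∈ y, z ≠ 0 → ∀ m, c z ^ q (kk m) ∣ a ^ p ^ m := by
    intro z hz hz0 m
    have h1 : c z ∣ a0 := Finset.dvd_prod_of_mem _ (Finset.mem_filter.2 ⟨hz, hz0⟩)
    have h2 : q (kk m) ≤ p ^ u * p ^ m := by
      have h3 : q (kk m) ≤ p ^ (u * kk m) := by
        rw [hq]; nlinarith [hℓ]
      have h4 : u * kk m ≤ u + m := by have := hjk m; have := hj_le m; omega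
      calc q (kk m) ≤ p ^ (u * kk m) := h3
        _ ≤ p ^ (u + m) := Nat.pow_le_pow_right hp.out.pos h4
        _ = p ^ u * p ^ m := pow_add _ _ _
    rw [ha, ← pow_mul]
    exact (pow_dvd_pow_of_dvd h1 _).trans (pow_dvd_pow _ h2)
  have hd' : ∀ (z : B) (m : ℕ), ∃ d : A, z ∈ y → z ≠ 0 → a ^ p ^ m = c z ^ q (kk m) * d := by
    intro z m
    by_cases h : z ∈ y ∧ z ≠ 0
    · obtain ⟨d, hd⟩ := hdiv z h.1 h.2 m
      exact ⟨d, fun _ _ => hd⟩
    · exact ⟨0, fun h1 h2 => absurd ⟨h1, h2⟩ h⟩
  choose d hd using hd'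
  have hkey : ∀ z ∈ y, ∀ i : ℕ,
      f (α i z * d z (n + i)) * (z ^ p ^ jj (n + i)) ^ p ^ (n + i) =
        f (α i z) * z * f a ^ p ^ (n + i) := by
    intro z hz i
    by_cases hz0 : z = 0
    · subst hz0
      have : ((0 : B) ^ p ^ jj (n + i)) ^ p ^ (n + i) = 0 := by
        rw [← pow_mul]
        exact zero_pow (mul_ne_zero (pow_ne_zero _ hp.out.ne_zero) (pow_ne_zero _ hp.out.ne_zero))
      rw [this]; ring
    · rw [hpowid z hz, map_mul, ← map_pow f a, hd z (n + i) hz hz0, map_mul, map_pow]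
      ring
  let w : B → ℕ → WittVector p A := fun z j =>
    WittVector.mk p (fun i => if jj (n + i) = j then α i z * d z (n + i) else 0)
  refine ⟨a, ha_ne, ?_⟩
  have hclaim : teichmuller p (f a) * (verschiebung : WittVector p B →+ WittVector p B)^[n] η =
      ∑ z ∈ y, ∑ j ∈ Finset.range (u + 1),
        WittVector.map f ((verschiebung : WittVector p A →+ WittVector p A)^[n] (w z j)) *
          teichmuller p (z ^ p ^ j) := by
    apply eq_of_forall_modV
    intro N
    -- LHS expansion
    have hL : teichmuller p (f a) * (verschiebung : WittVector p B →+ WittVector p B)^[n] η =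
        ∑ i ∈ Finset.range N, (verschiebung : WittVector p B →+ WittVector p B)^[n + i]
          (∑ z ∈ y, teichmuller p (f (α i z) * z * f a ^ p ^ (n + i))) +
        (verschiebung : WittVector p B →+ WittVector p B)^[n + N]
          (ρ N * teichmuller p (f a ^ p ^ (n + N))) := by
      rw [mul_comm]
      conv_lhs => rw [hαρ N]
      rw [expand_sum]
      congr 1
      apply Finset.sum_congr rfl
      intro i _
      rw [Finset.sum_mul]
      congr 1
      apply Finset.sum_congr rfl
      intro z _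
      rw [← map_mul]
    -- RHS expansion
    have hR : ∑ z ∈ y, ∑ j ∈ Finset.range (u + 1),
        WittVector.map f ((verschiebung : WittVector p A →+ WittVector p A)^[n] (w z j)) *
          teichmuller p (z ^ p ^ j) =
        ∑ i ∈ Finset.range N, (verschiebung : WittVector p B →+ WittVector p B)^[n + i]
          (∑ z ∈ y, teichmuller p (f (α i z) * z * f a ^ p ^ (n + i))) +
        (verschiebung : WittVector p B →+ WittVector p B)^[n + N]
          (∑ z ∈ y, ∑ j ∈ Finset.range (u + 1),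
            (WittVector.map f (w z j)).shift N * teichmuller p ((z ^ p ^ j) ^ p ^ (n + N))) := by
      have h1 : ∀ z ∈ y, ∀ j ∈ Finset.range (u + 1),
          WittVector.map f ((verschiebung : WittVector p A →+ WittVector p A)^[n] (w z j)) *
            teichmuller p (z ^ p ^ j) =
          ∑ i ∈ Finset.range N, (verschiebung : WittVector p B →+ WittVector p B)^[n + i]
            (teichmuller p ((WittVector.map f (w z j)).coeff i * (z ^ p ^ j) ^ p ^ (n + i))) +
          (verschiebung : WittVector p B →+ WittVector p B)^[n + N]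
            ((WittVector.map f (w z j)).shift N * teichmuller p ((z ^ p ^ j) ^ p ^ (n + N))) := by
        intro z _ j _
        rw [map_iterV, expand_term _ _ n N]
      rw [Finset.sum_congr rfl (fun z hz => Finset.sum_congr rfl (fun j hj => h1 z hz j hj))]
      simp only [Finset.sum_add_distrib]
      congr 1
      · -- swap sums
        rw [Finset.sum_congr rfl (fun z _ => Finset.sum_comm)]
        rw [Finset.sum_comm]
        apply Finset.sum_congr rfl
        intro i _
        rw [iterV_sum]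
        apply Finset.sum_congr rfl
        intro z hz
        rw [← iterV_sum]
        congr 1
        rw [Finset.sum_eq_single (jj (n + i))]
        · congr 1
          rw [map_coeff, coeff_mk, if_pos rfl]
          exact hkey z hz i
        · intro j _ hj
          rw [map_coeff, coeff_mk, if_neg (Ne.symm hj), map_zero, zero_mul, teichmuller_zero]
        · intro h
          exact absurd (Finset.mem_range.2 (Nat.lt_succ_of_le (hj_le (n + i)))) h
      · rw [iterV_sum]
        apply Finset.sum_congr rfl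
        intro z _
        rw [iterV_sum]
    refine ⟨(verschiebung : WittVector p B →+ WittVector p B)^[n]
      (ρ N * teichmuller p (f a ^ p ^ (n + N)) - ∑ z ∈ y, ∑ j ∈ Finset.range (u + 1),
            (WittVector.map f (w z j)).shift N * teichmuller p ((z ^ p ^ j) ^ p ^ (n + N))), ?_⟩
    rw [hL, hR, add_sub_add_left_eq_sub, ← iterV_sub, ← iterate_add_apply, add_comm N n]
  rw [hclaim]
  exact Ideal.sum_mem _ (fun z _ => Ideal.sum_mem _ (fun j _ =>
    Ideal.mul_mem_right _ _ (Ideal.subset_span ⟨w z j, rfl⟩)))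


theorem psi_vanish (p : ℕ) [hp : Fact p.Prime] (ℓ n : ℕ) (hℓ : 0 < ℓ) (hpℓ : ¬ p ∣ ℓ)
    (A B : Type u) [CommRing A] [CommRing B] [IsDomain A] [IsDomain B] [Algebra A B]
    [CharP A p] [CharP B p] (hinj : Function.Injective (algebraMap A B))
    (y : Finset B) (hspan : Submodule.span A (y : Set B) = ⊤)
    (hpow : ∀ b ∈ y, b ^ ℓ ∈ Set.range (algebraMap A B))
    {M : Type*} [AddCommGroup M] [Module (WittVector p A) M]
    (hMn : ∀ (x : WittVector p A) (m : M),
      ((⇑(WittVector.verschiebung : WittVector p A →+ WittVector p A))^[n] x) • m = 0)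
    (htf : ∀ a : A, a ≠ 0 → ∀ m : M, WittVector.teichmuller p a • m = 0 → m = 0)
    (ψ : WittVector p B →+ M)
    (hψ : ∀ (x : WittVector p A) (w : WittVector p B),
      ψ (WittVector.map (algebraMap A B) x * w) = x • ψ w)
    (η : WittVector p B) :
    ψ ((⇑(WittVector.verschiebung : WittVector p B →+ WittVector p B))^[n] η) = 0 := by
  obtain ⟨a, ha, hmem⟩ := main p ℓ n hℓ hpℓ A B hinj y hspan hpow η
  apply htf a ha
  rw [← hψ, map_teichmuller]
  have hP : ∀ x ∈ Ideal.span (Set.range (fun x : WittVector p A =>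
        WittVector.map (algebraMap A B)
          ((verschiebung : WittVector p A →+ WittVector p A)^[n] x))),
      ∀ w : WittVector p B, ψ (w * x) = 0 := by
    intro x hx
    induction hx using Submodule.span_induction with
    | mem x hx =>
      obtain ⟨x', rfl⟩ := hx
      intro w
      rw [mul_comm, hψ, hMn]
    | zero => intro w; rw [mul_zero, map_zero]
    | add x y _ _ hx hy => intro w; rw [mul_add, map_add, hx, hy, add_zero]
    | smul r x _ hx => intro w; rw [smul_eq_mul, ← mul_assoc]; exact hx _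
  have := hP _ hmem 1
  rwa [one_mul] at this

end Main

end Groth.Agent.Helper2.WittTeich
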