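import Mathlib
import Groth.Prelude.Def_SGA3b
import Groth.Agent.Helper2.X4Glob
import Groth.Agent.Helper2.X4LocalB

/-!
# SGA3 X.4 (b): the global theorem (flat, fibres of multiplicative type, finite torsion)
-/

set_option autoImplicit false
universe u
open TensorProduct IsLocalRing

namespace Groth.Agent.Helper2.X4
open Groth.Agent.Helper1.Hens
open Groth.Agent.Helper2.MultTypeSemi Groth.Agent.Helper2.SemiIso Groth.Agent.Helper2.NilSplit
  Groth.Agent.Helper2.NilLift Groth.Agent.Helper2.TorsDens Groth.Agent.Helper2.HopfTors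
  Groth.Agent.Helper2.MultTypeChart Groth.Agent.Helper2.DefApp Groth.Agent.Helper2.QIso
  Groth.Agent.Helper2.UnipMor

section coreGen
variable (R : Type u) [CommRing R] (A : Type u) [CommRing A] [HopfAlgebra R A] [Module.Flat R A]

theorem exists_etale_chart_gen (hfp : Algebra.FinitePresentation R A)
    (hloc : ∀ (S : Type u) [CommRing S] [IsLocalRing S] [Algebra R S],
      SGA3b.IsMultType (ResidueField S) (ResidueField S ⊗[S] (S ⊗[R] A)) →
      SGA3b.IsMultType S (S ⊗[R] A))
    (𝔭 : Ideal R) [𝔭.IsPrime]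
    (hk : SGA3b.IsMultType 𝔭.ResidueField (𝔭.ResidueField ⊗[R] A)) :
    ∃ (C : Type u) (_ : CommRing C) (_ : Algebra R C) (_ : Algebra.Etale R C) (𝔮 : Ideal C)
      (_ : 𝔮.IsPrime) (M : Type u) (_ : CommGroup M) (θ : A →ₐ[R] MonoidAlgebra C M),
      𝔮.comap (algebraMap R C) = 𝔭 ∧ IsSemiIso R C θ := by
  haveI := hfp
  have hft : Algebra.FiniteType R A := inferInstance
  haveI : Nontrivial R := ⟨⟨0, 1, fun h => (Ideal.IsPrime.ne_top ‹_›)
    ((Ideal.eq_top_iff_one 𝔭).mpr (h ▸ 𝔭.zero_mem))⟩⟩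
  let k := 𝔭.ResidueField
  have hftk : Algebra.FiniteType k (k ⊗[R] A) := inferInstance
  obtain ⟨K, _, _, hfin, hsep, M₀, _, hfg, ⟨e₀⟩⟩ :=
    Groth.Agent.Helper2.GLSep.s2969 k (k ⊗[R] A) hftk hk
  letI : Algebra R K := ((algebraMap k K).comp (algebraMap R k)).toAlgebra
  haveI : IsScalarTower R k K := IsScalarTower.of_algebraMap_eq (fun _ => rfl)
  have hγ : Function.Surjective (Hens.γ : Hens R K →ₐ[R] K) := gamma_surjective R 𝔭 K
  -- chart over K
  let θK : A →ₐ[R] MonoidAlgebra K M₀ := chart R A k K M₀ e₀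
  have hθK : IsSemiIso R K θK := chart_isSemiIso R A k K M₀ e₀
  -- the residue field of the henselisation
  let S := Hens R K
  haveI : IsLocalHom (Hens.γ : S →ₐ[R] K).toRingHom := by
    constructor
    intro z hz
    rw [Hens.isUnit_iff]
    exact hz.ne_zero
  let τ : ResidueField S →+* K := IsLocalRing.ResidueField.lift (Hens.γ : S →ₐ[R] K).toRingHom
  have hτ : ∀ z : S, τ (residue S z) = Hens.γ z := fun z =>
    IsLocalRing.ResidueField.lift_residue_apply (Hens.γ : S →ₐ[R] K).toRingHom z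
  have hτb : Function.Bijective τ := ⟨RingHom.injective _, fun ω => by
    obtain ⟨z, rfl⟩ := hγ ω
    exact ⟨residue S z, hτ z⟩⟩
  let σ : K ≃+* ResidueField S := (RingEquiv.ofBijective τ hτb).symm
  have hσ : ∀ z : S, σ (Hens.γ z) = residue S z := by
    intro z
    rw [RingEquiv.symm_apply_eq]
    exact (hτ z).symm
  letI : Algebra K (ResidueField S) := σ.toRingHom.toAlgebra
  haveI : IsScalarTower R K (ResidueField S) := IsScalarTower.of_algebraMap_eq (fun r => by
    show algebraMap R (ResidueField S) r = σ (algebraMap R K r)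
    have h1 : algebraMap R K r = Hens.γ (algebraMap R S r) := (Hens.γ_algebraMap (Ω := K) r).symm
    rw [h1, hσ]
    rfl)
  let θκ : A →ₐ[R] MonoidAlgebra (ResidueField S) M₀ :=
    ((rho K (ResidueField S) M₀).restrictScalars R).comp θK
  have hθκ : IsSemiIso R (ResidueField S) θκ := isSemiIso_rho_comp (T₂ := ResidueField S) hθK
  have hθcl : IsSemiIso S (ResidueField S) (liftMap R S θκ) := hθκ.lift R S (ResidueField S)
  -- the local theorem over the henselisation
  have hcl : SGA3b.IsMultType (ResidueField S) (ResidueField S ⊗[S] (S ⊗[R] A)) :=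
    isMultType_of_chart (ResidueField S) _ (ResidueField S) M₀
      (liftMap S (ResidueField S) (liftMap R S θκ))
      (hθcl.lift S (ResidueField S) (ResidueField S))
  have hS : SGA3b.IsMultType S (S ⊗[R] A) := hloc S hcl
  have hftS : Algebra.FiniteType S (S ⊗[R] A) := inferInstance
  obtain ⟨M₁, _, ⟨E⟩⟩ := isDiag_of_closed_fibre S (S ⊗[R] A) M₀ hftS hS (liftMap R S θκ) hθcl
  -- the chart over the henselisation
  let Θ : A →ₐ[R] MonoidAlgebra S M₁ :=
    ((E.toBialgHom : S ⊗[R] A →ₐ[S] MonoidAlgebra S M₁).restrictScalars R).comp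
      (Algebra.TensorProduct.includeRight : A →ₐ[R] S ⊗[R] A)
  have hΘ : IsSemiIso R S Θ :=
    (isSemiIso_includeRight R S A).comp R S S (isSemiIso_bialgEquiv S E)
  haveI : Group.FG M₁ := group_fg_of_chart hft hΘ
  haveI : Algebra.FinitePresentation R (MonoidAlgebra R M₁) := finitePresentation_groupAlgebra R M₁
  obtain ⟨Q, θ, hθ⟩ := exists_stage_chart A M₁ Θ hΘ
  refine ⟨Q.C, inferInstance, inferInstance, inferInstance, RingHom.ker Q.γ,
    RingHom.ker_isPrime _, M₁, inferInstance, θ, ?_, hθ⟩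
  ext x
  rw [Ideal.mem_comap, RingHom.mem_ker, AlgHom.commutes]
  show algebraMap k K (algebraMap R k x) = 0 ↔ _
  rw [map_eq_zero, Ideal.algebraMap_residueField_eq_zero]


attribute [local instance] Algebra.TensorProduct.rightAlgebra in
theorem exists_quasiIsotrivialConst_gen (hfp : Algebra.FinitePresentation R A)
    (hloc : ∀ (S : Type u) [CommRing S] [IsLocalRing S] [Algebra R S],
      SGA3b.IsMultType (ResidueField S) (ResidueField S ⊗[S] (S ⊗[R] A)) →
      SGA3b.IsMultType S (S ⊗[R] A))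
    (𝔭 : Ideal R) [𝔭.IsPrime]
    (hk : SGA3b.IsMultType 𝔭.ResidueField (𝔭.ResidueField ⊗[R] A)) :
    ∃ f : R, f ∉ 𝔭 ∧ SGA3b.IsQuasiIsotrivialConst (Localization.Away f)
      (Localization.Away f ⊗[R] A) := by
  obtain ⟨C, _, _, het, 𝔮, h𝔮, M, _, θ, hcomap, hθ⟩ := exists_etale_chart_gen R A hfp hloc 𝔭 hk
  haveI := het
  have hopen : IsOpen (Set.range (PrimeSpectrum.comap (algebraMap R C))) :=
    (PrimeSpectrum.isOpenMap_comap_of_hasGoingDown_of_finitePresentation (R := R) (S := C)).isOpen_range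
  have hmem : (⟨𝔭, inferInstance⟩ : PrimeSpectrum R) ∈
      Set.range (PrimeSpectrum.comap (algebraMap R C)) :=
    ⟨⟨𝔮, h𝔮⟩, PrimeSpectrum.ext hcomap⟩
  obtain ⟨_, ⟨f, rfl⟩, hf𝔭, hfU⟩ :=
    PrimeSpectrum.isTopologicalBasis_basic_opens.exists_subset_of_mem_open hmem hopen
  refine ⟨f, hf𝔭, ?_⟩
  haveI : Module.FaithfullyFlat (Localization.Away f) (Localization.Away f ⊗[R] C) :=
    faithfullyFlat_away_tensor R C f hfU
  exact isQuasiIsotrivialConst_of_chart R A f (T := Localization.Away f ⊗[R] C) θ hθ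

/-- generic globalisation: a local theorem for all local base changes gives quasi-isotriviality -/
theorem isQuasiIsotrivial_gen (hfp : Algebra.FinitePresentation R A)
    (hloc : ∀ (S : Type u) [CommRing S] [IsLocalRing S] [Algebra R S],
      SGA3b.IsMultType (ResidueField S) (ResidueField S ⊗[S] (S ⊗[R] A)) →
      SGA3b.IsMultType S (S ⊗[R] A))
    (hfib : ∀ (p : Ideal R) [p.IsPrime], SGA3b.IsMultType p.ResidueField (p.ResidueField ⊗[R] A)) :
    SGA3b.IsQuasiIsotrivial R A := by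
  refine ⟨{f | SGA3b.IsQuasiIsotrivialConst (Localization.Away f) (Localization.Away f ⊗[R] A)},
    ?_, fun f hf => hf⟩
  by_contra hne
  obtain ⟨𝔪, h𝔪, hle⟩ := Ideal.exists_le_maximal _ hne
  haveI := h𝔪.isPrime
  obtain ⟨f, hf𝔪, hf⟩ := exists_quasiIsotrivialConst_gen R A hfp hloc 𝔪 (hfib 𝔪)
  exact hf𝔪 (hle (Ideal.subset_span hf))

/-- **SGA3 X 4.8 (b), global flat form** -/
theorem s5264 [Coalgebra.IsCocomm R A] (hfp : Algebra.FinitePresentation R A)
    (hfib : ∀ (p : Ideal R) [p.IsPrime], SGA3b.IsMultType p.ResidueField (p.ResidueField ⊗[R] A))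
    (hfin : ∀ n : ℕ, 0 < n → Module.Finite R (A ⧸ SGA3b.torsionIdeal R A n)) :
    SGA3b.IsQuasiIsotrivial R A := by
  haveI := hfp
  apply isQuasiIsotrivial_gen R A hfp _ hfib
  intro S _ _ _ hcl
  have hfpS : Algebra.FinitePresentation S (S ⊗[R] A) := inferInstance
  refine isMultType_of_isLocalRing_b S (S ⊗[R] A) hfpS hcl ?_
  intro n hn
  haveI := hfin n hn
  exact Groth.Agent.Helper2.OC.finite_quot_torsion_baseChange R S A n

end coreGen

end Groth.Agent.Helper2.X4
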