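import Mathlib
import Groth.Prelude.Def_SGA3b
import Groth.Agent.Helper2.X4Glob
import Groth.Agent.Helper2.OCS5277

/-!
# SGA3 X.4: tori
-/

set_option autoImplicit false
universe u
open TensorProduct IsLocalRing

namespace Groth.Agent.Helper2.X4
open Groth.Agent.Helper2.MultTypeSemi Groth.Agent.Helper2.SemiIso Groth.Agent.Helper2.NilSplit
  Groth.Agent.Helper2.NilLift Groth.Agent.Helper2.HopfTors
  Groth.Agent.Helper2.MultTypeChart Groth.Agent.Helper2.DefApp Groth.Agent.Helper2.QIso
  Groth.Agent.Helper2.UnipMor Groth.Agent.Helper2.OC SGA3b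

section mulequiv
variable (R : Type*) [CommRing R] {M N : Type*} [CommMonoid M] [CommMonoid N]

/-- the bialgebra isomorphism of group algebras induced by an isomorphism of groups -/
noncomputable def bialgEquivOfMulEquiv (μ : M ≃* N) :
    MonoidAlgebra R M ≃ₐc[R] MonoidAlgebra R N :=
  BialgEquiv.ofBialgHom (MonoidAlgebra.mapDomainBialgHom R μ.toMonoidHom)
    (MonoidAlgebra.mapDomainBialgHom R μ.symm.toMonoidHom)
    (by
      rw [← MonoidAlgebra.mapDomainBialgHom_comp, ← MonoidAlgebra.mapDomainBialgHom_id]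
      congr 1
      ext x
      simp)
    (by
      rw [← MonoidAlgebra.mapDomainBialgHom_comp, ← MonoidAlgebra.mapDomainBialgHom_id]
      congr 1
      ext x
      simp)

end mulequiv

section fieldtorus
variable {k : Type u} [Field k] {D : Type u} [CommRing D] [HopfAlgebra k D]

/-- a torus over a field is split, as a chart, over some field extension -/
theorem exists_field_chart_of_isTorus (hT : IsTorus k D) :
    ∃ (L : Type u) (_ : Field L) (_ : Algebra k L) (n : ℕ)
      (χ : D →ₐ[k] MonoidAlgebra L (Multiplicative (Fin n → ℤ))), IsSemiIso k L χ := by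
  obtain ⟨s, hs, h⟩ := hT
  have hex : ∃ f ∈ s, f ≠ 0 := by
    by_contra hcon
    push Not at hcon
    have h1 : Ideal.span s ≤ ⊥ := Ideal.span_le.mpr (fun x hx => by simp [hcon x hx])
    rw [hs] at h1
    exact top_ne_bot (le_bot_iff.mp h1)
  obtain ⟨f, hfs, hf0⟩ := hex
  obtain ⟨R', _, _, hFF', n, ⟨eT⟩⟩ := h f hfs
  haveI : Nontrivial (Localization.Away f) := by
    rw [← not_subsingleton_iff_nontrivial,
      IsLocalization.subsingleton_iff (M := Submonoid.powers f)]
    rintro ⟨m, hm⟩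
    dsimp only at hm
    exact pow_ne_zero m hf0 hm
  haveI : Nontrivial R' :=
    (TensorProduct.rid (Localization.Away f) R').symm.toEquiv.nontrivial
  letI : Algebra k R' :=
    ((algebraMap (Localization.Away f) R').comp (algebraMap k (Localization.Away f))).toAlgebra
  haveI : IsScalarTower k (Localization.Away f) R' := IsScalarTower.of_algebraMap_eq (fun _ => rfl)
  let χT : D →ₐ[k] MonoidAlgebra R' (Multiplicative (Fin n → ℤ)) :=
    ((eT.toBialgHom : _ →ₐ[R'] MonoidAlgebra R' (Multiplicative (Fin n → ℤ))).restrictScalars k).comp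
      (((Algebra.TensorProduct.includeRight : (Localization.Away f ⊗[k] D) →ₐ[Localization.Away f]
          R' ⊗[Localization.Away f] (Localization.Away f ⊗[k] D)).restrictScalars k).comp
        (Algebra.TensorProduct.includeRight : D →ₐ[k] Localization.Away f ⊗[k] D))
  have hχT : IsSemiIso k R' χT := by
    have h1 := isSemiIso_includeRight k (Localization.Away f) D
    have h2 := isSemiIso_includeRight (Localization.Away f) R' (Localization.Away f ⊗[k] D)
    have h12 := h1.comp k (Localization.Away f) R' h2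
    have h3 := isSemiIso_bialgEquiv R' eT
    exact h12.comp k R' R' h3
  obtain ⟨𝔫, h𝔫⟩ := Ideal.exists_maximal R'
  letI : Field (R' ⧸ 𝔫) := Ideal.Quotient.field 𝔫
  exact ⟨R' ⧸ 𝔫, inferInstance, inferInstance, n, _,
    isSemiIso_rho_comp (T₂ := R' ⧸ 𝔫) hχT⟩

/-- a torus over a field is connected -/
theorem connectedSpace_of_isTorus (hT : IsTorus k D) : ConnectedSpace (PrimeSpectrum D) := by
  obtain ⟨L, _, _, n, χ, hχ⟩ := exists_field_chart_of_isTorus hT
  let E : L ⊗[k] D ≃ₐc[L] MonoidAlgebra L (Multiplicative (Fin n → ℤ)) := bialgEquivOfChart χ hχ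
  haveI : IsDomain (MonoidAlgebra L (Multiplicative (Fin n → ℤ))) := inferInstance
  have hinj : Function.Injective (fun d : D => E ((1 : L) ⊗ₜ[k] d)) := by
    intro x y hxy
    have h1 : (1 : L) ⊗ₜ[k] x = (1 : L) ⊗ₜ[k] y := E.injective hxy
    exact Module.FaithfullyFlat.tensorProduct_mk_injective (A := k) (B := L) D h1
  have hno : ∀ e : D, IsIdempotentElem e → e = 0 ∨ e = 1 := by
    intro e he
    have h1 : IsIdempotentElem (E ((1 : L) ⊗ₜ[k] e)) := by
      have h2 : IsIdempotentElem ((1 : L) ⊗ₜ[k] e : L ⊗[k] D) := by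
        unfold IsIdempotentElem
        rw [Algebra.TensorProduct.tmul_mul_tmul, one_mul, he.eq]
      exact h2.map E
    rcases IsIdempotentElem.iff_eq_zero_or_one.mp h1 with h | h
    · left
      apply hinj
      show E ((1 : L) ⊗ₜ[k] e) = E ((1 : L) ⊗ₜ[k] (0 : D))
      rw [h, TensorProduct.tmul_zero, map_zero]
    · right
      apply hinj
      show E ((1 : L) ⊗ₜ[k] e) = E ((1 : L) ⊗ₜ[k] (1 : D))
      rw [h]
      exact (map_one E).symm
  haveI : PreconnectedSpace (PrimeSpectrum D) := preconnected_of_noIdem hno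
  haveI : Nontrivial D := by
    refine ⟨⟨0, 1, fun h => ?_⟩⟩
    have := congrArg (Coalgebra.counit (R := k)) h
    simp at this
  exact ConnectedSpace.mk inferInstance

end fieldtorus

section mt
variable {R : Type u} [CommRing R] {A : Type u} [CommRing A] [HopfAlgebra R A]

theorem isMultType_of_isTorus (h : IsTorus R A) : IsMultType R A := by
  obtain ⟨s, hs, hf⟩ := h
  refine ⟨s, hs, fun f hfs => ?_⟩
  obtain ⟨R', _, _, hff, n, ⟨e⟩⟩ := hf f hfs
  exact ⟨R', inferInstance, inferInstance, hff, ULift.{u} (Multiplicative (Fin n → ℤ)),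
    inferInstance, ⟨e.trans (bialgEquivOfMulEquiv R' MulEquiv.ulift.symm)⟩⟩

end mt

section torus
variable (R : Type u) [CommRing R] (A : Type u) [CommRing A] [HopfAlgebra R A] [Module.Flat R A]

attribute [local instance] Algebra.TensorProduct.rightAlgebra in
theorem exists_torusConst (hfp : Algebra.FinitePresentation R A)
    (hfib : ∀ (p : Ideal R) [p.IsPrime], IsTorus p.ResidueField (p.ResidueField ⊗[R] A))
    (𝔭 : Ideal R) [𝔭.IsPrime] :
    ∃ f : R, f ∉ 𝔭 ∧ IsTorusConst (Localization.Away f) (Localization.Away f ⊗[R] A) := by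
  have hconn : ∀ (p : Ideal R) [p.IsPrime],
      ConnectedSpace (PrimeSpectrum (p.ResidueField ⊗[R] A)) :=
    fun p _ => connectedSpace_of_isTorus (hfib p)
  obtain ⟨C, _, _, het, 𝔮, h𝔮, M, _, θ, hcomap, hθ⟩ :=
    exists_etale_chart' R A hfp hconn 𝔭 (isMultType_of_isTorus (hfib 𝔭))
  haveI := het
  -- the rank
  haveI : Nontrivial (𝔭.ResidueField ⊗[R] C) :=
    (PrimeSpectrum.nontrivial_iff_mem_rangeComap (⟨𝔭, inferInstance⟩ : PrimeSpectrum R)).mpr
      ⟨⟨𝔮, h𝔮⟩, PrimeSpectrum.ext hcomap⟩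
  haveI : Module.FaithfullyFlat 𝔭.ResidueField (𝔭.ResidueField ⊗[R] C) := inferInstance
  have hθb : IsSemiIso R (𝔭.ResidueField ⊗[R] C)
      (((rho C (𝔭.ResidueField ⊗[R] C) M).restrictScalars R).comp θ) :=
    isSemiIso_rho_comp (T₂ := 𝔭.ResidueField ⊗[R] C) hθ
  have hχk := hθb.lift R 𝔭.ResidueField (𝔭.ResidueField ⊗[R] C)
  obtain ⟨n, ⟨μ⟩⟩ := exists_rank_of_isTorus (hfib 𝔭) _ hχk
  -- the chart with group `ℤ^n`
  let θ' : A →ₐ[R] MonoidAlgebra C (Multiplicative (Fin n → ℤ)) :=
    (((bialgEquivOfMulEquiv C μ).toBialgHom :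
      MonoidAlgebra C M →ₐ[C] MonoidAlgebra C (Multiplicative (Fin n → ℤ))).restrictScalars R).comp θ
  have hθ' : IsSemiIso R C θ' :=
    hθ.comp R C C (isSemiIso_bialgEquiv C (bialgEquivOfMulEquiv C μ))
  have hopen : IsOpen (Set.range (PrimeSpectrum.comap (algebraMap R C))) :=
    (PrimeSpectrum.isOpenMap_comap_of_hasGoingDown_of_finitePresentation (R := R) (S := C)).isOpen_range
  have hmem : (⟨𝔭, inferInstance⟩ : PrimeSpectrum R) ∈
      Set.range (PrimeSpectrum.comap (algebraMap R C)) :=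
    ⟨⟨𝔮, h𝔮⟩, PrimeSpectrum.ext hcomap⟩
  obtain ⟨_, ⟨f, rfl⟩, hf𝔭, hfU⟩ :=
    PrimeSpectrum.isTopologicalBasis_basic_opens.exists_subset_of_mem_open hmem hopen
  refine ⟨f, hf𝔭, ?_⟩
  haveI : Module.FaithfullyFlat (Localization.Away f) (Localization.Away f ⊗[R] C) :=
    faithfullyFlat_away_tensor R C f hfU
  exact isTorusConst_of_chart f (T := Localization.Away f ⊗[R] C) n _
    (isSemiIso_rho_comp (T₂ := Localization.Away f ⊗[R] C) hθ')

/-- **SGA3 X 4.9**: a flat finitely presented affine group whose fibres are tori is a torus -/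
theorem s2976 (hfp : Algebra.FinitePresentation R A)
    (hfib : ∀ (p : Ideal R) [p.IsPrime], IsTorus p.ResidueField (p.ResidueField ⊗[R] A)) :
    IsTorus R A := by
  refine ⟨{f | IsTorusConst (Localization.Away f) (Localization.Away f ⊗[R] A)},
    ?_, fun f hf => hf⟩
  by_contra hne
  obtain ⟨𝔪, h𝔪, hle⟩ := Ideal.exists_le_maximal _ hne
  haveI := h𝔪.isPrime
  obtain ⟨f, hf𝔪, hf⟩ := exists_torusConst R A hfp hfib 𝔪
  exact hf𝔪 (hle (Ideal.subset_span hf))

end torus

end Groth.Agent.Helper2.X4
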