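import Mathlib
import Groth.Prelude.Def_CAlg
import Groth.Prelude.Def_EGA4b
import Groth.Agent.Helper6.DepthPi
import Groth.Agent.Helper9.DepthKer

set_option linter.style.haveILetI false
set_option linter.unusedSectionVars false
set_option autoImplicit false

/-! Depth of finite projective modules; localizing the `I`-depth. -/

namespace Groth.Agent.Helper2.YA

open RingTheory.Sequence

universe u

section Proj
variable {B : Type u} [CommRing B] [IsNoetherianRing B] (I : Ideal B)
  (E : Type u) [AddCommGroup E] [Module B E] [Module.Finite B E] [Module.Projective B E]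

theorem idealDepth_le_of_projective : LocCoh.idealDepth I B ≤ LocCoh.idealDepth I E := by
  obtain ⟨n, f, g, -, -, hfg⟩ := Module.Finite.exists_comp_eq_id_of_projective B E
  exact (Groth.Agent.Helper6.DepthLemma.idealDepth_pi_ge I B n).trans
    (Groth.Agent.Helper6.DepthLemma.idealDepth_le_of_retract I g f hfg)

theorem free_localized_of_projective (q : Ideal B) [q.IsPrime] :
    Module.Free (Localization.AtPrime q) (LocalizedModule q.primeCompl E) := by
  haveI : Module.Finite (Localization.AtPrime q) (LocalizedModule q.primeCompl E) :=
    Module.Finite.of_isLocalizedModule q.primeCompl (LocalizedModule.mkLinearMap q.primeCompl E)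
  haveI : Module.Projective (Localization.AtPrime q) (LocalizedModule q.primeCompl E) :=
    Module.projective_of_isLocalizedModule q.primeCompl
      (LocalizedModule.mkLinearMap q.primeCompl E)
  exact Module.free_of_flat_of_isLocalRing

end Proj

section Loc
variable {A : Type u} [CommRing A] (I : Ideal A)
  (G : Type u) [AddCommGroup G] [Module A G] (T : Submonoid A)

theorem smul_top_localized (h : I • (⊤ : Submodule A G) = ⊤) :
    (I.map (algebraMap A (Localization T))) •
      (⊤ : Submodule (Localization T) (LocalizedModule T G)) = ⊤ := by
  rw [eq_top_iff]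
  intro x _
  induction x using LocalizedModule.induction_on with
  | h m s =>
    have hm : m ∈ I • (⊤ : Submodule A G) := by rw [h]; trivial
    refine Submodule.smul_induction_on hm ?_ ?_
    · intro r hr g _
      have : LocalizedModule.mk (r • g) s =
          algebraMap A (Localization T) r • LocalizedModule.mk g s := by
        rw [algebraMap_smul, LocalizedModule.smul'_mk]
      rw [this]
      exact Submodule.smul_mem_smul (Ideal.mem_map_of_mem _ hr) Submodule.mem_top
    · intro a b ha hb
      have : LocalizedModule.mk (a + b) s = LocalizedModule.mk a s + LocalizedModule.mk b s := by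
        rw [IsLocalizedModule.mk_eq_mk', IsLocalizedModule.mk_eq_mk', IsLocalizedModule.mk_eq_mk',
          IsLocalizedModule.mk'_add]
      rw [this]
      exact Submodule.add_mem _ ha hb

theorem le_idealDepth_localized (n : ℕ) (h : (n : ℕ∞) ≤ LocCoh.idealDepth I G) :
    (n : ℕ∞) ≤ LocCoh.idealDepth (I.map (algebraMap A (Localization T)))
      (LocalizedModule T G) := by
  by_cases htop : (I.map (algebraMap A (Localization T))) •
      (⊤ : Submodule (Localization T) (LocalizedModule T G)) = ⊤
  · rw [Groth.Agent.Helper9.DepthKer.idealDepth_eq_top _ _ htop]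
    exact le_top
  have hne : I • (⊤ : Submodule A G) ≠ ⊤ := fun h' => htop (smul_top_localized I G T h')
  rcases Nat.eq_zero_or_pos n with rfl | hn
  · simp
  obtain ⟨rs, hreg, hmem, hlen⟩ :=
    Groth.Agent.Helper9.DepthKer.exists_of_le_idealDepth I G n hn h hne
  have hreg' : IsWeaklyRegular (LocalizedModule T G) (rs.map (algebraMap A (Localization T))) :=
    hreg.of_isLocalizedModule (Localization T) T (LocalizedModule.mkLinearMap T G)
  have h1 := Groth.Agent.Helper9.DepthKer.le_idealDepth_of
    (I.map (algebraMap A (Localization T))) (LocalizedModule T G)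
    (rs.map (algebraMap A (Localization T))) hreg' (by
      intro r hr
      rw [List.mem_map] at hr
      obtain ⟨a, ha, rfl⟩ := hr
      exact Ideal.mem_map_of_mem _ (hmem a ha))
  rw [List.length_map] at h1
  refine le_trans ?_ h1
  exact_mod_cast hlen

end Loc

end Groth.Agent.Helper2.YA
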