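import Mathlib
import Groth.Prelude.Def_CAlg
import Groth.Prelude.Def_EGA4b

set_option linter.style.haveILetI false
set_option linter.unusedSectionVars false
set_option autoImplicit false

/-! The fibre stalk `F_q / p F_q` as the localization of `F / pF`. -/

namespace Groth.Agent.Helper2.YA

open TensorProduct

universe u

section FibLoc
variable (A B : Type u) [CommRing A] [CommRing B] [Algebra A B] (q : Ideal B) [q.IsPrime]
  (F : Type u) [AddCommGroup F] [Module B F]

theorem localized_smul_top (I : Ideal B) :
    (I • (⊤ : Submodule B F)).localized q.primeCompl =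
      (I.map (algebraMap B (Localization.AtPrime q))) •
        (⊤ : Submodule (Localization.AtPrime q) (LocalizedModule q.primeCompl F)) := by
  show Submodule.localized' (Localization.AtPrime q) q.primeCompl
    (LocalizedModule.mkLinearMap q.primeCompl F) _ = _
  rw [Submodule.localized'_smul, Submodule.localized'_top, Submodule.localized'_eq_span]
  rfl

/-- `(F / pF)_q ≃ F_q / p F_q`. -/
noncomputable def fibLocModEquiv :
    LocalizedModule q.primeCompl
      (F ⧸ ((q.comap (algebraMap A B)).map (algebraMap A B)) • (⊤ : Submodule B F))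
      ≃ₗ[Localization.AtPrime q] EGA4.FibLocMod A B q F :=
  (localizedQuotientEquiv q.primeCompl
    (((q.comap (algebraMap A B)).map (algebraMap A B)) • (⊤ : Submodule B F))).symm ≪≫ₗ
  Submodule.quotEquivOfEq _ _ (by
    rw [localized_smul_top, Ideal.map_map, ← IsScalarTower.algebraMap_eq])

end FibLoc

section TQ
variable (A B : Type u) [CommRing A] [CommRing B] [Algebra A B]
  (F : Type u) [AddCommGroup F] [Module B F] [Module A F] [IsScalarTower A B F] (p : Ideal A)

/-- the `A`-linear version. -/
noncomputable def tensorQuotEquivA :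
    F ⊗[A] (A ⧸ p) ≃ₗ[A] F ⧸ (p.map (algebraMap A B)) • (⊤ : Submodule B F) :=
  (TensorProduct.tensorQuotEquivQuotSMul F p) ≪≫ₗ
  (Submodule.quotEquivOfEq (p • (⊤ : Submodule A F))
    (((p.map (algebraMap A B)) • (⊤ : Submodule B F)).restrictScalars A)
    (by rw [Ideal.smul_restrictScalars]; rfl)) ≪≫ₗ
  (Submodule.Quotient.restrictScalarsEquiv A ((p.map (algebraMap A B)) • (⊤ : Submodule B F)))

theorem tensorQuotEquivA_tmul (k : F) (a : A) :
    tensorQuotEquivA A B F p (k ⊗ₜ Ideal.Quotient.mk p a) = Submodule.Quotient.mk (a • k) := by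
  unfold tensorQuotEquivA
  simp only [LinearEquiv.trans_apply, TensorProduct.tensorQuotEquivQuotSMul_tmul_mk]
  rfl

/-- `F ⊗_A A/p ≃ F / pF`, `B`-linearly. -/
noncomputable def tensorQuotEquiv :
    F ⊗[A] (A ⧸ p) ≃ₗ[B] F ⧸ (p.map (algebraMap A B)) • (⊤ : Submodule B F) :=
  { tensorQuotEquivA A B F p with
    map_smul' := fun b x => by
      induction x using TensorProduct.induction_on with
      | zero => simp
      | add x y hx hy =>
        simp only [AddHom.toFun_eq_coe, LinearMap.coe_toAddHom, LinearEquiv.coe_coe,
          RingHom.id_apply] at hx hy ⊢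
        rw [smul_add, map_add, map_add, smul_add, hx, hy]
      | tmul k a =>
        obtain ⟨a, rfl⟩ := Ideal.Quotient.mk_surjective a
        simp only [AddHom.toFun_eq_coe, LinearMap.coe_toAddHom, LinearEquiv.coe_coe,
          RingHom.id_apply]
        rw [TensorProduct.smul_tmul', tensorQuotEquivA_tmul, tensorQuotEquivA_tmul,
          smul_comm a b k]
        rfl }

end TQ

end Groth.Agent.Helper2.YA
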