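import Mathlib
import Groth.Prelude
import Groth.Agent.Helper2.YA1
import Groth.Agent.Helper2.YA2
import Groth.Agent.Helper2.ZU1
import Groth.Agent.Helper7.DepthFin
import Groth.Agent.Helper9.ReflKer

set_option linter.style.haveILetI false
set_option linter.unusedSectionVars false
set_option autoImplicit false

/-! Depth of the fibre stalks along an ideal `J`, from the fibre depths at the primes of `V(J)`. -/

namespace Groth.Agent.Helper2.YA

open TensorProduct

universe u

variable (A B : Type u) [CommRing A] [CommRing B] [IsNoetherianRing A] [IsNoetherianRing B]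
  [Algebra A B] (J : Ideal B)
  (F : Type u) [AddCommGroup F] [Module B F] [Module A F] [IsScalarTower A B F]
  [Module.Finite B F] [Module.Flat A F]

theorem fibdepth_along (n : ℕ)
    (hF : ∀ Q : PrimeSpectrum B, J ≤ Q.asIdeal →
      (n : ℕ∞) ≤ LocCoh.idealDepth (Q.asIdeal.map (algebraMap B (EGA4.FibLocRing A B Q.asIdeal)))
        (EGA4.FibLocMod A B Q.asIdeal F))
    (q : Ideal B) [q.IsPrime] :
    (n : ℕ∞) ≤ LocCoh.idealDepth (J.map (algebraMap B (EGA4.FibLocRing A B q)))
      (EGA4.FibLocMod A B q F) := by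
  set p := q.comap (algebraMap A B) with hp
  haveI : Module.Finite B (F ⊗[A] (A ⧸ p)) :=
    Module.Finite.equiv (tensorQuotEquiv A B F p).symm
  -- D
  have hD : (n : ℕ∞) ≤ LocCoh.idealDepth J (F ⊗[A] (A ⧸ p)) := by
    apply Groth.Agent.Helper2.ZU.le_idealDepth_of_forall_prime
    intro Q hQ
    rw [Groth.Agent.Helper2.ZT.depth_loc A B (A ⧸ p) F Q.asIdeal]
    have := hF Q hQ
    rw [Groth.Agent.Helper2.ZU.map_eq_maximalIdeal A B Q.asIdeal] at this
    exact this.trans le_add_self
  have hD2 : (n : ℕ∞) ≤ LocCoh.idealDepth J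
      (F ⧸ (p.map (algebraMap A B)) • (⊤ : Submodule B F)) := by
    rwa [← Groth.Agent.Helper9.ReflKer.idealDepth_congr J (tensorQuotEquiv A B F p)]
  -- B
  have hB := le_idealDepth_localized J _ q.primeCompl n hD2
  -- C
  rw [Groth.Agent.Helper9.ReflKer.idealDepth_congr _ (fibLocModEquiv A B q F)] at hB
  -- A
  haveI : IsNoetherianRing (Localization.AtPrime q) :=
    IsLocalization.isNoetherianRing q.primeCompl _ inferInstance
  haveI : Module.Finite (Localization.AtPrime q) (LocalizedModule q.primeCompl F) :=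
    Module.Finite.of_isLocalizedModule q.primeCompl (LocalizedModule.mkLinearMap q.primeCompl F)
  rw [Groth.Agent.Helper7.DepthFin.idealDepth_map_eq (A := Localization.AtPrime q)
    (B := EGA4.FibLocRing A B q), Ideal.map_map, ← IsScalarTower.algebraMap_eq] at hB
  exact hB

end Groth.Agent.Helper2.YA
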