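import Mathlib

set_option linter.style.haveILetI false
set_option linter.unusedSectionVars false
set_option autoImplicit false

/-! Generalized inverses, projectivity of cokernels, transposes and localization of cokernels of
matrix maps. -/

namespace Groth.Agent.Helper2.ZY

universe u

section gi

variable {R : Type u} [CommRing R] {M N : Type u} [AddCommGroup M] [Module R M]
  [AddCommGroup N] [Module R N]

/-- a map with projective target and projective cokernel has a generalized inverse -/
theorem exists_gi [Module.Projective R N] (φ : M →ₗ[R] N)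
    [Module.Projective R (N ⧸ LinearMap.range φ)] :
    ∃ s : N →ₗ[R] M, φ ∘ₗ s ∘ₗ φ = φ := by
  obtain ⟨τ, hτ⟩ := Module.projective_lifting_property (LinearMap.range φ).mkQ LinearMap.id
    (Submodule.mkQ_surjective _)
  let r₀ : N →ₗ[R] N := LinearMap.id - τ ∘ₗ (LinearMap.range φ).mkQ
  have hr₀ : ∀ y, r₀ y ∈ LinearMap.range φ := by
    intro y
    rw [← Submodule.Quotient.mk_eq_zero, ← Submodule.mkQ_apply]
    simp only [r₀, LinearMap.sub_apply, LinearMap.id_apply, LinearMap.comp_apply, map_sub]
    have := LinearMap.congr_fun hτ ((LinearMap.range φ).mkQ y)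
    simp only [LinearMap.comp_apply, LinearMap.id_apply] at this
    rw [this, sub_self]
  let r : N →ₗ[R] LinearMap.range φ := r₀.codRestrict _ hr₀
  obtain ⟨s, hs⟩ := Module.projective_lifting_property φ.rangeRestrict r
    (LinearMap.surjective_rangeRestrict φ)
  refine ⟨s, ?_⟩
  ext x
  have h1 := LinearMap.congr_fun hs (φ x)
  have h2 : (φ (s (φ x)) : N) = r₀ (φ x) := congrArg Subtype.val h1
  simp only [LinearMap.comp_apply]
  rw [h2]
  simp only [r₀, LinearMap.sub_apply, LinearMap.id_apply, LinearMap.comp_apply]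
  have : (LinearMap.range φ).mkQ (φ x) = 0 := by
    rw [Submodule.mkQ_apply, Submodule.Quotient.mk_eq_zero]
    exact ⟨x, rfl⟩
  rw [this, map_zero, sub_zero]

/-- a map with a generalized inverse and projective target has projective cokernel -/
theorem projective_coker_of_gi [Module.Projective R N] (h : M →ₗ[R] N) (s : N →ₗ[R] M)
    (hs : h ∘ₗ s ∘ₗ h = h) : Module.Projective R (N ⧸ LinearMap.range h) := by
  let e : N →ₗ[R] N := LinearMap.id - h ∘ₗ s
  have hle : LinearMap.range h ≤ LinearMap.ker e := by
    rintro _ ⟨x, rfl⟩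
    rw [LinearMap.mem_ker]
    simp only [e, LinearMap.sub_apply, LinearMap.id_apply, LinearMap.comp_apply]
    have := LinearMap.congr_fun hs x
    simp only [LinearMap.comp_apply] at this
    rw [this, sub_self]
  let σ : (N ⧸ LinearMap.range h) →ₗ[R] N := (LinearMap.range h).liftQ e hle
  apply Module.Projective.of_split σ (LinearMap.range h).mkQ
  ext y
  simp only [LinearMap.comp_apply, Submodule.mkQ_apply, LinearMap.id_apply, σ,
    Submodule.liftQ_apply, e, LinearMap.sub_apply]
  rw [Submodule.Quotient.mk_sub]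
  have : (Submodule.Quotient.mk (h (s y)) : N ⧸ LinearMap.range h) = 0 := by
    rw [Submodule.Quotient.mk_eq_zero]
    exact ⟨s y, rfl⟩
  rw [this, sub_zero]

/-- projectivity of the cokernel of a matrix passes to the transpose -/
theorem projective_coker_transpose {n m : ℕ} (Φ : Matrix (Fin n) (Fin m) R)
    (hP : Module.Projective R ((Fin n → R) ⧸ LinearMap.range Φ.mulVecLin)) :
    Module.Projective R ((Fin m → R) ⧸ LinearMap.range Φ.transpose.mulVecLin) := by
  obtain ⟨s, hs⟩ := exists_gi Φ.mulVecLin
  set Sg : Matrix (Fin m) (Fin n) R := LinearMap.toMatrix' s with hSg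
  have h1 : Φ * Sg * Φ = Φ := by
    apply Matrix.toLin'.injective
    rw [Matrix.toLin'_mul, Matrix.toLin'_mul, hSg, Matrix.toLin'_toMatrix']
    rw [Matrix.toLin'_apply', LinearMap.comp_assoc]
    exact hs
  have h2 : Φ.transpose * Sg.transpose * Φ.transpose = Φ.transpose := by
    rw [← Matrix.transpose_mul, ← Matrix.transpose_mul, ← Matrix.mul_assoc, h1]
  apply projective_coker_of_gi Φ.transpose.mulVecLin Sg.transpose.mulVecLin
  rw [← Matrix.toLin'_apply', ← Matrix.toLin'_apply', ← Matrix.toLin'_mul, ← Matrix.toLin'_mul,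
    ← Matrix.mul_assoc, h2]

end gi

section lc

variable {B : Type u} [CommRing B] (S : Submonoid B) (Bq : Type u) [CommRing Bq] [Algebra B Bq]
  [IsLocalization S Bq]
  {N N' : Type u} [AddCommGroup N] [Module B N] [AddCommGroup N'] [Module B N'] [Module Bq N']
  [IsScalarTower B Bq N'] (f : N →ₗ[B] N') [IsLocalizedModule S f]

/-- coordinatewise localization map -/
noncomputable def piMap (a : ℕ) : (Fin a → B) →ₗ[B] (Fin a → Bq) :=
  LinearMap.pi fun i => Algebra.linearMap B Bq ∘ₗ LinearMap.proj i

instance (a : ℕ) : IsLocalizedModule S (piMap Bq a) := by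
  unfold piMap
  infer_instance

omit [IsLocalization S Bq] in
theorem piMap_apply (a : ℕ) (v : Fin a → B) (i : Fin a) :
    piMap Bq a v i = algebraMap B Bq (v i) := rfl

omit [IsLocalization S Bq] in
theorem piMap_mulVec {a b : ℕ} (Ψ : Matrix (Fin a) (Fin b) B) (v : Fin b → B) :
    piMap Bq a (Ψ.mulVec v) = (Ψ.map (algebraMap B Bq)).mulVec (piMap Bq b v) := by
  ext i
  rw [piMap_apply]
  simp only [Matrix.mulVec, dotProduct, map_sum, map_mul, Matrix.map_apply, piMap_apply]

include S f in
theorem exists_loc_exact {a b : ℕ} (Ψ : Matrix (Fin a) (Fin b) B) (π : (Fin a → B) →ₗ[B] N)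
    (hπ : Function.Surjective π) (hex : Function.Exact Ψ.mulVecLin π) :
    ∃ π' : (Fin a → Bq) →ₗ[Bq] N', Function.Surjective π' ∧
      Function.Exact (Ψ.map (algebraMap B Bq)).mulVecLin π' := by
  let π₀ := IsLocalizedModule.map S (piMap Bq a) f π
  have hsurj : Function.Surjective π₀ := IsLocalizedModule.map_surjective S (piMap Bq a) f π hπ
  have hex' := IsLocalizedModule.map_exact S (piMap Bq b) (piMap Bq a) f Ψ.mulVecLin π hex
  have hmap : IsLocalizedModule.map S (piMap Bq b) (piMap Bq a) Ψ.mulVecLin =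
      ((Ψ.map (algebraMap B Bq)).mulVecLin).restrictScalars B := by
    apply IsLocalizedModule.linearMap_ext S (piMap Bq b) (piMap Bq a)
    rw [IsLocalizedModule.map_comp]
    apply LinearMap.ext
    intro v
    exact piMap_mulVec Bq Ψ v
  rw [hmap] at hex'
  exact ⟨π₀.extendScalarsOfIsLocalization S Bq, hsurj, hex'⟩

include S f in
/-- the localized cokernel is the cokernel of the localized matrix -/
theorem exists_equiv_coker {a b : ℕ} (Ψ : Matrix (Fin a) (Fin b) B) (π : (Fin a → B) →ₗ[B] N)
    (hπ : Function.Surjective π) (hex : Function.Exact Ψ.mulVecLin π) :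
    Nonempty (((Fin a → Bq) ⧸ LinearMap.range (Ψ.map (algebraMap B Bq)).mulVecLin) ≃ₗ[Bq] N') := by
  obtain ⟨π', hs, he⟩ := exists_loc_exact S Bq f Ψ π hπ hex
  have hk : LinearMap.ker π' = LinearMap.range (Ψ.map (algebraMap B Bq)).mulVecLin :=
    LinearMap.exact_iff.1 he
  exact ⟨(Submodule.quotEquivOfEq _ _ hk.symm).trans (π'.quotKerEquivOfSurjective hs)⟩

end lc

end Groth.Agent.Helper2.ZY
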