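import Mathlib
import Groth.Agent.Helper8.ReflLoc
import Groth.Agent.Helper2.ZY1

set_option linter.style.haveILetI false
set_option linter.unusedSectionVars false
set_option autoImplicit false

/-! Four-term free presentation of a reflexive module, locally split off `V(J)`. -/

namespace Groth.Agent.Helper2.ZY

open Module

universe u

theorem s18709 (B : Type u) [CommRing B] [IsNoetherianRing B]
    (J : Ideal B) (F : Type u) [AddCommGroup F] [Module B F] [Module.Finite B F]
    [Module.IsReflexive B F]
    (hU : ∀ q : PrimeSpectrum B, ¬ J ≤ q.asIdeal →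
      Module.Free (Localization.AtPrime q.asIdeal) (LocalizedModule q.asIdeal.primeCompl F)) :
    ∃ (n m : ℕ) (g : F →ₗ[B] (Fin n → B)) (h : (Fin n → B) →ₗ[B] (Fin m → B)),
      Function.Injective g ∧ Function.Exact g h ∧
      ∀ q : PrimeSpectrum B, ¬ J ≤ q.asIdeal →
        Module.Free (Localization.AtPrime q.asIdeal)
          (LocalizedModule q.asIdeal.primeCompl ((Fin m → B) ⧸ LinearMap.range h)) := by
  classical
  have hfd : Module.Finite B (Dual B F) := by
    have : IsNoetherian B (F →ₗ[B] B) := isNoetherian_linearMap B B F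
    infer_instance
  obtain ⟨n, π, hπ⟩ := Module.Finite.exists_fin' B (Dual B F)
  have : IsNoetherian B (Fin n → B) := inferInstance
  obtain ⟨m, ρ, hρ⟩ := Module.Finite.exists_fin' B (LinearMap.ker π)
  let ρ' : (Fin m → B) →ₗ[B] (Fin n → B) := (LinearMap.ker π).subtype ∘ₗ ρ
  have hρ'ker : ∀ d, π (ρ' d) = 0 := fun d => (ρ d).2
  have hρ'surj : ∀ c, π c = 0 → ∃ d, ρ' d = c := by
    intro c hc
    obtain ⟨d, hd⟩ := hρ ⟨c, hc⟩
    exact ⟨d, congrArg Subtype.val hd⟩
  let φ : Fin n → Dual B F := fun i => π (Pi.single i 1)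
  have hπc : ∀ c : Fin n → B, π c = ∑ i, c i • φ i := by
    intro c
    have : c = ∑ i, c i • (Pi.single i 1 : Fin n → B) := by
      ext j
      simp [Finset.sum_apply, Pi.single_apply]
    conv_lhs => rw [this]
    simp only [map_sum, map_smul, φ]
  let ι : F →ₗ[B] (Fin n → B) := LinearMap.pi fun i => φ i
  let Φ : Matrix (Fin n) (Fin m) B := Matrix.of fun i j => ρ' (Pi.single j 1) i
  have hρ'd : ∀ d : Fin m → B, ρ' d = ∑ j, d j • ρ' (Pi.single j 1) := by
    intro d
    have : d = ∑ j, d j • (Pi.single j 1 : Fin m → B) := by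
      ext j
      simp [Finset.sum_apply, Pi.single_apply]
    conv_lhs => rw [this]
    simp only [map_sum, map_smul]
  have hΦ : Φ.mulVecLin = ρ' := by
    apply LinearMap.ext
    intro d
    ext i
    rw [Matrix.mulVecLin_apply, hρ'd d, Finset.sum_apply]
    simp only [Matrix.mulVec, dotProduct, Φ, Matrix.of_apply, Pi.smul_apply, smul_eq_mul]
    exact Finset.sum_congr rfl fun j _ => mul_comm _ _
  have hexΦ : Function.Exact Φ.mulVecLin π := by
    rw [hΦ]
    intro c
    constructor
    · intro hc
      obtain ⟨d, hd⟩ := hρ'surj c hc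
      exact ⟨d, hd⟩
    · rintro ⟨d, rfl⟩
      exact hρ'ker d
  let u : (Fin n → B) →ₗ[B] (Fin m → B) := Φ.transpose.mulVecLin
  have hu : ∀ v j, u v j = ∑ i, ρ' (Pi.single j 1) i * v i := by
    intro v j
    simp only [u, Matrix.mulVecLin_apply, Matrix.mulVec, dotProduct, Matrix.transpose_apply, Φ,
      Matrix.of_apply]
  refine ⟨n, m, ι, u, ?_, ?_, ?_⟩
  · rw [injective_iff_map_eq_zero]
    intro g hg
    apply (Module.bijective_dual_eval B F).1
    rw [map_zero]
    ext ψ
    obtain ⟨c, rfl⟩ := hπ ψ
    rw [Dual.eval_apply, LinearMap.zero_apply, hπc, LinearMap.sum_apply]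
    refine Finset.sum_eq_zero fun i _ => ?_
    rw [LinearMap.smul_apply]
    have : φ i g = 0 := congrFun hg i
    rw [this, smul_zero]
  · intro v
    constructor
    · intro hv
      let ℓ : (Fin n → B) →ₗ[B] B := ∑ i, v i • (LinearMap.proj i : (Fin n → B) →ₗ[B] B)
      have hℓ : ∀ c, ℓ c = ∑ i, v i * c i := by
        intro c
        simp [ℓ, LinearMap.sum_apply]
      have hker : LinearMap.ker π ≤ LinearMap.ker ℓ := by
        intro c hc
        obtain ⟨d, rfl⟩ := hρ'surj c hc
        rw [LinearMap.mem_ker, hρ'd, map_sum]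
        refine Finset.sum_eq_zero fun j _ => ?_
        rw [map_smul, hℓ]
        have := congrFun hv j
        rw [hu] at this
        rw [smul_eq_mul]
        have h2 : ∑ i, v i * ρ' (Pi.single j 1) i = ∑ i, ρ' (Pi.single j 1) i * v i :=
          Finset.sum_congr rfl fun i _ => mul_comm _ _
        rw [h2, this]
        simp
      let ξ : Dual B (Dual B F) :=
        ((LinearMap.ker π).liftQ ℓ hker) ∘ₗ (π.quotKerEquivOfSurjective hπ).symm.toLinearMap
      have hξ : ∀ c, ξ (π c) = ℓ c := by
        intro c
        simp only [ξ, LinearMap.comp_apply, LinearEquiv.coe_coe]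
        have : (π.quotKerEquivOfSurjective hπ).symm (π c) = Submodule.Quotient.mk c := by
          rw [LinearEquiv.symm_apply_eq]
          rfl
        rw [this, Submodule.liftQ_apply]
      obtain ⟨g, hg⟩ := (Module.bijective_dual_eval B F).2 ξ
      refine ⟨g, ?_⟩
      ext i
      show φ i g = v i
      have h1 : ξ (φ i) = ℓ (Pi.single i 1) := hξ _
      rw [← hg, Dual.eval_apply, hℓ] at h1
      rw [h1]
      simp [Pi.single_apply]
    · rintro ⟨g, rfl⟩
      ext j
      rw [hu, Pi.zero_apply]
      have h1 := hρ'ker (Pi.single j 1)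
      rw [hπc] at h1
      have h2 := LinearMap.congr_fun h1 g
      rw [LinearMap.sum_apply, LinearMap.zero_apply] at h2
      rw [← h2]
      refine Finset.sum_congr rfl fun i _ => ?_
      rw [LinearMap.smul_apply, smul_eq_mul]
      rfl
  · intro q hq
    haveI := hU q hq
    haveI : Module.FinitePresentation B F := Module.finitePresentation_of_finite B F
    haveI : Module.FinitePresentation B (Dual B F) := Module.finitePresentation_of_finite B _
    haveI : Module.Finite (Localization.AtPrime q.asIdeal)
        (LocalizedModule q.asIdeal.primeCompl F) :=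
      Module.Finite.of_isLocalizedModule q.asIdeal.primeCompl
        (LocalizedModule.mkLinearMap q.asIdeal.primeCompl F)
    obtain ⟨e1⟩ := exists_equiv_coker q.asIdeal.primeCompl (Localization.AtPrime q.asIdeal)
      (Groth.Agent.Helper8.ReflLoc.d1 q.asIdeal.primeCompl (Localization.AtPrime q.asIdeal)
        (LocalizedModule.mkLinearMap q.asIdeal.primeCompl F)) Φ π hπ hexΦ
    have hP1 : Module.Projective (Localization.AtPrime q.asIdeal)
        ((Fin n → Localization.AtPrime q.asIdeal) ⧸ LinearMap.range
          (Φ.map (algebraMap B (Localization.AtPrime q.asIdeal))).mulVecLin) :=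
      Module.Projective.of_equiv e1.symm
    have hP2 := projective_coker_transpose _ hP1
    have hexu : Function.Exact Φ.transpose.mulVecLin (LinearMap.range u).mkQ := by
      rw [LinearMap.exact_iff, Submodule.ker_mkQ]
    obtain ⟨e2⟩ := exists_equiv_coker q.asIdeal.primeCompl (Localization.AtPrime q.asIdeal)
      (LocalizedModule.mkLinearMap q.asIdeal.primeCompl ((Fin m → B) ⧸ LinearMap.range u))
      Φ.transpose (LinearMap.range u).mkQ (Submodule.mkQ_surjective _) hexu
    rw [Matrix.transpose_map] at e2
    haveI : Module.Projective (Localization.AtPrime q.asIdeal)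
        (LocalizedModule q.asIdeal.primeCompl ((Fin m → B) ⧸ LinearMap.range u)) :=
      Module.Projective.of_equiv e2
    haveI : Module.Finite (Localization.AtPrime q.asIdeal)
        (LocalizedModule q.asIdeal.primeCompl ((Fin m → B) ⧸ LinearMap.range u)) :=
      Module.Finite.equiv e2
    exact Module.free_of_flat_of_isLocalRing

end Groth.Agent.Helper2.ZY
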