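import Mathlib
import Groth.Prelude
import Groth.Agent.Helper2.FibBC2
import Groth.Agent.Helper2.DualDepth
import Groth.Agent.Helper2.HartogsDual
import Groth.Agent.Helper2.LocInv
import Groth.Agent.Helper8.ReflLoc

set_option linter.style.haveILetI false
set_option linter.unusedSectionVars false
set_option autoImplicit false

/-! S18718, parts (i) and (ii). -/

namespace Groth.Agent.Helper2.ZZ

open TensorProduct Module

universe u

section
variable (A B : Type u) [CommRing A] [CommRing B] [IsNoetherianRing A] [IsNoetherianRing B]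
  [Algebra A B]
  (A' B' : Type u) [CommRing A'] [CommRing B'] [IsNoetherianRing A'] [IsNoetherianRing B']
  [Algebra A A'] [Algebra B B'] [Algebra A' B'] [Algebra A B'] [IsScalarTower A B B']
  [IsScalarTower A A' B'] [Algebra.IsPushout A B A' B'] [Module.Flat A B] (J : Ideal B)
  (F : Type u) [AddCommGroup F] [Module B F] [Module.Finite B F]

/-- off `V(J)` the evaluation map has an inverse up to an element outside the prime -/
theorem exists_inv_eval (q : Ideal B) [q.IsPrime]
    (hfree : Module.Free (Localization.AtPrime q) (LocalizedModule q.primeCompl F)) :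
    ∃ (l' : Dual B (Dual B F) →ₗ[B] F) (s : B), s ∉ q ∧
      l' ∘ₗ (Dual.eval B F) = s • LinearMap.id ∧ (Dual.eval B F) ∘ₗ l' = s • LinearMap.id := by
  haveI : Module.FinitePresentation B F := Module.finitePresentation_of_finite B F
  haveI : Module.Finite B (Dual B F) := by
    have : IsNoetherian B (F →ₗ[B] B) := isNoetherian_linearMap B B F
    infer_instance
  haveI : Module.FinitePresentation B (Dual B F) := Module.finitePresentation_of_finite B _
  haveI : Module.Finite B (Dual B (Dual B F)) := by
    have : IsNoetherian B (Dual B F →ₗ[B] B) := isNoetherian_linearMap B B (Dual B F)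
    infer_instance
  haveI : Module.FinitePresentation B (Dual B (Dual B F)) :=
    Module.finitePresentation_of_finite B _
  haveI : Module.Finite (Localization.AtPrime q) (LocalizedModule q.primeCompl F) :=
    Module.Finite.of_isLocalizedModule q.primeCompl (LocalizedModule.mkLinearMap q.primeCompl F)
  have hbij : Function.Bijective (IsLocalizedModule.map q.primeCompl
      (LocalizedModule.mkLinearMap q.primeCompl F)
      (Groth.Agent.Helper8.ReflLoc.d2 q.primeCompl (Localization.AtPrime q)
        (LocalizedModule.mkLinearMap q.primeCompl F)) (Dual.eval B F)) := by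
    rw [Groth.Agent.Helper8.ReflLoc.map_eval]
    exact Module.bijective_dual_eval (Localization.AtPrime q) (LocalizedModule q.primeCompl F)
  obtain ⟨l', s, hs, h1, h2⟩ := Groth.Agent.Helper2.LocInv.exists_inv q.primeCompl
    (LocalizedModule.mkLinearMap q.primeCompl F)
    (Groth.Agent.Helper8.ReflLoc.d2 q.primeCompl (Localization.AtPrime q)
      (LocalizedModule.mkLinearMap q.primeCompl F)) (Dual.eval B F) hbij
  exact ⟨l', s, hs, h1, h2⟩

theorem part1
    (hZ : ∀ q : PrimeSpectrum B, J ≤ q.asIdeal →
      2 ≤ LocCoh.idealDepth (q.asIdeal.map (algebraMap B (EGA4.FibLocRing A B q.asIdeal)))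
        (EGA4.FibLocRing A B q.asIdeal)) :
    2 ≤ LocCoh.idealDepth J (Dual B (Dual B F)) := by
  haveI : Module.Finite B (Dual B F) := by
    have : IsNoetherian B (F →ₗ[B] B) := isNoetherian_linearMap B B F
    infer_instance
  exact Groth.Agent.Helper2.DualDepth.two_le_depth_dual B (Dual B F) J
    (Groth.Agent.Helper2.ZU.le_idealDepth_ring A B J 2 hZ)

include A' in
theorem two_le_depth_B'
    (hZ : ∀ q : PrimeSpectrum B, J ≤ q.asIdeal →
      2 ≤ LocCoh.idealDepth (q.asIdeal.map (algebraMap B (EGA4.FibLocRing A B q.asIdeal)))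
        (EGA4.FibLocRing A B q.asIdeal)) :
    2 ≤ LocCoh.idealDepth (J.map (algebraMap B B')) B' := by
  haveI : Module.Flat A' B' := Groth.Agent.Helper2.FibBC.flat_baseChange A B A' B'
  exact Groth.Agent.Helper2.ZU.le_idealDepth_ring A' B' (J.map (algebraMap B B')) 2
    (fun q' hq' => Groth.Agent.Helper2.FibBC.fib_depth_baseChange A B A' B' J 2 hZ q' hq')

include A' in
theorem part2
    (hZ : ∀ q : PrimeSpectrum B, J ≤ q.asIdeal →
      2 ≤ LocCoh.idealDepth (q.asIdeal.map (algebraMap B (EGA4.FibLocRing A B q.asIdeal)))
        (EGA4.FibLocRing A B q.asIdeal))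
    (hFU : ∀ q : PrimeSpectrum B, ¬ J ≤ q.asIdeal →
      Module.Free (Localization.AtPrime q.asIdeal) (LocalizedModule q.asIdeal.primeCompl F)) :
    Function.Bijective (((Dual.eval B F).baseChange B').dualMap.dualMap) := by
  have hI' := two_le_depth_B' A B A' B' J hZ
  have hloc : ∀ q' : PrimeSpectrum B', ¬ J.map (algebraMap B B') ≤ q'.asIdeal →
      ∃ s : B', s ∉ q'.asIdeal ∧
        (∀ x, ((Dual.eval B F).baseChange B') x = 0 → s • x = 0) ∧
        (∀ y, s • y ∈ LinearMap.range ((Dual.eval B F).baseChange B')) := by
    intro q' hq'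
    have hq : ¬ J ≤ q'.asIdeal.comap (algebraMap B B') :=
      fun h => hq' (Ideal.map_le_iff_le_comap.2 h)
    obtain ⟨l', s, hs, h1, h2⟩ := exists_inv_eval B F (q'.asIdeal.comap (algebraMap B B'))
      (hFU ⟨q'.asIdeal.comap (algebraMap B B'), inferInstance⟩ hq)
    refine ⟨algebraMap B B' s, hs, ?_, ?_⟩
    · intro x hx
      have h3 : (l'.baseChange B') ∘ₗ ((Dual.eval B F).baseChange B') =
          (algebraMap B B' s) • LinearMap.id := by
        rw [← LinearMap.baseChange_comp, h1]
        ext y
        simp [TensorProduct.smul_tmul', Algebra.smul_def]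
      have := LinearMap.congr_fun h3 x
      simp only [LinearMap.coe_comp, Function.comp_apply, hx, map_zero, LinearMap.smul_apply,
        LinearMap.id_coe, id_eq] at this
      exact this.symm
    · intro y
      have h3 : ((Dual.eval B F).baseChange B') ∘ₗ (l'.baseChange B') =
          (algebraMap B B' s) • LinearMap.id := by
        rw [← LinearMap.baseChange_comp, h2]
        ext y
        simp [TensorProduct.smul_tmul', Algebra.smul_def]
      have := LinearMap.congr_fun h3 y
      simp only [LinearMap.coe_comp, Function.comp_apply, LinearMap.smul_apply,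
        LinearMap.id_coe, id_eq] at this
      exact ⟨_, this⟩
  have hb := Groth.Agent.Helper2.HartogsDual.dualMap_bijective B' (J.map (algebraMap B B'))
    ((Dual.eval B F).baseChange B') hI' hloc
  exact (LinearEquiv.ofBijective _ hb).dualMap.bijective

end

end Groth.Agent.Helper2.ZZ
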