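import Mathlib
import Groth.Prelude
import Groth.Agent.Helper2.ZZ1
import Groth.Agent.Helper2.ZY2
import Groth.Agent.Helper2.GFlat
import Groth.Agent.Helper2.BCExact
import Groth.Agent.Helper2.FibFreeB
import Groth.Agent.Helper2.LocFreeBC
import Groth.Agent.S18703

set_option linter.style.haveILetI false
set_option linter.unusedSectionVars false
set_option autoImplicit false

/-! S18718, part (iii). -/

namespace Groth.Agent.Helper2.ZZ

open TensorProduct Module

universe u

section
variable (A B : Type u) [CommRing A] [CommRing B] [IsNoetherianRing A] [IsNoetherianRing B]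
  [Algebra A B]
  (A' B' : Type u) [CommRing A'] [CommRing B'] [IsNoetherianRing A'] [IsNoetherianRing B']
  [Algebra A A'] [Algebra B B'] [Algebra A' B'] [Algebra A B'] [IsScalarTower A B B']
  [IsScalarTower A A' B'] [Algebra.IsPushout A B A' B'] [Module.Flat A B] (J : Ideal B)
  (F : Type u) [AddCommGroup F] [Module B F] [Module A F] [IsScalarTower A B F]
  [Module.Finite B F]

theorem flat_pi (n : ℕ) : Module.Flat A (Fin n → B) :=
  Module.Flat.of_linearEquiv (DirectSum.linearEquivFunOnFintype A (Fin n) (fun _ => B)).symm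

theorem free_loc_pi (n : ℕ) (q : Ideal B) [q.IsPrime] :
    Module.Free (Localization.AtPrime q) (LocalizedModule q.primeCompl (Fin n → B)) :=
  Module.free_of_isLocalizedModule q.primeCompl
    (LocalizedModule.mkLinearMap q.primeCompl (Fin n → B))

theorem flat_loc (q : Ideal B) [q.IsPrime] : Module.Flat A (Localization.AtPrime q) :=
  Module.Flat.trans A B (Localization.AtPrime q)

/-- a module which is free at `q` is flat over `A` at `q` -/
theorem flatAt_of_free (G : Type u) [AddCommGroup G] [Module B G] [Module A G]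
    [IsScalarTower A B G] (q : Ideal B) [q.IsPrime]
    (h : Module.Free (Localization.AtPrime q) (LocalizedModule q.primeCompl G)) :
    Module.Flat A (LocalizedModule q.primeCompl G) := by
  haveI := flat_loc A B q
  exact Module.Flat.trans A (Localization.AtPrime q) (LocalizedModule q.primeCompl G)


theorem part3a
    (hZ : ∀ q : PrimeSpectrum B, J ≤ q.asIdeal →
      2 ≤ LocCoh.idealDepth (q.asIdeal.map (algebraMap B (EGA4.FibLocRing A B q.asIdeal)))
        (EGA4.FibLocRing A B q.asIdeal))
    (hFU : ∀ q : PrimeSpectrum B, ¬ J ≤ q.asIdeal →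
      Module.Free (Localization.AtPrime q.asIdeal) (LocalizedModule q.asIdeal.primeCompl F))
    [Module.Flat A F]
    (hfib : ∀ q : PrimeSpectrum B, J ≤ q.asIdeal →
      2 ≤ LocCoh.idealDepth (q.asIdeal.map (algebraMap B (EGA4.FibLocRing A B q.asIdeal)))
        (EGA4.FibLocMod A B q.asIdeal F)) :
    Module.IsReflexive B F := by
  have hdep : 2 ≤ LocCoh.idealDepth J F :=
    Groth.Agent.Helper2.ZU.le_idealDepth_of_fib A B J 2 F hfib
  refine (Groth.Agent.Helper2.ZU.s18722 A B J
    (fun q hq => le_trans (by norm_num) (hZ q hq)) F).1 ?_ hdep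
  intro q hq
  haveI := hFU q hq
  haveI : Module.Finite (Localization.AtPrime q.asIdeal)
      (LocalizedModule q.asIdeal.primeCompl F) :=
    Module.Finite.of_isLocalizedModule q.asIdeal.primeCompl
      (LocalizedModule.mkLinearMap q.asIdeal.primeCompl F)
  infer_instance

include A' in
theorem part3b
    (hZ : ∀ q : PrimeSpectrum B, J ≤ q.asIdeal →
      2 ≤ LocCoh.idealDepth (q.asIdeal.map (algebraMap B (EGA4.FibLocRing A B q.asIdeal)))
        (EGA4.FibLocRing A B q.asIdeal))
    (hFU : ∀ q : PrimeSpectrum B, ¬ J ≤ q.asIdeal →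
      Module.Free (Localization.AtPrime q.asIdeal) (LocalizedModule q.asIdeal.primeCompl F))
    [Module.Flat A F]
    (hfib : ∀ q : PrimeSpectrum B, J ≤ q.asIdeal →
      2 ≤ LocCoh.idealDepth (q.asIdeal.map (algebraMap B (EGA4.FibLocRing A B q.asIdeal)))
        (EGA4.FibLocMod A B q.asIdeal F)) :
    Module.IsReflexive B' (B' ⊗[B] F) := by
  haveI : Module.IsReflexive B F := part3a A B J F hZ hFU hfib
  obtain ⟨n, m, g, h, hg, hgh, hGfree⟩ := Groth.Agent.Helper2.ZY.s18709 B J F hFU
  haveI := flat_pi A B n
  haveI := flat_pi A B m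
  have hmk : Function.Exact h (LinearMap.range h).mkQ := by
    rw [LinearMap.exact_iff, Submodule.ker_mkQ]
  -- the cokernel is flat over `A`
  haveI hGflat : Module.Flat A ((Fin m → B) ⧸ LinearMap.range h) := by
    refine Groth.Agent.Helper2.GFlat.flat_G A B J g h (LinearMap.range h).mkQ hg hgh hmk
      (Submodule.mkQ_surjective _) ?_ ?_ hfib
    · intro q hq
      exact flatAt_of_free A B _ q.asIdeal (hGfree q hq)
    · intro q hq
      haveI := free_loc_pi B n q.asIdeal
      exact Groth.Agent.Helper2.FibFreeB.one_le_fibdepth A B q.asIdeal (Fin n → B)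
        (le_trans (by norm_num) (hZ q hq))
  -- exactness after base change
  obtain ⟨hinj, hex⟩ := Groth.Agent.Helper2.BCExact.lTensor_four A A'
    (g.restrictScalars A) (h.restrictScalars A) ((LinearMap.range h).mkQ.restrictScalars A)
    hg hgh hmk (Submodule.mkQ_surjective _)
  haveI : Algebra.IsPushout A A' B B' := Algebra.IsPushout.symm inferInstance
  have hinj' : Function.Injective (g.baseChange B') :=
    Groth.Agent.Helper2.BCExact.baseChange_injective A B A' B' g hinj
  have hex' : Function.Exact (g.baseChange B') (h.baseChange B') :=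
    Groth.Agent.Helper2.BCExact.baseChange_exact A B A' B' g h hex
  -- depth of the base change
  have hI' := two_le_depth_B' A B A' B' J hZ
  have h0 : 2 ≤ LocCoh.idealDepth (J.map (algebraMap B B')) (B' ⊗[B] (Fin n → B)) := by
    rw [Groth.Agent.Helper9.ReflKer.idealDepth_congr _
      (TensorProduct.piScalarRight B B' B' (Fin n))]
    exact Groth.Agent.Helper9.ReflKer.two_le_idealDepth_pi _ _ n hI'
  have h1 : 1 ≤ LocCoh.idealDepth (J.map (algebraMap B B')) (B' ⊗[B] (Fin m → B)) := by
    rw [Groth.Agent.Helper9.ReflKer.idealDepth_congr _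
      (TensorProduct.piScalarRight B B' B' (Fin m))]
    exact Groth.Agent.Helper9.ReflKer.one_le_idealDepth_pi _ _ m (le_trans (by norm_num) hI')
  have hk := Groth.Agent.Helper9.DepthKer.depth_ker_two (I := J.map (algebraMap B B'))
    (h.baseChange B') h0 h1
  have hr : LinearMap.range (g.baseChange B') = LinearMap.ker (h.baseChange B') :=
    (LinearMap.exact_iff.1 hex').symm
  let e : (B' ⊗[B] F) ≃ₗ[B'] LinearMap.ker (h.baseChange B') :=
    (LinearEquiv.ofInjective (g.baseChange B') hinj').trans (LinearEquiv.ofEq _ _ hr)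
  have hdepF' : 2 ≤ LocCoh.idealDepth (J.map (algebraMap B B')) (B' ⊗[B] F) := by
    have := Groth.Agent.Helper9.ReflKer.idealDepth_congr (M := B' ⊗[B] F)
      (N := LinearMap.ker (h.baseChange B')) (J.map (algebraMap B B')) e
    rw [this]
    exact hk
  -- reflexivity
  refine Groth.Agent.S18703.result B' (J.map (algebraMap B B'))
    (le_trans (by norm_num) hI') (B' ⊗[B] F) ?_ hdepF'
  intro q' hq'
  have hq : ¬ J ≤ q'.asIdeal.comap (algebraMap B B') :=
    fun hle => hq' (Ideal.map_le_iff_le_comap.2 hle)
  haveI := Groth.Agent.Helper2.LocFreeBC.free_localized_baseChange B B' F q'.asIdeal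
    (hFU ⟨q'.asIdeal.comap (algebraMap B B'), inferInstance⟩ hq)
  haveI : Module.Finite (Localization.AtPrime q'.asIdeal)
      (LocalizedModule q'.asIdeal.primeCompl (B' ⊗[B] F)) :=
    Module.Finite.of_isLocalizedModule q'.asIdeal.primeCompl
      (LocalizedModule.mkLinearMap q'.asIdeal.primeCompl (B' ⊗[B] F))
  infer_instance

end

end Groth.Agent.Helper2.ZZ
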