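import Mathlib
import Groth.Prelude
import Groth.Agent.Helper2.YA3
import Groth.Agent.Helper2.ZU2
import Groth.Agent.Helper2.ZV1
import Groth.Agent.Helper2.ZZ2
import Groth.Agent.Helper2.GFlat
import Groth.Agent.Helper2.FourTerm
import Groth.Agent.Helper2.FibFreeB
import Groth.Agent.S18703

set_option linter.style.haveILetI false
set_option linter.unusedSectionVars false
set_option autoImplicit false

/-! Four-term exact sequences `0 → F → E⁰ → E¹ → G → 0` with `E⁰, E¹` finite projective over a flat
Noetherian `A`-algebra `B` whose fibres have depth `≥ 2` along `V(J)`. -/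

namespace Groth.Agent.Helper2.YA

open TensorProduct Function

universe u

theorem idealDepth_mono {R : Type u} [CommRing R] (I J : Ideal R) (hIJ : I ≤ J)
    (M : Type u) [AddCommGroup M] [Module R M] :
    LocCoh.idealDepth I M ≤ LocCoh.idealDepth J M := by
  by_cases hJM : J • (⊤ : Submodule R M) = ⊤
  · rw [Groth.Agent.Helper9.DepthKer.idealDepth_eq_top _ _ hJM]
    exact le_top
  have hIM : I • (⊤ : Submodule R M) ≠ ⊤ := by
    intro h
    have h1 : I • (⊤ : Submodule R M) ≤ J • (⊤ : Submodule R M) := Submodule.smul_mono_left hIJ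
    rw [h] at h1
    exact hJM (top_le_iff.1 h1)
  unfold LocCoh.idealDepth
  rw [if_neg hIM, if_neg hJM]
  exact iSup₂_le fun rs hrs => le_iSup₂_of_le rs ⟨hrs.1, fun r hr => hIJ (hrs.2 r hr)⟩ le_rfl

section
variable (A B : Type u) [CommRing A] [CommRing B] [IsNoetherianRing A] [IsNoetherianRing B]
  [Algebra A B] [Module.Flat A B] (J : Ideal B)
  {F E0 E1 G : Type u} [AddCommGroup F] [Module B F] [Module.Finite B F]
  [AddCommGroup E0] [Module B E0] [Module.Finite B E0] [Module.Projective B E0]
  [AddCommGroup E1] [Module B E1] [Module.Finite B E1] [Module.Projective B E1]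
  [AddCommGroup G] [Module B G] [Module.Finite B G]
  (f : F →ₗ[B] E0) (u : E0 →ₗ[B] E1) (v : E1 →ₗ[B] G)

theorem two_le_depth_ring
    (hZ : ∀ q : PrimeSpectrum B, J ≤ q.asIdeal →
      2 ≤ LocCoh.idealDepth (q.asIdeal.map (algebraMap B (EGA4.FibLocRing A B q.asIdeal)))
        (EGA4.FibLocRing A B q.asIdeal)) : 2 ≤ LocCoh.idealDepth J B := by
  have := Groth.Agent.Helper2.ZU.le_idealDepth_ring A B J 2 (fun q hq => by exact_mod_cast hZ q hq)
  exact_mod_cast this

theorem two_le_depth_F
    (hZ : ∀ q : PrimeSpectrum B, J ≤ q.asIdeal →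
      2 ≤ LocCoh.idealDepth (q.asIdeal.map (algebraMap B (EGA4.FibLocRing A B q.asIdeal)))
        (EGA4.FibLocRing A B q.asIdeal))
    (hf : Injective f) (hfu : Exact f u) : 2 ≤ LocCoh.idealDepth J F := by
  have hB := two_le_depth_ring A B J hZ
  have h0 : 2 ≤ LocCoh.idealDepth J E0 := hB.trans (idealDepth_le_of_projective J E0)
  have h1 : 1 ≤ LocCoh.idealDepth J E1 :=
    (le_trans (by norm_num) hB).trans (idealDepth_le_of_projective J E1)
  have hk := Groth.Agent.Helper9.DepthKer.depth_ker_two (I := J) u h0 h1
  let e : F ≃ₗ[B] LinearMap.ker u :=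
    (LinearEquiv.ofInjective f hf).trans (LinearEquiv.ofEq _ _ (LinearMap.exact_iff.1 hfu).symm)
  rw [Groth.Agent.Helper9.ReflKer.idealDepth_congr J e]
  exact hk

theorem reflexive_F
    (hZ : ∀ q : PrimeSpectrum B, J ≤ q.asIdeal →
      2 ≤ LocCoh.idealDepth (q.asIdeal.map (algebraMap B (EGA4.FibLocRing A B q.asIdeal)))
        (EGA4.FibLocRing A B q.asIdeal))
    (hf : Injective f) (hfu : Exact f u)
    (hFU : ∀ q : PrimeSpectrum B, ¬ J ≤ q.asIdeal →
      Module.Free (Localization.AtPrime q.asIdeal) (LocalizedModule q.asIdeal.primeCompl F)) :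
    Module.IsReflexive B F := by
  refine Groth.Agent.S18703.result B J (le_trans (by norm_num) (two_le_depth_ring A B J hZ)) F ?_
    (two_le_depth_F A B J f u hZ hf hfu)
  intro q hq
  haveI := hFU q hq
  haveI : Module.Finite (Localization.AtPrime q.asIdeal)
      (LocalizedModule q.asIdeal.primeCompl F) :=
    Module.Finite.of_isLocalizedModule q.asIdeal.primeCompl
      (LocalizedModule.mkLinearMap q.asIdeal.primeCompl F)
  infer_instance

omit [IsNoetherianRing A] [Algebra A B] [Module.Flat A B] in
/-- the kernel is free at a prime where the cokernel is. -/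
theorem free_ker (hf : Injective f) (hfu : Exact f u) (huv : Exact u v) (hv : Surjective v)
    (q : Ideal B) [q.IsPrime]
    (hG : Module.Free (Localization.AtPrime q) (LocalizedModule q.primeCompl G)) :
    Module.Free (Localization.AtPrime q) (LocalizedModule q.primeCompl F) := by
  haveI := hG
  haveI : IsNoetherianRing (Localization.AtPrime q) :=
    IsLocalization.isNoetherianRing q.primeCompl _ inferInstance
  haveI : Module.Finite (Localization.AtPrime q) (LocalizedModule q.primeCompl F) :=
    Module.Finite.of_isLocalizedModule q.primeCompl (LocalizedModule.mkLinearMap q.primeCompl F)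
  haveI := free_localized_of_projective E0 q
  haveI := free_localized_of_projective E1 q
  haveI : Module.Flat (Localization.AtPrime q) (LocalizedModule q.primeCompl F) :=
    Groth.Agent.Helper2.FourTerm.flat_F (A := Localization.AtPrime q)
      (B := Localization.AtPrime q)
      (LocalizedModule.map q.primeCompl f) (LocalizedModule.map q.primeCompl u)
      (LocalizedModule.map q.primeCompl v)
      (LocalizedModule.map_injective q.primeCompl f hf)
      (LocalizedModule.map_exact q.primeCompl f u hfu)
      (LocalizedModule.map_exact q.primeCompl u v huv)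
      (LocalizedModule.map_surjective q.primeCompl v hv)
  exact Module.free_of_flat_of_isLocalRing

end

section Rel
variable (A B : Type u) [CommRing A] [CommRing B] [IsNoetherianRing A] [IsNoetherianRing B]
  [Algebra A B] [Module.Flat A B] (J : Ideal B)
  {F E0 E1 G : Type u} [AddCommGroup F] [Module B F] [Module A F] [IsScalarTower A B F]
  [Module.Finite B F]
  [AddCommGroup E0] [Module B E0] [Module A E0] [IsScalarTower A B E0] [Module.Finite B E0]
  [Module.Projective B E0]
  [AddCommGroup E1] [Module B E1] [Module A E1] [IsScalarTower A B E1] [Module.Finite B E1]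
  [Module.Projective B E1]
  [AddCommGroup G] [Module B G] [Module A G] [IsScalarTower A B G] [Module.Finite B G]
  (f : F →ₗ[B] E0) (u : E0 →ₗ[B] E1) (v : E1 →ₗ[B] G)

theorem flat_G_of_fibdepth
    (hZ : ∀ q : PrimeSpectrum B, J ≤ q.asIdeal →
      2 ≤ LocCoh.idealDepth (q.asIdeal.map (algebraMap B (EGA4.FibLocRing A B q.asIdeal)))
        (EGA4.FibLocRing A B q.asIdeal))
    (hf : Injective f) (hfu : Exact f u) (huv : Exact u v) (hv : Surjective v)
    (hGU : ∀ q : PrimeSpectrum B, ¬ J ≤ q.asIdeal →
      Module.Free (Localization.AtPrime q.asIdeal) (LocalizedModule q.asIdeal.primeCompl G))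
    (h2 : ∀ q : PrimeSpectrum B,
      2 ≤ LocCoh.idealDepth (J.map (algebraMap B (EGA4.FibLocRing A B q.asIdeal)))
        (EGA4.FibLocMod A B q.asIdeal F)) :
    Module.Flat A G := by
  haveI : Module.Flat A E0 := Module.Flat.trans A B E0
  haveI : Module.Flat A E1 := Module.Flat.trans A B E1
  refine Groth.Agent.Helper2.GFlat.flat_G A B J f u v hf hfu huv hv ?_ ?_ ?_
  · intro q hq
    exact Groth.Agent.Helper2.ZZ.flatAt_of_free A B G q.asIdeal (hGU q hq)
  · intro q hq
    haveI := free_localized_of_projective E0 q.asIdeal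
    exact Groth.Agent.Helper2.FibFreeB.one_le_fibdepth A B q.asIdeal E0
      (le_trans (by norm_num) (hZ q hq))
  · intro q hq
    exact (h2 q).trans (idealDepth_mono _ _ (Ideal.map_mono hq) _)

theorem fibdepth_of_flat_G [Module.Flat A G]
    (hZ : ∀ q : PrimeSpectrum B, J ≤ q.asIdeal →
      2 ≤ LocCoh.idealDepth (q.asIdeal.map (algebraMap B (EGA4.FibLocRing A B q.asIdeal)))
        (EGA4.FibLocRing A B q.asIdeal))
    (hf : Injective f) (hfu : Exact f u) (huv : Exact u v) (hv : Surjective v)
    (q : Ideal B) [q.IsPrime] :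
    Module.Flat A (LocalizedModule q.primeCompl F) ∧
      2 ≤ LocCoh.idealDepth (J.map (algebraMap B (EGA4.FibLocRing A B q)))
        (EGA4.FibLocMod A B q F) := by
  haveI : Module.Flat A E0 := Module.Flat.trans A B E0
  haveI : Module.Flat A E1 := Module.Flat.trans A B E1
  haveI : Module.Flat A F := Groth.Agent.Helper2.FourTerm.flat_F f u v hf hfu huv hv
  refine ⟨Groth.Agent.Helper2.FourTerm.flat_localizedModule F q.primeCompl, ?_⟩
  have := fibdepth_along A B J F 2 (fun Q hQ => by
    haveI := free_localized_of_projective E0 Q.asIdeal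
    haveI := free_localized_of_projective E1 Q.asIdeal
    have h := Groth.Agent.Helper2.ZV.fibdepth_of_flatAt A B f u v hf hfu huv hv Q.asIdeal
      (Groth.Agent.Helper2.FourTerm.flat_localizedModule G Q.asIdeal.primeCompl)
      (Groth.Agent.Helper2.FibFreeB.two_le_fibdepth A B Q.asIdeal E0 (hZ Q hQ))
      (Groth.Agent.Helper2.FibFreeB.one_le_fibdepth A B Q.asIdeal E1
        (le_trans (by norm_num) (hZ Q hQ)))
    exact_mod_cast h) q
  exact_mod_cast this

end Rel

end Groth.Agent.Helper2.YA
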