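import Mathlib

set_option autoImplicit false
universe u v
open CategoryTheory MonoidalCategory CartesianMonoidalCategory MonObj GrpObj AlgebraicGeometry CategoryTheory.Limits

namespace Groth.Agent.Helper2.YonedaGrp

variable {C : Type u} [Category.{v} C] [CartesianMonoidalCategory C] {G X : C} [GrpObj G]

/-- a morphism to a product is the lift of its components -/
lemma eq_lift {T Y Z : C} (f : T ⟶ Y ⊗ Z) : f = lift (f ≫ fst Y Z) (f ≫ snd Y Z) := by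
  ext <;> simp

lemma lift_one {T : C} (x : T ⟶ X) : lift x (1 : T ⟶ G) = x ≫ lift (𝟙 X) (1 : X ⟶ G) := by
  rw [comp_lift, Category.comp_id, MonObj.comp_one]

/-- structure of equivariant endomorphisms of the trivial bundle -/
theorem equivariant_eq (Φ : X ⊗ G ⟶ X ⊗ G) (h₁ : Φ ≫ fst X G = fst X G)
    (h₂ : ∀ (T : C) (x : T ⟶ X) (g h : T ⟶ G),
      lift x (g * h) ≫ Φ ≫ snd X G = (lift x g ≫ Φ ≫ snd X G) * h)
    (T : C) (x : T ⟶ X) (g : T ⟶ G) :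
    lift x g ≫ Φ = lift x ((x ≫ (lift (𝟙 X) (1 : X ⟶ G) ≫ Φ ≫ snd X G)) * g) := by
  rw [eq_lift (lift x g ≫ Φ), Category.assoc, Category.assoc, h₁, lift_fst]
  congr 1
  have := h₂ T x 1 g
  rw [_root_.one_mul] at this
  rw [this, lift_one, Category.assoc]

theorem S14876_gen (Φ : X ⊗ G ⟶ X ⊗ G) (h₁ : Φ ≫ fst X G = fst X G)
    (h₂ : ∀ (T : C) (x : T ⟶ X) (g h : T ⟶ G),
      lift x (g * h) ≫ Φ ≫ snd X G = (lift x g ≫ Φ ≫ snd X G) * h) :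
    ∃ φ : X ⟶ G, ∀ (T : C) (x : T ⟶ X) (g : T ⟶ G),
      lift x g ≫ Φ = lift x ((x ≫ φ) * g) :=
  ⟨_, equivariant_eq Φ h₁ h₂⟩

/-- a morphism out of a product is determined by its value on the generic point -/
lemma generic {Y Z W : C} (F : Y ⊗ Z ⟶ W) : F = lift (fst Y Z) (snd Y Z) ≫ F := by
  rw [lift_fst_snd, Category.id_comp]

theorem S14880_gen (Γ : Type) [Group Γ] (ρ : Γ → (X ⟶ X)) (hρ₁ : ρ 1 = 𝟙 X)
    (hρ : ∀ σ τ : Γ, ρ (σ * τ) = ρ σ ≫ ρ τ)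
    (φ : Γ → (X ⟶ G)) (hφ : ∀ σ τ : Γ, φ (σ * τ) = φ σ * (ρ σ ≫ φ τ))
    (lam : Γ → (X ⊗ G ⟶ X ⊗ G))
    (hlam : ∀ (σ : Γ) (T : C) (x : T ⟶ X) (g : T ⟶ G),
      lift x g ≫ lam σ = lift (x ≫ ρ σ) ((x ≫ φ σ)⁻¹ * g)) :
    lam 1 = 𝟙 (X ⊗ G) ∧ (∀ σ τ : Γ, lam (σ * τ) = lam σ ≫ lam τ) ∧
      (∀ σ : Γ, lam σ ≫ fst X G = fst X G ≫ ρ σ) ∧
      ∀ (σ : Γ) (T : C) (x : T ⟶ X) (g h : T ⟶ G),
        lift x (g * h) ≫ lam σ ≫ snd X G = (lift x g ≫ lam σ ≫ snd X G) * h := by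
  have hφ1 : φ 1 = 1 := by
    have := hφ 1 1
    rw [_root_.mul_one, hρ₁, Category.id_comp] at this
    exact (_root_.mul_eq_left.mp this.symm)
  refine ⟨?_, ?_, ?_, ?_⟩
  · rw [generic (lam 1), hlam, hρ₁, hφ1, Category.comp_id, MonObj.comp_one, _root_.inv_one, _root_.one_mul,
      lift_fst_snd]
  · intro σ τ
    rw [generic (lam (σ * τ)), generic (lam σ ≫ lam τ), ← Category.assoc, hlam, hlam, hlam, hρ, hφ]
    congr 1
    · rw [Category.assoc]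
    · rw [MonObj.comp_mul, _root_.mul_inv_rev, _root_.mul_assoc, Category.assoc]
  · intro σ
    rw [generic (lam σ ≫ fst X G), ← Category.assoc, hlam, lift_fst]
  · intro σ T x g h
    rw [← Category.assoc, hlam, lift_snd, ← Category.assoc, hlam, lift_snd, _root_.mul_assoc]

theorem S14881_gen (Γ : Type) [Group Γ] (ρ : Γ → (X ⟶ X))
    (lam : Γ → (X ⊗ G ⟶ X ⊗ G))
    (hlam : ∀ σ τ : Γ, lam (σ * τ) = lam σ ≫ lam τ)
    (hfst : ∀ σ : Γ, lam σ ≫ fst X G = fst X G ≫ ρ σ)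
    (hG : ∀ (σ : Γ) (T : C) (x : T ⟶ X) (g h : T ⟶ G),
      lift x (g * h) ≫ lam σ ≫ snd X G = (lift x g ≫ lam σ ≫ snd X G) * h) :
    ∃! φ : Γ → (X ⟶ G), (∀ σ τ : Γ, φ (σ * τ) = φ σ * (ρ σ ≫ φ τ)) ∧
      ∀ (σ : Γ) (T : C) (x : T ⟶ X) (g : T ⟶ G),
        lift x g ≫ lam σ = lift (x ≫ ρ σ) ((x ≫ φ σ)⁻¹ * g) := by
  set ψ : Γ → (X ⟶ G) := fun σ => lift (𝟙 X) (1 : X ⟶ G) ≫ lam σ ≫ snd X G with hψ
  have key : ∀ (σ : Γ) (T : C) (x : T ⟶ X) (g : T ⟶ G),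
      lift x g ≫ lam σ = lift (x ≫ ρ σ) ((x ≫ ψ σ) * g) := by
    intro σ T x g
    rw [eq_lift (lift x g ≫ lam σ), Category.assoc, Category.assoc, hfst, ← Category.assoc,
      lift_fst]
    congr 1
    have := hG σ T x 1 g
    rw [_root_.one_mul] at this
    rw [this, lift_one, Category.assoc]
  refine ⟨fun σ => (ψ σ)⁻¹, ⟨?_, ?_⟩, ?_⟩
  · intro σ τ
    have h1 : ψ (σ * τ) = (ρ σ ≫ ψ τ) * ψ σ := by
      change lift (𝟙 X) (1 : X ⟶ G) ≫ lam (σ * τ) ≫ snd X G = _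
      rw [hlam, ← Category.assoc, ← Category.assoc, key, Category.id_comp, Category.id_comp,
        _root_.mul_one, Category.assoc, ← Category.assoc, key, lift_snd]
    change (ψ (σ * τ))⁻¹ = (ψ σ)⁻¹ * (ρ σ ≫ (ψ τ)⁻¹)
    rw [h1, _root_.mul_inv_rev, GrpObj.comp_inv]
  · intro σ T x g
    rw [key, GrpObj.comp_inv, _root_.inv_inv]
  · intro φ' ⟨_, h2⟩
    funext σ
    have := h2 σ X (𝟙 X) 1
    rw [Category.id_comp, Category.id_comp, _root_.mul_one] at this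
    have h3 : ψ σ = (φ' σ)⁻¹ := by
      change lift (𝟙 X) (1 : X ⟶ G) ≫ lam σ ≫ snd X G = _
      rw [← Category.assoc, this, lift_snd]
    rw [h3, _root_.inv_inv]

theorem S14882_gen (Γ : Type) [Group Γ] (ρ : Γ → (X ⟶ X))
    (φ φ' : Γ → (X ⟶ G))
    (lam lam' : Γ → (X ⊗ G ⟶ X ⊗ G))
    (hlam : ∀ (σ : Γ) (T : C) (x : T ⟶ X) (g : T ⟶ G),
      lift x g ≫ lam σ = lift (x ≫ ρ σ) ((x ≫ φ σ)⁻¹ * g))
    (hlam' : ∀ (σ : Γ) (T : C) (x : T ⟶ X) (g : T ⟶ G),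
      lift x g ≫ lam' σ = lift (x ≫ ρ σ) ((x ≫ φ' σ)⁻¹ * g)) :
    (∃ Φ : X ⊗ G ⟶ X ⊗ G, IsIso Φ ∧ Φ ≫ fst X G = fst X G ∧
      (∀ (T : C) (x : T ⟶ X) (g h : T ⟶ G),
        lift x (g * h) ≫ Φ ≫ snd X G = (lift x g ≫ Φ ≫ snd X G) * h) ∧
      ∀ σ : Γ, lam σ ≫ Φ = Φ ≫ lam' σ) ↔
    ∃ ψ : X ⟶ G, ∀ σ : Γ, φ σ = ψ⁻¹ * φ' σ * (ρ σ ≫ ψ) := by
  constructor
  · rintro ⟨Φ, -, h₁, h₂, h₃⟩
    set θ : X ⟶ G := lift (𝟙 X) (1 : X ⟶ G) ≫ Φ ≫ snd X G with hθ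
    have key := equivariant_eq Φ h₁ h₂
    refine ⟨θ, fun σ => ?_⟩
    have e1 : lift (𝟙 X) (1 : X ⟶ G) ≫ (lam σ ≫ Φ) ≫ snd X G = (ρ σ ≫ θ) * (φ σ)⁻¹ := by
      rw [Category.assoc, ← Category.assoc, hlam, Category.id_comp, Category.id_comp,
        _root_.mul_one, ← Category.assoc, key, lift_snd]
    have e2 : lift (𝟙 X) (1 : X ⟶ G) ≫ (Φ ≫ lam' σ) ≫ snd X G = (φ' σ)⁻¹ * θ := by
      rw [Category.assoc, ← Category.assoc, key, Category.id_comp, _root_.mul_one,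
        ← Category.assoc, hlam', lift_snd, Category.id_comp]
    rw [h₃ σ, e2] at e1
    -- (φ' σ)⁻¹ * θ = (ρ σ ≫ θ) * (φ σ)⁻¹
    have : φ σ = ((φ' σ)⁻¹ * θ)⁻¹ * (ρ σ ≫ θ) := by
      rw [e1]; group
    rw [this]; group
  · rintro ⟨ψ, hψ⟩
    have hΦ : ∀ (T : C) (x : T ⟶ X) (g : T ⟶ G),
        lift x g ≫ lift (fst X G) ((fst X G ≫ ψ) * snd X G) = lift x ((x ≫ ψ) * g) := by
      intro T x g
      rw [comp_lift, MonObj.comp_mul, ← Category.assoc, lift_fst, lift_snd]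
    have hΦ' : ∀ (T : C) (x : T ⟶ X) (g : T ⟶ G),
        lift x g ≫ lift (fst X G) ((fst X G ≫ ψ)⁻¹ * snd X G) = lift x ((x ≫ ψ)⁻¹ * g) := by
      intro T x g
      rw [comp_lift, MonObj.comp_mul, GrpObj.comp_inv, ← Category.assoc, lift_fst, lift_snd]
    refine ⟨lift (fst X G) ((fst X G ≫ ψ) * snd X G),
      ⟨lift (fst X G) ((fst X G ≫ ψ)⁻¹ * snd X G), ?_, ?_⟩, lift_fst _ _, ?_, ?_⟩
    · rw [generic (lift (fst X G) ((fst X G ≫ ψ) * snd X G) ≫ _), ← Category.assoc, hΦ, hΦ',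
        inv_mul_cancel_left, lift_fst_snd]
    · rw [generic (lift (fst X G) ((fst X G ≫ ψ)⁻¹ * snd X G) ≫ _), ← Category.assoc, hΦ', hΦ,
        mul_inv_cancel_left, lift_fst_snd]
    · intro T x g h
      rw [← Category.assoc, hΦ, lift_snd, ← Category.assoc, hΦ, lift_snd, _root_.mul_assoc]
    · intro σ
      rw [generic (lam σ ≫ _), generic (lift (fst X G) ((fst X G ≫ ψ) * snd X G) ≫ lam' σ),
        ← Category.assoc, hlam, hΦ, ← Category.assoc, hΦ, hlam']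
      congr 1
      rw [hψ σ, MonObj.comp_mul, MonObj.comp_mul, GrpObj.comp_inv, Category.assoc]
      group


end Groth.Agent.Helper2.YonedaGrp
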