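import Mathlib
import Groth.Prelude.Def_EGA4b

set_option autoImplicit false
universe u

namespace Groth.Agent.Helper2.ZA

open Submodule

variable {A : Type u} [CommRing A] [IsNoetherianRing A] (p : Ideal A) [hpp : p.IsPrime]
variable (𝒵 : Set (PrimeSpectrum A))
variable {N : Type u} [AddCommGroup N] [Module A N] (φ : (A ⧸ p) →ₗ[A] N)

local notation "B" => A ⧸ p
local notation "K" => FractionRing (A ⧸ p)

theorem mk_ne_zero {s : A} (hs : s ∉ p) : (Ideal.Quotient.mk p s : B) ≠ 0 :=
  fun h => hs (Ideal.Quotient.eq_zero_iff_mem.mp h)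

theorem algebraMap_mk_ne_zero {s : A} (hs : s ∉ p) :
    algebraMap B K (Ideal.Quotient.mk p s) ≠ 0 := by
  intro h
  exact mk_ne_zero p hs ((IsFractionRing.injective B K) (h.trans (map_zero _).symm))

theorem smul_eq_mk_mul (a : A) (b : B) : a • b = Ideal.Quotient.mk p a * b := by
  rw [Algebra.smul_def]; rfl

/-- hypotheses of the comparison lemma -/
structure Hyp : Prop where
  hp : (⟨p, hpp⟩ : PrimeSpectrum A) ∉ 𝒵
  h1 : ∀ x : PrimeSpectrum A, x ∉ 𝒵 → ∀ n : N, ∃ s : A, s ∉ x.asIdeal ∧ ∃ b : B, s • n = φ b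
  h2 : Function.Injective φ
  h3 : ∀ x ∈ 𝒵, ∀ n : N, (∀ a ∈ x.asIdeal, a • n = 0) → ∃ s : A, s ∉ x.asIdeal ∧ s • n = 0

variable {p 𝒵 φ}

/-- `N` has no `p`-torsion. -/
theorem Hyp.torsionFree (H : Hyp p 𝒵 φ) (n : N) (u : A) (hu : u ∉ p) (hun : u • n = 0) : n = 0 := by
  by_contra hn
  obtain ⟨P, hP, hle⟩ := exists_le_isAssociatedPrime_of_isNoetherianRing A n hn
  rw [isAssociatedPrime_iff] at hP
  obtain ⟨hPprime, n', hn'⟩ := hP
  have hmem : ∀ a : A, a ∈ P ↔ a • n' = 0 := by
    intro a
    rw [hn', mem_colon_singleton, mem_bot]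
  have huP : u ∈ P := hle (by rw [mem_colon_singleton, mem_bot]; exact hun)
  by_cases hx : (⟨P, hPprime⟩ : PrimeSpectrum A) ∈ 𝒵
  · obtain ⟨s, hs, hsn⟩ := H.h3 ⟨P, hPprime⟩ hx n' (fun a ha => (hmem a).mp ha)
    exact hs ((hmem s).mpr hsn)
  · obtain ⟨s, hs, b, hsb⟩ := H.h1 ⟨P, hPprime⟩ hx n'
    have hb : b ≠ 0 := by
      rintro rfl
      rw [map_zero] at hsb
      exact hs ((hmem s).mpr hsb)
    have hPp : P ≤ p := by
      intro a ha
      have h0 : φ (a • b) = 0 := by
        rw [map_smul, ← hsb, smul_comm, (hmem a).mp ha, smul_zero]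
      have h1 : a • b = 0 := H.h2 (h0.trans (map_zero φ).symm)
      rw [smul_eq_mk_mul] at h1
      rcases mul_eq_zero.mp h1 with h | h
      · exact Ideal.Quotient.eq_zero_iff_mem.mp h
      · exact absurd h hb
    exact hu (hPp huP)

section Phi

variable (H : Hyp p 𝒵 φ)

include H in
theorem Hyp.exists_rep (n : N) : ∃ s : A, s ∉ p ∧ ∃ b : B, s • n = φ b :=
  H.h1 ⟨p, hpp⟩ H.hp n

/-- chosen denominator -/
noncomputable def Hyp.den (n : N) : A := (H.exists_rep n).choose
theorem Hyp.den_notMem (n : N) : H.den n ∉ p := (H.exists_rep n).choose_spec.1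
/-- chosen numerator -/
noncomputable def Hyp.num (n : N) : B := (H.exists_rep n).choose_spec.2.choose
theorem Hyp.den_smul (n : N) : H.den n • n = φ (H.num n) :=
  (H.exists_rep n).choose_spec.2.choose_spec

/-- the comparison map to the fraction field, as a function -/
noncomputable def Hyp.PhiFun (n : N) : K :=
  algebraMap B K (H.num n) / algebraMap B K (Ideal.Quotient.mk p (H.den n))

theorem Hyp.PhiFun_char (n : N) (s : A) (hs : s ∉ p) (b : B) (hsb : s • n = φ b) :
    algebraMap B K (Ideal.Quotient.mk p s) * H.PhiFun n = algebraMap B K b := by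
  have h1 : φ (s • H.num n) = φ (H.den n • b) := by
    rw [map_smul, map_smul, ← H.den_smul, ← hsb, smul_comm]
  have h2 := H.h2 h1
  rw [smul_eq_mk_mul, smul_eq_mk_mul] at h2
  have h3 := congrArg (algebraMap B K) h2
  rw [map_mul, map_mul] at h3
  have hd := algebraMap_mk_ne_zero p (H.den_notMem n)
  unfold Hyp.PhiFun
  field_simp
  rw [h3]

theorem Hyp.PhiFun_unique (n : N) (s : A) (hs : s ∉ p) (b : B) (hsb : s • n = φ b) (k : K)
    (hk : algebraMap B K (Ideal.Quotient.mk p s) * k = algebraMap B K b) : H.PhiFun n = k := by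
  have h := H.PhiFun_char n s hs b hsb
  exact mul_left_cancel₀ (algebraMap_mk_ne_zero p hs) (h.trans hk.symm)

/-- the comparison map to the fraction field -/
noncomputable def Hyp.Phi : N →ₗ[A] K where
  toFun := H.PhiFun
  map_add' n n' := by
    have hs : H.den n * H.den n' ∉ p := fun h =>
      (hpp.mem_or_mem h).elim (H.den_notMem n) (H.den_notMem n')
    refine H.PhiFun_unique (n + n') (H.den n * H.den n') hs
      (H.den n' • H.num n + H.den n • H.num n') ?_ _ ?_
    · rw [map_add, map_smul, map_smul, ← H.den_smul, ← H.den_smul, smul_add, mul_smul, mul_smul,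
        smul_comm (H.den n) (H.den n') n]
    · rw [map_mul, map_mul, map_add, smul_eq_mk_mul, smul_eq_mk_mul, map_mul, map_mul]
      have e1 := H.PhiFun_char n (H.den n) (H.den_notMem n) _ (H.den_smul n)
      have e2 := H.PhiFun_char n' (H.den n') (H.den_notMem n') _ (H.den_smul n')
      rw [← e1, ← e2]
      ring
  map_smul' a n := by
    refine H.PhiFun_unique (a • n) (H.den n) (H.den_notMem n) (a • H.num n) ?_ _ ?_
    · rw [map_smul, ← H.den_smul, smul_comm]
    · have e1 := H.PhiFun_char n (H.den n) (H.den_notMem n) _ (H.den_smul n)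
      rw [RingHom.id_apply, smul_eq_mk_mul, map_mul, ← e1, Algebra.smul_def,
        IsScalarTower.algebraMap_apply A B K]
      have : algebraMap A B a = Ideal.Quotient.mk p a := rfl
      rw [this]
      ring

theorem Hyp.Phi_char (n : N) (s : A) (hs : s ∉ p) (b : B) (hsb : s • n = φ b) :
    algebraMap B K (Ideal.Quotient.mk p s) * H.Phi n = algebraMap B K b :=
  H.PhiFun_char n s hs b hsb

theorem Hyp.Phi_injective : Function.Injective H.Phi := by
  rw [injective_iff_map_eq_zero]
  intro n hn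
  have h := H.Phi_char n (H.den n) (H.den_notMem n) _ (H.den_smul n)
  rw [hn, mul_zero] at h
  have hnum : H.num n = 0 := (IsFractionRing.injective B K) (h.symm.trans (map_zero _).symm)
  have h2 := H.den_smul n
  rw [hnum, map_zero] at h2
  exact H.torsionFree n _ (H.den_notMem n) h2

theorem Hyp.Phi_phi (b : B) : H.Phi (φ b) = algebraMap B K b := by
  have h := H.Phi_char (φ b) 1 (fun h => hpp.ne_top ((Ideal.eq_top_iff_one p).mpr h)) b
    (one_smul _ _)
  rwa [map_one, map_one, one_mul] at h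

end Phi

/-- the image of `Φ` lies in the height one hull, under the codimension hypothesis -/
theorem Hyp.Phi_mem_hull (H : Hyp p 𝒵 φ)
    (hcodim : ∀ y ∈ 𝒵, p ≤ y.asIdeal →
      (2 : ℕ∞) ≤ (y.asIdeal.map (Ideal.Quotient.mk p)).height) (n : N) :
    H.Phi n ∈ EGA4.heightOneHull B := by
  intro 𝔭 h𝔭 hht
  let x : PrimeSpectrum A := ⟨𝔭.comap (Ideal.Quotient.mk p), inferInstance⟩
  have hpx : p ≤ x.asIdeal := by
    intro a ha
    show Ideal.Quotient.mk p a ∈ 𝔭
    rw [Ideal.Quotient.eq_zero_iff_mem.mpr ha]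
    exact 𝔭.zero_mem
  have hmap : x.asIdeal.map (Ideal.Quotient.mk p) = 𝔭 :=
    Ideal.map_comap_of_surjective _ Ideal.Quotient.mk_surjective 𝔭
  have hx : x ∉ 𝒵 := by
    intro hx
    have := hcodim x hx hpx
    rw [hmap, hht] at this
    norm_num at this
  obtain ⟨s, hs, b, hsb⟩ := H.h1 x hx n
  have hsp : s ∉ p := fun h => hs (hpx h)
  exact ⟨Ideal.Quotient.mk p s, hs, b, (H.Phi_char n s hsp b hsb).symm⟩

/-- **comparison lemma**: under the hypotheses, `N` is a finite module. -/
theorem Hyp.finite (H : Hyp p 𝒵 φ) (hfin : EGA4.HeightOneHullFinite B)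
    (hcodim : ∀ y ∈ 𝒵, p ≤ y.asIdeal →
      (2 : ℕ∞) ≤ (y.asIdeal.map (Ideal.Quotient.mk p)).height) : Module.Finite A N := by
  obtain ⟨B', hB', hB'fin⟩ := hfin
  haveI : Module.Finite B B' := hB'fin
  haveI : Module.Finite A B := Module.Finite.of_surjective (Ideal.Quotient.mkₐ A p).toLinearMap
    Ideal.Quotient.mk_surjective
  haveI : Module.Finite A B' := Module.Finite.trans B B'
  haveI : IsNoetherian A B' := isNoetherian_of_isNoetherianRing_of_finite A B'
  let Ψ : N →ₗ[A] B' := LinearMap.codRestrict (B'.toSubmodule.restrictScalars A) H.Phi (by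
    intro n
    show H.Phi n ∈ (B' : Set K)
    rw [hB']
    exact H.Phi_mem_hull hcodim n)
  have hΨ : Function.Injective Ψ := by
    intro n n' h
    apply H.Phi_injective
    exact congrArg Subtype.val h
  exact Module.Finite.of_injective Ψ hΨ

end Groth.Agent.Helper2.ZA
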