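import Mathlib
import Groth.Prelude.Def_ZClos
import Groth.Agent.Helper6.ZCl5
import Groth.Agent.Lead.HartogsConv

set_option autoImplicit false
universe u
open CategoryTheory CategoryTheory.Limits AlgebraicGeometry TopologicalSpace Opposite ZClos

namespace Groth.Agent.Helper2.ZB

open Groth.Agent.Helper6 Groth.Agent.Helper6.ZCl2

variable {X : Scheme.{u}}

/-- The closure of a point of `Z` as a member of the index `Cl Z`. -/
def clPt {Z : Set X} (hZ : StableUnderSpecialization Z) (x : X) (hx : x ∈ Z) : Cl Z :=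
  ⟨⟨closure {x}, isClosed_closure⟩, fun y hy => hZ (specializes_iff_mem_closure.mpr hy) hx⟩

lemma mem_clPt {Z : Set X} (hZ : StableUnderSpecialization Z) (x : X) (hx : x ∈ Z) :
    x ∈ ((clPt hZ x hx).1 : Set X) := subset_closure rfl

lemma not_mem_clPt_U {Z : Set X} (hZ : StableUnderSpecialization Z) (x : X) (hx : x ∈ Z) :
    x ∉ ((clPt hZ x hx).U : Set X) := fun h => h (mem_clPt hZ x hx)

/-- restriction maps of a `Z`-closed module are bijective -/
theorem bijective_res_of_isZClosed (Z : Set X) (G : X.Modules) (hG : IsZClosed Z G) (T : Cl Z)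
    (V : X.Opens) :
    Function.Bijective (G.presheaf.map (homOfLE (inf_le_left : V ⊓ T.U ≤ V)).op) := by
  haveI := (ZCl1.isZClosed_iff Z G).1 hG T
  exact bijective_res_of_isIso Z G T V

/-- depth of a coherent `Z`-closed module at the points of `Z` is at least two -/
theorem two_le_depth_of_isZClosed [IsLocallyNoetherian X] {Z : Set X}
    (hZ : StableUnderSpecialization Z) (G : X.Modules) (hG : Coh.IsCoh G)
    (hcl : IsZClosed Z G) (x : X) (hx : x ∈ Z) :
    (2 : ℕ∞) ≤ LocCoh.depth (X.presheaf.stalk x) (G.presheaf.stalk x) :=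
  Groth.Agent.Lead.HartogsConv.two_le_depth G (clPt hZ x hx).U hG
    (fun V => bijective_res_of_isZClosed Z G hcl (clPt hZ x hx) V) x (not_mem_clPt_U hZ x hx)

theorem s5857 (X : Scheme.{u}) [IsLocallyNoetherian X] (Z : Set X)
    (hZ : StableUnderSpecialization Z) (F : X.Modules)
    (hH : Coh.IsCoh ((ZClos.H0 Z).obj F)) (x : X) (hx : x ∈ Z) :
    (2 : ℕ∞) ≤ LocCoh.depth (X.presheaf.stalk x) (((ZClos.H0 Z).obj F).presheaf.stalk x) :=
  two_le_depth_of_isZClosed hZ _ hH (ZCl3.isZClosed_H0 Z F) x hx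

end Groth.Agent.Helper2.ZB
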