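import Mathlib
import Groth.Prelude.Def_ZClos
import Groth.Agent.Helper6.ZCl5
import Groth.Agent.Lead.HartogsConv
import Groth.Agent.Helper2.ZB1

set_option autoImplicit false
universe u
open CategoryTheory CategoryTheory.Limits AlgebraicGeometry TopologicalSpace Opposite ZClos

namespace Groth.Agent.Helper2.ZB

open Groth.Agent.Helper6 Groth.Agent.Helper6.ZCl1 Groth.Agent.Helper6.ZCl2
open Groth.Agent.Helper4 Groth.Agent.Helper4.StalkDict Groth.Agent.Helper4.QcqsMod

variable {X : Scheme.{u}} [IsLocallyNoetherian X] (Z : Set X) (F : X.Modules)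

/-- every germ of `H0` comes from a germ of some `j_*(F|_{X∖T})` -/
theorem exists_stalk_rep (z : X) (y : ((H0 Z).obj F).presheaf.stalk z) :
    ∃ (T : Cl Z) (g : (((diagram Z).obj F).obj T).presheaf.stalk z),
      stalkLin (ιH Z F T) z g = y := by
  obtain ⟨W, hzW, s, rfl⟩ := TopCat.Presheaf.exists_germ_eq ((H0 Z).obj F).presheaf y
  obtain ⟨_, ⟨V, hV, rfl⟩, hzV, hVW⟩ :=
    X.isBasis_affineOpens.exists_subset_of_mem_open hzW W.2
  have hVW' : V ≤ W := hVW
  obtain ⟨T, t, ht⟩ := exists_rep Z F hV.isCompact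
    (((H0 Z).obj F).presheaf.map (homOfLE hVW').op s)
  let t' : Γ(((diagram Z).obj F).obj T, V) := t
  refine ⟨T, (((diagram Z).obj F).obj T).presheaf.germ V z hzV t', ?_⟩
  rw [StalkExact.stalkLin_germ]
  have ht' : (ιH Z F T).app V t' = ((H0 Z).obj F).presheaf.map (homOfLE hVW').op s := ht
  rw [ht']
  exact germ_res ((H0 Z).obj F) hVW' z hzV s

/-- a germ of `j_*(F|_{X∖T})` dying in `H0` dies at a later stage -/
theorem exists_stalk_zero (z : X) (T : Cl Z)
    (g : (((diagram Z).obj F).obj T).presheaf.stalk z)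
    (hg : stalkLin (ιH Z F T) z g = 0) :
    ∃ (T' : Cl Z) (h : T ≤ T'), stalkLin (((diagram Z).obj F).map (homOfLE h)) z g = 0 := by
  obtain ⟨W, hzW, t, rfl⟩ :=
    TopCat.Presheaf.exists_germ_eq (((diagram Z).obj F).obj T).presheaf g
  rw [StalkExact.stalkLin_germ] at hg
  have hg' : ((H0 Z).obj F).presheaf.germ W z hzW ((ιH Z F T).app W t) =
      ((H0 Z).obj F).presheaf.germ W z hzW 0 := by rw [hg, map_zero]
  obtain ⟨W2, hzW2, i1, i2, hW2⟩ :=
    TopCat.Presheaf.germ_eq ((H0 Z).obj F).presheaf z hzW hzW _ _ hg'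
  rw [map_zero] at hW2
  obtain ⟨_, ⟨V, hV, rfl⟩, hzV, hVW2⟩ :=
    X.isBasis_affineOpens.exists_subset_of_mem_open hzW2 W2.2
  have hVW2' : V ≤ W2 := hVW2
  have hVW : V ≤ W := hVW2'.trans (leOfHom i1)
  -- the restriction of `t` to `V`
  have h0 : (ιH Z F T).app V
      ((((diagram Z).obj F).obj T).presheaf.map (homOfLE hVW).op t) = 0 := by
    have nat := (ιH Z F T).mapPresheaf.naturality (homOfLE hVW).op
    have e1 := congr($(nat) t)
    have e2 : ((H0 Z).obj F).presheaf.map (homOfLE hVW).op ((ιH Z F T).app W t) = 0 := by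
      have : (homOfLE hVW) = homOfLE hVW2' ≫ i1 := Subsingleton.elim _ _
      rw [this, op_comp, Functor.map_comp]
      show ((H0 Z).obj F).presheaf.map (homOfLE hVW2').op
        (((H0 Z).obj F).presheaf.map i1.op ((ιH Z F T).app W t)) = 0
      rw [hW2, map_zero]
    exact e1.trans e2
  obtain ⟨T', h, hz0⟩ := exists_zero Z F hV.isCompact T _ h0
  refine ⟨T', h, ?_⟩
  rw [← germ_res (((diagram Z).obj F).obj T) hVW z hzV t, StalkExact.stalkLin_germ]
  have e : (((diagram Z).obj F).map (homOfLE h)).app V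
      ((((diagram Z).obj F).obj T).presheaf.map (homOfLE hVW).op t) = 0 :=
    (transApp_eq Z F h V _).trans hz0
  rw [e, map_zero]

open Groth.Agent.Lead.Hartogs in
/-- regular elements on the stalk of a coherent `F` stay regular on the stalk of `H0` -/
theorem regular_H0 [F.IsQuasicoherent]
    (hFT : SheafOfModules.IsFiniteType (R := X.ringCatSheaf) F) (z : X)
    (a : X.presheaf.stalk z) (ha : IsSMulRegular (F.presheaf.stalk z) a) :
    IsSMulRegular (((H0 Z).obj F).presheaf.stalk z) a := by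
  suffices key : ∀ y : ((H0 Z).obj F).presheaf.stalk z, a • y = 0 → y = 0 by
    intro y₁ y₂ h12
    have h0 : a • (y₁ - y₂) = 0 := by
      rw [smul_sub, sub_eq_zero]
      exact h12
    exact sub_eq_zero.mp (key _ h0)
  intro y hy
  obtain ⟨T, g, rfl⟩ := exists_stalk_rep Z F z y
  rw [← map_smul] at hy
  obtain ⟨T', h, h0⟩ := exists_stalk_zero Z F z T (a • g) hy
  rw [map_smul] at h0
  have hreg : IsSMulRegular ((((diagram Z).obj F).obj T').presheaf.stalk z) a :=
    pushRes_regular T'.U F hFT z a ha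
  have h1 : stalkLin (((diagram Z).obj F).map (homOfLE h)) z g = 0 := by
    apply hreg
    show a • _ = a • 0
    rw [h0, smul_zero]
  have w' : ((diagram Z).obj F).map (homOfLE h) ≫ ιH Z F T' = ιH Z F T :=
    colimit.w ((diagram Z).obj F) (homOfLE h)
  rw [← w', Groth.Agent.Lead.StalkNhd.stalkLin_comp, h1, map_zero]

open Groth.Agent.Lead.Hartogs in
/-- the stalk of `H0` vanishes where the stalk of a coherent `F` does -/
theorem subsingleton_H0_stalk
    (hFT : SheafOfModules.IsFiniteType (R := X.ringCatSheaf) F) (z : X)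
    (hz : Subsingleton (F.presheaf.stalk z)) :
    Subsingleton (((H0 Z).obj F).presheaf.stalk z) := by
  refine ⟨fun a b => ?_⟩
  obtain ⟨T, g, rfl⟩ := exists_stalk_rep Z F z a
  obtain ⟨T', g', rfl⟩ := exists_stalk_rep Z F z b
  haveI : Subsingleton ((((diagram Z).obj F).obj T).presheaf.stalk z) :=
    pushRes_stalk_subsingleton T.U F hFT z hz
  haveI : Subsingleton ((((diagram Z).obj F).obj T').presheaf.stalk z) :=
    pushRes_stalk_subsingleton T'.U F hFT z hz
  rw [Subsingleton.elim g 0, Subsingleton.elim g' 0, map_zero, map_zero]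

end Groth.Agent.Helper2.ZB
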