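import Mathlib
import Groth.Prelude.Def_ZClos
import Groth.Agent.Helper6.ZCl5
import Groth.Agent.Lead.HartogsConv
import Groth.Agent.Helper4.EpiStalk
import Groth.Agent.Helper2.ZB2

set_option autoImplicit false
universe u
open CategoryTheory CategoryTheory.Limits AlgebraicGeometry TopologicalSpace Opposite ZClos

namespace Groth.Agent.Helper2.ZB

open Groth.Agent.Helper6 Groth.Agent.Helper6.ZCl1 Groth.Agent.Helper6.ZCl2
open Groth.Agent.Helper4 Groth.Agent.Helper4.StalkDict Groth.Agent.Helper4.QcqsMod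
open Groth.Agent.Lead.StalkNhd Groth.Agent.Lead.DepthIso

variable {X : Scheme.{u}}

/-- right exactness on stalks, without any monomorphism hypothesis -/
theorem exists_of_cokernel_zero {F G : X.Modules} (φ : F ⟶ G) (z : X) (n : G.presheaf.stalk z)
    (hn : stalkLin (cokernel.π φ) z n = 0) : ∃ m : F.presheaf.stalk z, stalkLin φ z m = n := by
  have hex : (ShortComplex.mk (kernel.ι (cokernel.π φ)) (cokernel.π φ)
      (kernel.condition (cokernel.π φ))).Exact :=
    ShortComplex.exact_of_f_is_kernel _ (kernelIsKernel (cokernel.π φ))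
  haveI : Mono (ShortComplex.mk (kernel.ι (cokernel.π φ)) (cokernel.π φ)
      (kernel.condition (cokernel.π φ))).f := inferInstanceAs (Mono (kernel.ι (cokernel.π φ)))
  have hE := StalkExact.stalkLin_exact _ hex z
  obtain ⟨i, hi⟩ := (hE n).mp hn
  haveI : Epi (Abelian.factorThruImage φ) := inferInstance
  obtain ⟨m, hm⟩ := EpiStalk.stalkLin_surjective_of_epi (Abelian.factorThruImage φ) z i
  refine ⟨m, ?_⟩
  have hfac : Abelian.factorThruImage φ ≫ kernel.ι (cokernel.π φ) = φ := Abelian.image.fac φ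
  rw [← hfac, stalkLin_comp, hm]
  exact hi

variable [IsLocallyNoetherian X] {Z : Set X} (F : X.Modules)

theorem rho_injective_of_not_mem (z : X) (hz : z ∉ Z) :
    Function.Injective (stalkLin (rhoApp Z F) z) :=
  fun _ _ hab => (isZClosedAt_of_not_mem Z F z hz).1 hab

theorem rho_surjective_of_not_mem (z : X) (hz : z ∉ Z) :
    Function.Surjective (stalkLin (rhoApp Z F) z) :=
  fun b => (isZClosedAt_of_not_mem Z F z hz).2 b

/-- `F` is `Z`-pure at `x` as soon as the depth is positive at the generizations of `x` in `Z`. -/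
theorem rho_injective_of_depth [F.IsQuasicoherent]
    (hFT : SheafOfModules.IsFiniteType (R := X.ringCatSheaf) F) (x : X)
    (h : ∀ x' : X, x' ⤳ x → x' ∈ Z →
      (1 : ℕ∞) ≤ LocCoh.depth (X.presheaf.stalk x') (F.presheaf.stalk x')) :
    Function.Injective (stalkLin (rhoApp Z F) x) := by
  apply stalkLin_injective_of_subsingleton_kernel
  by_contra hns
  rw [not_subsingleton_iff_nontrivial] at hns
  haveI : ((H0 Z).obj F).IsQuasicoherent := ZCl5.isQCoh_H0 Z F inferInstance
  haveI := QcohLimits.isQuasicoherent_kernel (rhoApp Z F)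
  obtain ⟨z, hz, hzx⟩ := AssMax2.exists_isAssPoint_specializes (kernel (rhoApp Z F)) x hns
  obtain ⟨k, hk0, hk⟩ := exists_socle_of_isAssPoint (kernel (rhoApp Z F)) z hz
  have hinj := StalkExact.stalkLin_injective (kernel.ι (rhoApp Z F)) z
  have hk'0 : stalkLin (kernel.ι (rhoApp Z F)) z k ≠ 0 := by
    intro h0
    apply hk0
    apply hinj
    rw [h0, map_zero]
  have hk' : ∀ r ∈ IsLocalRing.maximalIdeal (X.presheaf.stalk z),
      r • stalkLin (kernel.ι (rhoApp Z F)) z k = 0 := by
    intro r hr
    rw [← map_smul, hk r hr, map_zero]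
  have hφk : stalkLin (rhoApp Z F) z (stalkLin (kernel.ι (rhoApp Z F)) z k) = 0 := by
    rw [← stalkLin_comp, kernel.condition, stalkLin_zero]
  by_cases hzZ : z ∈ Z
  · haveI := FinLocFree2.finite_stalk F hFT z
    exact Groth.Agent.Helper9.DepthS2.not_one_le_depth_of_socle _ hk'0 hk' (h z hzx hzZ)
  · apply hk'0
    apply rho_injective_of_not_mem F z hzZ
    rw [hφk, map_zero]

/-- `F` is `Z`-closed at `x` as soon as the depth is at least two at the generizations of `x`
in `Z`. -/
theorem rho_bijective_of_depth (hF : Coh.IsCoh F) (x : X)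
    (h : ∀ x' : X, x' ⤳ x → x' ∈ Z →
      (2 : ℕ∞) ≤ LocCoh.depth (X.presheaf.stalk x') (F.presheaf.stalk x')) :
    Function.Bijective (stalkLin (rhoApp Z F) x) := by
  haveI : F.IsQuasicoherent := hF.1
  have hinjAt : ∀ z : X, z ⤳ x → Function.Injective (stalkLin (rhoApp Z F) z) := by
    intro z hzx
    apply rho_injective_of_depth F hF.2 z
    intro x' hx' hx'Z
    exact le_trans (by norm_num) (h x' (hx'.trans hzx) hx'Z)
  refine ⟨hinjAt x specializes_rfl, ?_⟩
  haveI : ((H0 Z).obj F).IsQuasicoherent := ZCl5.isQCoh_H0 Z F inferInstance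
  haveI := QcohLimits.isQuasicoherent_cokernel (rhoApp Z F)
  suffices hsub : Subsingleton ((cokernel (rhoApp Z F)).presheaf.stalk x) by
    intro n
    exact exists_of_cokernel_zero (rhoApp Z F) x n (Subsingleton.elim _ _)
  by_contra hns
  rw [not_subsingleton_iff_nontrivial] at hns
  obtain ⟨z, hz, hzx⟩ := AssMax2.exists_isAssPoint_specializes (cokernel (rhoApp Z F)) x hns
  obtain ⟨c, hc0, hc⟩ := exists_socle_of_isAssPoint (cokernel (rhoApp Z F)) z hz
  obtain ⟨n, rfl⟩ := EpiStalk.stalkLin_surjective_of_epi (cokernel.π (rhoApp Z F)) z c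
  have hn : ∀ r ∈ IsLocalRing.maximalIdeal (X.presheaf.stalk z),
      ∃ m : F.presheaf.stalk z, stalkLin (rhoApp Z F) z m = r • n := by
    intro r hr
    apply exists_of_cokernel_zero
    rw [map_smul, hc r hr]
  have hcontra : ∀ m : F.presheaf.stalk z, stalkLin (rhoApp Z F) z m = n → False := by
    intro m hm
    apply hc0
    rw [← hm, ← stalkLin_comp, cokernel.condition, stalkLin_zero]
  by_cases hzZ : z ∈ Z
  · have hd := h z hzx hzZ
    by_cases hF0 : Subsingleton (F.presheaf.stalk z)
    · haveI := subsingleton_H0_stalk Z F hF.2 z hF0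
      exact hcontra 0 (Subsingleton.elim _ _)
    · rw [not_subsingleton_iff_nontrivial] at hF0
      haveI := FinLocFree2.finite_stalk F hF.2 z
      obtain ⟨m, hm⟩ := Groth.Agent.Lead.Hartogs.mem_range_of_depth_two'
        (stalkLin (rhoApp Z F) z) (hinjAt z hzx) hd
        (fun a _ ha => regular_H0 Z F hF.2 z a ha) n hn
      exact hcontra m hm
  · obtain ⟨m, hm⟩ := rho_surjective_of_not_mem F z hzZ n
    exact hcontra m hm

end Groth.Agent.Helper2.ZB
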