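import Mathlib
import Groth.Prelude.Def_ZClos
import Groth.Agent.Helper6.ZCl5
import Groth.Agent.Lead.HartogsConv
import Groth.Agent.Helper4.EpiStalk
import Groth.Agent.Helper2.ZB3

set_option autoImplicit false
universe u
open CategoryTheory CategoryTheory.Limits AlgebraicGeometry TopologicalSpace Opposite ZClos

namespace Groth.Agent.Helper2.ZB

open Groth.Agent.Helper6 Groth.Agent.Helper6.ZCl1 Groth.Agent.Helper6.ZCl2
open Groth.Agent.Helper4 Groth.Agent.Helper4.StalkDict Groth.Agent.Helper4.QcqsMod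
open Groth.Agent.Lead.StalkNhd Groth.Agent.Lead.DepthIso Groth.Agent.Lead.Hartogs
  Groth.Agent.Lead.HartogsConv Groth.Agent.Lead.ExtFree

variable {X : Scheme.{u}}

section Div

variable [IsLocallyNoetherian X] (M : X.Modules) (U : X.Opens)

/- adapted from `Groth.Agent.Lead.HartogsConv.div_of_socle`: the finite type hypothesis is replaced
by an abstract spreading hypothesis for regular elements. -/
/-- relative socle elements are divisible -/
theorem div_of_socle_gen
    (H : ∀ V : X.Opens, Function.Bijective (M.presheaf.map (homOfLE (inf_le_left : V ⊓ U ≤ V)).op))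
    (x0 : X) (hx0 : x0 ∉ U) (a : X.presheaf.stalk x0) (ha : IsSMulRegular (M.presheaf.stalk x0) a)
    (hspread : ∀ (V : X.Opens) (hV : IsAffineOpen V) (α : Γ(X, V)) (hxV : x0 ∈ V),
      IsSMulRegular (M.presheaf.stalk x0) (X.presheaf.germ V x0 hxV α) →
      ∃ s : Γ(X, V), x0 ∈ X.basicOpen s ∧ ∀ (u : X) (hu : u ∈ V), u ∈ X.basicOpen s →
        IsSMulRegular (M.presheaf.stalk u) (X.presheaf.germ V u hu α))
    (z : M.presheaf.stalk x0)
    (hz : ∀ r ∈ IsLocalRing.maximalIdeal (X.presheaf.stalk x0),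
      ∃ w : M.presheaf.stalk x0, r • z = a • w) :
    ∃ w : M.presheaf.stalk x0, z = a • w := by
  obtain ⟨W1, hxW1, α1, s1, rfl, rfl⟩ := exists_common M x0 a z
  obtain ⟨_, ⟨V, hV, rfl⟩, hxV, hVW1⟩ :=
    X.isBasis_affineOpens.exists_subset_of_mem_open hxW1 W1.2
  have hVW1' : V ≤ W1 := hVW1
  let α : Γ(X, V) := X.presheaf.map (homOfLE hVW1').op α1
  let s : Γ(M, V) := M.presheaf.map (homOfLE hVW1').op s1
  have eα : X.presheaf.germ V x0 hxV α = X.presheaf.germ W1 x0 hxW1 α1 :=
    germ_resO hVW1' x0 hxV α1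
  have es : M.presheaf.germ V x0 hxV s = M.presheaf.germ W1 x0 hxW1 s1 :=
    germ_res M hVW1' x0 hxV s1
  rw [← eα] at ha hz ⊢
  rw [← es] at hz ⊢
  clear_value α s
  obtain ⟨n, g, hg0, hgcov⟩ := exists_gens x0 hV hxV
  -- step C: local quotients `g i • s = α • t i`
  have hC : ∀ i, ∃ (Wi : X.Opens) (hWi : Wi ≤ V), x0 ∈ Wi ∧ ∃ t : Γ(M, Wi), ∀ (y : X) (hy : y ∈ Wi),
      X.presheaf.germ V y (hWi hy) (g i) • M.presheaf.germ V y (hWi hy) s =
        X.presheaf.germ V y (hWi hy) α • M.presheaf.germ Wi y hy t := by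
    intro i
    obtain ⟨w, hw⟩ := hz _ (germ_mem_maximalIdeal x0 hxV (g i) (hg0 i))
    obtain ⟨W0, hxW0, t0, rfl⟩ := TopCat.Presheaf.exists_germ_eq M.presheaf w
    have hle1 : V ⊓ W0 ≤ V := inf_le_left
    have hle2 : V ⊓ W0 ≤ W0 := inf_le_right
    let lhs : Γ(M, V ⊓ W0) := M.presheaf.map (homOfLE hle1).op (g i • s)
    let rhs : Γ(M, V ⊓ W0) := X.presheaf.map (homOfLE hle1).op α • M.presheaf.map (homOfLE hle2).op t0
    have hxVW0 : x0 ∈ V ⊓ W0 := ⟨hxV, hxW0⟩
    have hgerm : M.presheaf.germ (V ⊓ W0) x0 hxVW0 lhs =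
        M.presheaf.germ (V ⊓ W0) x0 hxVW0 rhs := by
      simp only [lhs, rhs]
      rw [germ_res, germ_smul, germ_smul, germ_resO, germ_res]
      exact hw
    obtain ⟨W2, hxW2, i1, i2, hW2⟩ :=
      TopCat.Presheaf.germ_eq M.presheaf x0 hxVW0 hxVW0 _ _ hgerm
    refine ⟨W2, (leOfHom i1).trans hle1, hxW2,
      M.presheaf.map (homOfLE ((leOfHom i1).trans hle2)).op t0, ?_⟩
    intro y hy
    have h3 := congrArg (M.presheaf.germ W2 y hy) hW2
    have e1 : M.presheaf.germ W2 y hy (M.presheaf.map i1.op lhs) =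
        M.presheaf.germ (V ⊓ W0) y (leOfHom i1 hy) lhs :=
      TopCat.Presheaf.germ_res_apply M.presheaf i1 y hy lhs
    have e2 : M.presheaf.germ W2 y hy (M.presheaf.map i2.op rhs) =
        M.presheaf.germ (V ⊓ W0) y (leOfHom i1 hy) rhs :=
      TopCat.Presheaf.germ_res_apply M.presheaf i2 y hy rhs
    rw [e1, e2] at h3
    simp only [lhs, rhs] at h3
    rw [germ_res, germ_smul, germ_smul, germ_resO, germ_res] at h3
    rw [germ_res]
    exact h3
  choose Wi hWi hxWi t ht using hC
  obtain ⟨s', hxs', hs'⟩ := hspread V hV α hxV ha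
  let W : X.Opens := (V ⊓ X.basicOpen s') ⊓ ⨅ i, Wi i
  have hxW : x0 ∈ W := ⟨⟨hxV, hxs'⟩, mem_iInf_fin Wi x0 hxWi⟩
  have hWV : W ≤ V := inf_le_left.trans inf_le_left
  have hWs' : W ≤ X.basicOpen s' := inf_le_left.trans inf_le_right
  have hWWi : ∀ i, W ≤ Wi i := fun i => inf_le_right.trans (iInf_le _ i)
  let αW : Γ(X, W) := X.presheaf.map (homOfLE hWV).op α
  let sW : Γ(M, W) := M.presheaf.map (homOfLE hWV).op s
  let D : Fin n → X.Opens := fun i => (W ⊓ U) ⊓ X.basicOpen (g i)
  have hD : ∀ i, D i ≤ W ⊓ U := fun i => inf_le_left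
  have hDV : ∀ i, D i ≤ V := fun i => (hD i).trans (inf_le_left.trans hWV)
  have hDWi : ∀ i, D i ≤ Wi i := fun i => (hD i).trans (inf_le_left.trans (hWWi i))
  have hcover : W ⊓ U ≤ ⨆ i, D i := by
    intro y hy
    have hny : ¬ (x0 ⤳ y) := fun hsp => hx0 (hsp.mem_open U.2 hy.2)
    obtain ⟨i, hyi⟩ := hgcov y (hWV hy.1) hny
    exact Opens.mem_iSup.mpr ⟨i, hy, hyi⟩
  -- the restrictions of `g i` to `D i` are units
  have hunit : ∀ i, IsUnit (X.presheaf.map (homOfLE (hDV i)).op (g i)) := by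
    intro i
    apply X.toRingedSpace.isUnit_of_isUnit_germ (D i)
    intro y hy
    have e := germ_resO (hDV i) y hy (g i)
    have hu : IsUnit (X.presheaf.germ V y (hDV i hy) (g i)) :=
      (X.mem_basicOpen (g i) y (hDV i hy)).mp hy.2
    rw [← e] at hu
    exact hu
  let σ : ∀ i, Γ(M, D i) := fun i =>
    (↑(hunit i).unit⁻¹ : Γ(X, D i)) • M.presheaf.map (homOfLE (hDWi i)).op (t i)
  have hσ : ∀ i (y : X) (hy : y ∈ D i),
      X.presheaf.germ W y (hD i hy).1 αW • M.presheaf.germ (D i) y hy (σ i) =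
        M.presheaf.germ W y (hD i hy).1 sW := by
    intro i y hy
    have hyW : y ∈ W := (hD i hy).1
    simp only [σ, αW, sW]
    rw [germ_smul, germ_res, germ_res, germ_resO, smul_comm, ← ht i y (hDWi i hy), smul_smul]
    have e := germ_resO (hDV i) y hy (g i)
    rw [← e, ← map_mul, IsUnit.val_inv_mul, map_one, one_smul]
  have hreg : ∀ (y : X) (hy : y ∈ W ⊓ U),
      IsSMulRegular (M.presheaf.stalk y) (X.presheaf.germ W y hy.1 αW) := by
    intro y hy
    have e := germ_resO hWV y hy.1 α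
    simp only [αW]
    rw [e]
    exact hs' y (hWV hy.1) (hWs' hy.1)
  obtain ⟨τ, hτ⟩ := glue_div M W U (H W) D hD hcover αW sW hreg σ hσ
  refine ⟨M.presheaf.germ W x0 hxW τ, ?_⟩
  rw [← germ_res M hWV x0 hxW s, ← germ_resO hWV x0 hxW α, ← germ_smul]
  change M.presheaf.germ W x0 hxW sW = M.presheaf.germ W x0 hxW (αW • τ)
  rw [hτ]


end Div

section Main

variable [IsLocallyNoetherian X] {Z : Set X} (hZ : StableUnderSpecialization Z) (F : X.Modules)

include hZ in
/-- socle elements of the stalk of `H0` at a point of `Z` vanish -/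
theorem socle_zero_H0 (x : X) (hx : x ∈ Z) (z : ((H0 Z).obj F).presheaf.stalk x)
    (hz : ∀ r ∈ IsLocalRing.maximalIdeal (X.presheaf.stalk x), r • z = 0) : z = 0 :=
  socle_zero ((H0 Z).obj F) (clPt hZ x hx).U
    (fun V => (bijective_res_of_isZClosed Z _ (ZCl3.isZClosed_H0 Z F) (clPt hZ x hx) V).1)
    x (not_mem_clPt_U hZ x hx) z hz

/-- injectivity of the stalk map generizes -/
theorem rho_injective_generize [F.IsQuasicoherent] (x x' : X) (hx' : x' ⤳ x)
    (h : Function.Injective (stalkLin (rhoApp Z F) x)) :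
    Function.Injective (stalkLin (rhoApp Z F) x') := by
  haveI : ((H0 Z).obj F).IsQuasicoherent := ZCl5.isQCoh_H0 Z F inferInstance
  haveI := QcohLimits.isQuasicoherent_kernel (rhoApp Z F)
  apply stalkLin_injective_of_subsingleton_kernel
  by_contra hns
  have h1 : x' ∈ CohB1.support (kernel (rhoApp Z F)) := hns
  have h2 := SuppDict.stableUnderSpecialization_support (kernel (rhoApp Z F)) hx' h1
  exact h2 (subsingleton_stalk_kernel (rhoApp Z F) x h)

/-- surjectivity of the stalk map generizes -/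
theorem rho_surjective_generize [F.IsQuasicoherent] (x x' : X) (hx' : x' ⤳ x)
    (h : Function.Surjective (stalkLin (rhoApp Z F) x)) :
    Function.Surjective (stalkLin (rhoApp Z F) x') := by
  haveI : ((H0 Z).obj F).IsQuasicoherent := ZCl5.isQCoh_H0 Z F inferInstance
  haveI := QcohLimits.isQuasicoherent_cokernel (rhoApp Z F)
  have hsub : Subsingleton ((cokernel (rhoApp Z F)).presheaf.stalk x') := by
    by_contra hns
    have h1 : x' ∈ CohB1.support (cokernel (rhoApp Z F)) := hns
    have h2 := SuppDict.stableUnderSpecialization_support (cokernel (rhoApp Z F)) hx' h1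
    exact h2 (ZCl5.subsingleton_stalk_cokernel (rhoApp Z F) x (fun b => h b))
  intro n
  exact exists_of_cokernel_zero (rhoApp Z F) x' n (Subsingleton.elim _ _)

include hZ in
/-- `Z`-purity at a point of `Z` gives positive depth. -/
theorem one_le_depth_of_injective [F.IsQuasicoherent]
    (hFT : SheafOfModules.IsFiniteType (R := X.ringCatSheaf) F) (x : X) (hx : x ∈ Z)
    (h : Function.Injective (stalkLin (rhoApp Z F) x)) :
    ∃ a ∈ IsLocalRing.maximalIdeal (X.presheaf.stalk x),
      IsSMulRegular (F.presheaf.stalk x) a := by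
  haveI := FinLocFree2.finite_stalk F hFT x
  haveI : IsNoetherianRing (X.presheaf.stalk x) := inferInstance
  apply Groth.Agent.Helper9.DepthKer.exists_regular_of_socle
    (I := IsLocalRing.maximalIdeal (X.presheaf.stalk x)) (F.presheaf.stalk x)
  intro z hz
  apply h
  rw [map_zero]
  apply socle_zero_H0 hZ F x hx
  intro r hr
  rw [← map_smul, hz r hr, map_zero]

include hZ in
theorem one_le_depth_of_injective' [F.IsQuasicoherent]
    (hFT : SheafOfModules.IsFiniteType (R := X.ringCatSheaf) F) (x : X) (hx : x ∈ Z)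
    (h : Function.Injective (stalkLin (rhoApp Z F) x)) :
    (1 : ℕ∞) ≤ LocCoh.depth (X.presheaf.stalk x) (F.presheaf.stalk x) := by
  obtain ⟨a, ham, ha⟩ := one_le_depth_of_injective hZ F hFT x hx h
  have h2 := Groth.Agent.Helper9.DepthKer.le_idealDepth_of
    (IsLocalRing.maximalIdeal (X.presheaf.stalk x)) (F.presheaf.stalk x) [a]
    ((RingTheory.Sequence.isWeaklyRegular_cons_iff _ a []).mpr
      ⟨ha, RingTheory.Sequence.IsWeaklyRegular.nil _ _⟩)
    (by
      intro r hr
      simp only [List.mem_cons, List.not_mem_nil, or_false] at hr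
      rcases hr with rfl
      exact ham)
  simpa [LocCoh.depth] using h2

open scoped Pointwise in
include hZ in
/-- `Z`-closedness at a point of `Z` gives depth at least two. -/
theorem two_le_depth_of_bijective (hF : Coh.IsCoh F) (x : X) (hx : x ∈ Z)
    (h : Function.Bijective (stalkLin (rhoApp Z F) x)) :
    (2 : ℕ∞) ≤ LocCoh.depth (X.presheaf.stalk x) (F.presheaf.stalk x) := by
  haveI : F.IsQuasicoherent := hF.1
  haveI := FinLocFree2.finite_stalk F hF.2 x
  haveI : IsNoetherianRing (X.presheaf.stalk x) := inferInstance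
  obtain ⟨a, ham, ha⟩ := one_le_depth_of_injective hZ F hF.2 x hx h.1
  -- `a` is regular on the stalk of `H0`
  have haH : IsSMulRegular (((H0 Z).obj F).presheaf.stalk x) a := regular_H0 Z F hF.2 x a ha
  have Hbij := fun V => bijective_res_of_isZClosed Z _ (ZCl3.isZClosed_H0 Z F) (clPt hZ x hx) V
  have hspread : ∀ (V : X.Opens) (hV : IsAffineOpen V) (α : Γ(X, V)) (hxV : x ∈ V),
      IsSMulRegular (((H0 Z).obj F).presheaf.stalk x) (X.presheaf.germ V x hxV α) →
      ∃ s : Γ(X, V), x ∈ X.basicOpen s ∧ ∀ (u : X) (hu : u ∈ V), u ∈ X.basicOpen s →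
        IsSMulRegular (((H0 Z).obj F).presheaf.stalk u) (X.presheaf.germ V u hu α) := by
    intro V hV α hxV hα
    have hαF : IsSMulRegular (F.presheaf.stalk x) (X.presheaf.germ V x hxV α) := by
      intro m₁ m₂ h12
      apply h.1
      apply hα
      show X.presheaf.germ V x hxV α • _ = X.presheaf.germ V x hxV α • _
      rw [← map_smul, ← map_smul]
      exact congrArg _ h12
    obtain ⟨s, hxs, hs⟩ := exists_basicOpen_regular F hF.2 hV α x hxV hαF
    exact ⟨s, hxs, fun u hu hus => regular_H0 Z F hF.2 u _ (hs u hu hus)⟩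
  obtain ⟨b, hbm, hb⟩ := Groth.Agent.Helper9.DepthKer.exists_regular_of_socle
    (I := IsLocalRing.maximalIdeal (X.presheaf.stalk x)) (QuotSMulTop a (F.presheaf.stalk x))
    (by
      intro zb hzb
      obtain ⟨z, rfl⟩ := Submodule.Quotient.mk_surjective _ zb
      rw [Submodule.Quotient.mk_eq_zero, Submodule.mem_smul_pointwise_iff_exists]
      obtain ⟨w', hw'⟩ := div_of_socle_gen ((H0 Z).obj F) (clPt hZ x hx).U Hbij x
        (not_mem_clPt_U hZ x hx) a haH hspread (stalkLin (rhoApp Z F) x z) (fun r hr => by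
        have h1 := hzb r hr
        rw [← Submodule.Quotient.mk_smul, Submodule.Quotient.mk_eq_zero,
          Submodule.mem_smul_pointwise_iff_exists] at h1
        obtain ⟨w, -, hw⟩ := h1
        refine ⟨stalkLin (rhoApp Z F) x w, ?_⟩
        rw [← map_smul, ← map_smul, hw])
      obtain ⟨w, rfl⟩ := h.2 w'
      refine ⟨w, trivial, ?_⟩
      apply h.1
      rw [map_smul]
      exact hw'.symm)
  have h2 := Groth.Agent.Helper9.DepthKer.le_idealDepth_of
    (IsLocalRing.maximalIdeal (X.presheaf.stalk x)) (F.presheaf.stalk x) [a, b]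
    ((RingTheory.Sequence.isWeaklyRegular_cons_iff _ a [b]).mpr ⟨ha,
      (RingTheory.Sequence.isWeaklyRegular_cons_iff _ b []).mpr
        ⟨hb, RingTheory.Sequence.IsWeaklyRegular.nil _ _⟩⟩)
    (by
      intro r hr
      simp only [List.mem_cons, List.not_mem_nil, or_false] at hr
      rcases hr with rfl | rfl
      · exact ham
      · exact hbm)
  simpa [LocCoh.depth] using h2

end Main

end Groth.Agent.Helper2.ZB
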