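import Mathlib
import Groth.Prelude.Def_ZClos
import Groth.Agent.Helper2.ZB4

set_option autoImplicit false
universe u
open CategoryTheory CategoryTheory.Limits AlgebraicGeometry TopologicalSpace Opposite ZClos

namespace Groth.Agent.Helper2.ZB

open Groth.Agent.Helper4 Groth.Agent.Helper4.StalkDict

variable {X : Scheme.{u}}

theorem isZPureAt_iff_stalkLin (Z : Set X) (F : X.Modules) (x : X) :
    IsZPureAt Z F x ↔ Function.Injective (stalkLin (rhoApp Z F) x) := Iff.rfl

theorem isZClosedAt_iff_stalkLin (Z : Set X) (F : X.Modules) (x : X) :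
    IsZClosedAt Z F x ↔ Function.Bijective (stalkLin (rhoApp Z F) x) := Iff.rfl

theorem s5855 (X : Scheme.{u}) [IsLocallyNoetherian X] (Z : Set X)
    (hZ : StableUnderSpecialization Z) (F : X.Modules) (hF : Coh.IsCoh F) (x : X) :
    ZClos.IsZPureAt Z F x ↔
      ∀ x' : X, x' ⤳ x → x' ∈ Z →
        (1 : ℕ∞) ≤ LocCoh.depth (X.presheaf.stalk x') (F.presheaf.stalk x') := by
  haveI : F.IsQuasicoherent := hF.1
  rw [isZPureAt_iff_stalkLin]
  constructor
  · intro h x' hx' hx'Z
    exact one_le_depth_of_injective' hZ F hF.2 x' hx'Z (rho_injective_generize F x x' hx' h)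
  · intro h
    exact rho_injective_of_depth F hF.2 x h

theorem s5856 (X : Scheme.{u}) [IsLocallyNoetherian X] (Z : Set X)
    (hZ : StableUnderSpecialization Z) (F : X.Modules) (hF : Coh.IsCoh F) (x : X) :
    ZClos.IsZClosedAt Z F x ↔
      ∀ x' : X, x' ⤳ x → x' ∈ Z →
        (2 : ℕ∞) ≤ LocCoh.depth (X.presheaf.stalk x') (F.presheaf.stalk x') := by
  haveI : F.IsQuasicoherent := hF.1
  rw [isZClosedAt_iff_stalkLin]
  constructor
  · intro h x' hx' hx'Z
    exact two_le_depth_of_bijective hZ F hF x' hx'Z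
      ⟨rho_injective_generize F x x' hx' h.1, rho_surjective_generize F x x' hx' h.2⟩
  · intro h
    exact rho_bijective_of_depth F hF x h

end Groth.Agent.Helper2.ZB
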