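import Mathlib
import Groth.Prelude.Def_ZClos
import Groth.Prelude.Def_FDesc
import Groth.Agent.Helper2.ZB5
import Groth.Agent.Helper2.DepthCM
import Groth.Agent.Helper5.SOne1

set_option autoImplicit false
universe u
open CategoryTheory CategoryTheory.Limits AlgebraicGeometry TopologicalSpace Opposite ZClos

namespace Groth.Agent.Helper2.ZB

open Groth.Agent.Helper4 Groth.Agent.Helper4.StalkDict

theorem aux3 (d : ℕ∞) (h : (2 : ℕ∞) ≤ d) : (2 : WithBot ℕ∞) ≤ ((d : ℕ∞) : WithBot ℕ∞) := by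
  have : ((2 : ℕ∞) : WithBot ℕ∞) ≤ (d : WithBot ℕ∞) := WithBot.coe_le_coe.mpr h
  exact this

theorem aux3' (n : ℕ) (h : 2 ≤ n) : ((2 : ℕ) : WithBot ℕ∞) ≤ (((n : ℕ∞)) : WithBot ℕ∞) := by
  have h' : ((2 : ℕ) : ℕ∞) ≤ (n : ℕ∞) := by exact_mod_cast h
  exact WithBot.coe_le_coe.mpr h'

theorem aux4 (d : ℕ∞) : (0 : WithBot ℕ∞) ≤ ((d : ℕ∞) : WithBot ℕ∞) := by
  have : ((0 : ℕ∞) : WithBot ℕ∞) ≤ (d : WithBot ℕ∞) := WithBot.coe_le_coe.mpr (zero_le')
  exact this

theorem aux1 (c : ℕ∞) (h2 : ¬ (((2 : ℕ) : WithBot ℕ∞) ≤ (c : WithBot ℕ∞)))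
    (h1 : (c : WithBot ℕ∞) ≠ 1) : (c : WithBot ℕ∞) ≤ 0 := by
  induction c using ENat.recTopCoe with
  | top => exact absurd le_top h2
  | coe n =>
    have hn2 : ¬ (2 ≤ n) := fun h => h2 (aux3' n h)
    have hn1 : n ≠ 1 := fun h => h1 (by rw [h]; rfl)
    have : n = 0 := by omega
    rw [this]; rfl

theorem aux2 (c : ℕ∞) (h2 : ¬ (((2 : ℕ) : WithBot ℕ∞) ≤ (c : WithBot ℕ∞))) :
    (c : WithBot ℕ∞) ≤ 1 := by
  induction c using ENat.recTopCoe with
  | top => exact absurd le_top h2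
  | coe n =>
    have hn2 : ¬ (2 ≤ n) := fun h => h2 (aux3' n h)
    have : n ≤ 1 := by omega
    have h' : ((n : ℕ) : ℕ∞) ≤ ((1 : ℕ) : ℕ∞) := by exact_mod_cast this
    exact WithBot.coe_le_coe.mpr h'

variable {X : Scheme.{u}}

/-- `Z^(n)(X)` is stable under specialization -/
theorem stable_dimGe (X : Scheme.{u}) (n : ℕ) : StableUnderSpecialization (dimGe X n) := by
  intro x y hxy hx
  have hx' : (n : WithBot ℕ∞) ≤ ringKrullDim (X.presheaf.stalk x) := hx
  show (n : WithBot ℕ∞) ≤ ringKrullDim (X.presheaf.stalk y)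
  rw [ringKrullDim_stalk_eq_coheight] at hx' ⊢
  have hle : y ≤ x := hxy
  have := Order.coheight_anti hle
  exact hx'.trans (by exact_mod_cast this)

/-- the linear equivalence of stalks off `Z` -/
noncomputable def rhoEquiv [IsLocallyNoetherian X] {Z : Set X} (F : X.Modules) (x : X)
    (h : Function.Bijective (stalkLin (rhoApp Z F) x)) :
    F.presheaf.stalk x ≃ₗ[X.presheaf.stalk x] ((H0 Z).obj F).presheaf.stalk x :=
  LinearEquiv.ofBijective (stalkLin (rhoApp Z F) x) h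

theorem depth_congr {R : Type*} [CommRing R] [IsLocalRing R] {M M' : Type*} [AddCommGroup M]
    [Module R M] [AddCommGroup M'] [Module R M'] (e : M ≃ₗ[R] M') :
    LocCoh.depth R M = LocCoh.depth R M' :=
  Groth.Agent.Helper2.DepthCM.idealDepth_congr _ e

theorem s5860 (X : Scheme.{u}) [IsLocallyNoetherian X] (F : X.Modules) (hF : Coh.IsCoh F)
    (hass : ∀ x ∈ AssSch.Ass F, ringKrullDim (X.presheaf.stalk x) ≠ 1)
    (hH : Coh.IsCoh ((ZClos.H0 (ZClos.dimGe X 2)).obj F)) (x : X) :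
    min (2 : WithBot ℕ∞) (Module.supportDim (X.presheaf.stalk x)
        (((ZClos.H0 (ZClos.dimGe X 2)).obj F).presheaf.stalk x)) ≤
      ((LocCoh.depth (X.presheaf.stalk x)
        (((ZClos.H0 (ZClos.dimGe X 2)).obj F).presheaf.stalk x) : ℕ∞) : WithBot ℕ∞) := by
  haveI : F.IsQuasicoherent := hF.1
  by_cases hx : x ∈ dimGe X 2
  · have h2 := s5857 X (dimGe X 2) (stable_dimGe X 2) F hH x hx
    exact (min_le_left _ _).trans (aux3 _ h2)
  · have hb : Function.Bijective (stalkLin (rhoApp (dimGe X 2) F) x) :=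
      ⟨rho_injective_of_not_mem F x hx, rho_surjective_of_not_mem F x hx⟩
    let e := rhoEquiv F x hb
    rw [← Module.supportDim_eq_of_equiv e, ← depth_congr e]
    haveI := FinLocFree2.finite_stalk F hF.2 x
    haveI : IsNoetherianRing (X.presheaf.stalk x) := inferInstance
    have hdim : ¬ ((2 : ℕ) : WithBot ℕ∞) ≤ ringKrullDim (X.presheaf.stalk x) := hx
    have hsd := Module.supportDim_le_ringKrullDim (R := X.presheaf.stalk x)
      (M := F.presheaf.stalk x)
    by_cases hA : x ∈ AssSch.Ass F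
    · -- dimension zero
      have h1 := hass x hA
      have h0 : ringKrullDim (X.presheaf.stalk x) ≤ 0 := by
        rw [ringKrullDim_stalk_eq_coheight] at hdim h1 ⊢
        exact aux1 _ hdim h1
      exact (min_le_right _ _).trans (hsd.trans (h0.trans (aux4 _)))
    · have hs1 := (Groth.Agent.Helper5.SOne1.s1_iff (X.presheaf.stalk x)
        (F.presheaf.stalk x)).mpr (fun h => absurd h hA)
      have hsd1 : Module.supportDim (X.presheaf.stalk x) (F.presheaf.stalk x) ≤ 1 := by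
        refine hsd.trans ?_
        rw [ringKrullDim_stalk_eq_coheight] at hdim ⊢
        exact aux2 _ hdim
      rw [min_eq_right (hsd1.trans (by norm_num))]
      rw [min_eq_right hsd1] at hs1
      exact hs1

end Groth.Agent.Helper2.ZB
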