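import Mathlib
import Groth.Prelude.Def_ZClos
import Groth.Prelude.Def_FDesc
import Groth.Agent.Helper2.ZB6
import Groth.Agent.Helper4.AssDict
import Groth.Agent.Helper4.SuppDict

set_option autoImplicit false
universe u
open CategoryTheory CategoryTheory.Limits AlgebraicGeometry TopologicalSpace Opposite ZClos

namespace Groth.Agent.Helper2.ZB

open Groth.Agent.Helper4 Groth.Agent.Helper4.StalkDict Submodule

variable {X : Scheme.{u}}

/-- the germ of a function at `x` lies in the maximal ideal iff the function lies in the prime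
of `x` -/
theorem germ_mem_maximalIdeal_iff {V : X.Opens} (hV : IsAffineOpen V) (x : X) (hx : x ∈ V)
    (a : Γ(X, V)) :
    X.presheaf.germ V x hx a ∈ IsLocalRing.maximalIdeal (X.presheaf.stalk x) ↔
      a ∈ (hV.primeIdealOf ⟨x, hx⟩).asIdeal := by
  rw [IsLocalRing.mem_maximalIdeal, mem_nonunits_iff, ← X.mem_basicOpen a x hx,
    mem_basicOpen_iff_notMem_primeIdealOf hV x hx, not_not]

set_option backward.isDefEq.respectTransparency false in
/-- An associated point `x` of a quasi-coherent module gives an associated prime of the stalk at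
any specialization `y` of `x`. -/
theorem comap_isAssociatedPrime [IsLocallyNoetherian X] (G : X.Modules) [G.IsQuasicoherent]
    {x y : X} (h : x ⤳ y) (hx : Curv2.IsAssPoint G x) :
    IsAssociatedPrime ((IsLocalRing.maximalIdeal (X.presheaf.stalk x)).comap
      (X.presheaf.stalkSpecializes h).hom) (G.presheaf.stalk y) := by
  obtain ⟨_, ⟨V, hV : IsAffineOpen V, rfl⟩, hyV, -⟩ :=
    X.isBasis_affineOpens.exists_subset_of_mem_open (Set.mem_univ y) isOpen_univ
  have hxV : x ∈ V := h.mem_open V.isOpen hyV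
  haveI : IsNoetherianRing Γ(X, V) := IsLocallyNoetherian.component_noetherian ⟨V, hV⟩
  haveI : IsNoetherianRing (X.presheaf.stalk y) := inferInstance
  obtain ⟨m, hm⟩ := (AssDict.isAssPoint_iff_exists_minimalPrimes hV G x hxV).mp hx
  obtain ⟨s, hs⟩ := Submodule.exists_eq_colon_of_mem_minimalPrimes hm
  have hs' : ∀ a : Γ(X, V), a ∈ (hV.primeIdealOf ⟨x, hxV⟩).asIdeal ↔ a • s = 0 := by
    intro a
    rw [hs, mem_colon_singleton, mem_bot]
  have hle : (hV.primeIdealOf ⟨x, hxV⟩).asIdeal ≤ (hV.primeIdealOf ⟨y, hyV⟩).asIdeal :=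
    SuppDict.primeIdealOf_le_of_specializes hV hxV hyV h
  have hsp : ∀ a : Γ(X, V), (X.presheaf.stalkSpecializes h).hom (X.presheaf.germ V y hyV a) =
      X.presheaf.germ V x hxV a := by
    intro a
    have := TopCat.Presheaf.germ_stalkSpecializes X.presheaf (U := V) hyV h
    exact congr($(this) a)
  letI := X.presheaf.algebra_section_stalk ⟨y, hyV⟩
  haveI := hV.isLocalization_stalk ⟨y, hyV⟩
  have halg : ∀ a : Γ(X, V), algebraMap Γ(X, V) (X.presheaf.stalk y) a =
      X.presheaf.germ V y hyV a := fun a => rfl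
  rw [isAssociatedPrime_iff]
  refine ⟨Ideal.IsPrime.comap _, G.presheaf.germ V y hyV s, ?_⟩
  ext r
  rw [Ideal.mem_comap, mem_colon_singleton, mem_bot]
  obtain ⟨⟨a, u⟩, hau⟩ := IsLocalization.surj
    (hV.primeIdealOf ⟨y, hyV⟩).asIdeal.primeCompl r
  simp only at hau
  rw [halg, halg] at hau
  have hu_y : IsUnit (X.presheaf.germ V y hyV (u : Γ(X, V))) := by
    rw [← X.mem_basicOpen _ y hyV, mem_basicOpen_iff_notMem_primeIdealOf hV y hyV]
    exact u.2
  have hu_x : IsUnit (X.presheaf.germ V x hxV (u : Γ(X, V))) := by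
    rw [← X.mem_basicOpen _ x hxV, mem_basicOpen_iff_notMem_primeIdealOf hV x hxV]
    exact fun hh => u.2 (hle hh)
  -- the key relation in the stalk at `x`
  have hrel : (X.presheaf.stalkSpecializes h).hom r * X.presheaf.germ V x hxV (u : Γ(X, V)) =
      X.presheaf.germ V x hxV a := by
    rw [← hsp, ← hsp, ← map_mul, hau]
  have hiff : (X.presheaf.stalkSpecializes h).hom r ∈
      IsLocalRing.maximalIdeal (X.presheaf.stalk x) ↔
      a ∈ (hV.primeIdealOf ⟨x, hxV⟩).asIdeal := by
    rw [← germ_mem_maximalIdeal_iff hV x hxV a, ← hrel]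
    constructor
    · intro hr
      exact Ideal.mul_mem_right _ _ hr
    · intro hr
      rcases (Ideal.IsPrime.mem_or_mem (IsLocalRing.maximalIdeal.isMaximal _).isPrime hr) with h1 | h1
      · exact h1
      · exact absurd hu_x ((IsLocalRing.mem_maximalIdeal _).mp h1)
  rw [hiff]
  -- `r • n = 0 ↔ germ a • n = 0`
  have hrn : r • G.presheaf.germ V y hyV s = 0 ↔
      X.presheaf.germ V y hyV a • G.presheaf.germ V y hyV s = 0 := by
    rw [← hau, mul_smul, smul_comm]
    constructor
    · intro h0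
      rw [h0, smul_zero]
    · intro h0
      have := congrArg (fun t => (↑hu_y.unit⁻¹ : X.presheaf.stalk y) • t) h0
      simp only [smul_zero] at this
      rwa [smul_smul, IsUnit.val_inv_mul, one_smul] at this
  rw [hrn, ← germ_smul]
  constructor
  · intro ha
    rw [(hs' a).mp ha, map_zero]
  · intro h0
    rw [AssDict.germ_eq_zero_iff hV G y hyV (a • s), SetLike.not_le_iff_exists] at h0
    obtain ⟨c, hc, hcy⟩ := h0
    rw [mem_colon_singleton, mem_bot, smul_smul] at hc
    have hca := (hs' (c * a)).mpr hc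
    rcases Ideal.IsPrime.mem_or_mem (hV.primeIdealOf ⟨x, hxV⟩).2 hca with h1 | h1
    · exact absurd (hle h1) hcy
    · exact h1

theorem s5858 (X : Scheme.{u}) [IsLocallyNoetherian X] (Z : Set X)
    (hZ : StableUnderSpecialization Z) (F : X.Modules) (hF : Coh.IsCoh F)
    (hH : Coh.IsCoh ((ZClos.H0 Z).obj F))
    (x : X) (hx : x ∈ AssSch.Ass F) (hxZ : x ∉ Z) (y : X) (hy : y ∈ Z) (h : x ⤳ y) :
    (2 : WithBot ℕ∞) ≤ ringKrullDim (X.presheaf.stalk y ⧸
      (IsLocalRing.maximalIdeal (X.presheaf.stalk x)).comap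
        (X.presheaf.stalkSpecializes h).hom) := by
  haveI : F.IsQuasicoherent := hF.1
  haveI : ((H0 Z).obj F).IsQuasicoherent := hH.1
  have hxG : Curv2.IsAssPoint ((H0 Z).obj F) x :=
    IsAssociatedPrime.map_of_injective (f := stalkLin (rhoApp Z F) x) hx
      (rho_injective_of_not_mem F x hxZ)
  have hass := comap_isAssociatedPrime ((H0 Z).obj F) h hxG
  haveI := FinLocFree2.finite_stalk ((H0 Z).obj F) hH.2 y
  haveI : IsNoetherianRing (X.presheaf.stalk y) := inferInstance
  have h1 := Groth.Agent.Helper2.DepthCM.depth_le_dim_quotient_of_mem_ass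
    (A := X.presheaf.stalk y) (((H0 Z).obj F).presheaf.stalk y) _ hass
  exact (aux3 _ (s5857 X Z hZ F hH y hy)).trans h1

end Groth.Agent.Helper2.ZB
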