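import Mathlib
import Groth.Prelude.Def_ZClos
import Groth.Prelude.Def_FDesc
import Groth.Agent.Helper2.ZB7
import Groth.Agent.Helper2.CohQ1
import Groth.Agent.Helper4.AssMono
import Groth.Agent.Helper4.QcohGlue

set_option autoImplicit false
universe u
open CategoryTheory CategoryTheory.Limits AlgebraicGeometry TopologicalSpace Opposite ZClos

namespace Groth.Agent.Helper2.ZB

open Groth.Agent.Helper6 Groth.Agent.Helper6.ZCl1 Groth.Agent.Helper6.ZCl2
open Groth.Agent.Helper4 Groth.Agent.Helper4.StalkDict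
open Groth.Agent.Lead.StalkNhd

variable {X : Scheme.{u}} [IsLocallyNoetherian X] {Z : Set X}

/-- a coherent module without associated points in `Z` is `Z`-pure -/
theorem isZPure_of_ass_disjoint (F : X.Modules) (hF : Coh.IsCoh F)
    (hass : ∀ x ∈ AssSch.Ass F, x ∉ Z) : IsZPure Z F := by
  haveI : F.IsQuasicoherent := hF.1
  apply AssMono.mono_of_stalkLin_injective
  intro x
  apply rho_injective_of_depth F hF.2 x
  intro x' _ hx'Z
  by_cases hs : Subsingleton (F.presheaf.stalk x')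
  · have h1 : IsLocalRing.maximalIdeal (X.presheaf.stalk x') •
        (⊤ : Submodule (X.presheaf.stalk x') (F.presheaf.stalk x')) = ⊤ := Subsingleton.elim _ _
    unfold LocCoh.depth LocCoh.idealDepth
    rw [if_pos h1]
    exact le_top
  · rw [not_subsingleton_iff_nontrivial] at hs
    haveI := FinLocFree2.finite_stalk F hF.2 x'
    haveI : IsNoetherianRing (X.presheaf.stalk x') := inferInstance
    rw [Groth.Agent.Helper5.SOne1.one_le_depth_iff]
    exact fun h => hass x' h hx'Z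

/-- the transition maps of the inductive system of a `Z`-pure module are monomorphisms -/
theorem mono_trans_of_isZPure (F : X.Modules) (hp : IsZPure Z F) {T T' : Cl Z} (h : T ≤ T') :
    Mono (((diagram Z).obj F).map (homOfLE h)) := by
  apply AssMono.mono_of_app_injective
  intro V
  haveI := ZCl1.mono_toDiagram_of_isZPure Z F hp T'
  have hinj := injective_res_of_mono Z F T' (T.U.ι ''ᵁ T.U.ι ⁻¹ᵁ V)
  intro a0 b0 hab
  let a : Γ(F, T.U.ι ''ᵁ T.U.ι ⁻¹ᵁ V) := a0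
  let b : Γ(F, T.U.ι ''ᵁ T.U.ι ⁻¹ᵁ V) := b0
  show a = b
  have e : ∀ t : Γ(F, T.U.ι ''ᵁ T.U.ι ⁻¹ᵁ V),
      (((diagram Z).obj F).map (homOfLE h)).app V t =
        res F (resPush_le (Cl.U_anti h) V) t := fun t => transApp_eq Z F h V t
  have hab' : res F (resPush_le (Cl.U_anti h) V) a = res F (resPush_le (Cl.U_anti h) V) b :=
    (e a).symm.trans (hab.trans (e b))
  -- compare with the restriction to `(T.U ∩ V) ⊓ T'.U`
  have hle2 : T'.U.ι ''ᵁ T'.U.ι ⁻¹ᵁ V ≤ (T.U.ι ''ᵁ T.U.ι ⁻¹ᵁ V) ⊓ T'.U := by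
    intro y hy
    obtain ⟨hyU, hyV⟩ := mem_Uv.1 hy
    exact ⟨mem_Uv.2 ⟨Cl.U_anti h hyU, hyV⟩, hyU⟩
  have hle3 : (T.U.ι ''ᵁ T.U.ι ⁻¹ᵁ V) ⊓ T'.U ≤ T'.U.ι ''ᵁ T'.U.ι ⁻¹ᵁ V := by
    intro y hy
    exact mem_Uv.2 ⟨hy.2, (mem_Uv.1 hy.1).2⟩
  apply hinj
  show res F (inf_le_left : (T.U.ι ''ᵁ T.U.ι ⁻¹ᵁ V) ⊓ T'.U ≤ T.U.ι ''ᵁ T.U.ι ⁻¹ᵁ V) a =
    res F inf_le_left b
  have key : ∀ t : Γ(F, T.U.ι ''ᵁ T.U.ι ⁻¹ᵁ V),
      res F (inf_le_left : (T.U.ι ''ᵁ T.U.ι ⁻¹ᵁ V) ⊓ T'.U ≤ T.U.ι ''ᵁ T.U.ι ⁻¹ᵁ V) t =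
        res F hle3 (res F (resPush_le (Cl.U_anti h) V) t) := fun t => (res_res F _ hle3 t).symm
  rw [key a, key b, hab']

/-- the colimit injections of a `Z`-pure module are monomorphisms -/
theorem mono_ιH_of_isZPure (F : X.Modules) (hp : IsZPure Z F) (T : Cl Z) : Mono (ιH Z F T) := by
  apply AssMono.mono_of_stalkLin_injective
  intro x
  rw [injective_iff_map_eq_zero]
  intro g hg
  obtain ⟨T', h, h0⟩ := exists_stalk_zero Z F x T g hg
  haveI := mono_trans_of_isZPure F hp h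
  exact StalkExact.stalkLin_injective (((diagram Z).obj F).map (homOfLE h)) x
    (h0.trans (map_zero _).symm)

theorem isQCoh_resPush (F : X.Modules) [F.IsQuasicoherent] (U : X.Opens) :
    ((resPush U).obj F).IsQuasicoherent := by
  haveI : ((Scheme.Modules.restrictFunctor U.ι).obj F).IsQuasicoherent :=
    Scheme.Modules.isQuasicoherent_restrictFunctor U.ι F
  exact QcohGlue.isQuasicoherent_pushforward U.ι _

theorem s5867 (X : Scheme.{u}) [IsLocallyNoetherian X] (Z : Set X)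
    (F : X.Modules) (hF : Coh.IsCoh F)
    (hass : ∀ x ∈ AssSch.Ass F, x ∉ Z) (hH : Coh.IsCoh ((ZClos.H0 Z).obj F)) (T : ZClos.Cl Z) :
    Coh.IsCoh ((ZClos.resPush T.U).obj F) := by
  haveI : F.IsQuasicoherent := hF.1
  have hm : Mono (ιH Z F T) := mono_ιH_of_isZPure F (isZPure_of_ass_disjoint F hF hass) T
  have hq : Coh.IsQCoh (((diagram Z).obj F).obj T) := isQCoh_resPush F T.U
  exact @CohQ1.isCoh_of_mono X _ (((diagram Z).obj F).obj T) _ (ιH Z F T) hm hq hH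

end Groth.Agent.Helper2.ZB
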