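import Mathlib
import Groth.Prelude.Def_ZClos
import Groth.Agent.Helper2.ZB8
import Groth.Agent.Helper6.ZCl4
import Groth.Agent.Lead.FlatLib1
import Groth.Agent.Lead.PullFF

set_option autoImplicit false
universe u
open CategoryTheory CategoryTheory.Limits AlgebraicGeometry TopologicalSpace Opposite ZClos

namespace Groth.Agent.Helper2.ZB

open Groth.Agent.Helper6 Groth.Agent.Helper6.ZCl1 Groth.Agent.Helper6.ZCl2
open Groth.Agent.Helper4 Groth.Agent.Helper4.StalkDict
open Groth.Agent.Lead.StalkNhd Groth.Agent.Lead.FlatLib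

variable {X Y : Scheme.{u}} (j : Y ⟶ X) [IsOpenImmersion j]

theorem stable_preimage {Z : Set X} (hZ : StableUnderSpecialization Z) :
    StableUnderSpecialization (j.base ⁻¹' Z) :=
  hZ.preimage j.continuous

/-- closed subsets of `Y` inside `j⁻¹ Z` extend to closed subsets of `X` inside `Z` -/
theorem exists_extend_oi [IsLocallyNoetherian X] {Z : Set X} (hZ : StableUnderSpecialization Z)
    (Ti : Cl (X := Y) (j.base ⁻¹' Z)) :
    ∃ T : Cl Z, ∀ w : Y, j w ∈ (T.1 : Set X) ↔ w ∈ (Ti.1 : Set Y) := by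
  obtain ⟨C0, hC0, hpre⟩ := j.isOpenEmbedding.isInducing.isClosed_iff.1 Ti.1.isClosed
  have hsub : C0 ∩ Set.range j.base ⊆ Z := by
    rintro y ⟨hyC, w, rfl⟩
    have : w ∈ (Ti.1 : Set Y) := by rw [← hpre]; exact hyC
    exact Ti.2 this
  have hcl := closure_inter_subset hZ hC0 j.isOpenEmbedding.isOpen_range hsub
  refine ⟨⟨⟨closure (C0 ∩ Set.range j.base), isClosed_closure⟩, hcl⟩, fun w => ?_⟩
  constructor
  · intro h
    have hyC : j w ∈ C0 := closure_minimal Set.inter_subset_left hC0 h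
    rw [← hpre]; exact hyC
  · intro h
    rw [← hpre] at h
    exact subset_closure ⟨h, w, rfl⟩

theorem image_inf_compl_oi {Z : Set X} (Ti : Cl (X := Y) (j.base ⁻¹' Z)) (T : Cl Z)
    (hT : ∀ w : Y, j w ∈ (T.1 : Set X) ↔ w ∈ (Ti.1 : Set Y)) (W' : Y.Opens) :
    j ''ᵁ (W' ⊓ Ti.U) = (j ''ᵁ W') ⊓ T.U := by
  refine Opens.ext (Set.ext fun y => ?_)
  constructor
  · rintro ⟨w, hw, rfl⟩
    exact ⟨⟨w, hw.1, rfl⟩, fun hyT => hw.2 ((hT w).1 hyT)⟩
  · rintro ⟨⟨w, hw, rfl⟩, h2⟩
    exact ⟨w, ⟨hw, fun hh => h2 ((hT w).2 hh)⟩, rfl⟩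

theorem restrict_of_global_oi (P : ∀ {A B : Type u}, (A → B) → Prop) (F : X.Modules)
    [IsLocallyNoetherian X] {Z : Set X} (hZ : StableUnderSpecialization Z)
    (hF : ∀ (T : Cl Z) (V : X.Opens), P (res F (inf_le_left : V ⊓ T.U ≤ V)))
    (Ti : Cl (X := Y) (j.base ⁻¹' Z)) (W' : Y.Opens) :
    P (res ((Scheme.Modules.restrictFunctor j).obj F) (inf_le_left : W' ⊓ Ti.U ≤ W')) := by
  obtain ⟨T, hT⟩ := exists_extend_oi j hZ Ti
  have e : j ''ᵁ (W' ⊓ Ti.U) = (j ''ᵁ W') ⊓ T.U := image_inf_compl_oi j Ti T hT W'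
  have hle : j ''ᵁ (W' ⊓ Ti.U) ≤ j ''ᵁ W' :=
    (j.opensFunctor.map (homOfLE (inf_le_left : W' ⊓ Ti.U ≤ W'))).le
  show P (res F hle)
  rw [ZCl4.P_res_congr P F rfl e hle inf_le_left]
  exact hF T _

/-- restriction along an open immersion preserves `Z`-closedness -/
theorem isZClosed_restrict_oi [IsLocallyNoetherian X] {Z : Set X}
    (hZ : StableUnderSpecialization Z) (G : X.Modules) (hG : IsZClosed Z G) :
    IsZClosed (j.base ⁻¹' Z) ((Scheme.Modules.restrictFunctor j).obj G) := by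
  refine ZCl1.isZClosed_of_forall_isIso _ _ fun Ti => ?_
  refine isIso_of_bijective_res _ _ Ti (B := Set.univ) ZCl4.isBasis_univ' fun W' _ => ?_
  exact restrict_of_global_oi j (fun {A B} f => Function.Bijective f) G hZ
    (fun T W => by
      haveI := ZCl1.isIso_toDiagram_of_isZClosed Z G hG T
      exact bijective_res_of_isIso Z G T W) Ti W'

theorem rsHom_stalkLin_oi {F G : X.Modules} (φ : F ⟶ G) (z : Y)
    (t : (F.restrict j).presheaf.stalk z) :
    rsHom j G z (stalkLin ((Scheme.Modules.restrictFunctor j).map φ) z t) =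
      stalkLin φ (j z) (rsHom j F z t) := by
  obtain ⟨V, hzV, m, rfl⟩ := TopCat.Presheaf.exists_germ_eq _ t
  rw [StalkExact.stalkLin_germ, rsHom_germ, rsHom_germ, StalkExact.stalkLin_germ]
  rfl

theorem stalkLin_restrict_bijective_iff {F G : X.Modules} (φ : F ⟶ G) (z : Y) :
    Function.Bijective (stalkLin ((Scheme.Modules.restrictFunctor j).map φ) z) ↔
      Function.Bijective (stalkLin φ (j z)) := by
  have hF := rsHom_bijective j F z
  have hG := rsHom_bijective j G z
  have hcomm : ⇑(rsHom j G z) ∘ ⇑(stalkLin ((Scheme.Modules.restrictFunctor j).map φ) z) =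
      ⇑(stalkLin φ (j z)) ∘ ⇑(rsHom j F z) := funext fun t => rsHom_stalkLin_oi j φ z t
  constructor
  · intro h
    have h1 : Function.Bijective (⇑(stalkLin φ (j z)) ∘ ⇑(rsHom j F z)) := by
      rw [← hcomm]; exact hG.comp h
    exact (Function.Bijective.of_comp_iff _ hF).1 h1
  · intro h
    have h1 : Function.Bijective
        (⇑(rsHom j G z) ∘ ⇑(stalkLin ((Scheme.Modules.restrictFunctor j).map φ) z)) := by
      rw [hcomm]; exact h.comp hF
    exact (Function.Bijective.of_comp_iff' hG _).1 h1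

/-- **`H0` commutes with restriction along an open immersion**, compatibly with `ρ`. -/
theorem exists_iso_restrict_H0 [IsLocallyNoetherian X] {Z : Set X}
    (hZ : StableUnderSpecialization Z) (F : X.Modules) :
    ∃ v : (H0 (j.base ⁻¹' Z)).obj ((Scheme.Modules.restrictFunctor j).obj F) ≅
        (Scheme.Modules.restrictFunctor j).obj ((H0 Z).obj F),
      rhoApp (j.base ⁻¹' Z) ((Scheme.Modules.restrictFunctor j).obj F) ≫ v.hom =
        (Scheme.Modules.restrictFunctor j).map (rhoApp Z F) := by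
  haveI : IsLocallyNoetherian Y := isLocallyNoetherian_of_isOpenImmersion j
  have hcl := isZClosed_restrict_oi j hZ _ (ZCl3.isZClosed_H0 Z F)
  obtain ⟨v, hv, -⟩ := ZCl1.existsUnique_fac (j.base ⁻¹' Z)
    ((Scheme.Modules.restrictFunctor j).obj F) _ hcl
    ((Scheme.Modules.restrictFunctor j).map (rhoApp Z F))
  have hiso : IsIso v := by
    refine ZCl5.isIso_fac (stable_preimage j hZ) _ _ hcl
      ((Scheme.Modules.restrictFunctor j).map (rhoApp Z F)) ?_ v hv
    intro y hy
    have hb := (stalkLin_restrict_bijective_iff j (rhoApp Z F) y).2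
      ⟨rho_injective_of_not_mem F (j y) hy, rho_surjective_of_not_mem F (j y) hy⟩
    exact hb
  exact ⟨asIso v, hv⟩

end Groth.Agent.Helper2.ZB
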