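import Mathlib
import Groth.Prelude.Def_ZClos
import Groth.Agent.Helper2.ZB9
import Groth.Agent.Lead.PerfLib5
import Groth.Agent.S0020

set_option autoImplicit false
universe u
open CategoryTheory CategoryTheory.Limits AlgebraicGeometry TopologicalSpace Opposite ZClos

namespace Groth.Agent.Helper2.ZB

open Groth.Agent.Helper6 Groth.Agent.Helper6.ZCl1 Groth.Agent.Helper6.ZCl2
open Groth.Agent.Helper4 Groth.Agent.Helper4.StalkDict
open Groth.Agent.Lead.StalkNhd Groth.Agent.Lead.FlatLib

variable {X : Scheme.{u}} [IsLocallyNoetherian X] {Z : Set X}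

/-- the locus where `F` is `Z`-closed, as a set -/
def closedLocus (Z : Set X) (F : X.Modules) : Set X :=
  {x | Function.Bijective (stalkLin (rhoApp Z F) x)}

theorem closedLocus_eq_compl (F : X.Modules) :
    closedLocus Z F = (CohB1.support (kernel (rhoApp Z F)) ∪
      CohB1.support (cokernel (rhoApp Z F)))ᶜ := by
  ext x
  simp only [closedLocus, Set.mem_setOf_eq, Set.mem_compl_iff, Set.mem_union, not_or,
    CohB1.support, not_not]
  constructor
  · intro h
    exact ⟨subsingleton_stalk_kernel (rhoApp Z F) x h.1,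
      ZCl5.subsingleton_stalk_cokernel (rhoApp Z F) x (fun b => h.2 b)⟩
  · rintro ⟨h1, h2⟩
    refine ⟨stalkLin_injective_of_subsingleton_kernel (rhoApp Z F) x h1, fun n => ?_⟩
    haveI := h2
    exact exists_of_cokernel_zero (rhoApp Z F) x n (Subsingleton.elim _ _)

theorem isOpen_closedLocus (F : X.Modules) (hF : Coh.IsCoh F)
    (hH : Coh.IsCoh ((H0 Z).obj F)) : IsOpen (closedLocus Z F) := by
  rw [closedLocus_eq_compl, isOpen_compl_iff]
  exact (Groth.Agent.S0020.result X _
      (Groth.Agent.Lead.PerfLib.isCoh_kernel hF hH (rhoApp Z F)).2).union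
    (Groth.Agent.S0020.result X _
      (Groth.Agent.Lead.PerfLib.isCoh_cokernel hF hH (rhoApp Z F)).2)

theorem compl_closedLocus_subset (F : X.Modules) : (closedLocus Z F)ᶜ ⊆ Z := by
  intro x hx
  by_contra hxZ
  exact hx ⟨rho_injective_of_not_mem F x hxZ, rho_surjective_of_not_mem F x hxZ⟩

/-- `F|_V` is `(Z ∩ V)`-closed iff `V` lies in the closed locus -/
theorem isZClosed_restrict_iff (hZ : StableUnderSpecialization Z) (F : X.Modules)
    (V : X.Opens) :
    IsZClosed (V.ι.base ⁻¹' Z) ((Scheme.Modules.restrictFunctor V.ι).obj F) ↔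
      (V : Set X) ⊆ closedLocus Z F := by
  obtain ⟨v, hv⟩ := exists_iso_restrict_H0 V.ι hZ F
  constructor
  · intro h x hx
    haveI : IsIso (rhoApp (V.ι.base ⁻¹' Z) ((Scheme.Modules.restrictFunctor V.ι).obj F)) := h
    haveI : IsIso ((Scheme.Modules.restrictFunctor V.ι).map (rhoApp Z F)) := by
      rw [← hv]; infer_instance
    have hb := Groth.Agent.Lead.PullFF.stalkLin_bijective_of_isIso
      ((Scheme.Modules.restrictFunctor V.ι).map (rhoApp Z F)) (⟨x, hx⟩ : V)
    exact (stalkLin_restrict_bijective_iff V.ι (rhoApp Z F) ⟨x, hx⟩).1 hb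
  · intro h
    haveI : IsIso ((Scheme.Modules.restrictFunctor V.ι).map (rhoApp Z F)) := by
      apply QcohLocal.isIso_of_stalkLin_bijective
      intro z
      exact (stalkLin_restrict_bijective_iff V.ι (rhoApp Z F) z).2 (h z.2)
    have e : rhoApp (V.ι.base ⁻¹' Z) ((Scheme.Modules.restrictFunctor V.ι).obj F) =
        (Scheme.Modules.restrictFunctor V.ι).map (rhoApp Z F) ≫ v.inv := by
      rw [← hv, Category.assoc, Iso.hom_inv_id, Category.comp_id]
    show IsIso (rhoApp (V.ι.base ⁻¹' Z) ((Scheme.Modules.restrictFunctor V.ι).obj F))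
    rw [e]
    infer_instance

theorem closedLocus_eq_depth (hZ : StableUnderSpecialization Z) (F : X.Modules)
    (hF : Coh.IsCoh F) :
    closedLocus Z F = {x | ∀ x' : X, x' ⤳ x → x' ∈ Z →
        (2 : ℕ∞) ≤ LocCoh.depth (X.presheaf.stalk x') (F.presheaf.stalk x')} := by
  ext x
  exact s5856 X Z hZ F hF x

theorem s5859 (X : Scheme.{u}) [IsLocallyNoetherian X] (Z : Set X)
    (hZ : StableUnderSpecialization Z) (F : X.Modules) (hF : Coh.IsCoh F)
    (hH : Coh.IsCoh ((ZClos.H0 Z).obj F)) :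
    ∃ U : X.Opens, (U : Set X) = {x | ∀ x' : X, x' ⤳ x → x' ∈ Z →
        (2 : ℕ∞) ≤ LocCoh.depth (X.presheaf.stalk x') (F.presheaf.stalk x')} ∧
      (U : Set X)ᶜ ⊆ Z ∧
      ZClos.IsZClosed (U.ι.base ⁻¹' Z) ((Scheme.Modules.restrictFunctor U.ι).obj F) ∧
      ∀ V : X.Opens, ZClos.IsZClosed (V.ι.base ⁻¹' Z)
        ((Scheme.Modules.restrictFunctor V.ι).obj F) → V ≤ U := by
  refine ⟨⟨closedLocus Z F, isOpen_closedLocus F hF hH⟩, closedLocus_eq_depth hZ F hF,
    compl_closedLocus_subset F, ?_, ?_⟩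
  · exact (isZClosed_restrict_iff hZ F _).2 subset_rfl
  · intro V hV
    exact (isZClosed_restrict_iff hZ F V).1 hV

end Groth.Agent.Helper2.ZB
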