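import Mathlib
import Groth.Prelude.Def_ZClos
import Groth.Agent.Helper2.ZB10
import Groth.Agent.Helper5.SOne3

set_option autoImplicit false
universe u
open CategoryTheory CategoryTheory.Limits AlgebraicGeometry TopologicalSpace Opposite ZClos

namespace Groth.Agent.Helper2.ZB

open Groth.Agent.Helper4 Groth.Agent.Helper4.StalkDict Groth.Agent.Helper4.FinLocFree5
open Groth.Agent.Helper5.SOne2

variable {X : Scheme.{u}} [IsLocallyNoetherian X]

/-- the `(S_2)` inequality off `Z^(2)`, for modules without associated points of codimension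
one -/
theorem s2_off_dimGe (F : X.Modules) (hF : Coh.IsCoh F)
    (hass : ∀ x ∈ AssSch.Ass F, ringKrullDim (X.presheaf.stalk x) ≠ 1) (x : X)
    (hx : x ∉ dimGe X 2) :
    min (2 : WithBot ℕ∞) (Module.supportDim (X.presheaf.stalk x) (F.presheaf.stalk x)) ≤
      ((LocCoh.depth (X.presheaf.stalk x) (F.presheaf.stalk x) : ℕ∞) : WithBot ℕ∞) := by
  haveI : F.IsQuasicoherent := hF.1
  haveI := FinLocFree2.finite_stalk F hF.2 x
  haveI : IsNoetherianRing (X.presheaf.stalk x) := inferInstance
  have hdim : ¬ ((2 : ℕ) : WithBot ℕ∞) ≤ ringKrullDim (X.presheaf.stalk x) := hx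
  have hsd := Module.supportDim_le_ringKrullDim (R := X.presheaf.stalk x)
    (M := F.presheaf.stalk x)
  by_cases hA : x ∈ AssSch.Ass F
  · have h1 := hass x hA
    have h0 : ringKrullDim (X.presheaf.stalk x) ≤ 0 := by
      rw [ringKrullDim_stalk_eq_coheight] at hdim h1 ⊢
      exact aux1 _ hdim h1
    exact (min_le_right _ _).trans (hsd.trans (h0.trans (aux4 _)))
  · have hs1 := (Groth.Agent.Helper5.SOne1.s1_iff (X.presheaf.stalk x)
      (F.presheaf.stalk x)).mpr (fun h => absurd h hA)
    have hsd1 : Module.supportDim (X.presheaf.stalk x) (F.presheaf.stalk x) ≤ 1 := by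
      refine hsd.trans ?_
      rw [ringKrullDim_stalk_eq_coheight] at hdim ⊢
      exact aux2 _ hdim
    rw [min_eq_right (hsd1.trans (by norm_num))]
    rw [min_eq_right hsd1] at hs1
    exact hs1

set_option backward.isDefEq.respectTransparency false in
/-- with full support, the dimension of the support of a stalk is the dimension of the local
ring -/
theorem supportDim_stalk_eq (F : X.Modules) [F.IsQuasicoherent]
    (hsupp : ∀ x : X, Nontrivial (F.presheaf.stalk x)) (x : X) :
    Module.supportDim (X.presheaf.stalk x) (F.presheaf.stalk x) =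
      ringKrullDim (X.presheaf.stalk x) := by
  obtain ⟨U, hU, hx⟩ := QcohLimits.exists_affine_nhd x
  letI := sectionModStalk F x hx
  letI := X.presheaf.algebra_section_stalk ⟨x, hx⟩
  haveI := hU.isLocalization_stalk ⟨x, hx⟩
  haveI := isLocalizedModule_germ hU F x hx
  haveI : IsScalarTower Γ(X, U) (X.presheaf.stalk x) (F.presheaf.stalk x) :=
    IsScalarTower.of_algebraMap_smul (fun r m => rfl)
  have hkey := fun q => mem_support_iff_comap (hU.primeIdealOf ⟨x, hx⟩).asIdeal
    (X.presheaf.stalk x) (germLin F x hx) q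
  have huniv : Module.support (X.presheaf.stalk x) (F.presheaf.stalk x) = Set.univ := by
    ext q
    simp only [Set.mem_univ, iff_true]
    rw [hkey q]
    obtain ⟨z, hzU, hz⟩ := exists_point_of_prime hU
      (q.comap (algebraMap Γ(X, U) (X.presheaf.stalk x)))
    rw [← hz, SuppDict.mem_support_iff hU F z hzU]
    exact not_subsingleton_iff_nontrivial.mpr (hsupp z)
  unfold Module.supportDim ringKrullDim
  rw [huniv]
  exact Order.krullDim_eq_of_orderIso (OrderIso.Set.univ)

theorem s5861 (X : Scheme.{u}) [IsLocallyNoetherian X] (F : X.Modules) (hF : Coh.IsCoh F)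
    (hsupp : ∀ x : X, Nontrivial (F.presheaf.stalk x))
    (hass : ∀ x ∈ AssSch.Ass F, ringKrullDim (X.presheaf.stalk x) ≠ 1)
    (hH : Coh.IsCoh ((ZClos.H0 (ZClos.dimGe X 2)).obj F)) :
    IsOpen {x : X | ∀ x' : X, x' ⤳ x →
        min (2 : WithBot ℕ∞) (Module.supportDim (X.presheaf.stalk x') (F.presheaf.stalk x')) ≤
          ((LocCoh.depth (X.presheaf.stalk x') (F.presheaf.stalk x') : ℕ∞) : WithBot ℕ∞)} ∧
      ∀ x : X, (¬ ∀ x' : X, x' ⤳ x →
        min (2 : WithBot ℕ∞) (Module.supportDim (X.presheaf.stalk x') (F.presheaf.stalk x')) ≤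
          ((LocCoh.depth (X.presheaf.stalk x') (F.presheaf.stalk x') : ℕ∞) : WithBot ℕ∞)) →
        (2 : WithBot ℕ∞) ≤ ringKrullDim (X.presheaf.stalk x) := by
  haveI : F.IsQuasicoherent := hF.1
  have hZ := stable_dimGe X 2
  have hset : {x : X | ∀ x' : X, x' ⤳ x →
        min (2 : WithBot ℕ∞) (Module.supportDim (X.presheaf.stalk x') (F.presheaf.stalk x')) ≤
          ((LocCoh.depth (X.presheaf.stalk x') (F.presheaf.stalk x') : ℕ∞) : WithBot ℕ∞)} =
      closedLocus (dimGe X 2) F := by
    rw [closedLocus_eq_depth hZ F hF]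
    ext x
    simp only [Set.mem_setOf_eq]
    constructor
    · intro h x' hx' hx'Z
      have h1 := h x' hx'
      rw [supportDim_stalk_eq F hsupp x'] at h1
      have h2 : (2 : WithBot ℕ∞) ≤ ringKrullDim (X.presheaf.stalk x') := hx'Z
      rw [min_eq_left h2] at h1
      have h3 : ((2 : ℕ∞) : WithBot ℕ∞) ≤
          ((LocCoh.depth (X.presheaf.stalk x') (F.presheaf.stalk x') : ℕ∞) : WithBot ℕ∞) := h1
      exact WithBot.coe_le_coe.mp h3
    · intro h x' hx'
      by_cases hx'Z : x' ∈ dimGe X 2
      · exact (min_le_left _ _).trans (aux3 _ (h x' hx' hx'Z))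
      · exact s2_off_dimGe F hF hass x' hx'Z
  refine ⟨by rw [hset]; exact isOpen_closedLocus F hF hH, fun x hx => ?_⟩
  have hx' : x ∈ (closedLocus (dimGe X 2) F)ᶜ := by
    rw [← hset]
    exact hx
  exact compl_closedLocus_subset F hx'

end Groth.Agent.Helper2.ZB
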