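import Mathlib
import Groth.Prelude.Def_ZClos
import Groth.Prelude.Def_EGA4c
import Groth.Agent.Helper2.ZA1
import Groth.Agent.Helper2.ZB11
import Groth.Agent.Helper4.FTGlue

set_option autoImplicit false
universe u
open CategoryTheory CategoryTheory.Limits AlgebraicGeometry TopologicalSpace Opposite ZClos

namespace Groth.Agent.Helper2.ZA

open Groth.Agent.Helper4 Groth.Agent.Helper4.StalkDict

section Dict

variable {R : CommRingCat.{u}} (F : (Spec R).Modules)

/-- the canonical ring homomorphism `R → Γ(Spec R, ⊤)` -/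
noncomputable abbrev sg (R : CommRingCat.{u}) : R →+* Γ(Spec R, ⊤) := (Scheme.ΓSpecIso R).inv.hom

theorem sg_surjective (R : CommRingCat.{u}) : Function.Surjective (sg R) := by
  intro r
  refine ⟨(Scheme.ΓSpecIso R).hom.hom r, ?_⟩
  exact congr($((Scheme.ΓSpecIso R).hom_inv_id) r)

theorem smul_top_def (a : R) (n : Γ(F, ⊤)) : a • n = sg R a • n := by
  rw [Scheme.Modules.smul_Spec_def]
  have : (Spec R).presheaf.map (⊤ : (Spec R).Opens).leTop.op = 𝟙 _ := by
    rw [show (⊤ : (Spec R).Opens).leTop = 𝟙 _ from Subsingleton.elim _ _, op_id]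
    exact (Spec R).presheaf.map_id _
  rw [this]
  rfl

theorem mem_top (x : Spec R) : x ∈ (⊤ : (Spec R).Opens) := trivial

theorem mem_basicOpen_sg_iff (x : Spec R) (a : R) :
    x ∈ (Spec R).basicOpen (sg R a) ↔ a ∉ x.asIdeal := by
  have h := basicOpen_eq_of_affine a
  have : x ∈ (Spec R).basicOpen ((Scheme.ΓSpecIso R).inv a) ↔
      x ∈ (PrimeSpectrum.basicOpen a : Set (PrimeSpectrum R)) := by
    rw [← h]; rfl
  exact this.trans (PrimeSpectrum.mem_basicOpen a x)

theorem sg_notMem_iff (x : Spec R) (a : R) :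
    sg R a ∉ ((isAffineOpen_top (Spec R)).primeIdealOf ⟨x, trivial⟩).asIdeal ↔
      a ∉ x.asIdeal := by
  rw [← mem_basicOpen_iff_notMem_primeIdealOf (isAffineOpen_top (Spec R)) x trivial (sg R a),
    mem_basicOpen_sg_iff]

theorem isUnit_germ_sg (x : Spec R) (a : R) (ha : a ∉ x.asIdeal) :
    IsUnit ((Spec R).presheaf.germ ⊤ x trivial (sg R a)) := by
  rw [← (Spec R).mem_basicOpen (sg R a) x trivial]
  exact (mem_basicOpen_sg_iff x a).mpr ha

theorem germ_smul_top (x : Spec R) (a : R) (n : Γ(F, ⊤)) :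
    F.presheaf.germ ⊤ x trivial (a • n) =
      (Spec R).presheaf.germ ⊤ x trivial (sg R a) • F.presheaf.germ ⊤ x trivial n := by
  rw [smul_top_def, germ_smul]

variable [F.IsQuasicoherent]

set_option backward.isDefEq.respectTransparency false in
/-- every germ is a fraction of a global section -/
theorem exists_germ_eq_top (x : Spec R) (m : F.presheaf.stalk x) :
    ∃ (a : R) (_ : a ∉ x.asIdeal) (n : Γ(F, ⊤)),
      (Spec R).presheaf.germ ⊤ x trivial (sg R a) • m = F.presheaf.germ ⊤ x trivial n := by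
  have hU := isAffineOpen_top (Spec R)
  letI := sectionModStalk F x (U := ⊤) trivial
  haveI := isLocalizedModule_germ hU F x trivial
  obtain ⟨⟨n, s⟩, hs⟩ := IsLocalizedModule.surj
    (hU.primeIdealOf ⟨x, trivial⟩).asIdeal.primeCompl (germLin F x (mem_top x)) m
  obtain ⟨a, ha⟩ := sg_surjective R s.1
  refine ⟨a, ?_, n, ?_⟩
  · rw [← sg_notMem_iff, ha]
    exact s.2
  · rw [ha]
    exact hs

set_option backward.isDefEq.respectTransparency false in
/-- a global section with vanishing germ at `x` is killed by an element outside `x` -/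
theorem exists_smul_eq_zero_of_germ (x : Spec R) (n : Γ(F, ⊤))
    (hn : F.presheaf.germ ⊤ x trivial n = 0) : ∃ a : R, a ∉ x.asIdeal ∧ a • n = 0 := by
  have hU := isAffineOpen_top (Spec R)
  letI := sectionModStalk F x (U := ⊤) trivial
  haveI := isLocalizedModule_germ hU F x trivial
  have h := (IsLocalizedModule.eq_zero_iff (hU.primeIdealOf ⟨x, trivial⟩).asIdeal.primeCompl
    (germLin F x (mem_top x)) (m := n)).mp hn
  obtain ⟨s, hs⟩ := h
  obtain ⟨a, ha⟩ := sg_surjective R s.1
  refine ⟨a, ?_, ?_⟩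
  · rw [← sg_notMem_iff, ha]
    exact s.2
  · rw [smul_top_def, ha]
    exact hs

end Dict

end Groth.Agent.Helper2.ZA
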