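import Mathlib
import Groth.Prelude.Def_ZClos
import Groth.Prelude.Def_EGA4c
import Groth.Agent.Helper2.ZA2

set_option autoImplicit false
universe u
open CategoryTheory CategoryTheory.Limits AlgebraicGeometry TopologicalSpace Opposite ZClos

namespace Groth.Agent.Helper2.ZA

open Groth.Agent.Helper4 Groth.Agent.Helper4.StalkDict Groth.Agent.Helper2.ZB

section Lin

variable {R : CommRingCat.{u}} {F G : (Spec R).Modules}

/-- the map on global sections, as an `R`-linear map -/
noncomputable def appTopLin (φ : F ⟶ G) : Γ(F, ⊤) →ₗ[R] Γ(G, ⊤) where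
  toFun := φ.app ⊤
  map_add' := map_add _
  map_smul' a n := by
    rw [RingHom.id_apply, smul_top_def, smul_top_def]
    exact Scheme.Modules.Hom.app_smul φ (sg R a) n

theorem appTopLin_apply (φ : F ⟶ G) (n : Γ(F, ⊤)) : appTopLin φ n = φ.app ⊤ n := rfl

theorem germ_appTopLin (φ : F ⟶ G) (x : Spec R) (n : Γ(F, ⊤)) :
    G.presheaf.germ ⊤ x trivial (appTopLin φ n) =
      stalkLin φ x (F.presheaf.germ ⊤ x trivial n) :=
  (StalkExact.stalkLin_germ φ x ⊤ trivial n).symm

end Lin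

section Main

variable {R : CommRingCat.{u}} [IsNoetherianRing R] (p : Ideal R) [hpp : p.IsPrime]
variable (Z : Set (Spec R))

/-- the sheaf `(A/p)~` -/
noncomputable abbrev Bt : (Spec R).Modules := tilde (ModuleCat.of R (R ⧸ p))

/-- `A/p → Γ((A/p)~, ⊤)` -/
noncomputable def tau : (R ⧸ p) →ₗ[R] Γ(Bt p, ⊤) :=
  (tilde.toOpen (ModuleCat.of R (R ⧸ p)) ⊤).hom

theorem tau_bijective : Function.Bijective (tau p) := by
  have h : IsIso (tilde.toOpen (ModuleCat.of R (R ⧸ p)) ⊤) :=
    tilde.isIso_toOpen_top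
  exact (ConcreteCategory.isIso_iff_bijective _).mp h

/-- the comparison map `A/p → Γ(H0 Z (A/p)~, ⊤)` -/
noncomputable def phi : (R ⧸ p) →ₗ[R] Γ((H0 Z).obj (Bt p), ⊤) :=
  (appTopLin (rhoApp Z (Bt p))).comp (tau p)

variable (hZ : StableUnderSpecialization Z) (hp : (⟨p, hpp⟩ : PrimeSpectrum R) ∉ Z)

include hZ hp in
theorem hyp : Hyp p Z (phi p Z) where
  hp := hp
  h1 := by
    intro x hx n
    obtain ⟨m, hm⟩ := rho_surjective_of_not_mem (Bt p) x hx
      (((H0 Z).obj (Bt p)).presheaf.germ ⊤ x trivial n)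
    obtain ⟨a, ha, β, hβ⟩ := exists_germ_eq_top (Bt p) x m
    haveI : ((H0 Z).obj (Bt p)).IsQuasicoherent := Groth.Agent.Helper6.ZCl5.isQCoh_H0 Z (Bt p) inferInstance
    have h0 : ((H0 Z).obj (Bt p)).presheaf.germ ⊤ x trivial
        (a • n - appTopLin (rhoApp Z (Bt p)) β) = 0 := by
      rw [map_sub, germ_smul_top, germ_appTopLin, ← hβ, map_smul, hm, sub_self]
    obtain ⟨a', ha', h1⟩ := exists_smul_eq_zero_of_germ _ x _ h0
    obtain ⟨b, hb⟩ := (tau_bijective p).2 (a' • β)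
    refine ⟨a' * a, fun h => (x.2.mem_or_mem h).elim ha' ha, b, ?_⟩
    rw [smul_sub, sub_eq_zero] at h1
    rw [mul_smul, h1, ← map_smul]
    show _ = appTopLin (rhoApp Z (Bt p)) (tau p b)
    rw [hb]
  h2 := by
    rw [injective_iff_map_eq_zero]
    intro b hb
    have h1 : stalkLin (rhoApp Z (Bt p)) ⟨p, hpp⟩
        ((Bt p).presheaf.germ ⊤ ⟨p, hpp⟩ trivial (tau p b)) = 0 := by
      rw [← germ_appTopLin]
      show ((H0 Z).obj (Bt p)).presheaf.germ ⊤ ⟨p, hpp⟩ trivial (phi p Z b) = 0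
      rw [hb, map_zero]
    have h2 : (Bt p).presheaf.germ ⊤ ⟨p, hpp⟩ trivial (tau p b) = 0 :=
      rho_injective_of_not_mem (Bt p) ⟨p, hpp⟩ hp (h1.trans (map_zero _).symm)
    obtain ⟨a, ha, h3⟩ := exists_smul_eq_zero_of_germ (Bt p) ⟨p, hpp⟩ _ h2
    rw [← map_smul] at h3
    have h4 : a • b = 0 := (tau_bijective p).1 (h3.trans (map_zero _).symm)
    rw [smul_eq_mk_mul] at h4
    rcases mul_eq_zero.mp h4 with h | h
    · exact absurd (Ideal.Quotient.eq_zero_iff_mem.mp h) ha
    · exact h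
  h3 := by
    intro x hx n hn
    haveI : ((H0 Z).obj (Bt p)).IsQuasicoherent := Groth.Agent.Helper6.ZCl5.isQCoh_H0 Z (Bt p) inferInstance
    apply exists_smul_eq_zero_of_germ _ x n
    apply socle_zero_H0 hZ (Bt p) x hx
    intro r hr
    -- write `r` as a fraction
    have hU := isAffineOpen_top (Spec R)
    letI := (Spec R).presheaf.algebra_section_stalk ⟨x, mem_top x⟩
    haveI := hU.isLocalization_stalk ⟨x, mem_top x⟩
    obtain ⟨⟨c, s⟩, hcs⟩ := IsLocalization.surj
      (hU.primeIdealOf ⟨x, mem_top x⟩).asIdeal.primeCompl r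
    have halg : ∀ c : Γ(Spec R, ⊤),
        algebraMap Γ(Spec R, ⊤) ((Spec R).presheaf.stalk x) c =
          (Spec R).presheaf.germ ⊤ x trivial c := fun c => rfl
    simp only at hcs
    rw [halg, halg] at hcs
    obtain ⟨a, rfl⟩ := sg_surjective R c
    have hs_unit : IsUnit ((Spec R).presheaf.germ ⊤ x trivial (s : Γ(Spec R, ⊤))) := by
      rw [← (Spec R).mem_basicOpen (U := ⊤) (s : Γ(Spec R, ⊤)) x (mem_top x),
        mem_basicOpen_iff_notMem_primeIdealOf hU x trivial]
      exact s.2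
    have ha : a ∈ x.asIdeal := by
      by_contra hax
      have hu := isUnit_germ_sg x a hax
      rw [← hcs] at hu
      have hr' : ¬ IsUnit r := (IsLocalRing.mem_maximalIdeal r).mp hr
      exact hr' (isUnit_of_mul_isUnit_left hu)
    have h1 : (Spec R).presheaf.germ ⊤ x trivial (sg R a) •
        ((H0 Z).obj (Bt p)).presheaf.germ ⊤ x trivial n = 0 := by
      rw [← germ_smul_top, hn a ha, map_zero]
    rw [← hcs, mul_smul, smul_comm] at h1
    have := congrArg (fun t => (↑hs_unit.unit⁻¹ : (Spec R).presheaf.stalk x) • t) h1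
    simp only [smul_zero] at this
    rwa [smul_smul, IsUnit.val_inv_mul, one_smul] at this

end Main

end Groth.Agent.Helper2.ZA
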