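import Mathlib
import Groth.Prelude.Def_ZClos
import Groth.Prelude.Def_EGA4c
import Groth.Agent.Helper2.ZA3
import Groth.Agent.Helper2.AssDev
import Groth.Agent.Helper2.CohQ1
import Groth.Agent.Helper4.TildeExact
import Groth.Agent.Lead.PerfLib7

set_option autoImplicit false
universe u
open CategoryTheory CategoryTheory.Limits AlgebraicGeometry TopologicalSpace Opposite ZClos

namespace Groth.Agent.Helper2.ZA

open Groth.Agent.Helper4 Groth.Agent.Helper4.StalkDict Groth.Agent.Helper2.ZB

theorem isCoh_of_isZero {X : Scheme.{u}} {M : X.Modules} (hM : IsZero M) : Coh.IsCoh M :=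
  Groth.Agent.Lead.PerfLib.isCoh_of_isFinLocFree (Groth.Agent.Lead.PerfLib.isFinLocFree_of_isZero hM)

section gen

variable {X : Scheme.{u}} [IsLocallyNoetherian X]

/-- middle term of an exact sequence `0 → X₁ → X₂ → X₃` with coherent ends is coherent -/
theorem isCoh_of_exact_of_mono (S : ShortComplex X.Modules) (hS : S.Exact) [Mono S.f]
    (h₁ : Coh.IsCoh S.X₁) (h₂ : Coh.IsQCoh S.X₂) (h₃ : Coh.IsCoh S.X₃) : Coh.IsCoh S.X₂ := by
  haveI : S.X₁.IsQuasicoherent := h₁.1
  haveI : S.X₂.IsQuasicoherent := h₂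
  haveI : S.X₃.IsQuasicoherent := h₃.1
  haveI hq : (cokernel S.f).IsQuasicoherent := QcohLimits.isQuasicoherent_cokernel S.f
  haveI := hS.mono_cokernelDesc
  have hC : Coh.IsCoh (cokernel S.f) :=
    CohQ1.isCoh_of_mono (cokernel.desc S.f S.g S.zero) hq h₃
  let S' : ShortComplex X.Modules := ShortComplex.mk S.f (cokernel.π S.f) (cokernel.condition _)
  have hS' : S'.ShortExact :=
    { exact := ShortComplex.exact_cokernel S.f
      mono_f := inferInstanceAs (Mono S.f)
      epi_g := inferInstanceAs (Epi (cokernel.π S.f)) }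
  exact CohQ1.isCoh_of_shortExact S' hS' h₁ h₂ hC

end gen

section Main

variable {R : CommRingCat.{u}} [IsNoetherianRing R] (Z : Set (Spec R))

/-- the predicate "the `Z`-closure of `M~` is coherent" -/
def PZ (M : Type u) [AddCommGroup M] [Module R M] : Prop :=
  Coh.IsCoh ((H0 Z).obj (tilde (ModuleCat.of R M)))

theorem good : AssDev.Good (A := R) (fun M _ _ => PZ Z M) where
  zero M _ _ _ := by
    haveI := Groth.Agent.Helper6.ZCl1.preservesFiniteLimits_H0 Z
    have h1 : IsZero (ModuleCat.of R M) := ModuleCat.isZero_of_subsingleton _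
    have h2 : IsZero (tilde (ModuleCat.of R M)) := (tilde.functor R).map_isZero h1
    exact isCoh_of_isZero ((H0 Z).map_isZero h2)
  sub N M _ _ _ _ _ f hf hM := by
    haveI := Groth.Agent.Helper6.ZCl1.preservesFiniteLimits_H0 Z
    haveI : Mono (ModuleCat.ofHom f) := (ModuleCat.mono_iff_injective _).mpr hf
    haveI : Mono (tilde.map (ModuleCat.ofHom f)) := TildeExact.mono_tilde_map R (ModuleCat.ofHom f)
    haveI : Mono ((H0 Z).map (tilde.map (ModuleCat.ofHom f))) := inferInstance
    exact CohQ1.isCoh_of_mono ((H0 Z).map (tilde.map (ModuleCat.ofHom f)))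
      (Groth.Agent.Helper6.ZCl5.isQCoh_H0 Z _ inferInstance) hM
  ext M' M M'' _ _ _ _ _ _ _ f g hf hg hfg hM' hM'' := by
    haveI := Groth.Agent.Helper6.ZCl1.preservesFiniteLimits_H0 Z
    let S : ShortComplex (ModuleCat.{u} R) :=
      ShortComplex.mk (ModuleCat.ofHom f) (ModuleCat.ofHom g) (by
        ext x
        exact hfg.apply_apply_eq_zero x)
    have hS : S.ShortExact :=
      { exact := (ShortComplex.ShortExact.moduleCat_exact_iff_function_exact S).mpr hfg
        mono_f := (ModuleCat.mono_iff_injective _).mpr hf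
        epi_g := (ModuleCat.epi_iff_surjective _).mpr hg }
    haveI : PreservesFiniteLimits (tilde.functor R ⋙ H0 Z) := comp_preservesFiniteLimits _ _
    haveI : (tilde.functor R ⋙ H0 Z).Additive := Functor.additive_of_preserves_binary_products _
    have h := (Functor.preservesFiniteLimits_iff_forall_exact_map_and_mono
      (tilde.functor R ⋙ H0 Z)).mp inferInstance S hS
    haveI : Mono (S.map (tilde.functor R ⋙ H0 Z)).f := h.2
    have hq : (tilde (ModuleCat.of R M)).IsQuasicoherent := inferInstance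
    exact isCoh_of_exact_of_mono (S.map (tilde.functor R ⋙ H0 Z)) h.1 hM'
      (Groth.Agent.Helper6.ZCl5.isQCoh_H0 Z _ hq) hM''

/-- stalks of `(R/p)~` vanish away from `V(p)` -/
theorem subsingleton_stalk_Bt (p : Ideal R) [p.IsPrime] (x : Spec R) (hx : ¬ p ≤ x.asIdeal) :
    Subsingleton ((Bt p).presheaf.stalk x) := by
  obtain ⟨a, hap, hax⟩ := Set.not_subset.mp hx
  suffices h : ∀ m : (Bt p).presheaf.stalk x, m = 0 from ⟨fun m m' => by rw [h m, h m']⟩
  intro m
  obtain ⟨s, hs, n, hn⟩ := exists_germ_eq_top (Bt p) x m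
  obtain ⟨b, rfl⟩ := (tau_bijective p).2 n
  have h0 : a • tau p b = 0 := by
    rw [← map_smul, smul_eq_mk_mul, Ideal.Quotient.eq_zero_iff_mem.mpr hap, zero_mul, map_zero]
  have h1 : (Spec R).presheaf.germ ⊤ x trivial (sg R a) •
      (Bt p).presheaf.germ ⊤ x trivial (tau p b) = 0 := by
    rw [← germ_smul_top, h0, map_zero]
  have hu := isUnit_germ_sg x a hax
  have h2 : (Bt p).presheaf.germ ⊤ x trivial (tau p b) = 0 := by
    have := congrArg (fun t => (↑hu.unit⁻¹ : (Spec R).presheaf.stalk x) • t) h1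
    simp only [smul_zero] at this
    rwa [smul_smul, IsUnit.val_inv_mul, one_smul] at this
  rw [h2] at hn
  have hu' := isUnit_germ_sg x s hs
  have := congrArg (fun t => (↑hu'.unit⁻¹ : (Spec R).presheaf.stalk x) • t) hn
  simp only [smul_zero] at this
  rwa [smul_smul, IsUnit.val_inv_mul, one_smul] at this

/-- **forward direction** of the affine coherence criterion for the `Z`-closure -/
theorem forward (hfin : ∀ (q : Ideal R) [q.IsPrime], EGA4.HeightOneHullFinite (R ⧸ q))
    (M : Type u) [AddCommGroup M] [Module R M] [Module.Finite R M]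
    (hZ : StableUnderSpecialization Z)
    (hcodim : ∀ x : PrimeSpectrum R, x.asIdeal ∈ associatedPrimes R M → x ∉ Z →
      ∀ y ∈ Z, x.asIdeal ≤ y.asIdeal →
        (2 : ℕ∞) ≤ (y.asIdeal.map (Ideal.Quotient.mk x.asIdeal)).height) :
    Coh.IsCoh ((H0 Z).obj (tilde (ModuleCat.of R M))) := by
  refine ((good Z).main M).mpr fun p hp => ?_
  haveI hpp : p.IsPrime := hp.isPrime
  by_cases hpZ : (⟨p, hpp⟩ : PrimeSpectrum R) ∈ Z
  · apply isCoh_of_isZero
    rw [Groth.Agent.Helper6.ZCl3.isZero_H0_iff hZ]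
    intro x hx
    apply subsingleton_stalk_Bt p x
    intro hle
    apply hx
    exact hZ ((PrimeSpectrum.le_iff_specializes ⟨p, hpp⟩ x).mp hle) hpZ
  · have H := hyp p Z hZ hpZ
    have hfinN : Module.Finite R Γ((H0 Z).obj (Bt p), ⊤) :=
      H.finite (hfin p) (fun y hy hpy => hcodim ⟨p, hpp⟩ hp hpZ y hy hpy)
    have hq : ((H0 Z).obj (Bt p)).IsQuasicoherent :=
      Groth.Agent.Helper6.ZCl5.isQCoh_H0 Z (Bt p) inferInstance
    refine ⟨hq, ?_⟩
    haveI := hq
    apply FTGlue.isFiniteType_of_finite_sections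
    intro x
    refine ⟨⊤, isAffineOpen_top _, trivial, ?_⟩
    exact Module.Finite.of_restrictScalars_finite R _ _

end Main

end Groth.Agent.Helper2.ZA
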