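import Mathlib
import Groth.Prelude.Def_ZClos
import Groth.Prelude.Def_EGA4c
import Groth.Agent.Helper2.ZA4

set_option autoImplicit false
universe u
open CategoryTheory CategoryTheory.Limits AlgebraicGeometry TopologicalSpace Opposite ZClos

namespace Groth.Agent.Helper2.ZA

open Groth.Agent.Helper4 Groth.Agent.Helper4.StalkDict Groth.Agent.Helper2.ZB

section Main

variable {R : CommRingCat.{u}}

/-- `M → Γ(M~, ⊤)` -/
noncomputable def tauM (M : Type u) [AddCommGroup M] [Module R M] :
    M →ₗ[R] Γ(tilde (ModuleCat.of R M), ⊤) :=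
  (tilde.toOpen (ModuleCat.of R M) ⊤).hom

theorem tauM_bijective (M : Type u) [AddCommGroup M] [Module R M] :
    Function.Bijective (tauM (R := R) M) := by
  have h : IsIso (tilde.toOpen (ModuleCat.of R M) ⊤) := tilde.isIso_toOpen_top
  exact (ConcreteCategory.isIso_iff_bijective _).mp h

theorem tauM_natural {M N : Type u} [AddCommGroup M] [Module R M] [AddCommGroup N] [Module R N]
    (i : M →ₗ[R] N) (m : M) :
    appTopLin (tilde.map (ModuleCat.ofHom i)) (tauM (R := R) M m) = tauM (R := R) N (i m) := by
  have hcomm := tilde.toOpen_map_app (ModuleCat.ofHom i) ⊤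
  exact congrArg (fun φ => φ.hom m) hcomm

/-- stalks of `M~` vanish at `x` if `M` is killed by an element outside `x` -/
theorem subsingleton_stalk_of_smul (M : Type u) [AddCommGroup M] [Module R M] (a : R)
    (ha : ∀ m : M, a • m = 0) (x : Spec R) (hax : a ∉ x.asIdeal) :
    Subsingleton ((tilde (ModuleCat.of R M)).presheaf.stalk x) := by
  suffices h : ∀ m : (tilde (ModuleCat.of R M)).presheaf.stalk x, m = 0 from
    ⟨fun m m' => by rw [h m, h m']⟩
  intro m
  obtain ⟨s, hs, n, hn⟩ := exists_germ_eq_top (tilde (ModuleCat.of R M)) x m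
  obtain ⟨b, rfl⟩ := (tauM_bijective (R := R) M).2 n
  have h0 : a • tauM (R := R) M b = 0 := by
    rw [← map_smul, ha, map_zero]
  have h1 : (Spec R).presheaf.germ ⊤ x trivial (sg R a) •
      (tilde (ModuleCat.of R M)).presheaf.germ ⊤ x trivial (tauM (R := R) M b) = 0 := by
    rw [← germ_smul_top, h0, map_zero]
  have hu := isUnit_germ_sg x a hax
  have h2 : (tilde (ModuleCat.of R M)).presheaf.germ ⊤ x trivial (tauM (R := R) M b) = 0 := by
    have := congrArg (fun t => (↑hu.unit⁻¹ : (Spec R).presheaf.stalk x) • t) h1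
    simp only [smul_zero] at this
    rwa [smul_smul, IsUnit.val_inv_mul, one_smul] at this
  rw [h2] at hn
  have hu' := isUnit_germ_sg x s hs
  have := congrArg (fun t => (↑hu'.unit⁻¹ : (Spec R).presheaf.stalk x) • t) hn
  simp only [smul_zero] at this
  rwa [smul_smul, IsUnit.val_inv_mul, one_smul] at this

variable [IsNoetherianRing R] (Z : Set (Spec R))

/-- an injection of modules which is an isomorphism off a closed subset of `Z` induces an
isomorphism on `Z`-closures -/
theorem isIso_H0_map (hZ : StableUnderSpecialization Z)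
    {M N : Type u} [AddCommGroup M] [Module R M] [AddCommGroup N] [Module R N]
    (i : M →ₗ[R] N) (hi : Function.Injective i) (J : Ideal R)
    (hJ : ∀ y : PrimeSpectrum R, J ≤ y.asIdeal → y ∈ Z)
    (hJN : ∀ a ∈ J, ∀ n : N, a • n ∈ LinearMap.range i) :
    IsIso ((H0 Z).map (tilde.map (ModuleCat.ofHom i))) := by
  haveI := Groth.Agent.Helper6.ZCl1.preservesFiniteLimits_H0 Z
  let S : ShortComplex (ModuleCat.{u} R) :=
    ShortComplex.mk (ModuleCat.ofHom i) (ModuleCat.ofHom (LinearMap.range i).mkQ) (by
      ext x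
      exact (LinearMap.exact_map_mkQ_range i).apply_apply_eq_zero x)
  have hS : S.ShortExact :=
    { exact := (ShortComplex.ShortExact.moduleCat_exact_iff_function_exact S).mpr
        (LinearMap.exact_map_mkQ_range i)
      mono_f := (ModuleCat.mono_iff_injective _).mpr hi
      epi_g := (ModuleCat.epi_iff_surjective _).mpr (Submodule.mkQ_surjective _) }
  haveI : PreservesFiniteLimits (tilde.functor R ⋙ H0 Z) := comp_preservesFiniteLimits _ _
  haveI : (tilde.functor R ⋙ H0 Z).Additive := Functor.additive_of_preserves_binary_products _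
  have h := (Functor.preservesFiniteLimits_iff_forall_exact_map_and_mono
    (tilde.functor R ⋙ H0 Z)).mp inferInstance S hS
  haveI hmono : Mono ((H0 Z).map (tilde.map (ModuleCat.ofHom i))) := h.2
  have hzero : IsZero ((H0 Z).obj (tilde (ModuleCat.of R (N ⧸ LinearMap.range i)))) := by
    rw [Groth.Agent.Helper6.ZCl3.isZero_H0_iff hZ]
    intro x hx
    have hJx : ¬ J ≤ x.asIdeal := fun h => hx (hJ x h)
    obtain ⟨a, haJ, hax⟩ := Set.not_subset.mp hJx
    refine subsingleton_stalk_of_smul _ a ?_ x hax
    intro m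
    obtain ⟨n, rfl⟩ := Submodule.mkQ_surjective _ m
    rw [← map_smul]
    exact (Submodule.Quotient.mk_eq_zero _).mpr (hJN a haJ n)
  haveI hepi : Epi ((H0 Z).map (tilde.map (ModuleCat.ofHom i))) :=
    h.1.epi_f (hzero.eq_of_tgt _ _)
  exact isIso_of_mono_of_epi _

end Main

end Groth.Agent.Helper2.ZA
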