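import Mathlib
import Groth.Prelude.Def_ZClos
import Groth.Prelude.Def_EGA4c
import Groth.Agent.Helper2.ZA5
import Groth.Agent.Helper4.SecDict

set_option autoImplicit false
universe u
open CategoryTheory CategoryTheory.Limits AlgebraicGeometry TopologicalSpace Opposite ZClos

namespace Groth.Agent.Helper2.ZA

open Groth.Agent.Helper4 Groth.Agent.Helper4.StalkDict Groth.Agent.Helper2.ZB

section hull

variable (A : Type u) [CommRing A] [IsDomain A]

/-- `A^(1)` as a subalgebra of the fraction field -/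
noncomputable def hullAlg : Subalgebra A (FractionRing A) where
  carrier := EGA4.heightOneHull A
  mul_mem' := by
    intro x y hx hy P hP hP1
    obtain ⟨s₁, hs₁, a₁, h₁⟩ := hx P hP1
    obtain ⟨s₂, hs₂, a₂, h₂⟩ := hy P hP1
    refine ⟨s₁ * s₂, fun h => ?_, a₁ * a₂, ?_⟩
    · rcases hP.mem_or_mem h with h | h
      · exact hs₁ h
      · exact hs₂ h
    · rw [map_mul, map_mul, h₁, h₂]
      ring
  one_mem' := by
    intro P hP hP1
    exact ⟨1, hP.one_notMem, 1, by simp⟩
  add_mem' := by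
    intro x y hx hy P hP hP1
    obtain ⟨s₁, hs₁, a₁, h₁⟩ := hx P hP1
    obtain ⟨s₂, hs₂, a₂, h₂⟩ := hy P hP1
    refine ⟨s₁ * s₂, fun h => ?_, s₂ * a₁ + s₁ * a₂, ?_⟩
    · rcases hP.mem_or_mem h with h | h
      · exact hs₁ h
      · exact hs₂ h
    · rw [map_add, map_mul, map_mul, map_mul, h₁, h₂]
      ring
  zero_mem' := by
    intro P hP hP1
    exact ⟨1, hP.one_notMem, 0, by simp⟩
  algebraMap_mem' := by
    intro r P hP hP1
    exact ⟨1, hP.one_notMem, r, by simp⟩

end hull

section Lin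

variable {R : CommRingCat.{u}} {F G H : (Spec R).Modules}

theorem appTopLin_comp (φ : F ⟶ G) (ψ : G ⟶ H) (n : Γ(F, ⊤)) :
    appTopLin (φ ≫ ψ) n = appTopLin ψ (appTopLin φ n) := rfl

theorem finite_top_of_finite (F : (Spec R).Modules)
    (h : Module.Finite Γ(Spec R, ⊤) Γ(F, ⊤)) : Module.Finite R Γ(F, ⊤) := by
  haveI : Module.Finite R Γ(Spec R, ⊤) :=
    Module.Finite.of_surjective (Algebra.linearMap R Γ(Spec R, ⊤)) (sg_surjective R)
  exact Module.Finite.trans Γ(Spec R, ⊤) Γ(F, ⊤)

end Lin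

section Back

variable {R : CommRingCat.{u}} [IsNoetherianRing R] (q : Ideal R) [hqq : q.IsPrime]

local notation "B" => R ⧸ q
local notation "K" => FractionRing (R ⧸ q)

/-- the set of primes containing `q` whose image in `R/q` has height at least 2 -/
def Zq : Set (PrimeSpectrum R) :=
  {y | q ≤ y.asIdeal ∧ (2 : ℕ∞) ≤ (y.asIdeal.map (Ideal.Quotient.mk q)).height}

omit [IsNoetherianRing R] hqq in
theorem stable_Zq : StableUnderSpecialization (Zq q) := by
  intro y y' hyy' hy
  have hle : y.asIdeal ≤ y'.asIdeal := (PrimeSpectrum.le_iff_specializes y y').mpr hyy'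
  exact ⟨hy.1.trans hle, hy.2.trans (Ideal.height_mono (Ideal.map_mono hle))⟩

omit [IsNoetherianRing R] in
theorem notMem_Zq : (⟨q, hqq⟩ : PrimeSpectrum R) ∉ Zq q := by
  rintro ⟨-, h⟩
  have h0 : (q.map (Ideal.Quotient.mk q)) = ⊥ := Ideal.map_quotient_self q
  change (2 : ℕ∞) ≤ (q.map (Ideal.Quotient.mk q)).height at h
  rw [h0, Ideal.height_bot] at h
  norm_num at h

omit [IsNoetherianRing R] in
theorem smul_K (a : R) (f : K) : a • f = algebraMap B K (Ideal.Quotient.mk q a) * f := by
  rw [Algebra.smul_def, IsScalarTower.algebraMap_apply R B K]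
  rfl

/-- `B → K` as an `R`-linear map -/
noncomputable def iotaK : B →ₗ[R] K := (Algebra.linearMap B K).restrictScalars R

omit [IsNoetherianRing R] in
theorem iotaK_apply (b : B) : iotaK q b = algebraMap B K b := rfl

/-- the denominator ideal of `f` -/
noncomputable def denIdeal (f : K) : Ideal R := (LinearMap.range (iotaK q)).colon {f}

omit [IsNoetherianRing R] in
theorem mem_denIdeal (f : K) (a : R) :
    a ∈ denIdeal q f ↔ ∃ b : B, algebraMap B K b = a • f := by
  unfold denIdeal
  rw [Submodule.mem_colon_singleton]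
  rfl

omit [IsNoetherianRing R] in
theorem exists_mem_denIdeal_notMem (f : K) : ∃ a ∈ denIdeal q f, a ∉ q := by
  obtain ⟨⟨b, s⟩, hs⟩ := IsLocalization.surj (nonZeroDivisors B) f
  obtain ⟨a, ha⟩ := Ideal.Quotient.mk_surjective (s : B)
  refine ⟨a, (mem_denIdeal q f a).mpr ⟨b, ?_⟩, ?_⟩
  · rw [smul_K, ha, mul_comm]
    exact hs.symm
  · intro haq
    have : (s : B) = 0 := by
      rw [← ha]
      exact Ideal.Quotient.eq_zero_iff_mem.mpr haq
    exact nonZeroDivisors.coe_ne_zero s this

omit [IsNoetherianRing R] in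
theorem denIdeal_subset_Zq (f : K) (hf : f ∈ EGA4.heightOneHull B) (y : PrimeSpectrum R)
    (hy : denIdeal q f ≤ y.asIdeal) : y ∈ Zq q := by
  have hqy : q ≤ y.asIdeal := by
    intro a ha
    apply hy
    rw [mem_denIdeal]
    refine ⟨0, ?_⟩
    rw [smul_K, Ideal.Quotient.eq_zero_iff_mem.mpr ha, map_zero, zero_mul]
  refine ⟨hqy, ?_⟩
  by_contra hlt
  haveI h𝔭 : (y.asIdeal.map (Ideal.Quotient.mk q)).IsPrime :=
    Ideal.map_isPrime_of_surjective Ideal.Quotient.mk_surjective (by rwa [Ideal.mk_ker])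
  have hcases : (y.asIdeal.map (Ideal.Quotient.mk q)).height = 0 ∨
      (y.asIdeal.map (Ideal.Quotient.mk q)).height = 1 := by
    rw [not_le] at hlt
    generalize (y.asIdeal.map (Ideal.Quotient.mk q)).height = h at hlt
    have hne : h ≠ ⊤ := ne_top_of_lt hlt
    lift h to ℕ using hne
    have : h < 2 := by exact_mod_cast hlt
    interval_cases h
    · left; rfl
    · right; rfl
  rcases hcases with h0 | h1
  · rw [Ideal.height_eq_zero_iff, IsDomain.minimalPrimes_eq_singleton_bot,
      Set.mem_singleton_iff] at h0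
    obtain ⟨a, haJ, haq⟩ := exists_mem_denIdeal_notMem q f
    have h1 : Ideal.Quotient.mk q a ∈ y.asIdeal.map (Ideal.Quotient.mk q) :=
      Ideal.mem_map_of_mem _ (hy haJ)
    rw [h0, Ideal.mem_bot] at h1
    exact haq (Ideal.Quotient.eq_zero_iff_mem.mp h1)
  · obtain ⟨s, hs, b, hb⟩ := hf _ h1
    obtain ⟨a, rfl⟩ := Ideal.Quotient.mk_surjective s
    have haJ : a ∈ denIdeal q f := (mem_denIdeal q f a).mpr ⟨b, by rw [smul_K]; exact hb⟩
    exact hs (Ideal.mem_map_of_mem _ (hy haJ))

/-- the module `B + B f ⊆ K` -/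
noncomputable def Mf (f : K) : Submodule R K := Submodule.span R {1, f}

omit [IsNoetherianRing R] in
theorem iotaK_mem (f : K) (b : B) : iotaK q b ∈ Mf q f := by
  obtain ⟨a, rfl⟩ := Ideal.Quotient.mk_surjective b
  have : iotaK q (Ideal.Quotient.mk q a) = a • (1 : K) := by
    rw [smul_K, mul_one]
    rfl
  rw [this]
  exact Submodule.smul_mem _ _ (Submodule.subset_span (by simp))

/-- `B → B + B f` -/
noncomputable def iM (f : K) : B →ₗ[R] Mf q f :=
  LinearMap.codRestrict (Mf q f) (iotaK q) (iotaK_mem q f)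

omit [IsNoetherianRing R] in
theorem iM_injective (f : K) : Function.Injective (iM q f) := by
  intro b b' h
  have h1 : iotaK q b = iotaK q b' := congrArg Subtype.val h
  exact IsFractionRing.injective B K h1

omit [IsNoetherianRing R] in
theorem denIdeal_smul_mem (f : K) (a : R) (ha : a ∈ denIdeal q f) (n : Mf q f) :
    a • n ∈ LinearMap.range (iM q f) := by
  have key : ∀ k ∈ Mf q f, a • k ∈ LinearMap.range (iotaK q) := by
    intro k hk
    unfold Mf at hk
    induction hk using Submodule.span_induction with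
    | mem x hx =>
      rcases hx with rfl | hx'
      · refine ⟨Ideal.Quotient.mk q a, ?_⟩
        rw [smul_K, mul_one]
        rfl
      · have hx'' : x = f := hx'
        rw [hx'']
        obtain ⟨b, hb⟩ := (mem_denIdeal q f a).mp ha
        exact ⟨b, hb⟩
    | zero => rw [smul_zero]; exact Submodule.zero_mem _
    | add x y _ _ hx hy => rw [smul_add]; exact Submodule.add_mem _ hx hy
    | smul r x _ hx => rw [smul_comm]; exact Submodule.smul_mem _ _ hx
  obtain ⟨b, hb⟩ := key n.1 n.2
  exact ⟨b, Subtype.ext hb⟩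

/-- every element of the height-one hull is in the image of the comparison map -/
theorem exists_Phi_eq (H : Hyp q (Zq q) (phi q (Zq q))) (f : K)
    (hf : f ∈ EGA4.heightOneHull B) : ∃ n, H.Phi n = f := by
  have hZ := stable_Zq q
  haveI hiso := isIso_H0_map (Zq q) hZ (iM q f) (iM_injective q f) (denIdeal q f)
    (denIdeal_subset_Zq q f hf) (denIdeal_smul_mem q f)
  have hbij : Function.Bijective
      (appTopLin ((H0 (Zq q)).map (tilde.map (ModuleCat.ofHom (iM q f))))) :=
    Groth.Agent.Helper6.ZCl2.bijective_app_of_isIso _ ⊤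
  let f' : Mf q f := ⟨f, Submodule.subset_span (by simp)⟩
  obtain ⟨n, hn⟩ := hbij.2
    (appTopLin (rhoApp (Zq q) (tilde (ModuleCat.of R (Mf q f)))) (tauM (R := R) (Mf q f) f'))
  refine ⟨n, ?_⟩
  obtain ⟨a, haJ, haq⟩ := exists_mem_denIdeal_notMem q f
  obtain ⟨b, hb⟩ := (mem_denIdeal q f a).mp haJ
  have hib : iM q f b = a • f' := Subtype.ext hb
  have hnat : rhoApp (Zq q) (Bt q) ≫ (H0 (Zq q)).map (tilde.map (ModuleCat.ofHom (iM q f))) =
      tilde.map (ModuleCat.ofHom (iM q f)) ≫ rhoApp (Zq q) (tilde (ModuleCat.of R (Mf q f))) :=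
    ((rho (Zq q)).naturality (tilde.map (ModuleCat.ofHom (iM q f)))).symm
  have key : a • n = phi q (Zq q) b := by
    apply hbij.1
    rw [map_smul, hn, ← map_smul, ← map_smul, ← hib]
    change _ = appTopLin ((H0 (Zq q)).map (tilde.map (ModuleCat.ofHom (iM q f))))
      (appTopLin (rhoApp (Zq q) (Bt q)) (tauM (R := R) B b))
    rw [← appTopLin_comp, hnat, appTopLin_comp, tauM_natural]
  have h1 := H.Phi_char n a haq b key
  rw [hb, smul_K] at h1
  exact mul_left_cancel₀ (algebraMap_mk_ne_zero q haq) h1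

/-- **backward direction** of the affine coherence criterion for the `Z`-closure -/
theorem backward
    (h : ∀ (M : Type u) [AddCommGroup M] [Module R M] [Module.Finite R M]
      (Z : Set (PrimeSpectrum R)), StableUnderSpecialization Z →
      (∀ x : PrimeSpectrum R, x.asIdeal ∈ associatedPrimes R M → x ∉ Z →
        ∀ y ∈ Z, x.asIdeal ≤ y.asIdeal →
          (2 : ℕ∞) ≤ (y.asIdeal.map (Ideal.Quotient.mk x.asIdeal)).height) →
      Coh.IsCoh ((H0 (X := Spec R) Z).obj (tilde (ModuleCat.of R M)))) :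
    EGA4.HeightOneHullFinite (R ⧸ q) := by
  have hZ := stable_Zq q
  have hq := notMem_Zq q
  have hcoh := h (R ⧸ q) (Zq q) hZ (by
    intro x hx hxZ y hy hxy
    have hxq : x.asIdeal = q := by
      have := IsAssociatedPrime.eq_radical hqq.isPrimary hx
      rwa [hqq.radical] at this
    obtain ⟨x, hxp⟩ := x
    change x = q at hxq
    subst hxq
    exact hy.2)
  have H := hyp q (Zq q) hZ hq
  have hfinN : Module.Finite R Γ((H0 (Zq q)).obj (Bt q), ⊤) :=
    finite_top_of_finite _ (SecDict.finite_sections (isAffineOpen_top _) _ hcoh.1 hcoh.2)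
  have hcodim : ∀ y ∈ Zq q, q ≤ y.asIdeal →
      (2 : ℕ∞) ≤ (y.asIdeal.map (Ideal.Quotient.mk q)).height := fun y hy _ => hy.2
  refine ⟨hullAlg (R ⧸ q), rfl, ?_⟩
  let Ψ : Γ((H0 (Zq q)).obj (Bt q), ⊤) →ₗ[R] hullAlg (R ⧸ q) :=
    LinearMap.codRestrict
      ((hullAlg (R ⧸ q)).toSubmodule.restrictScalars R) H.Phi
      (fun n => H.Phi_mem_hull hcodim n)
  have hΨ : Function.Surjective Ψ := by
    rintro ⟨f, hf⟩
    obtain ⟨n, hn⟩ := exists_Phi_eq q H f hf
    exact ⟨n, Subtype.ext hn⟩
  haveI : Module.Finite R (hullAlg (R ⧸ q)) :=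
    Module.Finite.of_surjective Ψ hΨ
  exact Module.Finite.of_restrictScalars_finite R (R ⧸ q) _

end Back

end Groth.Agent.Helper2.ZA
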