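import Mathlib
import Groth.Prelude.Def_ZClos
import Groth.Prelude.Def_EGA4c
import Groth.Agent.Helper2.ZA6

set_option autoImplicit false
universe u
open CategoryTheory CategoryTheory.Limits AlgebraicGeometry TopologicalSpace Opposite ZClos

namespace Groth.Agent.Helper2.ZA

open Groth.Agent.Helper4 Groth.Agent.Helper4.StalkDict Groth.Agent.Helper2.ZB

section Main

variable {R : CommRingCat.{u}} [IsNoetherianRing R] (Z : Set (Spec R))

/-- **forward direction**, refined: hull finiteness is only needed at the associated primes -/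
theorem forward' (M : Type u) [AddCommGroup M] [Module R M] [Module.Finite R M]
    (hfin : ∀ (q : Ideal R) [q.IsPrime], q ∈ associatedPrimes R M →
      EGA4.HeightOneHullFinite (R ⧸ q))
    (hZ : StableUnderSpecialization Z)
    (hcodim : ∀ x : PrimeSpectrum R, x.asIdeal ∈ associatedPrimes R M → x ∉ Z →
      ∀ y ∈ Z, x.asIdeal ≤ y.asIdeal →
        (2 : ℕ∞) ≤ (y.asIdeal.map (Ideal.Quotient.mk x.asIdeal)).height) :
    Coh.IsCoh ((H0 Z).obj (tilde (ModuleCat.of R M))) := by
  refine ((good Z).main M).mpr fun p hp => ?_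
  haveI hpp : p.IsPrime := hp.isPrime
  by_cases hpZ : (⟨p, hpp⟩ : PrimeSpectrum R) ∈ Z
  · apply isCoh_of_isZero
    rw [Groth.Agent.Helper6.ZCl3.isZero_H0_iff hZ]
    intro x hx
    apply subsingleton_stalk_Bt p x
    intro hle
    apply hx
    exact hZ ((PrimeSpectrum.le_iff_specializes ⟨p, hpp⟩ x).mp hle) hpZ
  · have H := hyp p Z hZ hpZ
    have hfinN : Module.Finite R Γ((H0 Z).obj (Bt p), ⊤) :=
      H.finite (hfin p hp) (fun y hy hpy => hcodim ⟨p, hpp⟩ hp hpZ y hy hpy)
    have hq : ((H0 Z).obj (Bt p)).IsQuasicoherent :=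
      Groth.Agent.Helper6.ZCl5.isQCoh_H0 Z (Bt p) inferInstance
    refine ⟨hq, ?_⟩
    haveI := hq
    apply FTGlue.isFiniteType_of_finite_sections
    intro x
    refine ⟨⊤, isAffineOpen_top _, trivial, ?_⟩
    exact Module.Finite.of_restrictScalars_finite R _ _

/-- the affine criterion for a coherent module on `Spec R` -/
theorem forwardQ (G : (Spec R).Modules) (hG : Coh.IsCoh G)
    (hfin : ∀ (q : Ideal R) [q.IsPrime], q ∈ associatedPrimes R Γ(G, ⊤) →
      EGA4.HeightOneHullFinite (R ⧸ q))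
    (hZ : StableUnderSpecialization Z)
    (hcodim : ∀ x : PrimeSpectrum R, x.asIdeal ∈ associatedPrimes R Γ(G, ⊤) → x ∉ Z →
      ∀ y ∈ Z, x.asIdeal ≤ y.asIdeal →
        (2 : ℕ∞) ≤ (y.asIdeal.map (Ideal.Quotient.mk x.asIdeal)).height) :
    Coh.IsCoh ((H0 Z).obj G) := by
  haveI : G.IsQuasicoherent := hG.1
  haveI : IsIso G.fromTildeΓ := Scheme.Modules.isIso_fromTildeΓ_of_isQuasicoherent G
  haveI : Module.Finite R Γ(G, ⊤) :=
    finite_top_of_finite G (SecDict.finite_sections (isAffineOpen_top _) G hG.1 hG.2)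
  have h := forward' Z Γ(G, ⊤) hfin hZ hcodim
  have h' : Coh.IsCoh ((H0 Z).obj (tilde (moduleSpecΓFunctor.obj G))) := h
  exact CohQ1.isCoh_of_iso ((H0 Z).mapIso (asIso G.fromTildeΓ)) h'

end Main

end Groth.Agent.Helper2.ZA
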