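import Mathlib

set_option autoImplicit false
universe u v

namespace Groth.Agent.Helper2.ZC

/-- `A_y / P` with `P ∩ A = p` is the localization of `A/p` at `y/p`; so its dimension is the
height of `y/p`. -/
theorem ringKrullDim_quot_loc {A : Type u} [CommRing A] (y p : Ideal A) [hy : y.IsPrime]
    [hp : p.IsPrime] (hpy : p ≤ y)
    (S : Type v) [CommRing S] [Algebra A S] [IsLocalization.AtPrime S y] (P : Ideal S)
    (hP : P.comap (algebraMap A S) = p) :
    ringKrullDim (S ⧸ P) = ((y.map (Ideal.Quotient.mk p)).height : WithBot ℕ∞) := by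
  haveI hyp : (y.map (Ideal.Quotient.mk p)).IsPrime :=
    Ideal.map_isPrime_of_surjective Ideal.Quotient.mk_surjective (by rwa [Ideal.mk_ker])
  have hle : p ≤ P.comap (algebraMap A S) := hP.ge
  letI : Algebra (A ⧸ p) (S ⧸ P) := (Ideal.quotientMap P (algebraMap A S) hle).toAlgebra
  have halg : ∀ a : A, algebraMap (A ⧸ p) (S ⧸ P) (Ideal.Quotient.mk p a) =
      Ideal.Quotient.mk P (algebraMap A S a) := fun a => rfl
  have hnot : ∀ a : A, Ideal.Quotient.mk p a ∉ y.map (Ideal.Quotient.mk p) → a ∉ y :=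
    fun a h ha => h (Ideal.mem_map_of_mem _ ha)
  haveI : IsLocalization.AtPrime (S ⧸ P) (y.map (Ideal.Quotient.mk p)) := by
    rw [IsLocalization.AtPrime, isLocalization_iff]
    refine ⟨?_, ?_, ?_⟩
    · rintro ⟨b, hb⟩
      obtain ⟨a, rfl⟩ := Ideal.Quotient.mk_surjective b
      have ha : a ∉ y := hnot a hb
      have hu : IsUnit (algebraMap A S a) :=
        IsLocalization.map_units S (⟨a, ha⟩ : y.primeCompl)
      rw [halg]
      exact hu.map _
    · intro z
      obtain ⟨s, rfl⟩ := Ideal.Quotient.mk_surjective z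
      obtain ⟨⟨a, t⟩, hat⟩ := IsLocalization.surj y.primeCompl s
      have ht : Ideal.Quotient.mk p (t : A) ∈ (y.map (Ideal.Quotient.mk p)).primeCompl := by
        intro hmem
        have : (t : A) ∈ (y.map (Ideal.Quotient.mk p)).comap (Ideal.Quotient.mk p) := hmem
        rw [Ideal.comap_map_of_surjective _ Ideal.Quotient.mk_surjective,
          ← RingHom.ker_eq_comap_bot, Ideal.mk_ker, sup_eq_left.mpr hpy] at this
        exact t.2 this
      refine ⟨(Ideal.Quotient.mk p a, ⟨Ideal.Quotient.mk p t, ht⟩), ?_⟩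
      simp only
      rw [halg, halg, ← map_mul, hat]
    · intro b b' hbb'
      obtain ⟨a, rfl⟩ := Ideal.Quotient.mk_surjective b
      obtain ⟨a', rfl⟩ := Ideal.Quotient.mk_surjective b'
      rw [halg, halg, Ideal.Quotient.eq, ← map_sub] at hbb'
      have : a - a' ∈ p := by
        rw [← hP]
        exact hbb'
      refine ⟨1, ?_⟩
      rw [(Ideal.Quotient.eq).mpr this]
  exact IsLocalization.AtPrime.ringKrullDim_eq_height (y.map (Ideal.Quotient.mk p)) (S ⧸ P)

end Groth.Agent.Helper2.ZC
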