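import Mathlib
import Groth.Prelude.Def_ZClos
import Groth.Prelude.Def_FDesc
import Groth.Agent.Helper2.ZB11
import Groth.Agent.Helper2.ZC1
import Groth.Agent.Helper2.ZC2
import Groth.Agent.Helper2.ZC3
import Groth.Agent.Helper4.AssNoeth
import Groth.Agent.Helper4.SecDict

set_option autoImplicit false
universe u
open CategoryTheory CategoryTheory.Limits AlgebraicGeometry TopologicalSpace Opposite ZClos

namespace Groth.Agent.Helper2.ZC

open Groth.Agent.Helper4 Groth.Agent.Helper4.StalkDict Groth.Agent.Helper2.ZB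

variable {X : Scheme.{u}}

/-- associated primes of the module of sections over an affine open give associated points -/
theorem isAssPoint_fromSpec [IsLocallyNoetherian X] (F : X.Modules) [F.IsQuasicoherent]
    {V : X.Opens} (hV : IsAffineOpen V) (p : PrimeSpectrum Γ(X, V))
    (hp : p.asIdeal ∈ associatedPrimes Γ(X, V) Γ(F, V)) :
    Curv2.IsAssPoint F (hV.fromSpec p) := by
  haveI : IsNoetherianRing Γ(X, V) := IsLocallyNoetherian.component_noetherian ⟨V, hV⟩
  obtain ⟨_, m, hm⟩ := isAssociatedPrime_iff.mp hp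
  refine AssNoeth.isAssPoint_of_eq_colon F hV _ (AssDict.fromSpec_mem hV p) m ?_
  rw [AssDict.primeIdealOf_fromSpec hV p]
  exact hm

/-- the dimension of `O_y / p_x` is the height of `y/x` in the coordinate ring -/
theorem ringKrullDim_stalk_quot {V : X.Opens} (hV : IsAffineOpen V) {x y : X} (hxV : x ∈ V)
    (hyV : y ∈ V) (h : x ⤳ y) :
    ringKrullDim (X.presheaf.stalk y ⧸ (IsLocalRing.maximalIdeal (X.presheaf.stalk x)).comap
      (X.presheaf.stalkSpecializes h).hom) =
      ((((hV.primeIdealOf ⟨y, hyV⟩).asIdeal.map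
        (Ideal.Quotient.mk (hV.primeIdealOf ⟨x, hxV⟩).asIdeal)).height : ℕ∞) : WithBot ℕ∞) := by
  letI := X.presheaf.algebra_section_stalk ⟨y, hyV⟩
  haveI := hV.isLocalization_stalk ⟨y, hyV⟩
  have hle := SuppDict.primeIdealOf_le_of_specializes hV hxV hyV h
  refine ringKrullDim_quot_loc _ _ hle (X.presheaf.stalk y) _ ?_
  ext a
  rw [Ideal.mem_comap, Ideal.mem_comap]
  have halg : algebraMap Γ(X, V) (X.presheaf.stalk y) a = X.presheaf.germ V y hyV a := rfl
  have hsp : (X.presheaf.stalkSpecializes h).hom (X.presheaf.germ V y hyV a) =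
      X.presheaf.germ V x hxV a := by
    have := TopCat.Presheaf.germ_stalkSpecializes X.presheaf (U := V) hyV h
    exact congr($(this) a)
  rw [halg, hsp, germ_mem_maximalIdeal_iff hV x hxV a]

/-- coherence of `j_*(F|X∖T)` forces the codimension condition at the points of `T` -/
theorem two_le_height_of_isCoh [IsLocallyNoetherian X] (Z : Set X) (F : X.Modules)
    (hF : Coh.IsCoh F) (T : Cl Z) (hT : Coh.IsCoh ((resPush T.U).obj F))
    {V : X.Opens} (hV : IsAffineOpen V) {x y : X} (hxV : x ∈ V) (hyV : y ∈ V) (h : x ⤳ y)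
    (hx : x ∈ AssSch.Ass F) (hxZ : x ∉ Z) (hy : y ∈ (T.1 : Set X)) :
    (2 : ℕ∞) ≤ ((hV.primeIdealOf ⟨y, hyV⟩).asIdeal.map
      (Ideal.Quotient.mk (hV.primeIdealOf ⟨x, hxV⟩).asIdeal)).height := by
  have hcl : StableUnderSpecialization (T.1 : Set X) := T.1.isClosed.stableUnderSpecialization
  have h1 := s5858 X (T.1 : Set X) hcl F hF (isCoh_H0_closed T F hT) x hx
    (fun hxT => hxZ (T.2 hxT)) y hy h
  rw [ringKrullDim_stalk_quot hV hxV hyV h] at h1
  have h2 : ((2 : ℕ∞) : WithBot ℕ∞) ≤ _ := h1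
  exact WithBot.coe_le_coe.mp h2

/-- finiteness of sections over an affine open from coherence of the restriction -/
theorem finite_sections_of_isCoh_restrict (H : X.Modules) {V : X.Opens} (hV : IsAffineOpen V)
    (h : Coh.IsCoh ((Scheme.Modules.restrictFunctor hV.fromSpec).obj H)) :
    Module.Finite Γ(X, V) Γ(H, V) := by
  have h1 := SecDict.finite_sections (isAffineOpen_top (Spec Γ(X, V))) _ h.1 h.2
  haveI h2 : Module.Finite Γ(X, V) ↑(moduleSpecΓFunctor.obj (H.restrict hV.fromSpec)) :=
    ZA.finite_top_of_finite _ h1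
  exact Module.Finite.equiv (SecDict.sectionsEquiv hV H).symm

end Groth.Agent.Helper2.ZC
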