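import Mathlib
import Groth.Prelude.Def_ZClos
import Groth.Prelude.Def_FDesc
import Groth.Agent.Helper2.ZC4
import Groth.Agent.Helper7.HullFin

set_option autoImplicit false
universe u
open CategoryTheory CategoryTheory.Limits AlgebraicGeometry TopologicalSpace Opposite ZClos

namespace Groth.Agent.Helper2.ZC

open Groth.Agent.Helper4 Groth.Agent.Helper4.StalkDict Groth.Agent.Helper2.ZB

theorem s5868 (X : Scheme.{u}) [IsLocallyNoetherian X] (Z : Set X)
    (hZ : StableUnderSpecialization Z) (F : X.Modules) (hF : Coh.IsCoh F)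
    (hass : ∀ x ∈ AssSch.Ass F, x ∉ Z)
    (hX : ∀ (V : X.Opens) (hV : IsAffineOpen V) (x : X) (hxV : x ∈ V), x ∈ AssSch.Ass F →
        CAlg.IsUniversallyCatenary (Γ(X, V) ⧸ (hV.primeIdealOf ⟨x, hxV⟩).asIdeal) ∧
          CAlg.IsN1 (Γ(X, V) ⧸ (hV.primeIdealOf ⟨x, hxV⟩).asIdeal))
    (𝒯 : Set (ZClos.Cl Z)) (hcov : ∀ z ∈ Z, ∃ T ∈ 𝒯, z ∈ (T.1 : Set X))
    (hd : ∀ T ∈ 𝒯, Coh.IsCoh ((ZClos.resPush T.U).obj F)) :
    Coh.IsCoh ((ZClos.H0 Z).obj F) := by
  haveI : F.IsQuasicoherent := hF.1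
  have hq := Groth.Agent.Helper6.ZCl5.isQCoh_H0 Z F hF.1
  refine ⟨hq, ?_⟩
  haveI : ((H0 Z).obj F).IsQuasicoherent := hq
  apply FTGlue.isFiniteType_of_finite_sections
  intro x0
  obtain ⟨V, hV, hx0V⟩ := QcohLimits.exists_affine_nhd x0
  refine ⟨V, hV, hx0V, ?_⟩
  apply finite_sections_of_isCoh_restrict _ hV
  obtain ⟨v, -⟩ := exists_iso_restrict_H0 hV.fromSpec hZ F
  refine CohQ1.isCoh_of_iso v ?_
  haveI : IsNoetherianRing Γ(X, V) := IsLocallyNoetherian.component_noetherian ⟨V, hV⟩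
  haveI hGq : (F.restrict hV.fromSpec).IsQuasicoherent := inferInstance
  have hG : Coh.IsCoh ((Scheme.Modules.restrictFunctor hV.fromSpec).obj F) :=
    ⟨hGq, FTRestrict.isFT_restrict _ _ hF.2⟩
  -- transfer of associated primes
  have hAss : ∀ p : PrimeSpectrum Γ(X, V),
      p.asIdeal ∈ associatedPrimes Γ(X, V)
        Γ((Scheme.Modules.restrictFunctor hV.fromSpec).obj F, ⊤) →
      hV.fromSpec p ∈ AssSch.Ass F := by
    intro p hp
    apply isAssPoint_fromSpec F hV p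
    exact IsAssociatedPrime.map_of_injective (f := (SecDict.sectionsEquiv hV F).symm.toLinearMap)
      hp (SecDict.sectionsEquiv hV F).symm.injective
  refine ZA.forwardQ (R := Γ(X, V)) (hV.fromSpec.base ⁻¹' Z) _ hG ?_ (stable_preimage _ hZ) ?_
  · intro q hq hqAss
    have hxAss := hAss ⟨q, hq⟩ hqAss
    obtain ⟨hA, hint⟩ := hX V hV (hV.fromSpec ⟨q, hq⟩) (AssDict.fromSpec_mem hV ⟨q, hq⟩) hxAss
    have h1 := Groth.Agent.Helper7.HullFin.heightOneHullFinite _ hA hint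
    have key : ∀ P : PrimeSpectrum Γ(X, V), P = ⟨q, hq⟩ →
        EGA4.HeightOneHullFinite (Γ(X, V) ⧸ P.asIdeal) →
        EGA4.HeightOneHullFinite (Γ(X, V) ⧸ q) := by
      rintro P rfl h
      exact h
    exact key _ (AssDict.primeIdealOf_fromSpec hV ⟨q, hq⟩) h1
  · intro p hpAss hpZ y hy hpy
    have hxAss := hAss p hpAss
    have hxZ := hass _ hxAss
    obtain ⟨T, hT, hyT⟩ := hcov _ hy
    have hspec : hV.fromSpec p ⤳ hV.fromSpec y :=
      ((PrimeSpectrum.le_iff_specializes p y).mp hpy).map hV.fromSpec.continuous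
    have h1 := two_le_height_of_isCoh Z F hF T (hd T hT) hV (AssDict.fromSpec_mem hV p)
      (AssDict.fromSpec_mem hV y) hspec hxAss hxZ hyT
    have key : ∀ P Q : PrimeSpectrum Γ(X, V), P = p → Q = y →
        (2 : ℕ∞) ≤ (Q.asIdeal.map (Ideal.Quotient.mk P.asIdeal)).height →
        (2 : ℕ∞) ≤ (y.asIdeal.map (Ideal.Quotient.mk p.asIdeal)).height := by
      rintro P Q rfl rfl h
      exact h
    exact key _ _ (AssDict.primeIdealOf_fromSpec hV p) (AssDict.primeIdealOf_fromSpec hV y) h1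

end Groth.Agent.Helper2.ZC
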