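import Mathlib

/-!
# Closedness of a module along `V(a₁,…,aₙ)` in "Hom form", and its flat base change

`HClosed a N`: for every `K`, every `A`-linear map `(a₁^K,…,aₙ^K) → N` (given by the images `y i`
of the generators, subject to all the relations between the `a i ^ K`) is multiplication by a
unique element of `N`.
-/

set_option autoImplicit false
universe u v

open TensorProduct

namespace Groth.Agent.Helper2.ZD

section Maps

variable {A : Type u} [CommRing A] {ι κ : Type} [Fintype ι] [DecidableEq ι] [Fintype κ]
  [DecidableEq κ]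
variable (N : Type v) [AddCommGroup N] [Module A N]

/-- `x ↦ (u i • x)` -/
def colMap (u : ι → A) : N →ₗ[A] (ι → N) := LinearMap.pi (fun i => u i • LinearMap.id)

/-- `y ↦ (∑ i, C l i • y i)` -/
def matMap (C : κ → ι → A) : (ι → N) →ₗ[A] (κ → N) :=
  LinearMap.pi (fun l => ∑ i, C l i • LinearMap.proj i)

variable {N}

@[simp] theorem colMap_apply (u : ι → A) (x : N) (i : ι) : colMap N u x i = u i • x := rfl

@[simp] theorem matMap_apply (C : κ → ι → A) (y : ι → N) (l : κ) :
    matMap N C y l = ∑ i, C l i • y i := by
  simp [matMap]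

end Maps

section BaseChange

variable {A : Type u} [CommRing A] {ι κ : Type} [Fintype ι] [DecidableEq ι] [Fintype κ]
  [DecidableEq κ]
variable (B : Type u) [AddCommGroup B] [Module A B] [Module.Flat A B]
variable (N : Type u) [AddCommGroup N] [Module A N]

theorem piRight_colMap (u : ι → A) :
    (TensorProduct.piRight A A B (fun _ : ι => N)).toLinearMap ∘ₗ (colMap N u).lTensor B =
      colMap (B ⊗[A] N) u := by
  ext b x i
  simp [TensorProduct.tmul_smul]

theorem piRight_matMap (C : κ → ι → A) :
    (TensorProduct.piRight A A B (fun _ : κ => N)).toLinearMap ∘ₗ (matMap N C).lTensor B =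
      matMap (B ⊗[A] N) C ∘ₗ (TensorProduct.piRight A A B (fun _ : ι => N)).toLinearMap := by
  ext b i x l
  simp only [LinearMap.coe_comp, LinearEquiv.coe_coe, Function.comp_apply, LinearMap.lTensor_tmul,
    TensorProduct.piRight_apply, TensorProduct.piRightHom_tmul, matMap_apply,
    LinearMap.coe_single, AlgebraTensorModule.curry_apply, LinearMap.restrictScalars_self,
    TensorProduct.curry_apply]
  rw [Finset.sum_eq_single i, Finset.sum_eq_single i]
  · simp [TensorProduct.tmul_smul]
  · intro j _ hj
    simp [Pi.single_eq_of_ne hj]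
  · intro h
    exact absurd (Finset.mem_univ i) h
  · intro j _ hj
    simp [Pi.single_eq_of_ne hj]
  · intro h
    exact absurd (Finset.mem_univ i) h

theorem colMap_injective_baseChange (u : ι → A) (h : Function.Injective (colMap N u)) :
    Function.Injective (colMap (B ⊗[A] N) u) := by
  rw [← piRight_colMap B N u]
  exact (TensorProduct.piRight A A B (fun _ : ι => N)).injective.comp
    (Module.Flat.lTensor_preserves_injective_linearMap _ h)

theorem exact_baseChange (u : ι → A) (C : κ → ι → A)
    (h : Function.Exact (colMap N u) (matMap N C)) :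
    Function.Exact (colMap (B ⊗[A] N) u) (matMap (B ⊗[A] N) C) := by
  have h1 := Module.Flat.lTensor_exact B h
  refine Function.Exact.of_ladder_linearEquiv_of_exact
    (e₁ := LinearEquiv.refl A (B ⊗[A] N))
    (e₂ := TensorProduct.piRight A A B (fun _ : ι => N))
    (e₃ := TensorProduct.piRight A A B (fun _ : κ => N)) ?_ ?_ h1
  · rw [← piRight_colMap B N u]
    rfl
  · exact (piRight_matMap B N C).symm

end BaseChange

section HClosed

variable {A : Type u} [CommRing A] {ι : Type} [Fintype ι] [DecidableEq ι]

/-- the relations between the `a i ^ K` -/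
def Rel (a : ι → A) (K : ℕ) : Submodule A (ι → A) where
  carrier := {c | ∑ i, c i * a i ^ K = 0}
  add_mem' := by
    intro c c' hc hc'
    simp only [Set.mem_setOf_eq, Pi.add_apply, add_mul, Finset.sum_add_distrib] at *
    rw [hc, hc', add_zero]
  zero_mem' := by simp
  smul_mem' := by
    intro r c hc
    simp only [Set.mem_setOf_eq, Pi.smul_apply, smul_eq_mul, mul_assoc] at *
    rw [← Finset.mul_sum, hc, mul_zero]

theorem mem_Rel {a : ι → A} {K : ℕ} {c : ι → A} : c ∈ Rel a K ↔ ∑ i, c i * a i ^ K = 0 := Iff.rfl

/-- closedness in Hom form -/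
def HClosed (a : ι → A) (N : Type v) [AddCommGroup N] [Module A N] : Prop :=
  ∀ (K : ℕ) (y : ι → N), (∀ c ∈ Rel a K, ∑ i, c i • y i = 0) → ∃! x : N, ∀ i, y i = a i ^ K • x

variable {N : Type v} [AddCommGroup N] [Module A N]

theorem rel_iff_matMap {a : ι → A} {K : ℕ} {r : ℕ} (C : Fin r → ι → A)
    (hC : Submodule.span A (Set.range C) = Rel a K) (y : ι → N) :
    (∀ c ∈ Rel a K, ∑ i, c i • y i = 0) ↔ matMap N C y = 0 := by
  constructor
  · intro h
    ext l
    rw [matMap_apply]
    exact h (C l) (hC ▸ Submodule.subset_span ⟨l, rfl⟩)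
  · intro h c hc
    rw [← hC] at hc
    induction hc using Submodule.span_induction with
    | mem c hc =>
      obtain ⟨l, rfl⟩ := hc
      have := congrFun h l
      rwa [matMap_apply] at this
    | zero => simp
    | add c c' _ _ hc hc' =>
      simp only [Pi.add_apply, add_smul, Finset.sum_add_distrib, hc, hc', add_zero]
    | smul t c _ hc =>
      simp only [Pi.smul_apply, smul_eq_mul, mul_smul]
      rw [← Finset.smul_sum, hc, smul_zero]

theorem matMap_colMap {a : ι → A} {K : ℕ} {r : ℕ} (C : Fin r → ι → A)
    (hC : ∀ l, C l ∈ Rel a K) (x : N) :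
    matMap N C (colMap N (fun i => a i ^ K) x) = 0 := by
  ext l
  rw [matMap_apply]
  simp only [colMap_apply, smul_smul, Pi.zero_apply]
  rw [← Finset.sum_smul, mem_Rel.mp (hC l), zero_smul]

/-- the level-`K` condition in terms of exactness -/
theorem level_iff {a : ι → A} {K : ℕ} {r : ℕ} (C : Fin r → ι → A)
    (hC : Submodule.span A (Set.range C) = Rel a K) :
    (∀ y : ι → N, (∀ c ∈ Rel a K, ∑ i, c i • y i = 0) → ∃! x : N, ∀ i, y i = a i ^ K • x) ↔
      Function.Injective (colMap N (fun i => a i ^ K)) ∧
        Function.Exact (colMap N (fun i => a i ^ K)) (matMap N C) := by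
  have hCmem : ∀ l, C l ∈ Rel a K := fun l => hC ▸ Submodule.subset_span ⟨l, rfl⟩
  constructor
  · intro h
    constructor
    · intro x x' hxx'
      obtain ⟨x₀, -, huniq⟩ := h (colMap N (fun i => a i ^ K) x) (by
        rw [rel_iff_matMap C hC]
        exact matMap_colMap C hCmem x)
      have h1 := huniq x (fun i => rfl)
      have h2 := huniq x' (fun i => congrFun hxx' i)
      rw [h1, h2]
    · intro y
      constructor
      · intro hy
        obtain ⟨x, hx, -⟩ := h y ((rel_iff_matMap C hC y).mpr hy)
        exact ⟨x, funext fun i => (hx i).symm⟩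
      · rintro ⟨x, rfl⟩
        exact matMap_colMap C hCmem x
  · rintro ⟨hinj, hex⟩ y hy
    obtain ⟨x, hx⟩ := (hex y).mp ((rel_iff_matMap C hC y).mp hy)
    refine ⟨x, fun i => (congrFun hx i).symm, ?_⟩
    intro x' hx'
    apply hinj
    rw [hx]
    exact funext fun i => (hx' i).symm

end HClosed

section HBase

variable {A : Type u} [CommRing A] [IsNoetherianRing A] {ι : Type} [Fintype ι] [DecidableEq ι]
variable (B : Type u) [CommRing B] [Algebra A B] [Module.Flat A B]
variable {N : Type u} [AddCommGroup N] [Module A N]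

/-- **flat base change** of closedness in Hom form -/
theorem HClosed.baseChange {a : ι → A} (h : HClosed a N) :
    HClosed (fun i => algebraMap A B (a i)) (B ⊗[A] N) := by
  intro K y hy
  obtain ⟨r, C, hC⟩ := Submodule.fg_iff_exists_fin_generating_family.mp
    (IsNoetherian.noetherian (Rel a K))
  have hN := (level_iff (N := N) C hC).mp (h K)
  have hP : Function.Injective (colMap (B ⊗[A] N) (fun i => a i ^ K)) ∧
      Function.Exact (colMap (B ⊗[A] N) (fun i => a i ^ K)) (matMap (B ⊗[A] N) C) :=
    ⟨colMap_injective_baseChange B N _ hN.1, exact_baseChange B N _ C hN.2⟩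
  have hlev := (level_iff (N := B ⊗[A] N) C hC).mpr hP
  have hyA : ∀ c ∈ Rel a K, ∑ i, c i • y i = 0 := by
    intro c hc
    have hc' : (fun i => algebraMap A B (c i)) ∈ Rel (fun i => algebraMap A B (a i)) K := by
      rw [mem_Rel]
      simp only [← map_pow, ← map_mul, ← map_sum]
      rw [mem_Rel.mp hc, map_zero]
    have := hy _ hc'
    simpa only [algebraMap_smul] using this
  obtain ⟨p, hp, huniq⟩ := hlev y hyA
  refine ⟨p, fun i => ?_, fun p' hp' => huniq p' fun i => ?_⟩
  · rw [hp i, ← map_pow, algebraMap_smul]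
  · rw [hp' i, ← map_pow, algebraMap_smul]

end HBase

section Transport

variable {A : Type u} [CommRing A] {ι : Type} [Fintype ι] [DecidableEq ι]
variable {N N' : Type v} [AddCommGroup N] [Module A N] [AddCommGroup N'] [Module A N']

theorem HClosed.of_equiv {a : ι → A} (h : HClosed a N) (e : N ≃ₗ[A] N') : HClosed a N' := by
  intro K y hy
  obtain ⟨x, hx, huniq⟩ := h K (fun i => e.symm (y i)) (by
    intro c hc
    have := hy c hc
    simp only [← map_smul, ← map_sum, this, map_zero])
  refine ⟨e x, fun i => ?_, fun x' hx' => ?_⟩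
  · rw [← map_smul, ← hx i, LinearEquiv.apply_symm_apply]
  · rw [← huniq (e.symm x') (fun i => by rw [hx' i, map_smul]), LinearEquiv.apply_symm_apply]

end Transport

end Groth.Agent.Helper2.ZD
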