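import Mathlib
import Groth.Agent.Helper2.ZD1
import Groth.Agent.Helper4.StalkDict
import Groth.Agent.Helper4.QcqsMod
import Groth.Agent.Helper4.QcohGlue

/-!
# Sheaf dictionary: bijectivity of `Γ(W,G) → Γ(⋃ D(aᵢ), G)` versus `HClosed a Γ(W,G)`
-/

set_option autoImplicit false
universe u
open CategoryTheory CategoryTheory.Limits AlgebraicGeometry TopologicalSpace Opposite

namespace Groth.Agent.Helper2.ZD

open Groth.Agent.Helper4 Groth.Agent.Helper4.StalkDict Groth.Agent.Helper4.QcqsMod

variable {Y : Scheme.{u}} (G : Y.Modules) {W : Y.Opens}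
  {ι : Type} [Fintype ι] [DecidableEq ι] (a : ι → Γ(Y, W))

/-- the union of the basic opens of the `a i` -/
def cov : Y.Opens := ⨆ i, Y.basicOpen (a i)

theorem cov_le : cov a ≤ W := iSup_le fun i => Y.basicOpen_le (a i)

theorem basicOpen_le_cov (i : ι) : Y.basicOpen (a i) ≤ cov a :=
  le_iSup (fun i => Y.basicOpen (a i)) i

theorem mem_cov {x : Y} : x ∈ cov a ↔ ∃ i, x ∈ Y.basicOpen (a i) := Opens.mem_iSup

variable {a}

theorem isUnit_germ {i : ι} {x : Y} (hx : x ∈ Y.basicOpen (a i)) :
    IsUnit (Y.presheaf.germ W x (Y.basicOpen_le (a i) hx) (a i)) :=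
  (Y.mem_basicOpen (a i) x (Y.basicOpen_le (a i) hx)).mp hx

/-- cancel a power of a unit germ -/
theorem germ_cancel {i : ι} {x : Y} (hx : x ∈ Y.basicOpen (a i)) (K : ℕ)
    {s t : G.presheaf.stalk x}
    (h : (Y.presheaf.germ W x (Y.basicOpen_le (a i) hx) (a i)) ^ K • s =
      (Y.presheaf.germ W x (Y.basicOpen_le (a i) hx) (a i)) ^ K • t) : s = t := by
  have hu := (isUnit_germ hx).pow K
  have := congrArg (fun w => (↑hu.unit⁻¹ : Y.presheaf.stalk x) • w) h
  simpa only [smul_smul, IsUnit.val_inv_mul, one_smul] using this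

theorem germ_pow_smul (x : Y) (hx : x ∈ W) (r : Γ(Y, W)) (K : ℕ) (m : Γ(G, W)) :
    G.presheaf.germ W x hx (r ^ K • m) =
      (Y.presheaf.germ W x hx r) ^ K • G.presheaf.germ W x hx m := by
  rw [germ_smul, map_pow]

theorem germ_eq_zero_of_pow_smul {i : ι} {x : Y} (hx : x ∈ Y.basicOpen (a i)) (m : Γ(G, W)) (n : ℕ)
    (h : a i ^ n • m = 0) : G.presheaf.germ W x (Y.basicOpen_le (a i) hx) m = 0 := by
  apply germ_cancel G hx n
  rw [← germ_pow_smul, h, map_zero, smul_zero]

/-- a section killed by powers of all the `a i` is zero if restriction to the union is injective -/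
theorem eq_zero_of_forall_pow
    (hinj : Function.Injective (G.presheaf.map (homOfLE (cov_le a)).op))
    (x : Γ(G, W)) (h : ∀ i, ∃ m : ℕ, a i ^ m • x = 0) : x = 0 := by
  apply hinj
  rw [map_zero]
  apply section_ext
  intro p hp
  obtain ⟨i, hi⟩ := (mem_cov a).mp hp
  obtain ⟨m, hm⟩ := h i
  rw [germ_res, map_zero]
  exact germ_eq_zero_of_pow_smul G hi x m hm

section RelLemmas

variable {A : Type u} [CommRing A] {N : Type u} [AddCommGroup N] [Module A N]

/-- the Koszul relation `a_j^K e_i - a_i^K e_j` -/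
def kosz (b : ι → A) (K : ℕ) (i j : ι) : ι → A :=
  Pi.single i (b j ^ K) - Pi.single j (b i ^ K)

theorem kosz_mem (b : ι → A) (K : ℕ) (i j : ι) : kosz b K i j ∈ Rel b K := by
  rw [mem_Rel]
  simp only [kosz, Pi.sub_apply, sub_mul, Finset.sum_sub_distrib]
  rw [Finset.sum_eq_single i, Finset.sum_eq_single j]
  · simp only [Pi.single_eq_same]
    ring
  · intro l _ hl
    rw [Pi.single_eq_of_ne hl, zero_mul]
  · intro h
    exact absurd (Finset.mem_univ j) h
  · intro l _ hl
    rw [Pi.single_eq_of_ne hl, zero_mul]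
  · intro h
    exact absurd (Finset.mem_univ i) h

theorem kosz_sum (b : ι → A) (K : ℕ) (i j : ι) (y : ι → N) :
    ∑ l, kosz b K i j l • y l = b j ^ K • y i - b i ^ K • y j := by
  simp only [kosz, Pi.sub_apply, sub_smul, Finset.sum_sub_distrib]
  rw [Finset.sum_eq_single i, Finset.sum_eq_single j]
  · simp only [Pi.single_eq_same]
  · intro l _ hl
    rw [Pi.single_eq_of_ne hl, zero_smul]
  · intro h
    exact absurd (Finset.mem_univ j) h
  · intro l _ hl
    rw [Pi.single_eq_of_ne hl, zero_smul]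
  · intro h
    exact absurd (Finset.mem_univ i) h

/-- symmetric compatibility from the relations -/
theorem sym_of_rel (b : ι → A) (K : ℕ) (y : ι → N) (hy : ∀ c ∈ Rel b K, ∑ i, c i • y i = 0)
    (i j : ι) : b j ^ K • y i = b i ^ K • y j := by
  have := hy _ (kosz_mem b K i j)
  rw [kosz_sum, sub_eq_zero] at this
  exact this

/-- the relations hold for `y i = b i ^ K • x` -/
theorem rel_of_eq (b : ι → A) (K : ℕ) (x : N) (c : ι → A) (hc : c ∈ Rel b K) :
    ∑ i, c i • (b i ^ K • x) = 0 := by
  simp only [smul_smul]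
  rw [← Finset.sum_smul, mem_Rel.mp hc, zero_smul]

end RelLemmas

section Dict

variable [G.IsQuasicoherent] (hW : IsAffineOpen W)

include hW in
/-- if restriction to the union of the `D(a i)` is bijective, then `Γ(W,G)` is closed in Hom form -/
theorem hclosed_of_bijective
    (h : Function.Bijective (G.presheaf.map (homOfLE (cov_le a)).op)) :
    HClosed a Γ(G, W) := by
  intro K y hy
  have hsym := sym_of_rel a K y hy
  have hu : ∀ i, IsUnit (Y.presheaf.map (homOfLE (Y.basicOpen_le (a i))).op (a i)) :=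
    fun i => Y.toRingedSpace.isUnit_res_basicOpen (a i)
  let t : ∀ i, Γ(G, Y.basicOpen (a i)) := fun i =>
    (↑((hu i).pow K).unit⁻¹ : Γ(Y, Y.basicOpen (a i))) •
      G.presheaf.map (homOfLE (Y.basicOpen_le (a i))).op (y i)
  have ht : ∀ i (p : Y) (hp : p ∈ Y.basicOpen (a i)),
      (Y.presheaf.germ W p (Y.basicOpen_le (a i) hp) (a i)) ^ K •
        G.presheaf.germ (Y.basicOpen (a i)) p hp (t i) =
        G.presheaf.germ W p (Y.basicOpen_le (a i) hp) (y i) := by
    intro i p hp
    have h1 : (Y.presheaf.map (homOfLE (Y.basicOpen_le (a i))).op (a i)) ^ K • t i =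
        G.presheaf.map (homOfLE (Y.basicOpen_le (a i))).op (y i) := by
      simp only [t]
      rw [smul_smul, IsUnit.mul_val_inv, one_smul]
    have h2 := congrArg (G.presheaf.germ (Y.basicOpen (a i)) p hp) h1
    rw [germ_pow_smul, germ_resO, germ_res] at h2
    exact h2
  have hcompat : TopCat.Presheaf.IsCompatible G.presheaf (fun i => Y.basicOpen (a i)) t := by
    intro i j
    change G.presheaf.map (homOfLE inf_le_left).op (t i) =
      G.presheaf.map (homOfLE inf_le_right).op (t j)
    apply section_ext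
    intro p hp
    rw [germ_res, germ_res]
    have hp1 : p ∈ Y.basicOpen (a i) := hp.1
    have hp2 : p ∈ Y.basicOpen (a j) := hp.2
    apply germ_cancel G hp1 K
    apply germ_cancel G hp2 K
    rw [ht i p hp1, smul_comm, ht j p hp2, ← germ_pow_smul, ← germ_pow_smul, hsym i j]
  obtain ⟨tt, htt, -⟩ := TopCat.Sheaf.existsUnique_gluing'
    (⟨G.presheaf, G.isSheaf⟩ : TopCat.Sheaf Ab Y)
    (fun i => Y.basicOpen (a i)) (cov a) (fun i => homOfLE (basicOpen_le_cov a i)) le_rfl t hcompat
  obtain ⟨x, hx⟩ := h.2 tt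
  have hz : ∀ i, ∃ m : ℕ, a i ^ m • (a i ^ K • x - y i) = 0 := by
    intro i
    apply exists_pow_smul_eq_zero hW G (a i)
    apply section_ext
    intro p hp
    rw [germ_res, map_zero, map_sub, germ_pow_smul, sub_eq_zero, ← ht i p hp]
    congr 1
    have h1 := germ_res G (cov_le a) p (basicOpen_le_cov a i hp) x
    rw [hx] at h1
    have h2 := germ_res G (basicOpen_le_cov a i) p hp tt
    rw [htt i] at h2
    rw [← h1, ← h2]
  choose m hm using hz
  have hzsym : ∀ i j, a j ^ K • (a i ^ K • x - y i) = a i ^ K • (a j ^ K • x - y j) := by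
    intro i j
    rw [smul_sub, smul_sub, hsym i j, smul_smul, smul_smul, mul_comm]
  have hzero : ∀ j, a j ^ K • x - y j = 0 := by
    intro j
    apply eq_zero_of_forall_pow G h.1
    intro i
    refine ⟨m i + K, ?_⟩
    rw [pow_add, mul_smul, hzsym j i, smul_comm, hm i, smul_zero]
  refine ⟨x, fun i => (sub_eq_zero.mp (hzero i)).symm, ?_⟩
  intro x' hx'
  have : x' - x = 0 := by
    apply eq_zero_of_forall_pow G h.1
    intro i
    refine ⟨K, ?_⟩
    rw [smul_sub, ← hx' i, sub_eq_zero]
    exact (sub_eq_zero.mp (hzero i)).symm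
  exact sub_eq_zero.mp this

end Dict

section Dict2

variable [G.IsQuasicoherent] (hW : IsAffineOpen W)

/-- uniqueness part of `HClosed` -/
theorem HClosed.eq_zero {A : Type u} [CommRing A] {N : Type u} [AddCommGroup N] [Module A N]
    {b : ι → A} (h : HClosed b N) (K : ℕ) (d : N) (hd : ∀ i, b i ^ K • d = 0) : d = 0 := by
  obtain ⟨x, -, huniq⟩ := h K (fun _ => 0) (by intro c _; simp)
  rw [huniq d (fun i => (hd i).symm), huniq 0 (fun i => (smul_zero _).symm)]

include hW in
/-- if `Γ(W,G)` is closed in Hom form, restriction to the union of the `D(a i)` is bijective -/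
theorem bijective_of_hclosed (h : HClosed a Γ(G, W)) :
    Function.Bijective (G.presheaf.map (homOfLE (cov_le a)).op) := by
  constructor
  · intro s s' hss'
    rw [← sub_eq_zero]
    have hd : ∀ i, ∃ m : ℕ, a i ^ m • (s - s') = 0 := by
      intro i
      apply exists_pow_smul_eq_zero hW G (a i)
      have h1 : G.presheaf.map (homOfLE (cov_le a)).op (s - s') = 0 := by
        rw [map_sub, hss', sub_self]
      have h2 := congrArg (G.presheaf.map (homOfLE (basicOpen_le_cov a i)).op) h1
      rw [map_zero] at h2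
      rw [← h2]
      exact (QcohGlue.map_map_thin G _ _ _ (s - s')).symm
    choose m hm using hd
    apply h.eq_zero (Finset.univ.sup m)
    intro i
    have hle : m i ≤ Finset.univ.sup m := Finset.le_sup (Finset.mem_univ i)
    rw [← Nat.sub_add_cancel hle, pow_add, mul_smul, hm i, smul_zero]
  · intro t
    -- local numerators
    have hloc : ∀ i, ∃ (n : ℕ) (s : Γ(G, W)), ∀ (p : Y) (hp : p ∈ Y.basicOpen (a i)),
        (Y.presheaf.germ W p (Y.basicOpen_le (a i) hp) (a i)) ^ n •
          G.presheaf.germ (cov a) p (basicOpen_le_cov a i hp) t =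
          G.presheaf.germ W p (Y.basicOpen_le (a i) hp) s := by
      intro i
      obtain ⟨n, s, hs⟩ := exists_pow_smul_eq_res hW G (a i)
        (G.presheaf.map (homOfLE (basicOpen_le_cov a i)).op t)
      refine ⟨n, s, fun p hp => ?_⟩
      have h2 := congrArg (G.presheaf.germ (Y.basicOpen (a i)) p hp) hs
      rw [germ_smul, germ_resO, germ_res, germ_res, map_pow] at h2
      exact h2
    choose n s hs using hloc
    -- common exponent
    obtain ⟨k, hk⟩ : ∃ k : ℕ, ∀ i, n i ≤ k :=
      ⟨Finset.univ.sup n, fun i => Finset.le_sup (Finset.mem_univ i)⟩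
    obtain ⟨s', hs'def⟩ : ∃ s' : ι → Γ(G, W), ∀ i, s' i = a i ^ (k - n i) • s i :=
      ⟨_, fun _ => rfl⟩
    have hs' : ∀ i (p : Y) (hp : p ∈ Y.basicOpen (a i)),
        (Y.presheaf.germ W p (Y.basicOpen_le (a i) hp) (a i)) ^ k •
          G.presheaf.germ (cov a) p (basicOpen_le_cov a i hp) t =
          G.presheaf.germ W p (Y.basicOpen_le (a i) hp) (s' i) := by
      intro i p hp
      rw [hs'def, germ_pow_smul, ← hs i p hp, smul_smul, ← pow_add, Nat.sub_add_cancel (hk i)]
    -- compatibility up to torsion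
    have hd : ∀ i j, ∃ m : ℕ, (a i * a j) ^ m • (a j ^ k • s' i - a i ^ k • s' j) = 0 := by
      intro i j
      apply exists_pow_smul_eq_zero hW G (a i * a j)
      apply section_ext
      intro p hp
      have hp' : p ∈ Y.basicOpen (a i) ⊓ Y.basicOpen (a j) := by
        rw [← Y.basicOpen_mul]; exact hp
      have hp1 : p ∈ Y.basicOpen (a i) := hp'.1
      have hp2 : p ∈ Y.basicOpen (a j) := hp'.2
      rw [germ_res, map_zero, map_sub, germ_pow_smul, germ_pow_smul, ← hs' i p hp1,
        ← hs' j p hp2, sub_eq_zero, smul_comm]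
    choose m hm using hd
    obtain ⟨mm, hmm⟩ : ∃ mm : ℕ, ∀ i j, m i j ≤ mm :=
      ⟨Finset.univ.sup (fun i => Finset.univ.sup (m i)), fun i j =>
        (Finset.le_sup (f := m i) (Finset.mem_univ j)).trans
          (Finset.le_sup (f := fun i => Finset.univ.sup (m i)) (Finset.mem_univ i))⟩
    obtain ⟨y, hydef⟩ : ∃ y : ι → Γ(G, W), ∀ i, y i = a i ^ mm • s' i := ⟨_, fun _ => rfl⟩
    have hysym : ∀ i j, a j ^ (k + mm) • y i = a i ^ (k + mm) • y j := by
      intro i j
      rw [← sub_eq_zero]
      have : a j ^ (k + mm) • y i - a i ^ (k + mm) • y j =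
          (a i * a j) ^ (mm - m i j) • ((a i * a j) ^ m i j • (a j ^ k • s' i - a i ^ k • s' j)) := by
        rw [smul_smul ((a i * a j) ^ (mm - m i j)), ← pow_add, Nat.sub_add_cancel (hmm i j),
          hydef, hydef, smul_sub, smul_smul, smul_smul, smul_smul, smul_smul]
        congr 1 <;> congr 1 <;> ring
      rw [this, hm i j, smul_zero]
    have hyrel : ∀ c ∈ Rel a (k + mm), ∑ i, c i • y i = 0 := by
      intro c hc
      apply h.eq_zero (k + mm)
      intro j
      rw [Finset.smul_sum]
      have : ∀ i ∈ Finset.univ, a j ^ (k + mm) • c i • y i = (c i * a i ^ (k + mm)) • y j := by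
        intro i _
        rw [smul_comm, hysym i j, smul_smul]
      rw [Finset.sum_congr rfl this, ← Finset.sum_smul, mem_Rel.mp hc, zero_smul]
    obtain ⟨x, hx, -⟩ := h (k + mm) y hyrel
    refine ⟨x, ?_⟩
    apply section_ext
    intro p hp
    obtain ⟨i, hi⟩ := (mem_cov a).mp hp
    rw [germ_res]
    apply germ_cancel G hi (k + mm)
    rw [← germ_pow_smul, ← hx i, hydef, germ_pow_smul, ← hs' i p hi, smul_smul, ← pow_add,
      add_comm]

end Dict2

end Groth.Agent.Helper2.ZD
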