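import Mathlib
import Groth.Agent.Helper2.ZD2
import Groth.Agent.Lead.StalkPull2
import Groth.Agent.Helper6.ZCl5

set_option autoImplicit false
universe u
open CategoryTheory CategoryTheory.Limits AlgebraicGeometry TopologicalSpace Opposite TensorProduct ZClos

namespace Groth.Agent.Helper2.ZD

open Groth.Agent.Helper4 Groth.Agent.Helper4.StalkDict Groth.Agent.Helper4.QcqsMod
open Groth.Agent.Helper6 Groth.Agent.Helper6.ZCl1 Groth.Agent.Helper6.ZCl2
open Groth.Agent.Lead.ModDict Groth.Agent.Lead.StalkPull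

section Top

variable {α β : Type*} [TopologicalSpace α] [TopologicalSpace β]

/-- In a Noetherian quasi-sober space, if the image of a closed set under a continuous map lies in
a specialization-stable set, so does the closure of the image. -/
theorem closure_image_subset_top [NoetherianSpace α] [QuasiSober α] {g : α → β} (hg : Continuous g)
    {Z : Set β} (hZ : StableUnderSpecialization Z) (C : Closeds α) (h : g '' (C : Set α) ⊆ Z) :
    closure (g '' (C : Set α)) ⊆ Z := by
  refine wellFounded_lt.induction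
    (C := fun C : Closeds α => g '' (C : Set α) ⊆ Z → closure (g '' (C : Set α)) ⊆ Z) C ?_ h
  intro C H h
  by_cases hne : (C : Set α).Nonempty
  swap
  · rw [Set.not_nonempty_iff_eq_empty.1 hne, Set.image_empty, closure_empty]
    exact Set.empty_subset _
  by_cases h₁ : IsPreirreducible (C : Set α)
  · have hirr : IsIrreducible (C : Set α) := ⟨hne, h₁⟩
    have hg' := hirr.isGenericPoint_genericPoint C.isClosed
    have hηZ : g hirr.genericPoint ∈ Z := h ⟨_, hg'.mem, rfl⟩
    have hsub : g '' (C : Set α) ⊆ closure {g hirr.genericPoint} := by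
      rintro _ ⟨c, hc, rfl⟩
      exact (specializes_iff_mem_closure.1 ((hg'.specializes hc).map hg))
    intro y hy
    have hy' : y ∈ closure {g hirr.genericPoint} :=
      (closure_minimal hsub isClosed_closure) hy
    exact hZ (specializes_iff_mem_closure.2 hy') hηZ
  · simp only [isPreirreducible_iff_isClosed_union_isClosed, not_forall, not_or] at h₁
    obtain ⟨z₁, z₂, hz₁, hz₂, hcov, hz₁', hz₂'⟩ := h₁
    lift z₁ to Closeds α using hz₁
    lift z₂ to Closeds α using hz₂
    have H1 := H (C ⊓ z₁) (inf_lt_left.2 hz₁') (fun y hy => by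
      obtain ⟨c, hc, rfl⟩ := hy
      exact h ⟨c, hc.1, rfl⟩)
    have H2 := H (C ⊓ z₂) (inf_lt_left.2 hz₂') (fun y hy => by
      obtain ⟨c, hc, rfl⟩ := hy
      exact h ⟨c, hc.1, rfl⟩)
    have hsub : g '' (C : Set α) ⊆
        g '' ((C ⊓ z₁ : Closeds α) : Set α) ∪ g '' ((C ⊓ z₂ : Closeds α) : Set α) := by
      rintro _ ⟨c, hc, rfl⟩
      rcases hcov hc with hy1 | hy1
      · exact Or.inl ⟨c, ⟨hc, hy1⟩, rfl⟩
      · exact Or.inr ⟨c, ⟨hc, hy1⟩, rfl⟩
    refine (closure_mono hsub).trans ?_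
    rw [closure_union]
    exact Set.union_subset H1 H2

end Top

section Sch

variable {X X' : Scheme.{u}}

/-- the closure of the image of `T' ∩ W` (closed ∩ affine open in a locally Noetherian scheme) lies in a
specialization-stable set as soon as the image does -/
theorem closure_image_subset [IsLocallyNoetherian X'] (f : X' ⟶ X) {Z : Set X}
    (hZ : StableUnderSpecialization Z) {W : X'.Opens} (hW : IsAffineOpen W) {C : Set X'}
    (hC : IsClosed C) (h : C ∩ W ⊆ f.base ⁻¹' Z) : closure (f.base '' (C ∩ W)) ⊆ Z := by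
  haveI := IsLocallyNoetherian.component_noetherian (X := X') ⟨W, hW⟩
  haveI : NoetherianSpace (W : Set X') := noetherianSpace_of_isAffineOpen W hW
  haveI : QuasiSober (W : Set X') := W.2.isOpenEmbedding_subtypeVal.quasiSober
  let j : ↥(W : Set X') → X' := Subtype.val
  have hj : Continuous j := continuous_subtype_val
  have key := closure_image_subset_top (α := (W : Set X')) (g := fun w => f.base (j w))
    (f.base.hom.continuous.comp hj) hZ ⟨j ⁻¹' C, hC.preimage hj⟩
    (by
      rintro _ ⟨w, hw, rfl⟩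
      exact h ⟨hw, w.2⟩)
  have e : f.base '' (C ∩ W) = (fun w => f.base (j w)) '' (j ⁻¹' C) := by
    ext y
    constructor
    · rintro ⟨x, ⟨hxC, hxW⟩, rfl⟩
      exact ⟨⟨x, hxW⟩, hxC, rfl⟩
    · rintro ⟨w, hw, rfl⟩
      exact ⟨w.1, ⟨hw, w.2⟩, rfl⟩
  rw [e]
  exact key

/-- an open subset of an affine open of a locally Noetherian scheme is a finite union of basic opens -/
theorem exists_cov_eq [IsLocallyNoetherian X] {V U : X.Opens} (hV : IsAffineOpen V) (h : U ≤ V) :
    ∃ (n : ℕ) (a : Fin n → Γ(X, V)), cov a = U := by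
  have hc : IsCompact (U : Set X) := isCompact_of_le hV.isCompact h
  let I := {a : Γ(X, V) // X.basicOpen a ≤ U}
  obtain ⟨t, ht⟩ := hc.elim_finite_subcover (fun i : I => ((X.basicOpen i.1 : X.Opens) : Set X))
    (fun i => (X.basicOpen i.1).isOpen) (by
      intro x hx
      obtain ⟨a, ha, hxa⟩ := hV.exists_basicOpen_le ⟨x, hx⟩ (h hx)
      exact Set.mem_iUnion.2 ⟨⟨a, ha⟩, hxa⟩)
  refine ⟨t.card, fun k => (t.equivFin.symm k).1.1, ?_⟩
  apply le_antisymm
  · exact iSup_le fun k => (t.equivFin.symm k).1.2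
  · intro x hx
    obtain ⟨i, hi⟩ := Set.mem_iUnion.1 (ht hx)
    obtain ⟨hit, hxi⟩ := Set.mem_iUnion.1 hi
    rw [mem_cov]
    refine ⟨t.equivFin ⟨i, hit⟩, ?_⟩
    rw [Equiv.symm_apply_apply]
    exact hxi

theorem mem_basicOpen_appLE (f : X' ⟶ X) {V : X.Opens} {W : X'.Opens} (e : W ≤ f ⁻¹ᵁ V)
    (s : Γ(X, V)) (x' : X') :
    x' ∈ X'.basicOpen (f.appLE V W e s) ↔ x' ∈ W ∧ f.base x' ∈ X.basicOpen s := by
  have h1 : f.appLE V W e s = X'.presheaf.map (homOfLE e).op (f.app V s) := by
    rw [Scheme.Hom.appLE]; rfl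
  rw [h1, Scheme.basicOpen_res, ← Scheme.Hom.preimage_basicOpen]
  rfl

theorem mem_cov_appLE (f : X' ⟶ X) {V : X.Opens} {W : X'.Opens} (e : W ≤ f ⁻¹ᵁ V)
    {ι : Type} [Fintype ι] [DecidableEq ι] (a : ι → Γ(X, V)) (x' : X') :
    x' ∈ cov (fun i => f.appLE V W e (a i)) ↔ x' ∈ W ∧ f.base x' ∈ cov a := by
  rw [mem_cov, mem_cov]
  constructor
  · rintro ⟨i, hi⟩
    exact ⟨((mem_basicOpen_appLE f e (a i) x').1 hi).1, i, ((mem_basicOpen_appLE f e (a i) x').1 hi).2⟩
  · rintro ⟨hW, i, hi⟩
    exact ⟨i, (mem_basicOpen_appLE f e (a i) x').2 ⟨hW, hi⟩⟩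

end Sch

end Groth.Agent.Helper2.ZD
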