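import Mathlib
import Groth.Agent.Helper2.ZD3

set_option autoImplicit false
universe u
open CategoryTheory CategoryTheory.Limits AlgebraicGeometry TopologicalSpace Opposite TensorProduct ZClos

namespace Groth.Agent.Helper2.ZD

open Groth.Agent.Helper4 Groth.Agent.Helper4.StalkDict Groth.Agent.Helper4.QcqsMod
open Groth.Agent.Helper6 Groth.Agent.Helper6.ZCl1 Groth.Agent.Helper6.ZCl2
open Groth.Agent.Lead.ModDict Groth.Agent.Lead.StalkPull

variable {X X' : Scheme.{u}}

set_option backward.isDefEq.respectTransparency false in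
/-- **key lemma**: flat base change of closedness in Hom form, on affine pieces -/
theorem hclosed_pullback [IsLocallyNoetherian X] (f : X' ⟶ X) [Flat f]
    (H : X.Modules) [H.IsQuasicoherent] {V : X.Opens} (hV : IsAffineOpen V)
    {ι : Type} [Fintype ι] [DecidableEq ι] (a : ι → Γ(X, V)) (ha : HClosed a Γ(H, V))
    {W : X'.Opens} (hW : IsAffineOpen W) (e : W ≤ f ⁻¹ᵁ V) :
    HClosed (fun i => f.appLE V W e (a i)) Γ((Scheme.Modules.pullback f).obj H, W) := by
  haveI := isQuasicoherent_pullbackObj f H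
  haveI : IsNoetherianRing Γ(X, V) := IsLocallyNoetherian.component_noetherian ⟨V, hV⟩
  letI a1 : Algebra Γ(X, V) Γ(X', W) := (f.appLE V W e).hom.toAlgebra
  haveI : Module.Flat Γ(X, V) Γ(X', W) := f.flat_appLE hV hW e
  have h2 : HClosed a ((secF hV).obj H) := HClosed.of_equiv ha (secFEquiv hV H)
  have h3 := HClosed.baseChange Γ(X', W) h2
  let e₂ : Γ(X', W) ⊗[Γ(X, V)] ((secF hV).obj H) ≃ₗ[Γ(X', W)]
      Γ((Scheme.Modules.pullback f).obj H, W) :=
    (secFPullbackIso f hV hW e H).toLinearEquiv.symm ≪≫ₗ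
      (secFEquiv hW ((Scheme.Modules.pullback f).obj H)).symm
  exact HClosed.of_equiv h3 e₂

/-- flat base change of bijectivity of restriction to the complement of a zero locus -/
theorem bijective_res_pullback [IsLocallyNoetherian X] (f : X' ⟶ X) [Flat f]
    (H : X.Modules) [H.IsQuasicoherent] {V : X.Opens} (hV : IsAffineOpen V)
    {ι : Type} [Fintype ι] [DecidableEq ι] (a : ι → Γ(X, V))
    (ha : Function.Bijective (H.presheaf.map (homOfLE (cov_le a)).op))
    {W : X'.Opens} (hW : IsAffineOpen W) (e : W ≤ f ⁻¹ᵁ V) :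
    Function.Bijective (((Scheme.Modules.pullback f).obj H).presheaf.map
      (homOfLE (cov_le (fun i => f.appLE V W e (a i)))).op) := by
  haveI := isQuasicoherent_pullbackObj f H
  exact bijective_of_hclosed _ hW (hclosed_pullback f H hV a (hclosed_of_bijective H hV ha) hW e)

/-- affine opens of `X'` mapping into affine opens of `X` form a basis -/
theorem isBasis_affine_over (f : X' ⟶ X) :
    Opens.IsBasis {W : X'.Opens | IsAffineOpen W ∧ ∃ V : X.Opens, IsAffineOpen V ∧ W ≤ f ⁻¹ᵁ V} := by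
  rw [Opens.isBasis_iff_nbhd]
  intro U x hx
  obtain ⟨_, ⟨V, hV : IsAffineOpen V, rfl⟩, hfx, -⟩ :=
    X.isBasis_affineOpens.exists_subset_of_mem_open (Set.mem_univ (f.base x)) isOpen_univ
  obtain ⟨_, ⟨W, hW : IsAffineOpen W, rfl⟩, hxW, hWU⟩ :=
    X'.isBasis_affineOpens.exists_subset_of_mem_open
      (show x ∈ (((f ⁻¹ᵁ V) ⊓ U : X'.Opens) : Set X') from ⟨hfx, hx⟩) ((f ⁻¹ᵁ V) ⊓ U).isOpen
  exact ⟨W, ⟨hW, V, hV, fun y hy => (hWU hy).1⟩, hxW, fun y hy => (hWU hy).2⟩

/-- **flat pullback preserves Z-closedness** of quasi-coherent modules -/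
theorem isZClosed_pullback [IsLocallyNoetherian X] [IsLocallyNoetherian X'] (f : X' ⟶ X) [Flat f]
    {Z : Set X} (hZ : StableUnderSpecialization Z) (H : X.Modules) [H.IsQuasicoherent]
    (hH : IsZClosed Z H) :
    IsZClosed (f.base ⁻¹' Z) ((Scheme.Modules.pullback f).obj H) := by
  refine isZClosed_of_forall_isIso _ _ fun T' => ?_
  refine isIso_of_bijective_res _ _ T' (isBasis_affine_over f) ?_
  rintro W ⟨hW, V, hV, e⟩
  let T : Cl Z := ⟨⟨closure (f.base '' ((T'.1 : Set X') ∩ W)), isClosed_closure⟩,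
    closure_image_subset f hZ hW T'.1.isClosed (fun x hx => T'.2 hx.1)⟩
  obtain ⟨n, a, ha⟩ := exists_cov_eq hV (inf_le_left : V ⊓ T.U ≤ V)
  haveI := isIso_toDiagram_of_isZClosed Z H hH T
  have hbij : Function.Bijective (H.presheaf.map (homOfLE (cov_le a)).op) :=
    (bij_res_congr H rfl ha (cov_le a) inf_le_left).2 (bijective_res_of_isIso Z H T V)
  set G := (Scheme.Modules.pullback f).obj H with hG
  have KL : ∀ {W'' : X'.Opens} (hW'' : IsAffineOpen W'') (e'' : W'' ≤ f ⁻¹ᵁ V),
      Function.Bijective (res G (cov_le (fun i => f.appLE V W'' e'' (a i)))) :=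
    fun hW'' e'' => bijective_res_pullback f H hV a hbij hW'' e''
  have hle : cov (fun i => f.appLE V W e (a i)) ≤ W ⊓ T'.U := by
    intro x hx
    obtain ⟨hxW, hfx⟩ := (mem_cov_appLE f e a x).1 hx
    refine ⟨hxW, ?_⟩
    intro hxT
    rw [ha] at hfx
    exact hfx.2 (subset_closure ⟨x, ⟨hxT, hxW⟩, rfl⟩)
  have hfac : ∀ s : Γ(G, W), res G hle (res G (inf_le_left : W ⊓ T'.U ≤ W) s) =
      res G (cov_le (fun i => f.appLE V W e (a i))) s := fun s => res_res G _ _ s
  constructor
  · intro s s' hss'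
    apply (KL hW e).1
    rw [← hfac, ← hfac, hss']
  · intro t
    obtain ⟨s, hs⟩ := (KL hW e).2 (res G hle t)
    refine ⟨s, ?_⟩
    apply section_ext
    intro x hx
    obtain ⟨_, ⟨W'', hW'' : IsAffineOpen W'', rfl⟩, hxW'', hW''U⟩ :=
      X'.isBasis_affineOpens.exists_subset_of_mem_open hx (W ⊓ T'.U).isOpen
    have hW''le : W'' ≤ W ⊓ T'.U := hW''U
    have e'' : W'' ≤ f ⁻¹ᵁ V := hW''le.trans (inf_le_left.trans e)
    have hcc : cov (fun i => f.appLE V W'' e'' (a i)) ≤ cov (fun i => f.appLE V W e (a i)) := by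
      intro y hy
      obtain ⟨hyW, hfy⟩ := (mem_cov_appLE f e'' a y).1 hy
      exact (mem_cov_appLE f e a y).2 ⟨(hW''le hyW).1, hfy⟩
    have heq : res G hW''le (res G (inf_le_left : W ⊓ T'.U ≤ W) s) = res G hW''le t := by
      apply (KL hW'' e'').1
      rw [res_res, res_res, res_res]
      have h1 : res G ((cov_le (fun i => f.appLE V W'' e'' (a i))).trans
          (hW''le.trans inf_le_left)) s = res G hcc (res G (cov_le _) s) := (res_res G _ _ s).symm
      have h2 : res G ((cov_le (fun i => f.appLE V W'' e'' (a i))).trans hW''le) t =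
          res G hcc (res G hle t) := (res_res G _ _ t).symm
      rw [h1, h2, hs]
    rw [← germ_res G hW''le x hxW'', ← germ_res G hW''le x hxW'' t]
    exact congrArg _ heq

end Groth.Agent.Helper2.ZD
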