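import Mathlib
import Groth.Agent.Helper2.ZD4
import Groth.Agent.Helper4.StalkExact
import Groth.Agent.Helper4.EpiStalk
import Groth.Agent.Lead.FlatPull

/-!
# Flat pullback preserves bijectivity of stalk maps (quasi-coherent modules)
-/

set_option autoImplicit false
universe u
open CategoryTheory CategoryTheory.Limits AlgebraicGeometry TopologicalSpace Opposite TensorProduct ZClos

namespace Groth.Agent.Helper2.ZD

open Groth.Agent.Helper4 Groth.Agent.Helper4.StalkDict Groth.Agent.Helper4.QcqsMod
open Groth.Agent.Helper6 Groth.Agent.Helper6.ZCl1 Groth.Agent.Helper6.ZCl2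
open Groth.Agent.Lead.ModDict Groth.Agent.Lead.StalkPull

section StalkLib

variable {X : Scheme.{u}}

theorem sl_comp {F G H : X.Modules} (φ : F ⟶ G) (ψ : G ⟶ H) (x : X)
    (t : F.presheaf.stalk x) :
    stalkLin (φ ≫ ψ) x t = stalkLin ψ x (stalkLin φ x t) := by
  obtain ⟨V, hxV, m, rfl⟩ := TopCat.Presheaf.exists_germ_eq _ t
  rw [StalkExact.stalkLin_germ, StalkExact.stalkLin_germ, StalkExact.stalkLin_germ]
  rfl

theorem sl_zero {F G : X.Modules} (x : X) (t : F.presheaf.stalk x) :
    stalkLin (0 : F ⟶ G) x t = 0 := by
  obtain ⟨V, hxV, m, rfl⟩ := TopCat.Presheaf.exists_germ_eq _ t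
  rw [StalkExact.stalkLin_germ]
  exact map_zero _

theorem sl_id (F : X.Modules) (x : X) (t : F.presheaf.stalk x) :
    stalkLin (𝟙 F) x t = t := by
  obtain ⟨V, hxV, m, rfl⟩ := TopCat.Presheaf.exists_germ_eq _ t
  rw [StalkExact.stalkLin_germ]
  rfl

theorem sl_bijective_of_isIso {F G : X.Modules} (φ : F ⟶ G) [IsIso φ] (x : X) :
    Function.Bijective (stalkLin φ x) := by
  refine Function.bijective_iff_has_inverse.mpr ⟨stalkLin (inv φ) x, ?_, ?_⟩
  · intro t
    rw [← sl_comp, IsIso.hom_inv_id, sl_id]
  · intro t
    rw [← sl_comp, IsIso.inv_hom_id, sl_id]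

/-- the kernel has trivial stalk where the stalk map is injective -/
theorem sl_subsingleton_kernel {F G : X.Modules} (φ : G ⟶ F) (x : X)
    (h : Function.Injective (stalkLin φ x)) :
    Subsingleton ((kernel φ).presheaf.stalk x) := by
  refine ⟨fun a b => ?_⟩
  apply StalkExact.stalkLin_injective (kernel.ι φ) x
  apply h
  rw [← sl_comp, ← sl_comp, kernel.condition, sl_zero, sl_zero]

/-- the cokernel has trivial stalk where the stalk map is surjective -/
theorem sl_subsingleton_cokernel {F G : X.Modules} (φ : G ⟶ F) (x : X)
    (h : Function.Surjective (stalkLin φ x)) :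
    Subsingleton ((cokernel φ).presheaf.stalk x) := by
  refine ⟨fun a b => ?_⟩
  suffices h0 : ∀ c : (cokernel φ).presheaf.stalk x, c = 0 by rw [h0 a, h0 b]
  intro c
  obtain ⟨f, rfl⟩ := EpiStalk.stalkLin_surjective_of_epi (cokernel.π φ) x c
  obtain ⟨g, rfl⟩ := h f
  rw [← sl_comp, cokernel.condition, sl_zero]

/-- right exactness of stalks for a cokernel. -/
theorem sl_exact_cokernel {F' F : X.Modules} (u : F' ⟶ F) (x : X) :
    Function.Exact (stalkLin u x) (stalkLin (cokernel.π u) x) := by
  have hS : (ShortComplex.mk (Abelian.image.ι u) (cokernel.π u)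
      (kernel.condition (cokernel.π u))).Exact :=
    ShortComplex.exact_of_f_is_kernel _ (kernelIsKernel (cokernel.π u))
  have hex := StalkExact.stalkLin_exact _ hS x
  have hsurj := EpiStalk.stalkLin_surjective_of_epi (Abelian.factorThruImage u) x
  intro t
  rw [hex t]
  constructor
  · rintro ⟨n, rfl⟩
    obtain ⟨m, rfl⟩ := hsurj n
    refine ⟨m, ?_⟩
    rw [← sl_comp, Abelian.image.fac]
  · rintro ⟨m, rfl⟩
    refine ⟨stalkLin (Abelian.factorThruImage u) x m, ?_⟩
    rw [← sl_comp, Abelian.image.fac]

theorem subsingleton_stalk_of_iso {M N : X.Modules} (i : M ≅ N) (x : X)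
    (h : Subsingleton (N.presheaf.stalk x)) : Subsingleton (M.presheaf.stalk x) :=
  (sl_bijective_of_isIso i.hom x).1.subsingleton

end StalkLib

variable {X X' : Scheme.{u}}

/-- the stalk of a pullback of a quasi-coherent module vanishes where the stalk of the module does -/
theorem subsingleton_stalk_pullback (f : X' ⟶ X) (M : X.Modules) [M.IsQuasicoherent] (x' : X')
    (h : Subsingleton (M.presheaf.stalk (f.base x'))) :
    Subsingleton (((Scheme.Modules.pullback f).obj M).presheaf.stalk x') := by
  letI := (f.stalkMap x').hom.toAlgebra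
  obtain ⟨e⟩ := nonempty_stalk_pullback_equiv f M x'
  exact e.injective.subsingleton

/-- **flat pullback preserves bijectivity of stalk maps** (for maps of quasi-coherent modules) -/
theorem stalk_bijective_pullback (f : X' ⟶ X) [Flat f] {A B : X.Modules} [A.IsQuasicoherent]
    [B.IsQuasicoherent] (v : A ⟶ B) (x' : X')
    (hv : Function.Bijective (stalkLin v (f.base x'))) :
    Function.Bijective (stalkLin ((Scheme.Modules.pullback f).map v) x') := by
  let P := Scheme.Modules.pullback f
  constructor
  · -- injectivity
    haveI : (cokernel v).IsQuasicoherent := QcohLimits.isQuasicoherent_cokernel v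
    haveI hI : (Abelian.image v).IsQuasicoherent := QcohLimits.isQuasicoherent_kernel (cokernel.π v)
    let e : A ⟶ Abelian.image v := Abelian.factorThruImage v
    let m : Abelian.image v ⟶ B := Abelian.image.ι v
    have hfac : e ≫ m = v := Abelian.image.fac v
    haveI : Mono m := inferInstanceAs (Mono (Abelian.image.ι v))
    haveI : Epi e := inferInstanceAs (Epi (Abelian.factorThruImage v))
    haveI : Mono (P.map m) := Groth.Agent.Lead.FlatPull.mono_pullback_of_flat f m
    have hm : Function.Injective (stalkLin (P.map m) x') := StalkExact.stalkLin_injective _ x'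
    -- `e` is injective on the stalk at `f x'`
    have he : Function.Injective (stalkLin e (f.base x')) := by
      intro s t hst
      apply hv.1
      rw [← hfac, sl_comp, sl_comp, hst]
    haveI : (kernel e).IsQuasicoherent := QcohLimits.isQuasicoherent_kernel e
    have hK : Subsingleton ((kernel e).presheaf.stalk (f.base x')) :=
      sl_subsingleton_kernel e (f.base x') he
    have hPK := subsingleton_stalk_pullback f (kernel e) x' hK
    -- `P.map e` is a cokernel of `P.map (kernel.ι e)`
    let u := P.map (kernel.ι e)
    have hcok := Abelian.epiIsCokernelOfKernel (f := e) _ (kernelIsKernel e)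
    let c : cokernel (kernel.ι e) ≅ Abelian.image v :=
      (colimit.isColimit _).coconePointUniqueUpToIso hcok
    have hc : cokernel.π (kernel.ι e) ≫ c.hom = e :=
      (colimit.isColimit _).comp_coconePointUniqueUpToIso_hom hcok WalkingParallelPair.one
    let c' : cokernel u ≅ P.obj (Abelian.image v) :=
      (PreservesCokernel.iso P (kernel.ι e)).symm ≪≫ P.mapIso c
    have hc' : cokernel.π u ≫ c'.hom = P.map e := by
      change cokernel.π (P.map (kernel.ι e)) ≫ (PreservesCokernel.iso P (kernel.ι e)).inv ≫ P.map c.hom
        = P.map e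
      rw [← PreservesCokernel.π_iso_hom, Category.assoc, Iso.hom_inv_id_assoc, ← P.map_comp, hc]
    have hex := sl_exact_cokernel u x'
    have hPe : Function.Injective (stalkLin (P.map e) x') := by
      rw [injective_iff_map_eq_zero]
      intro t ht
      rw [← hc', sl_comp] at ht
      have hinj := (sl_bijective_of_isIso c'.hom x').1
      have h0 : stalkLin (cokernel.π u) x' t = 0 := hinj (ht.trans (map_zero _).symm)
      obtain ⟨k, rfl⟩ := (hex t).1 h0
      rw [Subsingleton.elim k 0, map_zero]
    intro s t hst
    apply hPe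
    apply hm
    rw [← sl_comp, ← sl_comp, ← P.map_comp, hfac]
    exact hst
  · -- surjectivity
    haveI : (cokernel v).IsQuasicoherent := QcohLimits.isQuasicoherent_cokernel v
    have hC : Subsingleton ((cokernel v).presheaf.stalk (f.base x')) :=
      sl_subsingleton_cokernel v (f.base x') hv.2
    have hPC := subsingleton_stalk_pullback f (cokernel v) x' hC
    have hPC' : Subsingleton ((cokernel (P.map v)).presheaf.stalk x') :=
      subsingleton_stalk_of_iso (PreservesCokernel.iso P v).symm x' hPC
    intro n
    exact ((sl_exact_cokernel (P.map v) x') n).1 (Subsingleton.elim _ _)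

end Groth.Agent.Helper2.ZD
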