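import Mathlib
import Groth.Agent.Helper2.ZD5

set_option autoImplicit false
universe u
open CategoryTheory CategoryTheory.Limits AlgebraicGeometry TopologicalSpace Opposite TensorProduct ZClos

namespace Groth.Agent.Helper2.ZD

open Groth.Agent.Helper4 Groth.Agent.Helper4.StalkDict Groth.Agent.Helper4.QcqsMod
open Groth.Agent.Helper6 Groth.Agent.Helper6.ZCl1 Groth.Agent.Helper6.ZCl2

variable {X X' : Scheme.{u}}

/-- **S5853**: flat base change of the Z-closure -/
theorem s5853 [IsLocallyNoetherian X] [IsLocallyNoetherian X'] (f : X' ⟶ X) [Flat f]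
    (Z : Set X) (hZ : StableUnderSpecialization Z) (F : X.Modules) (hF : Coh.IsQCoh F) :
    Nonempty ((Scheme.Modules.pullback f).obj ((ZClos.H0 Z).obj F) ≅
      (ZClos.H0 (f.base ⁻¹' Z)).obj ((Scheme.Modules.pullback f).obj F)) := by
  haveI : F.IsQuasicoherent := hF
  haveI hH : ((H0 Z).obj F).IsQuasicoherent := ZCl5.isQCoh_H0 Z F hF
  have hcl : IsZClosed Z ((H0 Z).obj F) := ZCl3.isZClosed_H0 Z F
  have hG := isZClosed_pullback f hZ ((H0 Z).obj F) hcl
  have hZ' : StableUnderSpecialization (f.base ⁻¹' Z) := hZ.preimage f.base.hom.continuous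
  let u := (Scheme.Modules.pullback f).map (rhoApp Z F)
  obtain ⟨v, hv0, -⟩ := existsUnique_fac (f.base ⁻¹' Z) _ _ hG u
  have hu : ∀ x' : X', x' ∉ f.base ⁻¹' Z →
      Function.Bijective ((TopCat.Presheaf.stalkFunctor (C := Ab.{u}) x').map u.mapPresheaf) := by
    intro x' hx'
    have h1 : Function.Bijective (stalkLin (rhoApp Z F) (f.base x')) :=
      ⟨fun a b h => (isZClosedAt_of_not_mem Z F (f.base x') hx').1 h,
        fun b => (isZClosedAt_of_not_mem Z F (f.base x') hx').2 b⟩
    have h2 := stalk_bijective_pullback f (rhoApp Z F) x' h1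
    exact ⟨fun a b h => h2.1 h, fun b => h2.2 b⟩
  haveI := ZCl5.isIso_fac hZ' _ _ hG u hu v hv0
  exact ⟨(asIso v).symm⟩

end Groth.Agent.Helper2.ZD
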