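import Mathlib
import Groth.Agent.Helper2.ZD6
import Groth.Agent.Lead.LimPres
import Groth.Agent.Helper4.QcohEpi
import Groth.Agent.Helper4.FTGlue
import Groth.Agent.Helper4.SecDict

set_option autoImplicit false
universe u
open CategoryTheory CategoryTheory.Limits AlgebraicGeometry TopologicalSpace Opposite TensorProduct ZClos

namespace Groth.Agent.Helper2.ZD

open Groth.Agent.Helper4 Groth.Agent.Helper4.StalkDict Groth.Agent.Helper4.QcqsMod
open Groth.Agent.Helper6 Groth.Agent.Helper6.ZCl1 Groth.Agent.Helper6.ZCl2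
open Groth.Agent.Lead.ModDict

variable {X X' : Scheme.{u}}

theorem isCoh_of_iso' {M N : X.Modules} (e : M ≅ N) (h : Coh.IsCoh M) : Coh.IsCoh N := by
  haveI : M.IsQuasicoherent := h.1
  haveI hN : N.IsQuasicoherent := QcohLimits.isQuasicoherent_of_iso e
  exact ⟨hN, QcohEpi.isFiniteType_of_epi e.hom h.2⟩

set_option backward.isDefEq.respectTransparency false in
/-- **S5854**: coherence of the Z-closure under flat base change -/
theorem s5854 [IsLocallyNoetherian X] [IsLocallyNoetherian X'] (f : X' ⟶ X) [Flat f]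
    (Z : Set X) (hZ : StableUnderSpecialization Z) (F : X.Modules) (hF : Coh.IsQCoh F) :
    (Coh.IsCoh ((ZClos.H0 Z).obj F) →
      Coh.IsCoh ((ZClos.H0 (f.base ⁻¹' Z)).obj ((Scheme.Modules.pullback f).obj F))) ∧
    (Surjective f → QuasiCompact f →
      Coh.IsCoh ((ZClos.H0 (f.base ⁻¹' Z)).obj ((Scheme.Modules.pullback f).obj F)) →
        Coh.IsCoh ((ZClos.H0 Z).obj F)) := by
  obtain ⟨i⟩ := s5853 f Z hZ F hF
  haveI hH : ((H0 Z).obj F).IsQuasicoherent := ZCl5.isQCoh_H0 Z F hF
  constructor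
  · intro h
    refine isCoh_of_iso' i ⟨Groth.Agent.Lead.StalkPull.isQuasicoherent_pullbackObj f _, ?_⟩
    exact Groth.Agent.Lead.LimPres.isFT_pullback f _ h.2
  · intro hs hq h
    haveI := hs
    haveI := hq
    have hPH := isCoh_of_iso' i.symm h
    refine ⟨hH, FTGlue.isFiniteType_of_finite_sections _ fun x => ?_⟩
    obtain ⟨V, hV, hxV⟩ := QcohLimits.exists_affine_nhd x
    refine ⟨V, hV, hxV, ?_⟩
    have hfin := finite_secF_of_finite_pullback f ((H0 Z).obj F) (fun {W} hW => by
      haveI := SecDict.finite_sections hW _ hPH.1 hPH.2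
      exact Module.Finite.equiv (SecDict.sectionsEquiv hW _)) hV
    haveI hfin' : Module.Finite Γ(X, V)
        ↑(moduleSpecΓFunctor.obj (((H0 Z).obj F).restrict hV.fromSpec)) := hfin
    exact Module.Finite.equiv (SecDict.sectionsEquiv hV _).symm

end Groth.Agent.Helper2.ZD
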