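import Mathlib
import Groth.Prelude
import Groth.Agent.Helper2.HensGNor
import Groth.Agent.Helper2.RedComp
import Groth.Agent.Helper2.SemiRed
import Groth.Agent.S0567

set_option autoImplicit false
set_option linter.style.haveILetI false
set_option linter.unusedSectionVars false
set_option linter.unusedVariables false

universe u
open IsLocalRing TensorProduct

namespace Groth.Agent.Helper2.ZK

open Groth.Agent.Helper1.Hens Groth.Agent.Helper2.HensFib Groth.Agent.Helper2.HensGReg
open Groth.Agent.Helper2.SepAlg

section Sep
variable (k k' : Type u) [Field k] [Field k'] [Algebra k k'] [Algebra.IsSeparable k k']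
variable (A : Type u) [CommRing A] [Algebra k' A] [Algebra k A] [IsScalarTower k k' A]

/-- geometric reducedness over `k` implies geometric reducedness over a separable algebraic
extension `k'` -/
theorem geomReduced_of_geomReduced_bot
    (h : Algebra.IsGeometricallyReduced k A) : Algebra.IsGeometricallyReduced k' A := by
  apply Groth.Agent.Helper2.RedComp.isGeometricallyReduced_of_finite
  intro K' _ _ hfin
  haveI := hfin
  letI : Algebra k K' := ((algebraMap k' K').comp (algebraMap k k')).toAlgebra
  haveI : IsScalarTower k k' K' := IsScalarTower.of_algebraMap_eq (fun _ => rfl)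
  obtain ⟨K₁, _, _, hK₁, m, ⟨ψ⟩⟩ := exists_finite_sub k k' K'
  haveI := hK₁
  haveI : IsReduced (K₁ ⊗[k] A) := inferInstance
  obtain ⟨e1⟩ := nonempty_iso1 k k' A K₁
  haveI : IsReduced ((k' ⊗[k] K₁) ⊗[k'] A) :=
    isReduced_of_injective e1.symm e1.symm.injective
  haveI : IsReduced (((k' ⊗[k] K₁) ⊗[k'] A) ⊗[k' ⊗[k] K₁] Localization.AtPrime m.asIdeal) := by
    let e := IsLocalization.algEquiv
      (Algebra.algebraMapSubmonoid ((k' ⊗[k] K₁) ⊗[k'] A) m.asIdeal.primeCompl)
      (Localization (Algebra.algebraMapSubmonoid ((k' ⊗[k] K₁) ⊗[k'] A) m.asIdeal.primeCompl))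
      (((k' ⊗[k] K₁) ⊗[k'] A) ⊗[k' ⊗[k] K₁] Localization.AtPrime m.asIdeal)
    exact isReduced_of_injective e.symm e.symm.injective
  obtain ⟨e2⟩ := nonempty_iso2 k' A (k' ⊗[k] K₁) m.asIdeal
  haveI : IsReduced (Localization.AtPrime m.asIdeal ⊗[k'] A) :=
    isReduced_of_injective e2.symm e2.symm.injective
  let e3 : Localization.AtPrime m.asIdeal ⊗[k'] A ≃ₐ[k'] K' ⊗[k'] A :=
    Algebra.TensorProduct.congr ψ AlgEquiv.refl
  exact isReduced_of_injective e3.symm e3.symm.injective

end Sep

section Cancel
variable (R H C : Type u) [CommRing R] [CommRing H] [CommRing C] [Algebra R H] [Algebra H C]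
  [Algebra R C] [IsScalarTower R H C]

theorem geomReducedFibres_cancel [IsNoetherianRing R] [IsNoetherianRing C] [Module.Flat R C]
    (hRC : ∀ (p : Ideal R) [p.IsPrime], Algebra.IsGeometricallyReduced p.ResidueField (p.Fiber C))
    (hv : ∀ (p : Ideal R) [p.IsPrime], IsVNR (p.ResidueField ⊗[R] H))
    (hsep : ∀ (Q : Ideal H) [Q.IsPrime],
      letI := Localization.AtPrime.algebraOfLiesOver (Q.under R) Q
      Algebra.IsSeparable (Q.under R).ResidueField Q.ResidueField)
    (Q : Ideal H) [hQ : Q.IsPrime] :
    Algebra.IsGeometricallyReduced Q.ResidueField (Q.Fiber C) := by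
  letI := Localization.AtPrime.algebraOfLiesOver (Q.under R) Q
  haveI i0' : IsScalarTower R (Localization.AtPrime (Q.under R)) (Localization.AtPrime Q) := by
    refine IsScalarTower.of_algebraMap_eq (fun r => ?_)
    rw [Localization.AtPrime.IsLiesOverAlgebra.algebraMap_eq (p := Q.under R) (P := Q)]
    rw [Localization.localRingHom_to_map, ← IsScalarTower.algebraMap_apply]
  haveI := hsep Q
  haveI : IsScalarTower (Q.under R).ResidueField Q.ResidueField (Q.Fiber C) :=
    IsScalarTower.of_algebraMap_eq (fun z => by
      rw [Algebra.TensorProduct.algebraMap_apply, Algebra.TensorProduct.algebraMap_apply,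
        Algebra.algebraMap_self, RingHom.id_apply])
  apply geomReduced_of_geomReduced_bot (Q.under R).ResidueField Q.ResidueField (Q.Fiber C)
  obtain ⟨e, he⟩ := exists_fiber_equiv (C := C) Q (Q.under R) rfl
    (fun x hx => factU Q (Q.under R) rfl (hv (Q.under R)) hx)
  haveI : IsNoetherianRing (Localization (Algebra.algebraMapSubmonoid C Q.primeCompl)) :=
    IsLocalization.isNoetherianRing (Algebra.algebraMapSubmonoid C Q.primeCompl) _ inferInstance
  haveI : Module.Flat C (Localization (Algebra.algebraMapSubmonoid C Q.primeCompl)) :=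
    IsLocalization.flat _ (Algebra.algebraMapSubmonoid C Q.primeCompl)
  have hRCT := (Groth.Agent.Helper2.RedComp.geomReducedFibres_comp R C
      (Localization (Algebra.algebraMapSubmonoid C Q.primeCompl)) hRC
      (fun q _ => Groth.Agent.Helper2.LocHom.geomReducedFibres_localization_self C
        (Algebra.algebraMapSubmonoid C Q.primeCompl) _ q)).2
  have hY := hRCT (Q.under R)
  have hlin : ∀ z : (Q.under R).ResidueField,
      e (algebraMap (Q.under R).ResidueField (Q.Fiber C) z) =
        algebraMap (Q.under R).ResidueField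
          ((Q.under R).Fiber (Localization (Algebra.algebraMapSubmonoid C Q.primeCompl))) z := by
    have h1 : (e : Q.Fiber C →+* _).comp (algebraMap (Q.under R).ResidueField (Q.Fiber C)) =
        algebraMap (Q.under R).ResidueField
          ((Q.under R).Fiber (Localization (Algebra.algebraMapSubmonoid C Q.primeCompl))) := by
      apply Ideal.ResidueField.ringHom_ext
      ext r
      simp only [RingHom.comp_apply]
      have e1 : algebraMap (Q.under R).ResidueField (Q.Fiber C)
          (algebraMap R (Q.under R).ResidueField r) =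
          (1 : Q.ResidueField) ⊗ₜ[H] (algebraMap R C r) := by
        rw [Algebra.TensorProduct.algebraMap_apply,
          ← IsScalarTower.algebraMap_apply R (Q.under R).ResidueField Q.ResidueField,
          IsScalarTower.algebraMap_apply R H Q.ResidueField,
          Algebra.algebraMap_eq_smul_one, TensorProduct.smul_tmul, ← Algebra.algebraMap_eq_smul_one,
          ← IsScalarTower.algebraMap_apply]
      rw [e1]
      show e ((1 : Q.ResidueField) ⊗ₜ[H] (algebraMap R C r)) = _
      rw [he, ← IsScalarTower.algebraMap_apply, Algebra.TensorProduct.algebraMap_apply,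
        Algebra.algebraMap_self, RingHom.id_apply, Algebra.algebraMap_eq_smul_one (A := Localization _),
        ← TensorProduct.smul_tmul, ← Algebra.algebraMap_eq_smul_one]
    exact fun z => RingHom.congr_fun h1 z
  let e' : Q.Fiber C ≃ₐ[(Q.under R).ResidueField]
      (Q.under R).Fiber (Localization (Algebra.algebraMapSubmonoid C Q.primeCompl)) :=
    AlgEquiv.ofRingEquiv (f := e) hlin
  haveI := hY
  exact Algebra.IsGeometricallyReduced.of_injective e'.toAlgHom e'.injective

end Cancel

end Groth.Agent.Helper2.ZK
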