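import Mathlib
import Groth.Prelude
import Groth.Agent.Helper2.ZK1

set_option autoImplicit false
set_option linter.style.haveILetI false
set_option linter.unusedSectionVars false
set_option linter.unusedVariables false

universe u
open IsLocalRing TensorProduct

namespace Groth.Agent.Helper2.ZK

open Groth.Agent.Helper1.Hens Groth.Agent.Helper2.HensFib Groth.Agent.Helper2.HensGReg

section Nag
variable (A : Type u) [CommRing A] [IsNoetherianRing A] [IsLocalRing A]

/-- Zariski–Nagata: a Noetherian local ring is Nagata iff its formal fibres are geometrically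
reduced. -/
theorem isNagata_iff_geomReduced : CAlg.IsNagata A ↔ EGA4.HasGeomReducedFormalFibres A := by
  constructor
  · intro hN
    exact (Groth.Agent.Helper2.SemiRed.s2648 A).1
      (fun C _ _ hfin hred => by
        haveI := hfin
        haveI := hred
        exact Groth.Agent.Helper2.SemiRed.s2647 A (fun p _ => hN.2 p) C)
  · intro h
    exact Groth.Agent.Helper2.AnUnr6.s2657 A h

theorem isUniversallyJapanese_iff_geomReduced :
    CAlg.IsUniversallyJapanese A ↔ EGA4.HasGeomReducedFormalFibres A := by
  rw [← isNagata_iff_geomReduced, Groth.Agent.S0567.result A]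
  exact ⟨fun h => ⟨inferInstance, h⟩, fun h => h.2⟩

end Nag

theorem isUniversallyJapanese_of_ringEquiv {S S' : Type u} [CommRing S] [CommRing S']
    (e : S ≃+* S') (h : CAlg.IsUniversallyJapanese S) : CAlg.IsUniversallyJapanese S' := by
  intro T _ _ _ hT
  letI : Algebra S S' := e.toRingHom.toAlgebra
  letI : Algebra S T := ((algebraMap S' T).comp e.toRingHom).toAlgebra
  haveI : IsScalarTower S S' T := IsScalarTower.of_algebraMap_eq (fun _ => rfl)
  have h1 : Algebra.FiniteType S S' :=
    Algebra.FiniteType.of_surjective (Algebra.ofId S S') e.surjective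
  exact h T (Algebra.FiniteType.trans h1 hT)

section Final
variable (R : Type u) [CommRing R] [IsLocalRing R] [IsNoetherianRing R]

theorem hasGeomReducedFormalFibres_hh [IsNoetherianRing (Hh R)]
    (h : EGA4.HasGeomReducedFormalFibres R) : EGA4.HasGeomReducedFormalFibres (Hh R) := by
  have hm : (maximalIdeal R).map (algebraMap R (Hh R)) = maximalIdeal (Hh R) :=
    map_maximalIdeal_of_isHenselization R (Hh R)
  have hk : Function.Surjective (ResidueField.map (algebraMap R (Hh R))) :=
    (residueField_map_bijective_of_isHenselization R (Hh R)).2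
  obtain ⟨e⟩ := Groth.Agent.Helper2.AdicHom.nonempty_cpl_algEquiv R (Hh R) hm hk
  haveI : IsScalarTower R (Hh R) (EGA4.Cpl (Hh R)) := IsScalarTower.of_algebraMap_eq (fun a => rfl)
  haveI := Groth.Agent.Helper2.CplIff.noeth (Hh R)
  haveI := Groth.Agent.Helper2.CplIff.ff (Hh R)
  haveI := Groth.Agent.Helper2.CplIff.ff R
  haveI : Module.Flat R (EGA4.Cpl (Hh R)) :=
    Module.Flat.of_linearEquiv (e.symm.toLinearEquiv)
  have h1 : ∀ (p : Ideal R) [p.IsPrime],
      Algebra.IsGeometricallyReduced p.ResidueField (p.Fiber (EGA4.Cpl (Hh R))) := by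
    intro p _
    haveI : Algebra.IsGeometricallyReduced p.ResidueField (p.Fiber (EGA4.Cpl R)) := h p
    let e' : p.Fiber (EGA4.Cpl R) ≃ₐ[p.ResidueField] p.Fiber (EGA4.Cpl (Hh R)) :=
      Algebra.TensorProduct.congr
        (AlgEquiv.refl : p.ResidueField ≃ₐ[p.ResidueField] p.ResidueField) e
    exact Algebra.IsGeometricallyReduced.of_injective (k := p.ResidueField)
      (A := p.Fiber (EGA4.Cpl (Hh R))) (B := p.Fiber (EGA4.Cpl R)) e'.symm.toAlgHom
      e'.symm.injective
  intro Q _
  exact geomReducedFibres_cancel R (Hh R) (EGA4.Cpl (Hh R)) h1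
    (fun p _ => isVNR_fibre p.ResidueField) (fun Q _ => isSeparable_hens R _ Q) Q

theorem hasGeomReducedFormalFibres_of_hh [IsNoetherianRing (Hh R)]
    (h : EGA4.HasGeomReducedFormalFibres (Hh R)) : EGA4.HasGeomReducedFormalFibres R := by
  have hm : (maximalIdeal R).map (algebraMap R (Hh R)) = maximalIdeal (Hh R) :=
    map_maximalIdeal_of_isHenselization R (Hh R)
  have hk : Function.Surjective (ResidueField.map (algebraMap R (Hh R))) :=
    (residueField_map_bijective_of_isHenselization R (Hh R)).2
  obtain ⟨e⟩ := Groth.Agent.Helper2.AdicHom.nonempty_cpl_algEquiv R (Hh R) hm hk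
  haveI : IsScalarTower R (Hh R) (EGA4.Cpl (Hh R)) := IsScalarTower.of_algebraMap_eq (fun a => rfl)
  haveI := Groth.Agent.Helper2.CplIff.noeth (Hh R)
  haveI := Groth.Agent.Helper2.CplIff.ff (Hh R)
  have hreg := isRegularHom_hens R (ResidueField R)
  haveI : Module.Flat R (Hh R) := hreg.1
  have hf : ∀ (p : Ideal R) [p.IsPrime],
      Algebra.IsGeometricallyReduced p.ResidueField (p.Fiber (Hh R)) :=
    fun p _ => Groth.Agent.Helper2.CplDesc.geomReduced_of_geomRegular _ _ (hreg.2 p).2
  obtain ⟨_, hAC⟩ := Groth.Agent.Helper2.RedComp.geomReducedFibres_comp R (Hh R)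
    (EGA4.Cpl (Hh R)) hf h
  intro p _
  haveI := hAC p
  let e' : p.Fiber (EGA4.Cpl R) ≃ₐ[p.ResidueField] p.Fiber (EGA4.Cpl (Hh R)) :=
    Algebra.TensorProduct.congr
      (AlgEquiv.refl : p.ResidueField ≃ₐ[p.ResidueField] p.ResidueField) e
  exact Algebra.IsGeometricallyReduced.of_injective (k := p.ResidueField)
    e'.toAlgHom e'.injective

/-- **S5039** -/
theorem s5039 (S : Type u) [CommRing S] [IsLocalRing S] [Algebra R S]
    [IsLocalHom (algebraMap R S)] [Hensel.IsHenselization R S] :
    CAlg.IsUniversallyJapanese S ↔ CAlg.IsUniversallyJapanese R := by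
  haveI := Hh.isNoetherianRing R
  have h1 : CAlg.IsUniversallyJapanese S ↔ CAlg.IsUniversallyJapanese (Hh R) :=
    ⟨isUniversallyJapanese_of_ringEquiv (equivOfIsHenselization (R := R) S).toRingEquiv,
      isUniversallyJapanese_of_ringEquiv (equivOfIsHenselization (R := R) S).symm.toRingEquiv⟩
  rw [h1, isUniversallyJapanese_iff_geomReduced, isUniversallyJapanese_iff_geomReduced]
  exact ⟨hasGeomReducedFormalFibres_of_hh R, hasGeomReducedFormalFibres_hh R⟩

end Final

end Groth.Agent.Helper2.ZK
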