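import Mathlib
import Groth.Prelude.Def_Found
import Groth.Prelude.Def_EGA4b
import Groth.Agent.Helper2.CplQuot2
import Groth.Agent.Helper2.GLoc
import Groth.Agent.Helper2.AdicHom
import Groth.Agent.Helper2.ZG9

/-!
# G-rings via the generic formal fibres of the local rings of the integral quotients (S9257)
-/
set_option autoImplicit false
universe u
open IsLocalRing TensorProduct

namespace Groth.Agent.Helper2.ZM

section Q
variable (A A' B : Type u) [CommRing A] [CommRing A'] [CommRing B] [Algebra A A'] [Algebra A B]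
  (p : Ideal A) [p.IsPrime] (p' : Ideal A') [p'.IsPrime] [p'.LiesOver p]

/-- geometric regularity of a fibre of a base change descends to the original fibre -/
theorem geomRegular_fiber_of_baseChange
    (h : CAlg.IsGeometricallyRegular p'.ResidueField (p'.Fiber (A' ⊗[A] B))) :
    CAlg.IsGeometricallyRegular p.ResidueField (p.Fiber B) := by
  letI := Localization.AtPrime.algebraOfLiesOver p p'
  obtain ⟨e⟩ := Groth.Agent.Helper2.RegBC.nonempty_fiber_algEquiv A A' B p p'
  exact Groth.Agent.Helper2.GeomReg.geomRegular_descent p.ResidueField (p.Fiber B) p'.ResidueField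
    (Groth.Agent.Helper2.RegBC.geomRegular_of_algEquiv e h)

end Q

section E
variable {B B' : Type u} [CommRing B] [CommRing B'] [IsNoetherianRing B] [IsNoetherianRing B']
  [IsLocalRing B] [IsLocalRing B']

/-- geometric regularity of a formal fibre is invariant under ring isomorphisms -/
theorem geomRegular_formalFibre_of_ringEquiv (e : B ≃+* B') (p : Ideal B) [p.IsPrime]
    (p' : Ideal B') [p'.IsPrime] (hp : p'.comap (e : B →+* B') = p)
    (h : CAlg.IsGeometricallyRegular p'.ResidueField (EGA4.formalFibre B' p')) :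
    CAlg.IsGeometricallyRegular p.ResidueField (EGA4.formalFibre B p) := by
  letI : Algebra B B' := (e : B →+* B').toAlgebra
  haveI : p'.LiesOver p := ⟨hp.symm⟩
  have hsurj : Function.Surjective (algebraMap B B') := e.surjective
  haveI : IsLocalHom (algebraMap B B') := by
    change IsLocalHom (e : B →+* B')
    exact ⟨fun a ha => by
      have := ha.map (e.symm : B' →+* B)
      simpa using this⟩
  haveI : IsLocalization (⊥ : Submonoid B) B' :=
    IsLocalization.of_le_isUnit_of_bijective (by
      rintro _ ⟨x, hx, rfl⟩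
      have hx1 : x = 1 := Submonoid.mem_bot.mp hx
      subst hx1
      simp) e.bijective
  haveI : Module.Flat B B' := IsLocalization.flat B' (⊥ : Submonoid B)
  have hm : (maximalIdeal B).map (algebraMap B B') = maximalIdeal B' :=
    IsLocalRing.eq_maximalIdeal
      ((Ideal.isMaximal_map_iff_of_bijective (algebraMap B B') e.bijective).mpr
        (maximalIdeal.isMaximal B))
  have hk : Function.Surjective (ResidueField.map (algebraMap B B')) := by
    intro y
    obtain ⟨b', rfl⟩ := IsLocalRing.residue_surjective y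
    obtain ⟨b, rfl⟩ := hsurj b'
    exact ⟨IsLocalRing.residue B b, ResidueField.map_residue _ _⟩
  obtain ⟨ê⟩ := Groth.Agent.Helper2.AdicHom.nonempty_cpl_algEquiv B B' hm hk
  haveI : IsScalarTower B B' (EGA4.Cpl B') := IsScalarTower.of_algebraMap_eq (fun a => rfl)
  let f : B' ⊗[B] EGA4.Cpl B →ₐ[B'] EGA4.Cpl B' :=
    Algebra.TensorProduct.lift (Algebra.ofId _ _) ê.toAlgHom (fun _ _ => Commute.all _ _)
  have hf : ∀ x : EGA4.Cpl B, f ((1 : B') ⊗ₜ[B] x) = ê x := by
    intro x
    simp only [f, Algebra.TensorProduct.lift_tmul, map_one, one_mul]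
    rfl
  have hbij : Function.Bijective f := by
    constructor
    · rw [injective_iff_map_eq_zero]
      intro z hz
      obtain ⟨x, rfl⟩ := Algebra.TensorProduct.includeRight_surjective (R := B) (S := B')
        (EGA4.Cpl B) hsurj z
      rw [Algebra.TensorProduct.includeRight_apply, hf] at hz
      have hx : x = 0 := by
        have := ê.injective (hz.trans (map_zero ê).symm)
        exact this
      rw [hx, map_zero]
    · intro y
      obtain ⟨x, rfl⟩ := ê.surjective y
      exact ⟨(1 : B') ⊗ₜ[B] x, hf x⟩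
  let F : B' ⊗[B] EGA4.Cpl B ≃ₐ[B'] EGA4.Cpl B' := AlgEquiv.ofBijective f hbij
  let e' : p'.Fiber (B' ⊗[B] EGA4.Cpl B) ≃ₐ[p'.ResidueField] p'.Fiber (EGA4.Cpl B') :=
    Algebra.TensorProduct.congr (AlgEquiv.refl : p'.ResidueField ≃ₐ[p'.ResidueField] p'.ResidueField) F
  exact geomRegular_fiber_of_baseChange B B' (EGA4.Cpl B) p p'
    (Groth.Agent.Helper2.RegBC.geomRegular_of_algEquiv e'.symm h)

end E

section QF
variable (A : Type u) [CommRing A] [IsNoetherianRing A] [IsLocalRing A] (I : Ideal A) [I.IsPrime]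

/-- the formal fibre of `A` at `I` is geometrically regular as soon as the generic formal fibre of
`A/I` is -/
theorem geomRegular_formalFibre_of_quotient
    (h : CAlg.IsGeometricallyRegular (⊥ : Ideal (A ⧸ I)).ResidueField
      (EGA4.formalFibre (A ⧸ I) ⊥)) :
    CAlg.IsGeometricallyRegular I.ResidueField (EGA4.formalFibre A I) := by
  obtain ⟨c⟩ := Groth.Agent.Helper2.CplQuot.nonempty_algEquiv A I
  let c' : (⊥ : Ideal (A ⧸ I)).Fiber ((A ⧸ I) ⊗[A] EGA4.Cpl A) ≃ₐ[(⊥ : Ideal (A ⧸ I)).ResidueField]
      (⊥ : Ideal (A ⧸ I)).Fiber (EGA4.Cpl (A ⧸ I)) :=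
    Algebra.TensorProduct.congr (AlgEquiv.refl : (⊥ : Ideal (A ⧸ I)).ResidueField
      ≃ₐ[(⊥ : Ideal (A ⧸ I)).ResidueField] (⊥ : Ideal (A ⧸ I)).ResidueField) c
  have h2 : CAlg.IsGeometricallyRegular (⊥ : Ideal (A ⧸ I)).ResidueField
      ((⊥ : Ideal (A ⧸ I)).Fiber ((A ⧸ I) ⊗[A] EGA4.Cpl A)) :=
    Groth.Agent.Helper2.RegBC.geomRegular_of_algEquiv c'.symm h
  haveI : (⊥ : Ideal (A ⧸ I)).LiesOver I := by
    refine ⟨?_⟩
    rw [Ideal.under_def, Ideal.Quotient.algebraMap_eq, ← RingHom.ker_eq_comap_bot, Ideal.mk_ker]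
  exact geomRegular_fiber_of_baseChange A (A ⧸ I) (EGA4.Cpl A) I ⊥ h2

end QF

section Main
variable (R : Type u) [CommRing R] [IsNoetherianRing R]

omit [IsNoetherianRing R] in
theorem nonempty_quot_equiv (q p : Ideal R) [q.IsPrime] [p.IsPrime] (hqp : q ≤ p)
    (P : Ideal (R ⧸ q)) [P.IsPrime] (hP : P = p.map (Ideal.Quotient.mk q)) :
    Nonempty ((Localization.AtPrime p ⧸ q.map (algebraMap R (Localization.AtPrime p))) ≃+*
      Localization.AtPrime P) := by
  subst hP
  haveI := Groth.Agent.Helper2.ZG.isLocalization_quot q p hqp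
  exact ⟨(IsLocalization.algEquiv (p.map (Ideal.Quotient.mk q)).primeCompl
    (Localization.AtPrime p ⧸ q.map (algebraMap R (Localization.AtPrime p)))
    (Localization.AtPrime (p.map (Ideal.Quotient.mk q)))).toRingEquiv⟩

theorem transportGR {A C : Type u} [CommRing A] [CommRing C] [Algebra A C] (I 𝔮 : Ideal A)
    [I.IsPrime] [𝔮.IsPrime] (h : I = 𝔮)
    (H : CAlg.IsGeometricallyRegular I.ResidueField (I.Fiber C)) :
    CAlg.IsGeometricallyRegular 𝔮.ResidueField (𝔮.Fiber C) := by
  subst h; exact H

theorem s9257 :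
    CAlg.IsGRing R ↔
      ∀ (q : Ideal R) [q.IsPrime] (P : Ideal (R ⧸ q)) [P.IsPrime],
        CAlg.IsGeometricallyRegular (⊥ : Ideal (Localization.AtPrime P)).ResidueField
          (EGA4.formalFibre (Localization.AtPrime P) (⊥ : Ideal (Localization.AtPrime P))) := by
  constructor
  · intro hG q _ P _
    set p : Ideal R := P.comap (Ideal.Quotient.mk q) with hp
    haveI : p.IsPrime := Ideal.comap_isPrime _ _
    have hqp : q ≤ p := by
      intro x hx
      rw [hp, Ideal.mem_comap, Ideal.Quotient.eq_zero_iff_mem.mpr hx]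
      exact zero_mem _
    have hP : P = p.map (Ideal.Quotient.mk q) := by
      rw [hp, Ideal.map_comap_of_surjective _ Ideal.Quotient.mk_surjective]
    haveI : Nontrivial (Localization.AtPrime p ⧸ q.map (algebraMap R (Localization.AtPrime p))) :=
      Ideal.Quotient.nontrivial_iff.mpr (Groth.Agent.Helper2.ZG.map_ne_top q p hqp)
    have h1 := hG.2 p
    have h2 := Groth.Agent.Helper2.CplQuot2.isRegularHom_cpl_quotient (Localization.AtPrime p)
      (q.map (algebraMap R (Localization.AtPrime p))) h1
    obtain ⟨e⟩ := nonempty_quot_equiv R q p hqp P hP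
    have h3 := Groth.Agent.Helper2.GLoc.isRegularHom_cpl_of_ringEquiv e h2
    exact (h3.2 ⊥).2
  · intro H
    refine ⟨inferInstance, fun p hp => ?_⟩
    haveI := Groth.Agent.Helper2.CplIff.noeth (Localization.AtPrime p)
    refine ⟨AdicCompletion.flat_of_isNoetherian _, fun 𝔮 h𝔮 =>
      ⟨Groth.Agent.Helper2.RegBC.isNoetherianRing_fiber (Localization.AtPrime p)
        (EGA4.Cpl (Localization.AtPrime p)) 𝔮, ?_⟩⟩
    set q : Ideal R := 𝔮.comap (algebraMap R (Localization.AtPrime p)) with hq
    haveI : q.IsPrime := Ideal.comap_isPrime _ _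
    have hqp : q ≤ p := by
      have h0 := IsLocalization.AtPrime.under_maximalIdeal (Localization.AtPrime p) p
      rw [Ideal.under_def] at h0
      calc q ≤ (maximalIdeal (Localization.AtPrime p)).comap (algebraMap R (Localization.AtPrime p)) :=
            Ideal.comap_mono (IsLocalRing.le_maximalIdeal h𝔮.ne_top)
        _ = p := h0
    have h𝔮' : q.map (algebraMap R (Localization.AtPrime p)) = 𝔮 :=
      IsLocalization.map_under p.primeCompl (Localization.AtPrime p) 𝔮
    haveI hPprime := Groth.Agent.Helper2.ZG.isPrime_map_mk q p hqp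
    obtain ⟨e⟩ := nonempty_quot_equiv R q p hqp (p.map (Ideal.Quotient.mk q)) rfl
    have HP := H q (p.map (Ideal.Quotient.mk q))
    haveI hIprime := Groth.Agent.Helper2.ZG.isPrime_map_loc q p hqp
    haveI : Nontrivial (Localization.AtPrime p ⧸ q.map (algebraMap R (Localization.AtPrime p))) :=
      Ideal.Quotient.nontrivial_iff.mpr (Groth.Agent.Helper2.ZG.map_ne_top q p hqp)
    haveI : IsDomain (Localization.AtPrime p ⧸ q.map (algebraMap R (Localization.AtPrime p))) :=
      Ideal.Quotient.isDomain _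
    have h1 : CAlg.IsGeometricallyRegular
        (⊥ : Ideal (Localization.AtPrime p ⧸ q.map (algebraMap R (Localization.AtPrime p)))).ResidueField
        (EGA4.formalFibre (Localization.AtPrime p ⧸ q.map (algebraMap R (Localization.AtPrime p))) ⊥) := by
      refine geomRegular_formalFibre_of_ringEquiv e ⊥ ⊥ ?_ HP
      rw [← RingHom.ker_eq_comap_bot]
      exact (RingHom.injective_iff_ker_eq_bot _).mp e.injective
    have h3 := geomRegular_formalFibre_of_quotient (Localization.AtPrime p)
      (q.map (algebraMap R (Localization.AtPrime p))) h1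
    exact transportGR _ _ h𝔮' h3

end Main

end Groth.Agent.Helper2.ZM
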