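import Mathlib
import Groth.Agent.S0543
import Groth.Agent.S2321
import Groth.Agent.Helper3.SuppBC
import Groth.Agent.Helper2.ComplReg

/-!
# Dimension of the completion of a finite module over a semi-local ring (S5811)
-/
set_option autoImplicit false
universe u
open TensorProduct

namespace Groth.Agent.Helper2.ZN

section Gen
variable {A B : Type u} [CommRing A] [CommRing B] [Algebra A B]

/-- if every maximal ideal of `B` is extended from `A`, then `dim B/pB ≤ dim A/p` -/
theorem ringKrullDim_quot_le [IsNoetherianRing A] [IsNoetherianRing B]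
    (hmax : ∀ 𝔫 : Ideal B, 𝔫.IsMaximal → (𝔫.under A).map (algebraMap A B) = 𝔫)
    (p : Ideal A) :
    ringKrullDim (B ⧸ p.map (algebraMap A B)) ≤ ringKrullDim (A ⧸ p) := by
  rw [ringKrullDim_le_iff_isMaximal_height_le]
  intro 𝔫' h𝔫'
  set 𝔫 : Ideal B := 𝔫'.comap (Ideal.Quotient.mk (p.map (algebraMap A B))) with h𝔫
  haveI : 𝔫.IsMaximal := Ideal.comap_isMaximal_of_surjective _ Ideal.Quotient.mk_surjective
  have h1 := hmax 𝔫 inferInstance
  haveI : 𝔫'.IsPrime := h𝔫'.isPrime
  set p' : Ideal (A ⧸ p) := 𝔫'.under (A ⧸ p) with hp'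
  haveI : p'.IsPrime := Ideal.IsPrime.under _ _
  haveI : 𝔫'.LiesOver p' := ⟨rfl⟩
  have h2 := Ideal.height_le_height_add_of_liesOver p' 𝔫'
  have h3 : 𝔫' ≤ p'.map (algebraMap (A ⧸ p) (B ⧸ p.map (algebraMap A B))) := by
    intro x hx
    obtain ⟨y, rfl⟩ := Ideal.Quotient.mk_surjective x
    have hy : y ∈ 𝔫 := hx
    rw [← h1] at hy
    have hle : (𝔫.under A).map (algebraMap A B) ≤
        (p'.map (algebraMap (A ⧸ p) (B ⧸ p.map (algebraMap A B)))).comap
          (Ideal.Quotient.mk (p.map (algebraMap A B))) := by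
      rw [Ideal.map_le_iff_le_comap]
      intro a ha
      rw [Ideal.mem_comap, Ideal.mem_comap]
      have e1 : Ideal.Quotient.mk (p.map (algebraMap A B)) (algebraMap A B a) =
          algebraMap (A ⧸ p) (B ⧸ p.map (algebraMap A B)) (Ideal.Quotient.mk p a) := rfl
      rw [e1]
      apply Ideal.mem_map_of_mem
      rw [hp', Ideal.mem_comap, ← e1]
      exact ha
    exact hle hy
  have h4 : 𝔫'.map (Ideal.Quotient.mk
      (p'.map (algebraMap (A ⧸ p) (B ⧸ p.map (algebraMap A B))))) = ⊥ := by
    rw [Ideal.map_eq_bot_iff_le_ker, Ideal.mk_ker]; exact h3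
  have hne : p'.map (algebraMap (A ⧸ p) (B ⧸ p.map (algebraMap A B))) ≠ ⊤ :=
    ne_top_of_le_ne_top h𝔫'.ne_top (Ideal.map_le_iff_le_comap.mpr le_rfl)
  haveI : Nontrivial ((B ⧸ p.map (algebraMap A B)) ⧸
      p'.map (algebraMap (A ⧸ p) (B ⧸ p.map (algebraMap A B)))) :=
    Ideal.Quotient.nontrivial_iff.mpr hne
  rw [h4, Ideal.height_bot, add_zero] at h2
  calc (𝔫'.height : WithBot ℕ∞) ≤ p'.height := by exact_mod_cast h2
    _ ≤ ringKrullDim (A ⧸ p) :=
      Ideal.height_le_ringKrullDim_of_ne_top (Ideal.IsPrime.ne_top inferInstance)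

theorem supportDim_baseChange_eq [IsNoetherianRing A] [IsNoetherianRing B] [Module.FaithfullyFlat A B]
    (hmax : ∀ 𝔫 : Ideal B, 𝔫.IsMaximal → (𝔫.under A).map (algebraMap A B) = 𝔫)
    (M : Type u) [AddCommGroup M] [Module A M] [Module.Finite A M] :
    Module.supportDim B (B ⊗[A] M) = Module.supportDim A M := by
  apply le_antisymm
  · unfold Module.supportDim
    rw [Order.krullDim]
    apply iSup_le
    intro l
    set q0 : PrimeSpectrum B := (l.head : PrimeSpectrum B) with hq0
    set p0 : PrimeSpectrum A := q0.comap (algebraMap A B) with hp0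
    have hp0M : p0 ∈ Module.support A M :=
      (Groth.Agent.Helper3.SuppBC.mem_support_baseChange_iff q0).mp l.head.2
    have h1 : (l.length : WithBot ℕ∞) ≤ ringKrullDim (B ⧸ p0.asIdeal.map (algebraMap A B)) := by
      rw [ringKrullDim_quotient]
      let l' : LTSeries (PrimeSpectrum.zeroLocus (p0.asIdeal.map (algebraMap A B) : Set B)) :=
        { length := l.length
          toFun := fun i => ⟨(l i : PrimeSpectrum B), by
            rw [PrimeSpectrum.mem_zeroLocus, SetLike.coe_subset_coe, Ideal.map_le_iff_le_comap]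
            have hle : l.head ≤ l i := LTSeries.head_le l i
            have hle' : q0.asIdeal ≤ (l i : PrimeSpectrum B).asIdeal := hle
            exact fun a ha => hle' ha⟩
          step := fun i => l.step i }
      exact Order.LTSeries.length_le_krullDim l'
    have h2 := ringKrullDim_quot_le hmax p0.asIdeal
    have h3 : ringKrullDim (A ⧸ p0.asIdeal) ≤ Order.krullDim (Module.support A M) := by
      rw [ringKrullDim_quotient]
      have hsub : PrimeSpectrum.zeroLocus (p0.asIdeal : Set A) ⊆ Module.support A M := by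
        intro x hx
        rw [PrimeSpectrum.mem_zeroLocus, SetLike.coe_subset_coe] at hx
        exact Module.mem_support_mono (p := p0) (q := x) hx hp0M
      exact Order.krullDim_le_of_strictMono (Set.inclusion hsub) (fun _ _ h => h)
    exact h1.trans (h2.trans h3)
  · unfold Module.supportDim
    rw [Order.krullDim]
    apply iSup_le
    intro l
    let l0 : LTSeries (PrimeSpectrum A) := l.map Subtype.val (fun _ _ h => h)
    haveI : Algebra.HasGoingDown A B := Algebra.HasGoingDown.of_flat
    obtain ⟨P, hP⟩ := PrimeSpectrum.comap_surjective_of_faithfullyFlat (A := A) (B := B) l0.last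
    haveI : P.asIdeal.LiesOver l0.last.asIdeal := ⟨by rw [← hP]; rfl⟩
    obtain ⟨L, hL, -, hmap⟩ := Ideal.exists_ltSeries_of_hasGoingDown l0 P.asIdeal
    have hmem : ∀ i, L i ∈ Module.support B (B ⊗[A] M) := by
      intro i
      rw [Groth.Agent.Helper3.SuppBC.mem_support_baseChange_iff]
      have h1 : L i ∈ L.toList := RelSeries.mem_toList.mpr ⟨i, rfl⟩
      have h2 : PrimeSpectrum.comap (algebraMap A B) (L i) ∈ l0.toList := by
        rw [← hmap]
        exact List.mem_map_of_mem h1
      obtain ⟨j, hj⟩ := RelSeries.mem_toList.mp h2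
      rw [← hj]
      exact (l j).2
    let L' : LTSeries (Module.support B (B ⊗[A] M)) :=
      { length := L.length
        toFun := fun i => ⟨L i, hmem i⟩
        step := fun i => L.step i }
    have hlen : L'.length = l.length := hL
    rw [← hlen]
    exact Order.LTSeries.length_le_krullDim L'

end Gen

theorem s5811 (A : Type u) [CommRing A] [IsNoetherianRing A]
    (M : Type u) [AddCommGroup M] [Module A M] [Module.Finite A M] :
    Module.supportDim (AdicCompletion (Ring.jacobson A) A) (AdicCompletion (Ring.jacobson A) M) =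
      Module.supportDim A M := by
  haveI : IsNoetherianRing (AdicCompletion (Ring.jacobson A) A) :=
    Groth.Agent.S0543.result A (Ring.jacobson A)
  haveI : Module.FaithfullyFlat A (AdicCompletion (Ring.jacobson A) A) :=
    ((Groth.Agent.S2321.result A (Ring.jacobson A)).out 0 1).mp (Ideal.jacobson_bot (R := A)).ge
  have e := AdicCompletion.ofTensorProductEquivOfFiniteNoetherian (Ring.jacobson A) M
  rw [Module.supportDim, ← e.support_eq]
  refine supportDim_baseChange_eq ?_ M
  intro 𝔫 h𝔫
  obtain ⟨m, hm, hmM⟩ := Groth.Agent.Helper2.ComplReg.exists_maximal A (Ring.jacobson A) 𝔫 h𝔫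
  have h1 : m ≤ 𝔫.under A := by rw [Ideal.under_def, ← Ideal.map_le_iff_le_comap, hmM]
  have h2 : m = 𝔫.under A := hm.eq_of_le (Ideal.comap_ne_top _ h𝔫.ne_top) h1
  rw [← h2, hmM]

end Groth.Agent.Helper2.ZN
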