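import Mathlib
import Groth.Prelude
import Groth.Agent.Helper2.ZV1

set_option autoImplicit false
set_option linter.style.haveILetI false
set_option linter.unusedSectionVars false
universe u
open TensorProduct IsLocalRing

namespace Groth.Agent.Helper2.ZV

section Main
variable (A B : Type u) [CommRing A] [CommRing B] [IsNoetherianRing A] [IsNoetherianRing B]
  [Algebra A B] (hft : Algebra.FiniteType A B) (J : Ideal B)
  {F E0 E1 G : Type u} [AddCommGroup F] [Module B F] [Module A F] [IsScalarTower A B F]
  [Module.Finite B F]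
  [AddCommGroup E0] [Module B E0] [Module A E0] [IsScalarTower A B E0] [Module.Finite B E0]
  [Module.Flat A E0]
  [AddCommGroup E1] [Module B E1] [Module A E1] [IsScalarTower A B E1] [Module.Finite B E1]
  [Module.Flat A E1]
  [AddCommGroup G] [Module B G] [Module A G] [IsScalarTower A B G] [Module.Finite B G]
  (f : F →ₗ[B] E0) (u : E0 →ₗ[B] E1) (v : E1 →ₗ[B] G)

include hft in
theorem s18725
    (hf : Function.Injective f) (hfu : Function.Exact f u) (huv : Function.Exact u v)
    (hv : Function.Surjective v)
    (hGU : ∀ q : PrimeSpectrum B, ¬ J ≤ q.asIdeal → FlatCA.FlatAt A q.asIdeal G)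
    (h0 : ∀ q : PrimeSpectrum B, J ≤ q.asIdeal →
      2 ≤ LocCoh.idealDepth (q.asIdeal.map (algebraMap B (EGA4.FibLocRing A B q.asIdeal)))
        (EGA4.FibLocMod A B q.asIdeal E0))
    (h1 : ∀ q : PrimeSpectrum B, J ≤ q.asIdeal →
      1 ≤ LocCoh.idealDepth (q.asIdeal.map (algebraMap B (EGA4.FibLocRing A B q.asIdeal)))
        (EGA4.FibLocMod A B q.asIdeal E1))
    (n : PrimeSpectrum B) :
    FlatCA.FlatAt A n.asIdeal G ↔
      ∃ s : B, s ∉ n.asIdeal ∧ ∀ q : PrimeSpectrum B, s ∉ q.asIdeal →
        FlatCA.FlatAt A q.asIdeal F ∧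
        (J ≤ q.asIdeal →
          2 ≤ LocCoh.idealDepth (q.asIdeal.map (algebraMap B (EGA4.FibLocRing A B q.asIdeal)))
            (EGA4.FibLocMod A B q.asIdeal F)) := by
  haveI := hft
  constructor
  · intro hn
    have hopen := Groth.Agent.Helper2.NoethOpen.isOpen_flatLocus (A := A) (B := B) G
    obtain ⟨_, ⟨s, rfl⟩, hns, hsub⟩ :=
      PrimeSpectrum.isTopologicalBasis_basic_opens.exists_subset_of_mem_open
        (show n ∈ {q : PrimeSpectrum B | Module.Flat A (LocalizedModule q.asIdeal.primeCompl G)}
          from hn) hopen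
    refine ⟨s, hns, fun q hsq => ?_⟩
    have hGq : Module.Flat A (LocalizedModule q.asIdeal.primeCompl G) := hsub hsq
    refine ⟨?_, fun hJ => ?_⟩
    · have hK : Module.Flat A (LocalizedModule q.asIdeal.primeCompl (LinearMap.range u)) :=
        Groth.Agent.Helper2.FourTerm.flat_localized_of_exact (LinearMap.range u).subtype v
          (LinearMap.range u).injective_subtype
          (by
            intro x
            rw [huv x]
            constructor
            · intro h; exact ⟨⟨x, h⟩, rfl⟩
            · rintro ⟨y, rfl⟩; exact y.2) hv q.asIdeal.primeCompl hGq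
      exact Groth.Agent.Helper2.FourTerm.flat_localized_of_exact f u.rangeRestrict hf
        (Groth.Agent.Helper2.FourTerm.exact_rangeRestrict f u hfu) u.surjective_rangeRestrict
        q.asIdeal.primeCompl hK
    · exact fibdepth_of_flatAt A B f u v hf hfu huv hv q.asIdeal hGq (h0 q hJ) (h1 q hJ)
  · rintro ⟨s, hsn, H⟩
    have key : ∀ k : ℕ, ∀ q : PrimeSpectrum B, q.asIdeal.height < (k : ℕ∞) → s ∉ q.asIdeal →
        Module.Flat A (LocalizedModule q.asIdeal.primeCompl G) := by
      intro k
      induction k with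
      | zero =>
        intro q hq
        exact absurd hq (by simp)
      | succ k ih =>
        intro q hq hs
        by_cases hJ : J ≤ q.asIdeal
        · have hqk : q.asIdeal.height ≤ (k : ℕ∞) := by
            rw [Nat.cast_add, Nat.cast_one] at hq
            exact (ENat.lt_add_one_iff (ENat.coe_ne_top k)).1 hq
          refine flatAt_of_fibdepth A B f u v hf hfu huv hv q.asIdeal (fun q' _ hlt => ?_)
            (le_trans (by norm_num) (h0 q hJ)) ((H q hs).2 hJ)
          refine ih ⟨q', inferInstance⟩ ?_ (fun hsq' => hs (hlt.le hsq'))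
          exact lt_of_lt_of_le (Ideal.height_strict_mono_of_isPrime_of_isPrime hlt) hqk
        · exact hGU q hJ
    obtain ⟨m, hm⟩ := ENat.ne_top_iff_exists.1 (Ideal.height_ne_top n.2.ne_top)
    refine key (m + 1) n ?_ hsn
    rw [← hm]
    exact_mod_cast Nat.lt_succ_self m

end Main

end Groth.Agent.Helper2.ZV
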