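import Mathlib
import Groth.Prelude
import Groth.Agent.Helper1.LocCohIso
import Groth.Agent.Helper1.ExtCechBot

set_option autoImplicit false
set_option linter.style.haveILetI false
set_option linter.unusedSectionVars false
universe u
open CategoryTheory Limits

namespace Groth.Agent.Helper2.ZW
open Groth.Agent.Helper1.LocCohDelta

variable {R : Type u} [CommRing R] [IsNoetherianRing R] (J : Ideal R)

lemma isZero_lc_of_subsingleton (M : ModuleCat.{u} R) [Subsingleton M] (i : ℕ) :
    IsZero ((localCohomology J i).obj M) := by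
  haveI : (localCohomology J i).PreservesZeroMorphisms :=
    Functor.preservesZeroMorphisms_of_iso (lcIso J i).symm
  exact Functor.map_isZero _ (ModuleCat.isZero_of_subsingleton M)

/-- elementwise torsion by generators gives `J`-power torsion -/
lemma mem_torsionSub_of_forall (M : Type u) [AddCommGroup M] [Module R M] (x : M)
    (h : ∀ r ∈ J, ∃ k : ℕ, r ^ k • x = 0) : x ∈ DRing.torsionSub J M := by
  classical
  obtain ⟨s, hs⟩ : J.FG := IsNoetherian.noetherian J
  have hset : {a : R | a ∈ s.toList} = (s : Set R) := by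
    ext a
    simp
  have hJ : J = Ideal.span {a : R | a ∈ s.toList} := by
    rw [hset]
    exact hs.symm
  rw [hJ, Groth.Agent.Helper1.ExtCech.mem_torsionSub_span_iff']
  intro g hg
  apply h g
  rw [← hs]
  exact Ideal.subset_span (by simpa using hg)

theorem chase {MF M0 M1 MG : ModuleCat.{u} R} (a : MF ⟶ M0) (b : M0 ⟶ M1) (c : M1 ⟶ MG)
    (hab : ∀ x, b.hom (a.hom x) = 0) (hbc : Function.Exact b.hom c.hom)
    (hc : Function.Surjective c.hom)
    (t1 : ∀ x ∈ LinearMap.ker a.hom, ∀ r ∈ J, ∃ k : ℕ, r ^ k • x = 0)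
    (t2 : ∀ z ∈ LinearMap.ker b.hom, ∀ r ∈ J, ∃ k : ℕ, r ^ k • z ∈ LinearMap.range a.hom)
    (d0 : IsZero ((localCohomology J 1).obj M0))
    (d1 : IsZero ((localCohomology J 0).obj M1))
    (h : IsZero ((localCohomology J 2).obj MF)) :
    IsZero ((localCohomology J 0).obj MG) := by
  let Z : ModuleCat.{u} R := ModuleCat.of R (LinearMap.ker b.hom)
  let a' : MF ⟶ Z := ModuleCat.ofHom (a.hom.codRestrict (LinearMap.ker b.hom)
    (fun x => LinearMap.mem_ker.2 (hab x)))
  have hiso : IsIso ((localCohomology J 2).map a') := by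
    refine isIso_lc_map_of_isTors J a' ?_ ?_ 0
    · intro x hx
      apply mem_torsionSub_of_forall J MF x
      apply t1 x
      rw [LinearMap.mem_ker] at hx ⊢
      exact congrArg Subtype.val hx
    · intro y
      obtain ⟨z, rfl⟩ := Submodule.Quotient.mk_surjective _ y
      apply mem_torsionSub_of_forall J
      intro r hr
      obtain ⟨k, x, hx⟩ := t2 z.1 z.2 r hr
      refine ⟨k, ?_⟩
      rw [← Submodule.Quotient.mk_smul, Submodule.Quotient.mk_eq_zero]
      exact ⟨x, Subtype.ext hx⟩
  have hZ : IsZero ((localCohomology J 2).obj Z) :=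
    IsZero.of_iso h (asIso ((localCohomology J 2).map a')).symm
  have hK1 : IsZero ((localCohomology J 1).obj (kerSC b).X₃) :=
    (lc_exact₃ J (kerSC b) (kerSC_shortExact b) 1).isZero_of_both_isZero d0 hZ
  let S4 : ShortComplex (ModuleCat.{u} R) :=
    ShortComplex.mk (ModuleCat.ofHom (LinearMap.range b.hom).subtype) c (by
      ext ⟨y, x, rfl⟩
      exact (hbc _).2 ⟨x, rfl⟩)
  have hS4 : S4.ShortExact :=
    { exact := by
        rw [ShortComplex.moduleCat_exact_iff]
        intro y hy
        exact ⟨⟨y, (hbc y).1 hy⟩, rfl⟩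
      mono_f := (ModuleCat.mono_iff_injective _).2 (Submodule.injective_subtype _)
      epi_g := (ModuleCat.epi_iff_surjective _).2 hc }
  exact (lc_exact₃ J S4 hS4 0).isZero_of_both_isZero d1 hK1

end Groth.Agent.Helper2.ZW
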