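import Mathlib
import Groth.Prelude
import Groth.Agent.Helper2.ZW1
import Groth.Agent.Helper2.FourTerm
import Groth.Agent.Helper2.FlatOff
import Groth.Agent.Helper1.LocCohDepth

set_option autoImplicit false
set_option linter.style.haveILetI false
set_option linter.unusedSectionVars false
universe u
open CategoryTheory Limits TensorProduct Function IsLocalRing

namespace Groth.Agent.Helper2.ZW
open Groth.Agent.Helper1.LocCohDelta Groth.Agent.Helper2.FourTerm

section Main
variable {A B : Type u} [CommRing A] [CommRing B] [IsNoetherianRing A] [IsNoetherianRing B]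
  [IsLocalRing A] [IsLocalRing B] [Algebra A B] [IsLocalHom (algebraMap A B)] (J : Ideal B)
  {F E0 E1 G : Type u} [AddCommGroup F] [Module B F] [Module A F] [IsScalarTower A B F]
  [Module.Finite B F]
  [AddCommGroup E0] [Module B E0] [Module A E0] [IsScalarTower A B E0] [Module.Finite B E0]
  [Module.Flat A E0]
  [AddCommGroup E1] [Module B E1] [Module A E1] [IsScalarTower A B E1] [Module.Finite B E1]
  [Module.Flat A E1]
  [AddCommGroup G] [Module B G] [Module A G] [IsScalarTower A B G] [Module.Finite B G]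
  (f : F →ₗ[B] E0) (u : E0 →ₗ[B] E1) (v : E1 →ₗ[B] G)

lemma isZero_lc_of_le_idealDepth (hJ : J ≠ ⊤) (N : Type u) [AddCommGroup N] [Module B N]
    [Module.Finite B N] (n i : ℕ) (hi : i < n) (h : (n : ℕ∞) ≤ LocCoh.idealDepth J N) :
    IsZero ((localCohomology J i).obj (ModuleCat.of B N)) := by
  by_cases htop : J • (⊤ : Submodule B N) = ⊤
  · haveI := subsingleton_of_smul_top_eq_top J N hJ htop
    exact isZero_lc_of_subsingleton J (ModuleCat.of B N) i
  · haveI : Subsingleton (LocCoh.H J i N) :=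
      (Groth.Agent.Helper1.LocCohDepth.le_idealDepth_iff_lc J N htop n).1 h i hi
    exact ModuleCat.isZero_of_subsingleton _

theorem one_le_depth_G (hf : Injective f) (hfu : Exact f u) (huv : Exact u v)
    (hv : Surjective v)
    (hGU : ∀ q : PrimeSpectrum B, ¬ J ≤ q.asIdeal → FlatCA.FlatAt A q.asIdeal G)
    (h0 : 2 ≤ LocCoh.idealDepth J (EGA4.FibMod A B E0))
    (h1 : 1 ≤ LocCoh.idealDepth J (EGA4.FibMod A B E1))
    (hH2 : Subsingleton (LocCoh.H J 2 (EGA4.FibMod A B F))) :
    1 ≤ LocCoh.idealDepth J (EGA4.FibMod A B G) := by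
  by_cases hJG : J • (⊤ : Submodule B (EGA4.FibMod A B G)) = ⊤
  · unfold LocCoh.idealDepth
    rw [if_pos hJG]
    exact le_top
  have hJ : J ≠ ⊤ := by
    rintro rfl
    exact hJG (Submodule.top_smul _)
  have hUG : ∀ r ∈ J, ∀ (q : Ideal B) [q.IsPrime], r ∉ q →
      Module.Flat A (LocalizedModule q.primeCompl G) := by
    intro r hr q _ hrq
    exact hGU ⟨q, inferInstance⟩ (fun hle => hrq (hle hr))
  have hUK : ∀ r ∈ J, ∀ (q : Ideal B) [q.IsPrime], r ∉ q →
      Module.Flat A (LocalizedModule q.primeCompl (LinearMap.range u)) := by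
    intro r hr q _ hrq
    exact flat_localized_of_exact (LinearMap.range u).subtype v
      (LinearMap.range u).injective_subtype
      (by
        intro x
        rw [huv x]
        constructor
        · intro h; exact ⟨⟨x, h⟩, rfl⟩
        · rintro ⟨y, rfl⟩; exact y.2) hv q.primeCompl (hUG r hr q hrq)
  have key := chase J (ModuleCat.ofHom (fibMap (A := A) f)) (ModuleCat.ofHom (fibMap (A := A) u))
    (ModuleCat.ofHom (fibMap (A := A) v)) ?_ ?_ ?_ ?_ ?_
    (isZero_lc_of_le_idealDepth J hJ (EGA4.FibMod A B E0) 2 1 (by norm_num) (by exact_mod_cast h0))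
    (isZero_lc_of_le_idealDepth J hJ (EGA4.FibMod A B E1) 1 0 (by norm_num) (by exact_mod_cast h1))
    (ModuleCat.isZero_of_subsingleton _)
  · have : Subsingleton (LocCoh.H J 0 (EGA4.FibMod A B G)) :=
      ModuleCat.isZero_iff_subsingleton.1 key
    have h2 := (Groth.Agent.Helper1.LocCohDepth.le_idealDepth_iff_lc J (EGA4.FibMod A B G) hJG 1).2
      (fun i hi => by
        have : i = 0 := by omega
        subst this
        infer_instance)
    exact_mod_cast h2
  · -- hab
    intro x
    obtain ⟨y, rfl⟩ := Submodule.Quotient.mk_surjective _ x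
    show fibMap (A := A) u (fibMap (A := A) f (Submodule.Quotient.mk y)) = 0
    rw [fibMap_mk, fibMap_mk, (hfu _).2 ⟨y, rfl⟩]
    rfl
  · -- hbc
    show Exact (fibMap (A := A) u) (fibMap (A := A) v)
    apply fibMap_exact
    · intro y
      exact (huv _).2 ⟨y, rfl⟩
    · intro x hx
      have hmap : (EGA4.mB A B • ⊤ : Submodule B G) =
          Submodule.map v (EGA4.mB A B • ⊤ : Submodule B E1) := by
        rw [Submodule.map_smul'', Submodule.map_top, LinearMap.range_eq_top.2 hv]
      rw [hmap] at hx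
      obtain ⟨x', hx', hxx⟩ := hx
      have h3 : v (x - x') = 0 := by rw [map_sub, hxx, sub_self]
      obtain ⟨y, hy⟩ := (huv _).1 h3
      refine ⟨y, ?_⟩
      rw [hy, sub_sub_cancel]
      exact hx'
  · -- hc
    show Surjective (fibMap (A := A) v)
    intro z
    obtain ⟨g, rfl⟩ := Submodule.Quotient.mk_surjective _ z
    obtain ⟨x, rfl⟩ := hv g
    exact ⟨Submodule.Quotient.mk x, rfl⟩
  · -- t1
    intro x hx r hr
    obtain ⟨y, rfl⟩ := Submodule.Quotient.mk_surjective _ x
    have hy : f y ∈ (EGA4.mB A B • ⊤ : Submodule B E0) := by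
      have := LinearMap.mem_ker.1 hx
      change fibMap (A := A) f (Submodule.Quotient.mk y) = 0 at this
      rwa [fibMap_mk, Submodule.Quotient.mk_eq_zero] at this
    obtain ⟨n, y', hy', hyy⟩ := exists_pow_smul_mem_map (P := LinearMap.range u) f
      u.rangeRestrict (exact_rangeRestrict f u hfu) u.surjective_rangeRestrict r
      (hUK r hr) (f y) ⟨y, rfl⟩ hy
    rw [← map_smul] at hyy
    refine ⟨n, ?_⟩
    rw [← Submodule.Quotient.mk_smul, Submodule.Quotient.mk_eq_zero, ← hf hyy]
    exact hy'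
  · -- t2
    intro z hz r hr
    obtain ⟨x, rfl⟩ := Submodule.Quotient.mk_surjective _ z
    have hx : u x ∈ (EGA4.mB A B • ⊤ : Submodule B E1) := by
      have := LinearMap.mem_ker.1 hz
      change fibMap (A := A) u (Submodule.Quotient.mk x) = 0 at this
      rwa [fibMap_mk, Submodule.Quotient.mk_eq_zero] at this
    obtain ⟨n, x', hx', hxx⟩ := exists_pow_smul_mem_map (P := G) u v huv hv r (hUG r hr)
      (u x) ⟨x, rfl⟩ hx
    have h3 : u (r ^ n • x - x') = 0 := by rw [map_sub, hxx, map_smul, sub_self]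
    obtain ⟨y, hy⟩ := (hfu _).1 h3
    refine ⟨n, Submodule.Quotient.mk y, ?_⟩
    show fibMap (A := A) f (Submodule.Quotient.mk y) = _
    rw [fibMap_mk, hy, ← Submodule.Quotient.mk_smul, eq_comm, ← sub_eq_zero,
      ← Submodule.Quotient.mk_sub, Submodule.Quotient.mk_eq_zero, sub_sub_cancel]
    exact hx'

theorem s18726 (hf : Injective f) (hfu : Exact f u) (huv : Exact u v)
    (hv : Surjective v)
    (hGU : ∀ q : PrimeSpectrum B, ¬ J ≤ q.asIdeal → FlatCA.FlatAt A q.asIdeal G)
    (h0 : 2 ≤ LocCoh.idealDepth J (EGA4.FibMod A B E0))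
    (h1 : 1 ≤ LocCoh.idealDepth J (EGA4.FibMod A B E1))
    (hH2 : Subsingleton (LocCoh.H J 2 (EGA4.FibMod A B F))) :
    Module.Flat A F ∧ Module.Flat A G ∧ 2 ≤ LocCoh.idealDepth J (EGA4.FibMod A B F) := by
  have hG1 := one_le_depth_G J f u v hf hfu huv hv hGU h0 h1 hH2
  haveI hGflat : Module.Flat A G := Groth.Agent.Helper2.FlatOff.s18705 G J hGU hG1
  exact ⟨flat_F (A := A) f u v hf hfu huv hv, hGflat,
    depth_fib_of_flat J f u v hf hfu huv hv h0 h1⟩

end Main

end Groth.Agent.Helper2.ZW
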