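import Mathlib
import Groth.Prelude.Def_CAlg
import Groth.Agent.Helper7.S2Conn

set_option linter.style.haveILetI false
set_option linter.unusedSectionVars false
set_option autoImplicit false

/-! Connectedness in codimension `d - 1` from depth ≥ 2 at primes of height ≥ d (Hartshorne). -/

namespace Groth.Agent.Helper2.ZX

open IsLocalRing

universe u

variable (A : Type u) [CommRing A]

/-- the link relation on minimal primes -/
def Link (d : ℕ) (p q : PrimeSpectrum A) : Prop :=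
  p.asIdeal ∈ minimalPrimes A ∧ q.asIdeal ∈ minimalPrimes A ∧
    ∃ r : PrimeSpectrum A, p ≤ r ∧ q ≤ r ∧ r.asIdeal.height ≤ (d - 1 : ℕ)

theorem chain_of_reflTransGen (d : ℕ) (p q : PrimeSpectrum A) (hq : q.asIdeal ∈ minimalPrimes A)
    (h : Relation.ReflTransGen (Link A d) p q) :
    ∃ l : List (PrimeSpectrum A), l.head? = some p ∧ l.getLast? = some q ∧
      (∀ x ∈ l, x.asIdeal ∈ minimalPrimes A) ∧
      List.IsChain (fun p q => ∃ r : PrimeSpectrum A, p ≤ r ∧ q ≤ r ∧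
        r.asIdeal.height ≤ (d - 1 : ℕ)) l := by
  induction h using Relation.ReflTransGen.head_induction_on with
  | refl => exact ⟨[q], rfl, rfl, by simpa using hq, List.isChain_singleton _⟩
  | @head a c hab _ ih =>
    obtain ⟨l, h1, h2, h3, h4⟩ := ih
    cases l with
    | nil => simp at h1
    | cons c' l' =>
      have hc : c' = c := by simpa using h1
      subst hc
      refine ⟨a :: c' :: l', rfl, ?_, ?_, ?_⟩
      · rw [List.getLast?_cons_cons]; exact h2
      · intro x hx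
        rcases List.mem_cons.1 hx with rfl | hx
        · exact hab.1
        · exact h3 x hx
      · rw [List.isChain_cons_cons]
        exact ⟨hab.2.2, h4⟩


variable [IsNoetherianRing A]

theorem finite_min : {p : PrimeSpectrum A | p.asIdeal ∈ minimalPrimes A}.Finite := by
  have := (minimalPrimes.finite_of_isNoetherianRing A).preimage
    (f := fun p : PrimeSpectrum A => p.asIdeal)
    (fun a _ b _ hab => PrimeSpectrum.ext hab)
  exact this

theorem isClosed_up (P : Set (PrimeSpectrum A)) (hP : P ⊆ {p | p.asIdeal ∈ minimalPrimes A}) :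
    IsClosed {x : PrimeSpectrum A | ∃ p ∈ P, p ≤ x} := by
  have hfin : P.Finite := (finite_min A).subset hP
  have : {x : PrimeSpectrum A | ∃ p ∈ P, p ≤ x} =
      ⋃ p ∈ P, PrimeSpectrum.zeroLocus (p.asIdeal : Set A) := by
    ext x
    simp only [Set.mem_setOf_eq, Set.mem_iUnion, PrimeSpectrum.mem_zeroLocus, exists_prop]
    rfl
  rw [this]
  exact hfin.isClosed_biUnion (fun p _ => PrimeSpectrum.isClosed_zeroLocus _)

theorem main [ConnectedSpace (PrimeSpectrum A)] (d : ℕ) (hd : 1 ≤ d)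
    (h : ∀ p : PrimeSpectrum A, (d : ℕ∞) ≤ p.asIdeal.height →
      (2 : ℕ∞) ≤ LocCoh.depth (Localization.AtPrime p.asIdeal) (Localization.AtPrime p.asIdeal))
    (p' p'' : PrimeSpectrum A) (hp' : p'.asIdeal ∈ minimalPrimes A)
    (hp'' : p''.asIdeal ∈ minimalPrimes A) : Relation.ReflTransGen (Link A d) p' p'' := by
  classical
  by_contra hcon
  set P1 : Set (PrimeSpectrum A) :=
    {p | p.asIdeal ∈ minimalPrimes A ∧ Relation.ReflTransGen (Link A d) p' p} with hP1
  set P2 : Set (PrimeSpectrum A) :=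
    {p | p.asIdeal ∈ minimalPrimes A ∧ ¬ Relation.ReflTransGen (Link A d) p' p} with hP2
  set t1 : Set (PrimeSpectrum A) := {x | ∃ p ∈ P1, p ≤ x} with ht1
  set t2 : Set (PrimeSpectrum A) := {x | ∃ p ∈ P2, p ≤ x} with ht2
  have hc1 : IsClosed t1 := isClosed_up A P1 (fun p hp => hp.1)
  have hc2 : IsClosed t2 := isClosed_up A P2 (fun p hp => hp.1)
  have hcover : (Set.univ : Set (PrimeSpectrum A)) ⊆ t1 ∪ t2 := by
    intro x _
    obtain ⟨p, hp, hpx⟩ := Ideal.exists_minimalPrimes_le (bot_le : (⊥ : Ideal A) ≤ x.asIdeal)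
    haveI : p.IsPrime := hp.1.1
    by_cases hl : Relation.ReflTransGen (Link A d) p' ⟨p, inferInstance⟩
    · exact Or.inl ⟨⟨p, inferInstance⟩, ⟨hp, hl⟩, hpx⟩
    · exact Or.inr ⟨⟨p, inferInstance⟩, ⟨hp, hl⟩, hpx⟩
  have hne1 : (Set.univ ∩ t1).Nonempty :=
    ⟨p', trivial, p', ⟨hp', Relation.ReflTransGen.refl⟩, le_refl _⟩
  have hne2 : (Set.univ ∩ t2).Nonempty := ⟨p'', trivial, p'', ⟨hp'', hcon⟩, le_refl _⟩
  obtain ⟨x, -, hx1, hx2⟩ := isPreconnected_closed_iff.1
    (PreconnectedSpace.isPreconnected_univ (α := PrimeSpectrum A)) t1 t2 hc1 hc2 hcover hne1 hne2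
  set I1 : Ideal A := PrimeSpectrum.vanishingIdeal t1 with hI1
  set I2 : Ideal A := PrimeSpectrum.vanishingIdeal t2 with hI2
  have hz1 : ∀ y : PrimeSpectrum A, I1 ≤ y.asIdeal ↔ y ∈ t1 := by
    intro y
    rw [← hc1.closure_eq, ← PrimeSpectrum.zeroLocus_vanishingIdeal_eq_closure,
      PrimeSpectrum.mem_zeroLocus]
    rfl
  have hz2 : ∀ y : PrimeSpectrum A, I2 ≤ y.asIdeal ↔ y ∈ t2 := by
    intro y
    rw [← hc2.closure_eq, ← PrimeSpectrum.zeroLocus_vanishingIdeal_eq_closure,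
      PrimeSpectrum.mem_zeroLocus]
    rfl
  have hle : I1 ⊔ I2 ≤ x.asIdeal := sup_le ((hz1 x).2 hx1) ((hz2 x).2 hx2)
  obtain ⟨P, hPmin, -⟩ := Ideal.exists_minimalPrimes_le hle
  haveI hPp : P.IsPrime := hPmin.1.1
  obtain ⟨p1, hp1, hp1P⟩ := (hz1 ⟨P, hPp⟩).1 (le_sup_left.trans hPmin.1.2)
  obtain ⟨p2, hp2, hp2P⟩ := (hz2 ⟨P, hPp⟩).1 (le_sup_right.trans hPmin.1.2)
  -- height of `P`
  have hht : (d : ℕ∞) ≤ P.height := by
    by_contra hlt
    apply hp2.2
    refine hp1.2.tail ⟨hp1.1, hp2.1, ⟨P, hPp⟩, hp1P, hp2P, ?_⟩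
    rw [not_le] at hlt
    have h1 : P.height + 1 ≤ (d : ℕ∞) := Order.add_one_le_of_lt hlt
    have hdd : (d : ℕ∞) = ((d - 1 : ℕ) : ℕ∞) + 1 := by
      have : d = (d - 1) + 1 := by omega
      conv_lhs => rw [this]
      push_cast
      rfl
    rw [hdd] at h1
    have hne : P.height ≠ ⊤ := ne_top_of_lt hlt
    exact (ENat.add_le_add_iff_right (by simp)).1 h1
  have hdep : (2 : ℕ∞) ≤ LocCoh.depth (Localization.AtPrime P) (Localization.AtPrime P) :=
    h ⟨P, hPp⟩ hht
  obtain ⟨r1, r2, hreg, hr1, hr2⟩ :=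
    Groth.Agent.Helper7.S2Conn.exists_pair_of_two_le_depth hdep
  set a' : Ideal (Localization.AtPrime P) := I1.map (algebraMap A (Localization.AtPrime P)) with ha'
  set b' : Ideal (Localization.AtPrime P) := I2.map (algebraMap A (Localization.AtPrime P)) with hb'
  obtain ⟨n, hn⟩ : ∃ n, maximalIdeal (Localization.AtPrime P) ^ n ≤ a' ⊔ b' := by
    rw [ha', hb', ← Ideal.map_sup]
    apply Ideal.exists_pow_le_of_le_radical_of_fg _ (IsNoetherian.noetherian _)
    rw [IsLocalization.AtPrime.radical_map_of_mem_minimalPrimes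
      (A := Localization.AtPrime P) P (I1 ⊔ I2) hPmin, Localization.AtPrime.map_eq_maximalIdeal]
  -- the product is nilpotent
  have hI12 : I1 * I2 ≤ (⊥ : Ideal A).radical := by
    rw [← Ideal.sInf_minimalPrimes]
    apply le_sInf
    intro p hp
    haveI : p.IsPrime := hp.1.1
    by_cases hl : Relation.ReflTransGen (Link A d) p' ⟨p, inferInstance⟩
    · have : (⟨p, inferInstance⟩ : PrimeSpectrum A) ∈ t1 :=
        ⟨⟨p, inferInstance⟩, ⟨hp, hl⟩, le_refl _⟩
      exact Ideal.mul_le_left.trans ((hz1 ⟨p, inferInstance⟩).2 this)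
    · have : (⟨p, inferInstance⟩ : PrimeSpectrum A) ∈ t2 :=
        ⟨⟨p, inferInstance⟩, ⟨hp, hl⟩, le_refl _⟩
      exact Ideal.mul_le_right.trans ((hz2 ⟨p, inferInstance⟩).2 this)
  have hab : a' * b' ≤ (⊥ : Ideal (Localization.AtPrime P)).radical := by
    rw [ha', hb', ← Ideal.map_mul]
    refine (Ideal.map_mono hI12).trans (le_trans (Ideal.map_radical_le _) ?_)
    rw [Ideal.map_bot]
  obtain ⟨k, hk⟩ := Ideal.exists_pow_le_of_le_radical_of_fg hab (IsNoetherian.noetherian _)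
  have habk : ∀ x ∈ a' ^ k, ∀ y ∈ b' ^ k, x * y = 0 := by
    intro x hx y hy
    have := Ideal.mul_mem_mul hx hy
    rw [← mul_pow] at this
    exact (Ideal.mem_bot).1 (hk this)
  have hnk : maximalIdeal (Localization.AtPrime P) ^ (n * (k + k)) ≤ a' ^ k ⊔ b' ^ k := by
    rw [pow_mul]
    exact (Ideal.pow_right_mono hn _).trans Ideal.sup_pow_add_le_pow_sup_pow
  -- conclusion from nilpotency of one of the images
  have hfin : ∀ (I : Ideal A) (q : PrimeSpectrum A), q.asIdeal ≤ P →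
      (I.map (algebraMap A (Localization.AtPrime P))) ^ k = ⊥ → I ≤ q.asIdeal := by
    intro I q hqP hIk x hx
    have h0 : (algebraMap A (Localization.AtPrime P) x) ^ k = 0 := by
      have := Ideal.pow_mem_pow (Ideal.mem_map_of_mem (algebraMap A (Localization.AtPrime P)) hx) k
      rw [hIk] at this
      exact this
    rw [← map_pow, IsLocalization.map_eq_zero_iff P.primeCompl] at h0
    obtain ⟨s, hs⟩ := h0
    have hsq : (s : A) ∉ q.asIdeal := fun hh => s.2 (hqP hh)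
    have : (s : A) * x ^ k ∈ q.asIdeal := by rw [hs]; exact zero_mem _
    exact q.2.mem_of_pow_mem k ((q.2.mem_or_mem this).resolve_left hsq)
  rcases Groth.Agent.Helper7.S2Conn.local_key r1 r2 hreg hr1 hr2 _ _ habk _ hnk with h0 | h0
  · have hle2 : I1 ≤ p2.asIdeal := hfin I1 p2 hp2P h0
    obtain ⟨p1', hp1', hle'⟩ := (hz1 p2).1 hle2
    have : p1'.asIdeal = p2.asIdeal := le_antisymm hle' (hp2.1.2 ⟨p1'.2, bot_le⟩ hle')
    have e : p1' = p2 := PrimeSpectrum.ext this
    exact hp2.2 (e ▸ hp1'.2)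
  · have hle2 : I2 ≤ p1.asIdeal := hfin I2 p1 hp1P h0
    obtain ⟨p2', hp2', hle'⟩ := (hz2 p1).1 hle2
    have : p2'.asIdeal = p1.asIdeal := le_antisymm hle' (hp1.1.2 ⟨p2'.2, bot_le⟩ hle')
    have e : p2' = p1 := PrimeSpectrum.ext this
    exact hp2'.2 (e ▸ hp1.2)

theorem s2933 [ConnectedSpace (PrimeSpectrum A)] (d : ℕ) (hd : 1 ≤ d)
    (h : ∀ p : PrimeSpectrum A, (d : ℕ∞) ≤ p.asIdeal.height →
      (2 : ℕ∞) ≤ LocCoh.depth (Localization.AtPrime p.asIdeal) (Localization.AtPrime p.asIdeal))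
    (p' p'' : PrimeSpectrum A) (hp' : p'.asIdeal ∈ minimalPrimes A)
    (hp'' : p''.asIdeal ∈ minimalPrimes A) :
    ∃ l : List (PrimeSpectrum A), l.head? = some p' ∧ l.getLast? = some p'' ∧
      (∀ p ∈ l, p.asIdeal ∈ minimalPrimes A) ∧
      List.IsChain (fun p q => ∃ r : PrimeSpectrum A, p ≤ r ∧ q ≤ r ∧
        r.asIdeal.height ≤ (d - 1 : ℕ)) l :=
  chain_of_reflTransGen A d p' p'' hp'' (main A d hd h p' p'' hp' hp'')

end Groth.Agent.Helper2.ZX
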